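import Mathlib
import Groth.Agent.Helper5.RedDvr2

set_option autoImplicit false
universe u
open CategoryTheory CategoryTheory.Limits AlgebraicGeometry TensorProduct IsLocalRing TopologicalSpace

namespace Groth.Agent.Helper3.RedFlat

/-- Algebra: in a Noetherian local ring, an element `π` of the maximal ideal generating a radical
ideal and avoiding every minimal prime is a nonzerodivisor. -/
theorem isSMulRegular_of_radical {A : Type*} [CommRing A] [IsNoetherianRing A] [IsLocalRing A]
    (π : A) (hπ : π ∈ maximalIdeal A) (hrad : (Ideal.span {π}).IsRadical)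
    (hmin : ∀ 𝔭 ∈ minimalPrimes A, π ∉ 𝔭) : IsSMulRegular A π := by
  -- elements killed by a power of π lie in every power of (π)
  have key : ∀ k : ℕ, ∀ t : A, (∃ m : ℕ, π ^ m * t = 0) → t ∈ Ideal.span {π} ^ k := by
    intro k
    induction k with
    | zero => intro t _; simp
    | succ k ih =>
      intro t ⟨m, hm⟩
      have ht : t ∈ Ideal.span {π} := by
        rw [← hrad.radical, Ideal.radical_eq_sInf, Ideal.mem_sInf]
        rintro 𝔮 ⟨-, h𝔮⟩
        haveI := h𝔮
        obtain ⟨𝔭, h𝔭min, h𝔭le⟩ := Ideal.exists_minimalPrimes_le (I := ⊥) (J := 𝔮) bot_le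
        apply h𝔭le
        haveI h𝔭p : 𝔭.IsPrime := h𝔭min.1.1
        have hmem : π ^ m * t ∈ 𝔭 := by rw [hm]; exact 𝔭.zero_mem
        refine (h𝔭p.mem_or_mem hmem).resolve_left ?_
        intro h
        exact hmin 𝔭 h𝔭min (h𝔭p.mem_of_pow_mem m h)
      obtain ⟨t', rfl⟩ := Ideal.mem_span_singleton.1 ht
      have h' : t' ∈ Ideal.span {π} ^ k := by
        apply ih t'
        refine ⟨m + 1, ?_⟩
        rw [pow_succ, mul_assoc]; exact hm
      rw [pow_succ']
      exact Ideal.mul_mem_mul (Ideal.mem_span_singleton_self π) h'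
  have hne : Ideal.span {π} ≠ (⊤ : Ideal A) := by
    intro htop
    have : (maximalIdeal A) = ⊤ :=
      top_le_iff.1 (htop ▸ (Ideal.span_singleton_le_iff_mem _).2 hπ)
    exact (maximalIdeal.isMaximal A).ne_top this
  have hinf := Ideal.iInf_pow_eq_bot_of_isLocalRing (Ideal.span {π}) hne
  have hz : ∀ t : A, π * t = 0 → t = 0 := by
    intro t ht
    have : t ∈ ⨅ k, Ideal.span {π} ^ k := by
      rw [Ideal.mem_iInf]
      intro k
      exact key k t ⟨1, by rwa [pow_one]⟩
    rw [hinf] at this
    exact this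
  intro a b hab
  have : π * (a - b) = 0 := by
    simp only [smul_eq_mul] at hab
    rw [mul_sub, hab, sub_self]
  exact sub_eq_zero.1 (hz _ this)

/-- Topology: in a locally Noetherian scheme, a maximal point specializes to a point of any dense
subset. -/
theorem exists_mem_of_dense {X : Scheme.{u}} [IsLocallyNoetherian X] (ξ : X)
    (hξ : ∀ y : X, y ⤳ ξ → y = ξ) (S : Set X) (hS : Dense S) : ∃ z ∈ S, ξ ⤳ z := by
  obtain ⟨_, ⟨U, hU, rfl⟩, hξU, -⟩ :=
    X.isBasis_affineOpens.exists_subset_of_mem_open (Set.mem_univ ξ) isOpen_univ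
  haveI : IsNoetherianRing Γ(X, U) := IsLocallyNoetherian.component_noetherian ⟨U, hU⟩
  haveI : NoetherianSpace (U : Set X) := noetherianSpace_of_isAffineOpen U hU
  haveI : QuasiSober (U : Set X) := U.isOpen.isOpenEmbedding_subtypeVal.quasiSober
  let ξU : (U : Set X) := ⟨ξ, hξU⟩
  obtain ⟨o, ho, hone, hoZ⟩ := NoetherianSpace.exists_isOpen_nonempty_subset_irreducibleComponent
    (irreducibleComponent ξU) (irreducibleComponent_mem_irreducibleComponents ξU)
  obtain ⟨ζ, hζ⟩ := QuasiSober.sober (isIrreducible_irreducibleComponent (x := ξU))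
    (isClosed_irreducibleComponent (x := ξU))
  have hζξ : ζ ⤳ ξU := hζ.specializes mem_irreducibleComponent
  have hζeq : ζ = ξU := Subtype.ext (hξ _ (hζξ.map continuous_subtype_val))
  have hopen : IsOpen (Subtype.val '' o : Set X) :=
    U.isOpen.isOpenEmbedding_subtypeVal.isOpenMap o ho
  obtain ⟨z, hz1, hz2⟩ := hS.inter_open_nonempty _ hopen (hone.image _)
  obtain ⟨z', hz'o, rfl⟩ := hz1
  refine ⟨z', hz2, ?_⟩
  have : ζ ⤳ z' := hζ.specializes (hoZ hz'o)
  rw [hζeq] at this
  exact this.map continuous_subtype_val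


theorem isField_stalk_of_eq_genericPoint (Y : Scheme.{u}) [IsIntegral Y] :
    ∀ y' : Y, y' = genericPoint Y → IsField (Y.presheaf.stalk y') := by
  rintro _ rfl
  exact Field.toIsField Y.functionField

/-- minimal primes of the stalk at `x` map to the generic point of the base when the generic
fibre is dense. -/
theorem map_minimalPrime_eq_generic {Y : Scheme.{u}} [IrreducibleSpace Y] {X : Scheme.{u}}
    (f : X ⟶ Y) [IsLocallyNoetherian X]
    (hdense : Dense (f.base ⁻¹' {genericPoint Y})) (x : X)
    (P : PrimeSpectrum (X.presheaf.stalk x)) (hP : P.asIdeal ∈ minimalPrimes (X.presheaf.stalk x)) :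
    f (X.fromSpecStalk x P) = genericPoint Y := by
  set ξ := X.fromSpecStalk x P with hξdef
  have hξx : ξ ⤳ x := by
    have : ξ ∈ Set.range (X.fromSpecStalk x) := ⟨P, rfl⟩
    rwa [Scheme.range_fromSpecStalk] at this
  have hind : Topology.IsInducing (X.fromSpecStalk x) :=
    (X.fromSpecStalk x).isEmbedding.isInducing
  have hmax : ∀ y : X, y ⤳ ξ → y = ξ := by
    intro y hy
    obtain ⟨P', hP'⟩ : ∃ P' : PrimeSpectrum (X.presheaf.stalk x), X.fromSpecStalk x P' = y := by
      have : y ∈ Set.range (X.fromSpecStalk x) := by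
        rw [Scheme.range_fromSpecStalk]; exact hy.trans hξx
      exact this
    have hle : P' ≤ P := by
      rw [PrimeSpectrum.le_iff_specializes]
      exact (hind.specializes_iff (x := P') (y := P)).mp (by rw [hP']; exact hy)
    have hle' : P.asIdeal ≤ P'.asIdeal := hP.2 ⟨P'.isPrime, bot_le⟩ hle
    have : P' = P := PrimeSpectrum.ext (le_antisymm hle hle')
    rw [← hP', this]
  obtain ⟨z, hz, hξz⟩ := exists_mem_of_dense ξ hmax _ hdense
  have h1 : f ξ ⤳ f z := hξz.map f.continuous
  rw [Set.mem_preimage, Set.mem_singleton_iff] at hz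
  have hz' : f z = genericPoint Y := hz
  rw [hz'] at h1
  exact (h1.antisymm (genericPoint_specializes (f ξ))).eq

theorem flat_stalk_closed {R : Type u} [CommRing R] [IsDomain R] [IsDiscreteValuationRing R]
    {X : Scheme.{u}} (f : X ⟶ Spec (CommRingCat.of R)) [IsLocallyNoetherian X]
    (hred : IsReduced (f.fiber (closedPoint R)))
    (hdense : Dense (f.base ⁻¹' {genericPoint (Spec (CommRingCat.of R))}))
    (x : X) (hx : f x = closedPoint R) :
    letI : Algebra R (X.presheaf.stalk x) := (Spec.preimage (X.fromSpecStalk x ≫ f)).hom.toAlgebra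
    Module.Flat R (X.presheaf.stalk x) := by
  let ψ := Spec.preimage (X.fromSpecStalk x ≫ f)
  letI alg : Algebra R (X.presheaf.stalk x) := ψ.hom.toAlgebra
  have hψ : Spec.map ψ = X.fromSpecStalk x ≫ f := Spec.map_preimage _
  obtain ⟨π, hπ⟩ := IsDiscreteValuationRing.exists_irreducible R
  have hm : maximalIdeal R = Ideal.span {π} := hπ.maximalIdeal_eq
  have hfx : (f x).asIdeal = maximalIdeal R := by rw [hx]; rfl
  haveI hmax : (f x).asIdeal.IsMaximal := by rw [hfx]; infer_instance
  have hred' : IsReduced (f.fiber (f x)) := by rw [hx]; exact hred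
  have hT := Groth.Agent.Helper5.RedDvr.isReduced_tensor_residueField f x hred'
  set ϖ : X.presheaf.stalk x := algebraMap R (X.presheaf.stalk x) π with hϖdef
  have hϖ : ϖ ∈ maximalIdeal (X.presheaf.stalk x) := by
    have h1 : Spec.map ψ (closedPoint (X.presheaf.stalk x)) = closedPoint R := by
      rw [hψ]
      show f (X.fromSpecStalk x (closedPoint (X.presheaf.stalk x))) = _
      rw [Scheme.fromSpecStalk_closedPoint, hx]
    have h2 : π ∈ (Spec.map ψ (closedPoint (X.presheaf.stalk x))).asIdeal := by
      rw [h1]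
      show π ∈ maximalIdeal R
      rw [hm]
      exact Ideal.mem_span_singleton_self π
    exact h2
  -- radical
  have hrad : (Ideal.span {ϖ}).IsRadical := by
    let m := (f x).asIdeal
    let e : (R ⧸ m) ≃ₐ[R] m.ResidueField :=
      AlgEquiv.ofBijective (IsScalarTower.toAlgHom R (R ⧸ m) m.ResidueField)
        m.bijective_algebraMap_quotient_residueField
    let E : (X.presheaf.stalk x) ⊗[R] (R ⧸ m) ≃ₐ[R] (X.presheaf.stalk x) ⊗[R] m.ResidueField :=
      Algebra.TensorProduct.congr AlgEquiv.refl e
    have h1 : _root_.IsReduced ((X.presheaf.stalk x) ⊗[R] (R ⧸ m)) :=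
      isReduced_of_injective E.toAlgHom E.injective
    have h2 : _root_.IsReduced ((X.presheaf.stalk x) ⧸ m.map (algebraMap R (X.presheaf.stalk x))) :=
      isReduced_of_injective
        (Algebra.TensorProduct.quotIdealMapEquivTensorQuot (X.presheaf.stalk x) m).toAlgHom
        (Algebra.TensorProduct.quotIdealMapEquivTensorQuot (X.presheaf.stalk x) m).injective
    have h3 : m.map (algebraMap R (X.presheaf.stalk x)) = Ideal.span {ϖ} := by
      show (f x).asIdeal.map _ = _
      rw [hfx, hm, Ideal.map_span, Set.image_singleton]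
    rw [h3] at h2
    exact (Ideal.isRadical_iff_quotient_reduced _).2 h2
  -- minimal primes
  have hmin : ∀ 𝔭 ∈ minimalPrimes (X.presheaf.stalk x), ϖ ∉ 𝔭 := by
    intro 𝔭 h𝔭 hmem
    haveI h𝔭p : 𝔭.IsPrime := h𝔭.1.1
    let P : PrimeSpectrum (X.presheaf.stalk x) := ⟨𝔭, h𝔭p⟩
    have hgen := map_minimalPrime_eq_generic f hdense x P h𝔭
    have h1 : Spec.map ψ P = genericPoint (Spec (CommRingCat.of R)) := by
      rw [hψ]; exact hgen
    rw [genericPoint_eq_bot_of_affine] at h1
    have h2 : π ∈ (Spec.map ψ P).asIdeal := hmem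
    rw [h1] at h2
    exact hπ.ne_zero h2
  haveI : IsNoetherianRing (X.presheaf.stalk x) := inferInstance
  have hreg : IsSMulRegular (X.presheaf.stalk x) ϖ := isSMulRegular_of_radical ϖ hϖ hrad hmin
  rw [Module.Flat.flat_iff_torsion_eq_bot_of_isBezout, Submodule.eq_bot_iff]
  intro a ha
  obtain ⟨r, hr⟩ := (Submodule.mem_torsion_iff a).mp ha
  have hr0 : (r : R) ≠ 0 := nonZeroDivisors.coe_ne_zero r
  obtain ⟨n, u, hu⟩ := IsDiscreteValuationRing.eq_unit_mul_pow_irreducible hr0 hπ
  have hr' : (r : R) • a = 0 := hr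
  rw [hu, Algebra.smul_def, map_mul, map_pow, mul_assoc] at hr'
  have hunit : IsUnit (algebraMap R (X.presheaf.stalk x) (u : R)) := u.isUnit.map _
  have h4 : ϖ ^ n * a = 0 := by
    rcases hunit.exists_left_inv with ⟨c, hc⟩
    have := congrArg (fun t => c * t) hr'
    simp only [mul_zero] at this
    rwa [← mul_assoc, hc, one_mul] at this
  have hreg' : IsSMulRegular (X.presheaf.stalk x) (ϖ ^ n) := hreg.pow n
  apply hreg'
  simpa using h4


open AlgebraicGeometry.StructureSheaf in
/-- S10880 -/
theorem s10880 (R : Type u) [CommRing R] [IsDomain R]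
    [IsDiscreteValuationRing R] {X : Scheme.{u}} (f : X ⟶ Spec (CommRingCat.of R))
    [IsLocallyNoetherian X]
    (hred : IsReduced (f.fiber (IsLocalRing.closedPoint R)))
    (hdense : Dense (f.base ⁻¹' {genericPoint (Spec (CommRingCat.of R))})) : Flat f := by
  apply Flat.of_stalkMap
  intro x
  by_cases hx : f x = closedPoint R
  · let ψ := Spec.preimage (X.fromSpecStalk x ≫ f)
    letI alg : Algebra R (X.presheaf.stalk x) := ψ.hom.toAlgebra
    have hψ : Spec.map ψ = X.fromSpecStalk x ≫ f := Spec.map_preimage _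
    have hflat : Module.Flat R (X.presheaf.stalk x) := flat_stalk_closed f hred hdense x hx
    let s : PrimeSpectrum R := f x
    let φ : (Spec.structureSheaf R).presheaf.stalk s ⟶ X.presheaf.stalk x := f.stalkMap x
    letI alg2 : Algebra ((Spec.structureSheaf R).presheaf.stalk s) (X.presheaf.stalk x) :=
      φ.hom.toAlgebra
    have hcomp : ψ = StructureSheaf.toStalk R s ≫ φ := by
      apply Spec.map_injective
      refine hψ.trans ?_
      refine Eq.trans ?_ (Spec.map_comp _ _).symm
      have h2 := Spec.fromSpecStalk_eq' (CommRingCat.of R) (f x)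
      have h3 := Scheme.SpecMap_stalkMap_fromSpecStalk f (x := x)
      exact h3.symm.trans (congrArg (fun t => Spec.map (f.stalkMap x) ≫ t) h2)
    haveI : IsScalarTower R ((Spec.structureSheaf R).presheaf.stalk s) (X.presheaf.stalk x) :=
      IsScalarTower.of_algebraMap_eq' (congrArg (fun φ => φ.hom) hcomp)
    show Module.Flat ((Spec.structureSheaf R).presheaf.stalk s) (X.presheaf.stalk x)
    exact (Module.flat_iff_of_isLocalization
      ((Spec.structureSheaf R).presheaf.stalk s) s.asIdeal.primeCompl (X.presheaf.stalk x)).2 hflat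
  · have hgen : f x = genericPoint (Spec (CommRingCat.of R)) := by
      rw [genericPoint_eq_bot_of_affine]
      apply PrimeSpectrum.ext
      by_contra hne
      apply hx
      apply PrimeSpectrum.ext
      have : (f x).asIdeal.IsMaximal := Ring.DimensionLEOne.maximalOfPrime hne (f x).isPrime
      exact IsLocalRing.eq_maximalIdeal this
    exact RingHom.Flat.of_isField (isField_stalk_of_eq_genericPoint _ _ hgen) _

end Groth.Agent.Helper3.RedFlat
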