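import Mathlib
import Groth.Prelude.Def_AlgGrp
import Groth.Agent.Helper2.HS2
import Groth.Agent.Helper3.GrpImg1

set_option autoImplicit false
set_option linter.style.haveILetI false
set_option linter.unusedSectionVars false
set_option linter.unusedVariables false
set_option linter.style.haveILetI false
set_option linter.unusedSectionVars false
set_option linter.unusedVariables false

universe u
open CategoryTheory CategoryTheory.Limits MonoidalCategory CartesianMonoidalCategory MonObj GrpObj AlgebraicGeometry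

namespace Groth.Agent.Helper3.RedNeut

open Groth.Agent.Helper2

variable {k : Type u} [Field k] (G Gr G₀ : Over (Spec (CommRingCat.of k)))
  [GrpObj G] [GrpObj Gr] [GrpObj G₀] (r : Gr ⟶ G) [IsMonHom r] (i₀ : G₀ ⟶ G) [IsMonHom i₀]

instance : Subsingleton ↥(Spec (CommRingCat.of k)) :=
  inferInstanceAs (Subsingleton (PrimeSpectrum k))

theorem m_eq : (r ⊗ₘ i₀) ≫ μ[G] = (Gr ◁ i₀) ≫ (r ▷ G) ≫ μ[G] := by
  rw [tensorHom_def', Category.assoc]

theorem flat_m [IsOpenImmersion i₀.left] : Flat ((r ⊗ₘ i₀) ≫ μ[G]).left := by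
  rw [m_eq, Over.comp_left]
  haveI : IsOpenImmersion (Gr ◁ i₀).left :=
    MorphismProperty.of_isPullback (P := @IsOpenImmersion)
      (GrpImg1.isPullback_whiskerLeft i₀ Gr).flip inferInstance
  haveI : Flat Gr.hom := inferInstance
  haveI : Flat ((r ▷ G) ≫ μ[G]).left := HS2.flat_translate (HS2.selfAction G) r inferInstance
  infer_instance

theorem surjective_m [Surjective r.left] : Surjective ((r ⊗ₘ i₀) ≫ μ[G]).left := by
  refine ⟨fun g => ?_⟩
  obtain ⟨x, rfl⟩ := r.left.surjective g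
  let K := Gr.left.residueField x
  let a0 : Spec K ⟶ Gr.left := Gr.left.fromSpecResidueField x
  let T : Over (Spec (CommRingCat.of k)) := Over.mk (a0 ≫ Gr.hom)
  let a : T ⟶ Gr := Over.homMk a0 rfl
  have h1 : lift a (toUnit T ≫ η[G₀]) ≫ (r ⊗ₘ i₀) ≫ μ[G] = a ≫ r := by
    rw [lift_map_assoc, Category.assoc, IsMonHom.one_hom, lift_comp_one_right]
  let t : T.left := IsLocalRing.closedPoint K
  refine ⟨(lift a (toUnit T ≫ η[G₀])).left t, ?_⟩
  rw [← Scheme.Hom.comp_apply, ← Over.comp_left, h1, Over.comp_left, Scheme.Hom.comp_apply]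
  congr 1
  exact Scheme.fromSpecResidueField_apply _ _


theorem discreteTopology_of_isFinite (X : Scheme.{u}) (f : X ⟶ Spec (CommRingCat.of k))
    [IsFinite f] : DiscreteTopology X := by
  haveI : IsAffine X := isAffine_of_isAffineHom f
  have hfin : (f.appTop).hom.Finite :=
    ((HasAffineProperty.iff_of_isAffine (P := @IsFinite)).mp ‹IsFinite f›).2
  haveI : IsArtinianRing Γ(Spec (CommRingCat.of k), ⊤) :=
    (Scheme.ΓSpecIso (CommRingCat.of k)).commRingCatIsoToRingEquiv.symm.isArtinianRing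
  letI := f.appTop.hom.toAlgebra
  haveI : Module.Finite Γ(Spec (CommRingCat.of k), ⊤) Γ(X, ⊤) := hfin
  haveI : IsArtinianRing Γ(X, ⊤) := IsArtinianRing.of_finite Γ(Spec (CommRingCat.of k), ⊤) _
  haveI : DiscreteTopology (Spec Γ(X, ⊤)) :=
    inferInstanceAs (DiscreteTopology (PrimeSpectrum _))
  exact X.isoSpec.hom.homeomorph.symm.discreteTopology

theorem subsingleton_neut [IsFinite G.hom] [IsOpenImmersion i₀.left] [ConnectedSpace ↥G₀.left] :
    Subsingleton G₀.left := by
  haveI : DiscreteTopology G.left := discreteTopology_of_isFinite G.left G.hom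
  haveI : DiscreteTopology G₀.left := i₀.left.isOpenEmbedding.isEmbedding.discreteTopology
  exact PreconnectedSpace.trivial_of_discrete

/-- the intersection of the reduced subgroup with the neutral component is trivial -/
theorem key [IsFinite G.hom] [IsClosedImmersion r.left] [IsReduced Gr.left]
    [IsOpenImmersion i₀.left] [ConnectedSpace ↥G₀.left]
    (T : Over (Spec (CommRingCat.of k))) (c : T ⟶ Gr) (d : T ⟶ G₀) (h : c ≫ r = d ≫ i₀) :
    c = 1 := by
  let N := pullback r.left i₀.left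
  let p1 : N ⟶ Gr.left := pullback.fst r.left i₀.left
  let p2 : N ⟶ G₀.left := pullback.snd r.left i₀.left
  haveI : IsOpenImmersion p1 := inferInstance
  haveI : IsClosedImmersion p2 := inferInstance
  haveI : IsReduced N := isReduced_of_isOpenImmersion p1
  let fN : N ⟶ Spec (CommRingCat.of k) := p1 ≫ Gr.hom
  have hη : η[Gr].left ≫ r.left = η[G₀].left ≫ i₀.left := by
    rw [← Over.comp_left, ← Over.comp_left, IsMonHom.one_hom, IsMonHom.one_hom]
  let eN : Spec (CommRingCat.of k) ⟶ N := pullback.lift η[Gr].left η[G₀].left hη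
  have heN1 : eN ≫ p1 = η[Gr].left := pullback.lift_fst _ _ _
  have hef : eN ≫ fN = 𝟙 _ := by
    rw [← Category.assoc, heN1]
    exact Over.w η[Gr]
  haveI : IsClosedImmersion eN := isClosedImmersion_of_comp_eq_id fN eN hef
  haveI : DiscreteTopology G.left := discreteTopology_of_isFinite G.left G.hom
  haveI : DiscreteTopology G₀.left := i₀.left.isOpenEmbedding.isEmbedding.discreteTopology
  haveI : Subsingleton G₀.left := PreconnectedSpace.trivial_of_discrete
  haveI : Surjective eN := by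
    refine ⟨fun n => ⟨(default : PrimeSpectrum k), ?_⟩⟩
    apply p2.isClosedEmbedding.injective
    exact Subsingleton.elim _ _
  haveI : IsIso eN := isIso_of_isClosedImmersion_of_surjective eN
  have hfe : fN ≫ eN = 𝟙 N := by
    rw [← cancel_epi eN, ← Category.assoc, hef, Category.id_comp, Category.comp_id]
  let x : T.left ⟶ N := pullback.lift c.left d.left (by
    rw [← Over.comp_left, ← Over.comp_left, h])
  have hx1 : x ≫ p1 = c.left := pullback.lift_fst _ _ _
  have hxf : x ≫ fN = T.hom := by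
    rw [← Category.assoc, hx1]
    exact Over.w c
  apply Over.OverMorphism.ext
  have h1 : c.left = x ≫ (fN ≫ eN) ≫ p1 := by rw [hfe, Category.id_comp, hx1]
  rw [h1, Category.assoc, heN1, ← Category.assoc, hxf, Hom.one_def, Over.comp_left]
  congr 1


theorem mono_m [IsFinite G.hom] [IsClosedImmersion r.left] [IsReduced Gr.left]
    [IsOpenImmersion i₀.left] [ConnectedSpace ↥G₀.left] : Mono ((r ⊗ₘ i₀) ≫ μ[G]) := by
  haveI : Mono i₀ := (Over.forget _).mono_of_mono_map (inferInstanceAs (Mono i₀.left))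
  refine ⟨fun {T} x y hxy => ?_⟩
  have hform : ∀ z : T ⟶ Gr ⊗ G₀, z ≫ (r ⊗ₘ i₀) ≫ μ[G] =
      ((z ≫ fst Gr G₀) ≫ r) * ((z ≫ snd Gr G₀) ≫ i₀) := fun z => by
    have : z ≫ (r ⊗ₘ i₀) = lift ((z ≫ fst Gr G₀) ≫ r) ((z ≫ snd Gr G₀) ≫ i₀) := by
      apply CartesianMonoidalCategory.hom_ext <;> simp
    rw [← Category.assoc, this, Hom.mul_def]
  set a := x ≫ fst Gr G₀
  set b := x ≫ snd Gr G₀
  set a' := y ≫ fst Gr G₀
  set b' := y ≫ snd Gr G₀
  have h1 : (a ≫ r) * (b ≫ i₀) = (a' ≫ r) * (b' ≫ i₀) := by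
    rw [← hform x, ← hform y, hxy]
  have h2 : (a'⁻¹ * a) ≫ r = (b' * b⁻¹) ≫ i₀ := by
    rw [MonObj.mul_comp, MonObj.mul_comp, GrpObj.inv_comp, GrpObj.inv_comp]
    have : (a' ≫ r)⁻¹ * (a ≫ r) = (a' ≫ r)⁻¹ * ((a ≫ r) * (b ≫ i₀)) * (b ≫ i₀)⁻¹ := by group
    rw [this, h1]; group
  have h3 : a'⁻¹ * a = 1 := key G Gr G₀ r i₀ T _ _ h2
  have ha : a = a' := by
    have := congrArg (fun t => a' * t) h3
    simpa using this
  have hb : b = b' := by
    rw [ha] at h1
    have h4 : b ≫ i₀ = b' ≫ i₀ := mul_left_cancel h1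
    exact (cancel_mono i₀).mp h4
  apply CartesianMonoidalCategory.hom_ext
  · exact ha
  · exact hb

theorem main [IsFinite G.hom] [IsClosedImmersion r.left] [IsReduced Gr.left] [Surjective r.left]
    [IsOpenImmersion i₀.left] [ConnectedSpace ↥G₀.left] : IsIso ((r ⊗ₘ i₀) ≫ μ[G]) := by
  haveI := mono_m G Gr G₀ r i₀
  haveI : Mono ((r ⊗ₘ i₀) ≫ μ[G]).left := inferInstance
  haveI := flat_m G Gr G₀ r i₀
  haveI := surjective_m G Gr G₀ r i₀
  haveI : Subsingleton G₀.left := subsingleton_neut G G₀ i₀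
  haveI : QuasiCompact G₀.hom := inferInstance
  haveI : QuasiCompact Gr.hom := by
    rw [← Over.w r]; infer_instance
  haveI : QuasiCompact (Gr ⊗ G₀).hom := by
    show QuasiCompact (pullback.fst Gr.hom G₀.hom ≫ Gr.hom)
    infer_instance
  haveI : QuasiCompact (((r ⊗ₘ i₀) ≫ μ[G]).left ≫ G.hom) := by
    rw [Over.w]; infer_instance
  haveI : QuasiCompact ((r ⊗ₘ i₀) ≫ μ[G]).left := QuasiCompact.of_comp _ G.hom
  haveI : IsIso ((r ⊗ₘ i₀) ≫ μ[G]).left := Flat.isIso_of_surjective_of_mono _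
  haveI : IsIso ((Over.forget (Spec (CommRingCat.of k))).map ((r ⊗ₘ i₀) ≫ μ[G])) :=
    inferInstanceAs (IsIso ((r ⊗ₘ i₀) ≫ μ[G]).left)
  exact isIso_of_reflects_iso _ (Over.forget _)

end Groth.Agent.Helper3.RedNeut
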