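import Mathlib

set_option linter.style.haveILetI false
set_option linter.unusedSectionVars false
set_option linter.unusedVariables false

namespace Groth.Agent.Helper3.ReesDual

open TensorProduct LaurentPolynomial

universe u v

theorem mem_range_iff {k : Type u} [Field k] (c : k) (m : ℤ) :
    (C c * T m : k[T;T⁻¹]) ∈ (Polynomial.toLaurent : Polynomial k →+* k[T;T⁻¹]).range ↔
      c = 0 ∨ 0 ≤ m := by
  constructor
  · rintro ⟨P, hP⟩
    by_contra hcon
    push Not at hcon
    obtain ⟨hc, hm⟩ := hcon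
    have h1 : (C c * T m : k[T;T⁻¹]).coeff.support = {m} := support_coeff_C_mul_T_of_ne_zero hc m
    rw [← hP, support_coeff_toLaurent] at h1
    have h2 : m ∈ P.support.map Nat.castEmbedding := by rw [h1]; exact Finset.mem_singleton_self m
    rw [Finset.mem_map] at h2
    obtain ⟨n, -, hn⟩ := h2
    simp only [Nat.castEmbedding_apply] at hn
    omega
  · rintro (rfl | hm)
    · exact ⟨0, by simp⟩
    · obtain ⟨n, rfl⟩ := Int.eq_ofNat_of_zero_le hm
      exact ⟨Polynomial.C c * Polynomial.X ^ n, Polynomial.toLaurent_C_mul_X_pow n c⟩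

theorem main
    (k : Type u) [Field k] (E : Type v) [AddCommGroup E] [Module k E]
    (F : ℤ → Submodule k E) (hF : Monotone F)
    (α : Module.Dual k E) (p : ℤ) :
    (∀ m ∈ Submodule.span k {x : k[T;T⁻¹] ⊗[k] E | ∃ (n : ℤ) (v : E), v ∈ F n ∧ x = T n ⊗ₜ[k] v},
      T p * (TensorProduct.AlgebraTensorModule.rid k k[T;T⁻¹] k[T;T⁻¹])
        (LinearMap.baseChange k[T;T⁻¹] α m)
        ∈ (Polynomial.toLaurent : Polynomial k →+* k[T;T⁻¹]).range) ↔
    ∀ v ∈ F (-p - 1), α v = 0 := by
  have hgen : ∀ (n : ℤ) (v : E),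
      T p * (TensorProduct.AlgebraTensorModule.rid k k[T;T⁻¹] k[T;T⁻¹])
        (LinearMap.baseChange k[T;T⁻¹] α (T n ⊗ₜ[k] v)) = C (α v) * T (p + n) := by
    intro n v
    rw [LinearMap.baseChange_tmul, TensorProduct.AlgebraTensorModule.rid_tmul, T_add,
      mul_smul_comm, smul_eq_C_mul]
  constructor
  · intro h v hv
    have h1 := h (T (-p - 1) ⊗ₜ[k] v) (Submodule.subset_span ⟨-p - 1, v, hv, rfl⟩)
    rw [hgen, mem_range_iff] at h1
    rcases h1 with h1 | h1
    · exact h1
    · omega
  · intro h m hm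
    induction hm using Submodule.span_induction with
    | mem x hx =>
      obtain ⟨n, v, hv, rfl⟩ := hx
      rw [hgen, mem_range_iff]
      by_cases hn : 0 ≤ p + n
      · exact Or.inr hn
      · left
        exact h v (hF (by omega) hv)
    | zero => simp
    | add x y _ _ hx hy =>
      rw [map_add, map_add, mul_add]
      exact add_mem hx hy
    | smul c x _ hx =>
      rw [LinearMap.map_smul_of_tower, ← LinearEquiv.coe_toLinearMap,
        LinearMap.map_smul_of_tower, mul_smul_comm]
      obtain ⟨P, hP⟩ := hx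
      refine ⟨Polynomial.C c * P, ?_⟩
      rw [map_mul, hP, Polynomial.toLaurent_C, smul_eq_C_mul]
      rfl

end Groth.Agent.Helper3.ReesDual
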