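import Mathlib
import Groth.Agent.Helper3.TorsionFree

/-! Reflexive modules over a domain: helper lemmas. -/

universe u

namespace Groth.Agent.Helper3

open Module TensorProduct

/-- Extending a functional along an injection into a finite module, up to a nonzero multiple. -/
theorem exists_extend_smul (R : Type u) [CommRing R] [IsDomain R] {M M' : Type u}
    [AddCommGroup M] [Module R M] [AddCommGroup M'] [Module R M'] [Module.Finite R M']
    (f : M →ₗ[R] M') (hf : Function.Injective f) (φ : M →ₗ[R] R) :
    ∃ (c : R) (φ' : M' →ₗ[R] R), c ≠ 0 ∧ φ'.comp f = c • φ := by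
  classical
  let K := FractionRing R
  -- base change to K
  let fK : K ⊗[R] M →ₗ[K] K ⊗[R] M' := f.baseChange K
  have hfK : Function.Injective fK := by
    have : (fK : K ⊗[R] M → K ⊗[R] M') = f.lTensor K := by ext x; rfl
    rw [this]
    exact Module.Flat.lTensor_preserves_injective_linearMap f hf
  obtain ⟨g, hg⟩ := LinearMap.exists_leftInverse_of_injective fK (LinearMap.ker_eq_bot.2 hfK)
  let φK : K ⊗[R] M →ₗ[K] K :=
    ((TensorProduct.AlgebraTensorModule.rid R K K).toLinearMap).comp (φ.baseChange K)
  let ψ : K ⊗[R] M' →ₗ[K] K := φK.comp g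
  -- restrict to M'
  let ψ0 : M' →ₗ[R] K := (ψ.restrictScalars R).comp (TensorProduct.mk R K M' 1)
  have hψ0 : ∀ m, ψ0 (f m) = algebraMap R K (φ m) := by
    intro m
    have h1 : g (fK ((1 : K) ⊗ₜ[R] m)) = (1 : K) ⊗ₜ[R] m := LinearMap.congr_fun hg _
    have h2 : fK ((1 : K) ⊗ₜ[R] m) = (1 : K) ⊗ₜ[R] f m := LinearMap.baseChange_tmul _ _ _
    change φK (g ((1 : K) ⊗ₜ[R] f m)) = _
    rw [← h2, h1]
    simp [φK, Algebra.smul_def]
  -- common denominator
  obtain ⟨k, w, hw⟩ := Module.Finite.exists_fin (R := R) (M := M')
  obtain ⟨b, hb⟩ := IsLocalization.exist_integer_multiples_of_finite (nonZeroDivisors R)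
    (fun i => ψ0 (w i))
  let ι : R →ₗ[R] K := Algebra.linearMap R K
  have hι : Function.Injective ι := IsFractionRing.injective R K
  have hrange : ∀ m' : M', (b : R) • ψ0 m' ∈ LinearMap.range ι := by
    intro m'
    have hm : m' ∈ Submodule.span R (Set.range w) := by rw [hw]; trivial
    induction hm using Submodule.span_induction with
    | mem x hx =>
      obtain ⟨i, rfl⟩ := hx
      obtain ⟨r, hr⟩ := hb i
      exact ⟨r, hr⟩
    | zero => simp
    | add x y _ _ hx hy => rw [map_add, smul_add]; exact Submodule.add_mem _ hx hy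
    | smul r x _ hx => rw [map_smul, smul_comm]; exact Submodule.smul_mem _ _ hx
  let ψ1 : M' →ₗ[R] LinearMap.range ι :=
    LinearMap.codRestrict _ ((b : R) • ψ0) (fun m' => by simpa using hrange m')
  let φ' : M' →ₗ[R] R := ((LinearEquiv.ofInjective ι hι).symm : _ →ₗ[R] R).comp ψ1
  refine ⟨(b : R), φ', nonZeroDivisors.coe_ne_zero b, ?_⟩
  apply LinearMap.ext
  intro m
  apply hι
  have h3 : ι (φ' (f m)) = ((b : R) • ψ0) (f m) := by
    simp [φ', ψ1]
  rw [LinearMap.comp_apply, h3, LinearMap.smul_apply, hψ0, LinearMap.smul_apply]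
  simp [ι, Algebra.smul_def]

/-- The double dual of an injection into a finite module over a domain is injective. -/
theorem dualMap_dualMap_injective (R : Type u) [CommRing R] [IsDomain R] {M M' : Type u}
    [AddCommGroup M] [Module R M] [AddCommGroup M'] [Module R M'] [Module.Finite R M']
    (f : M →ₗ[R] M') (hf : Function.Injective f) : Function.Injective f.dualMap.dualMap := by
  rw [injective_iff_map_eq_zero]
  intro y hy
  apply LinearMap.ext
  intro φ
  obtain ⟨c, φ', hc, hφ'⟩ := exists_extend_smul R f hf φ
  have h1 : y (φ'.comp f) = 0 := LinearMap.congr_fun hy φ'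
  rw [hφ', map_smul, smul_eq_mul] at h1
  rcases mul_eq_zero.1 h1 with h | h
  · exact absurd h hc
  · simpa using h

/-- `0 → M → M' → M''` exact, `M'` reflexive, `M''` finite torsion-free: `M` reflexive. -/
theorem isReflexive_of_exact (R : Type u) [CommRing R] [IsDomain R] {M M' M'' : Type u}
    [AddCommGroup M] [Module R M]
    [AddCommGroup M'] [Module R M'] [Module.Finite R M'] [AddCommGroup M''] [Module R M'']
    [Module.Finite R M'']
    (f : M →ₗ[R] M') (g : M' →ₗ[R] M'') (hf : Function.Injective f) (hfg : Function.Exact f g)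
    [Module.IsReflexive R M'] [Module.IsTorsionFree R M''] : Module.IsReflexive R M := by
  have hnat : ∀ m, f.dualMap.dualMap (Module.Dual.eval R M m) = Module.Dual.eval R M' (f m) := by
    intro m; rfl
  have hnat' : ∀ m', g.dualMap.dualMap (Module.Dual.eval R M' m') = Module.Dual.eval R M'' (g m') := by
    intro m; rfl
  -- injectivity of eval on M''
  have hinj'' : Function.Injective (Module.Dual.eval R M'') := by
    obtain ⟨n, v, c, φ, hc, hφ, hker⟩ := exists_linearMap_fin_fun R M''
    rw [injective_iff_map_eq_zero]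
    intro m hm
    have h1 : φ m = 0 := by
      funext i
      have := LinearMap.congr_fun hm ((LinearMap.proj i : (Fin n → R) →ₗ[R] R).comp φ)
      simpa using this
    exact (smul_eq_zero_iff_right hc).1 (hker m h1)
  refine ⟨⟨?_, ?_⟩⟩
  · rw [injective_iff_map_eq_zero]
    intro m hm
    have h1 : Module.Dual.eval R M' (f m) = 0 := by rw [← hnat, hm, map_zero]
    have h2 : f m = 0 := (Module.bijective_dual_eval R M').1 (by rw [h1, map_zero])
    exact hf (by rw [h2, map_zero])
  · intro y
    obtain ⟨m', hm'⟩ := (Module.bijective_dual_eval R M').2 (f.dualMap.dualMap y)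
    have h1 : Module.Dual.eval R M'' (g m') = 0 := by
      rw [← hnat', hm']
      apply LinearMap.ext
      intro φ
      change y ((φ.comp g).comp f) = 0
      have : (φ.comp g).comp f = 0 := by
        apply LinearMap.ext
        intro m
        simp [hfg.apply_apply_eq_zero]
      rw [this, map_zero]
    have h2 : g m' = 0 := hinj'' (by rw [h1, map_zero])
    obtain ⟨m, rfl⟩ := (hfg m').1 h2
    refine ⟨m, ?_⟩
    apply dualMap_dualMap_injective R f hf
    rw [hnat, hm']

end Groth.Agent.Helper3

namespace Groth.Agent.Helper3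

open Module

/-- Finite powers of a reflexive module are reflexive. -/
theorem isReflexive_pi_fin (R : Type u) [CommRing R] (N : Type u) [AddCommGroup N] [Module R N]
    [Module.IsReflexive R N] (n : ℕ) : Module.IsReflexive R (Fin n → N) := by
  induction n with
  | zero => infer_instance
  | succ n ih =>
    haveI := ih
    exact Module.equiv (Fin.consLinearEquiv R (fun _ : Fin (n + 1) => N))

/-- `Hom(M, N)` is reflexive for `N` finite reflexive over a Noetherian domain and `M` finite. -/
theorem isReflexive_linearMap (R : Type u) [CommRing R] [IsDomain R] [IsNoetherianRing R]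
    (M N : Type u) [AddCommGroup M] [Module R M] [Module.Finite R M] [AddCommGroup N] [Module R N]
    [Module.Finite R N] [Module.IsReflexive R N] : Module.IsReflexive R (M →ₗ[R] N) := by
  obtain ⟨n, π, hπ⟩ := Module.Finite.exists_fin' R M
  haveI : IsNoetherian R (LinearMap.ker π) := inferInstance
  haveI : Module.Finite R (LinearMap.ker π) := Module.IsNoetherian.finite R _
  obtain ⟨m, ρ, hρ⟩ := Module.Finite.exists_fin' R (LinearMap.ker π)
  let ι : (Fin m → R) →ₗ[R] (Fin n → R) := (LinearMap.ker π).subtype.comp ρ
  have hex : Function.Exact ι π := by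
    rw [LinearMap.exact_iff]
    simp only [ι, LinearMap.range_comp, LinearMap.range_eq_top.2 hρ, Submodule.map_top,
      Submodule.range_subtype]
  have hex' := LinearMap.exact_lcomp_of_exact_of_surjective N hex hπ
  have hinj : Function.Injective (LinearMap.lcomp R N π) :=
    LinearMap.lcomp_injective_of_surjective π hπ
  haveI : Module.IsReflexive R (Fin n → N) := isReflexive_pi_fin R N n
  haveI : Module.IsReflexive R ((Fin n → R) →ₗ[R] N) :=
    Module.equiv (Module.piEquiv (Fin n) R N)
  haveI : IsNoetherian R N := isNoetherian_of_isNoetherianRing_of_finite R N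
  haveI : IsNoetherian R ((Fin n → R) →ₗ[R] N) := isNoetherian_linearMap R N (Fin n → R)
  haveI : IsNoetherian R ((Fin m → R) →ₗ[R] N) := isNoetherian_linearMap R N (Fin m → R)
  haveI : Module.Finite R ((Fin n → R) →ₗ[R] N) := Module.IsNoetherian.finite R _
  haveI : Module.Finite R ((Fin m → R) →ₗ[R] N) := Module.IsNoetherian.finite R _
  exact isReflexive_of_exact R (LinearMap.lcomp R N π) (LinearMap.lcomp R N ι) hinj hex'

end Groth.Agent.Helper3
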