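import Mathlib
import Groth.Agent.Lead.RegLocal
set_option autoImplicit false
set_option linter.style.haveILetI false
set_option linter.unusedSectionVars false
set_option linter.unusedVariables false
set_option linter.style.haveILetI false
set_option linter.unusedSectionVars false
set_option linter.unusedVariables false

universe u
open IsLocalRing

namespace Groth.Agent.Helper3.Reg2UFD

variable {A : Type u} [CommRing A]

/-- A prime ideal of a Noetherian local ring not containing `x`, whose image in `A/(x)` is principal,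
is principal. -/
lemma principal_of_map_principal [IsLocalRing A] [IsNoetherianRing A] {x : A}
    (hx : x ∈ maximalIdeal A) (p : Ideal A) [p.IsPrime] (hxp : x ∉ p)
    (h : (p.map (Ideal.Quotient.mk (Ideal.span {x}))).IsPrincipal) :
    ∃ f ∈ p, p = Ideal.span {f} := by
  obtain ⟨g, hg⟩ := h.principal
  have hgmem : g ∈ p.map (Ideal.Quotient.mk (Ideal.span {x})) := by
    rw [hg]; exact Submodule.mem_span_singleton_self g
  rw [Ideal.mem_map_iff_of_surjective _ Ideal.Quotient.mk_surjective] at hgmem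
  obtain ⟨f, hfp, rfl⟩ := hgmem
  refine ⟨f, hfp, le_antisymm ?_ ((Ideal.span_singleton_le_iff_mem _).mpr hfp)⟩
  apply Submodule.le_of_le_smul_of_le_jacobson_bot (I := maximalIdeal A)
    (IsNoetherian.noetherian p) (IsLocalRing.maximalIdeal_le_jacobson ⊥)
  intro q hq
  have hq' : Ideal.Quotient.mk (Ideal.span {x}) q ∈
      p.map (Ideal.Quotient.mk (Ideal.span {x})) := Ideal.mem_map_of_mem _ hq
  rw [hg] at hq'
  change _ ∈ Ideal.span _ at hq'
  rw [Ideal.mem_span_singleton'] at hq'
  obtain ⟨a, ha⟩ := hq'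
  obtain ⟨a, rfl⟩ := Ideal.Quotient.mk_surjective a
  rw [← map_mul, eq_comm, Ideal.Quotient.eq, Ideal.mem_span_singleton'] at ha
  obtain ⟨c, hc⟩ := ha
  have hcp : c ∈ p := by
    have : c * x ∈ p := by rw [hc]; exact p.sub_mem hq (p.mul_mem_left a hfp)
    exact (Ideal.IsPrime.mem_or_mem ‹_› this).resolve_right hxp
  have hqe : q = a * f + c * x := by rw [hc]; ring
  rw [hqe]
  refine Submodule.add_mem_sup (Ideal.mem_span_singleton'.mpr ⟨a, rfl⟩) ?_
  rw [mul_comm]
  exact Submodule.smul_mem_smul hx hcp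

theorem ufd_of_dim_two [IsRegularLocalRing A] (hA : ringKrullDim A = 2) :
    ∃ _ : IsDomain A, UniqueFactorizationMonoid A := by
  haveI : IsDomain A := Groth.Agent.Lead.RegLocal.isDomain_of_isRegularLocalRing A
  refine ⟨inferInstance, ?_⟩
  have hdim : ¬ ringKrullDim A ≤ 0 := by
    rw [hA]; norm_num
  obtain ⟨x, hxm, hx2, -⟩ := Groth.Agent.Lead.RegLocal.exists_mem_notMem_sq_minimalPrimes hdim
  obtain ⟨hR', hd, hl, hspan⟩ := Groth.Agent.Lead.RegLocal.quotient_isRegularLocalRing hxm hx2
  have hdom : IsDomain (A ⧸ Ideal.span {x}) :=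
    Groth.Agent.Lead.RegLocal.isDomain_of_isRegularLocalRing _
  have hprime : (Ideal.span {x}).IsPrime := (Ideal.Quotient.isDomain_iff_prime _).mp hdom
  have hx0 : x ≠ 0 := by
    rintro rfl
    exact hx2 (zero_mem _)
  have hxp : Prime x := (Ideal.span_singleton_prime hx0).mp hprime
  -- B = A/(x) is a PID
  have hB1 : ringKrullDim (A ⧸ Ideal.span {x}) = 1 := by
    rw [hA] at hd
    have hA' : ((maximalIdeal A).spanFinrank : WithBot ℕ∞) = ringKrullDim A :=
      IsRegularLocalRing.spanFinrank_maximalIdeal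
    have hB' : ((maximalIdeal (A ⧸ Ideal.span {x})).spanFinrank : WithBot ℕ∞) =
        ringKrullDim (A ⧸ Ideal.span {x}) := IsRegularLocalRing.spanFinrank_maximalIdeal
    rw [hA] at hA'
    have hA2 : (maximalIdeal A).spanFinrank = 2 := by exact_mod_cast hA'
    have hB2 : (maximalIdeal (A ⧸ Ideal.span {x})).spanFinrank = 1 := by omega
    rw [← hB', hB2]
    rfl
  have hPID : IsPrincipalIdealRing (A ⧸ Ideal.span {x}) := by
    have hfr : (Module.finrank (ResidueField (A ⧸ Ideal.span {x}))
        (CotangentSpace (A ⧸ Ideal.span {x})) : WithBot ℕ∞) = ringKrullDim (A ⧸ Ideal.span {x}) :=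
      (IsRegularLocalRing.iff_finrank_cotangentSpace _).mp hR'
    rw [hB1] at hfr
    have hfr' : Module.finrank (ResidueField (A ⧸ Ideal.span {x}))
        (CotangentSpace (A ⧸ Ideal.span {x})) = 1 := by exact_mod_cast hfr
    exact ((tfae_of_isNoetherianRing_of_isLocalRing_of_isDomain (A ⧸ Ideal.span {x})).out 5 0).mp
      hfr'.le
  rw [UniqueFactorizationMonoid.iff_exists_prime_mem_of_isPrime]
  intro P hP0 hP
  by_cases hxP : x ∈ P
  · exact ⟨x, hxP, hxp⟩
  · obtain ⟨f, hfP, hPf⟩ := principal_of_map_principal hxm P hxP (hPID.principal _)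
    refine ⟨f, hfP, ?_⟩
    have hf0 : f ≠ 0 := by
      rintro rfl
      apply hP0
      rw [hPf]
      simp
    rw [← Ideal.span_singleton_prime hf0, ← hPf]
    exact hP

end Groth.Agent.Helper3.Reg2UFD
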