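import Mathlib
import Groth.Agent.Helper3.Reg2UFD
import Groth.Agent.Helper3.CokLen
set_option autoImplicit false
set_option linter.style.haveILetI false
set_option linter.unusedSectionVars false
set_option linter.unusedVariables false
set_option linter.style.haveILetI false
set_option linter.unusedSectionVars false
set_option linter.unusedVariables false

universe u

namespace Groth.Agent.Helper3.Reg2Main

theorem main (A : Type u) [CommRing A] [IsRegularLocalRing A] (hA : ringKrullDim A = 2)
    {n : ℕ} (f : Fin n → A) (hirr : ∀ i, Irreducible (f i)) (hcop : ∀ i j, i ≠ j → IsRelPrime (f i) (f j)) :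
    let φ : (A ⧸ Ideal.span {∏ i, f i}) →ₗ[A] ((i : Fin n) → A ⧸ Ideal.span {f i}) :=
      LinearMap.pi (fun i => Submodule.mapQ (Ideal.span {∏ i, f i}) (Ideal.span {f i}) LinearMap.id
        (Ideal.span_singleton_le_span_singleton.mpr (Finset.dvd_prod_of_mem f (Finset.mem_univ i))))
    Function.Injective φ ∧
      Module.length A (((i : Fin n) → A ⧸ Ideal.span {f i}) ⧸ LinearMap.range φ) =
        ∑ p ∈ (Finset.univ : Finset (Fin n × Fin n)) with p.1 < p.2,
          Module.length A (A ⧸ Ideal.span ({f p.1, f p.2} : Set A)) := by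
  intro φ
  obtain ⟨hdom, hufd⟩ := Groth.Agent.Helper3.Reg2UFD.ufd_of_dim_two hA
  have hp : ∀ i, Prime (f i) := fun i => UniqueFactorizationMonoid.irreducible_iff_prime.mp (hirr i)
  obtain ⟨h1, h2⟩ := Groth.Agent.Helper3.CokLen.main_aux n f hp hcop _ rfl φ (fun x => rfl)
  refine ⟨h1, ?_⟩
  rw [h2, Finset.sum_filter, Fintype.sum_prod_type]

end Groth.Agent.Helper3.Reg2Main
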