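import Mathlib
import Groth.Agent.Helper3.PrimeFrame

set_option autoImplicit false
set_option linter.style.haveILetI false
set_option linter.unusedSectionVars false
set_option linter.unusedVariables false
set_option linter.deprecated false
set_option linter.style.haveILetI false
set_option linter.unusedSectionVars false
set_option linter.unusedVariables false

universe u

open CategoryTheory CategoryTheory.Limits AlgebraicGeometry TopologicalSpace Opposite

namespace Groth.Agent.Helper3.RegExt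

open Scheme.Modules Groth.Agent.Helper4.TwistExt Groth.Agent.Helper4.TensorInv
  Groth.Agent.Helper1.CC Groth.Agent.Helper3.GlueInv Groth.Agent.Helper3.FrameFin
  Groth.Agent.Helper3.FrameGlue Groth.Agent.Helper3.DiscPic1

variable {X : Scheme.{u}}

/-- frames of a restriction to an open subscheme -/
theorem isFrame_restrict {Y : Scheme.{u}} (j : Y ⟶ X) [IsOpenImmersion j] (M : X.Modules)
    (T' : Y.Opens) (e : Γ(M, j ''ᵁ T')) (h : IsFrame M (j ''ᵁ T') e) :
    IsFrame (M.restrict j) T' (show Γ(M.restrict j, T') from e) := by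
  intro V' hV'
  obtain ⟨h1, h2⟩ := h (j ''ᵁ V') (j.image_mono hV')
  constructor
  · intro m
    obtain ⟨r, hr⟩ := h1 m
    refine ⟨(j.appIso V').hom r, ?_⟩
    rw [Groth.Agent.Helper4.TensorRes.restrict_smul]
    have : (j.appIso V').inv ((j.appIso V').hom r) = r := by
      rw [← CommRingCat.comp_apply, Iso.hom_inv_id]; rfl
    rw [this]
    exact hr
  · intro r hr
    rw [Groth.Agent.Helper4.TensorRes.restrict_smul] at hr
    have h3 := h2 _ hr
    have h4 := congrArg (j.appIso V').hom h3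
    rw [← CommRingCat.comp_apply, Iso.inv_hom_id, map_zero] at h4
    exact h4

/-- frames of a restriction to an open subscheme, converse -/
theorem isFrame_of_restrict {Y : Scheme.{u}} (j : Y ⟶ X) [IsOpenImmersion j] (M : X.Modules)
    (T' : Y.Opens) (e : Γ(M, j ''ᵁ T'))
    (h : IsFrame (M.restrict j) T' (show Γ(M.restrict j, T') from e)) :
    IsFrame M (j ''ᵁ T') e := by
  intro V hV
  obtain ⟨V', hV'T', rfl⟩ : ∃ V' : Y.Opens, V' ≤ T' ∧ V = j ''ᵁ V' := by
    refine ⟨j ⁻¹ᵁ V, ?_, ?_⟩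
    · intro y hy
      obtain ⟨y', hy', hyy'⟩ := hV hy
      rwa [← j.isOpenEmbedding.injective hyy']
    · rw [Scheme.Hom.image_preimage_eq_opensRange_inf]
      apply le_antisymm
      · exact le_inf (fun x hx => by obtain ⟨y, -, rfl⟩ := hV hx; exact ⟨y, rfl⟩) le_rfl
      · exact inf_le_right
  obtain ⟨h1, h2⟩ := h V' hV'T'
  constructor
  · intro m
    obtain ⟨r, hr⟩ := h1 m
    exact ⟨(j.appIso V').inv r, hr⟩
  · intro r hr
    have h3 := h2 ((j.appIso V').hom r) (by
      rw [Groth.Agent.Helper4.TensorRes.restrict_smul]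
      have : (j.appIso V').inv ((j.appIso V').hom r) = r := by
        rw [← CommRingCat.comp_apply, Iso.hom_inv_id]; rfl
      rw [this]
      exact hr)
    have h4 := congrArg (j.appIso V').inv h3
    rw [← CommRingCat.comp_apply, Iso.hom_inv_id, map_zero] at h4
    exact h4

/-- transfer of frames along a morphism bijective on the opens inside `W`: backwards -/
theorem isFrame_of_app_bijective {L M : X.Modules} (φ : L ⟶ M) (W : X.Opens)
    (hφ : ∀ T : X.Opens, T ≤ W → Function.Bijective (φ.app T)) (n : Γ(L, W))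
    (h : IsFrame M W (φ.app W n)) : IsFrame L W n := by
  intro T hT
  obtain ⟨h1, h2⟩ := h T hT
  have hres : M.presheaf.map (homOfLE hT).op (φ.app W n) =
      φ.app T (L.presheaf.map (homOfLE hT).op n) :=
    (Groth.Agent.Helper4.StalkExact.app_res φ (homOfLE hT) n).symm
  constructor
  · intro l
    obtain ⟨r, hr⟩ := h1 (φ.app T l)
    refine ⟨r, (hφ T hT).1 ?_⟩
    rw [hr, hres, Scheme.Modules.Hom.app_smul]
  · intro r hr
    apply h2
    rw [hres, ← Scheme.Modules.Hom.app_smul, hr, map_zero]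

/-- transfer of frames along a morphism bijective on the opens inside `W`: forwards -/
theorem isFrame_app_of_bijective {L M : X.Modules} (φ : L ⟶ M) (W : X.Opens)
    (hφ : ∀ T : X.Opens, T ≤ W → Function.Bijective (φ.app T)) (n : Γ(L, W))
    (h : IsFrame L W n) : IsFrame M W (φ.app W n) := by
  intro T hT
  obtain ⟨h1, h2⟩ := h T hT
  have hres : M.presheaf.map (homOfLE hT).op (φ.app W n) =
      φ.app T (L.presheaf.map (homOfLE hT).op n) :=
    (Groth.Agent.Helper4.StalkExact.app_res φ (homOfLE hT) n).symm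
  constructor
  · intro m
    obtain ⟨l, rfl⟩ := (hφ T hT).2 m
    obtain ⟨r, hr⟩ := h1 l
    refine ⟨r, ?_⟩
    rw [hres, ← Scheme.Modules.Hom.app_smul, ← hr]
  · intro r hr
    apply h2
    apply (hφ T hT).1
    rw [Scheme.Modules.Hom.app_smul, ← hres, hr, map_zero]

/-- `L` has frames near every point of `U` -/
def LocTriv (L : X.Modules) (U : X.Opens) : Prop :=
  ∀ x ∈ U, ∃ (T : X.Opens) (e : Γ(L, T)), x ∈ T ∧ T ≤ U ∧ IsFrame L T e

theorem LocTriv.of_app_bijective {L M : X.Modules} (φ : L ⟶ M) (U : X.Opens)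
    (hφ : ∀ T : X.Opens, T ≤ U → Function.Bijective (φ.app T)) (h : LocTriv M U) :
    LocTriv L U := by
  intro x hx
  obtain ⟨T, m, hxT, hTU, hm⟩ := h x hx
  obtain ⟨n, rfl⟩ := (hφ T hTU).2 m
  exact ⟨T, n, hxT, hTU,
    isFrame_of_app_bijective φ T (fun T' hT' => hφ T' (hT'.trans hTU)) n hm⟩

theorem LocTriv.app_of_bijective {L M : X.Modules} (φ : L ⟶ M) (U : X.Opens)
    (hφ : ∀ T : X.Opens, T ≤ U → Function.Bijective (φ.app T)) (h : LocTriv L U) :
    LocTriv M U := by
  intro x hx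
  obtain ⟨T, n, hxT, hTU, hn⟩ := h x hx
  exact ⟨T, φ.app T n, hxT, hTU,
    isFrame_app_of_bijective φ T (fun T' hT' => hφ T' (hT'.trans hTU)) n hn⟩

/-- a module with frames near all points is invertible -/
theorem LocTriv.isInvertible {L : X.Modules} (h : LocTriv L ⊤) : PicF.IsInvertible L := by
  intro y
  obtain ⟨T, e, hyT, -, he⟩ := h y trivial
  exact ⟨T, hyT, Groth.Agent.Helper1.CC.nonempty_iso_of_generator L T e
    (fun T' hT' => Groth.Agent.Helper3.DiscPic2.bijective_of_isFrame L T e he T' hT')⟩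

/-- **Extension step.** A module with frames near the points of `U'` and a frame over `U' ⊓ V`
can be modified outside `U'` to have frames near the points of `U' ⊔ V`. -/
theorem ext_step (U' V : X.Opens) (L : X.Modules) (hL : LocTriv L U')
    (ε : Γ(L, U' ⊓ V)) (hε : IsFrame L (U' ⊓ V) ε) :
    ∃ L' : X.Modules, LocTriv L' (U' ⊔ V) ∧
      ∀ U : X.Opens, U ≤ U' → Nonempty (L'.restrict U.ι ≅ L.restrict U.ι) := by
  let N' : (↑U' : Scheme.{u}).Modules := L.restrict U'.ι
  let M : X.Modules := (pushforward U'.ι).obj N'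
  let η : L ⟶ M := (restrictAdjunction U'.ι).unit.app L
  have hη : ∀ T : X.Opens, T ≤ U' → Function.Bijective (η.app T) := by
    intro T hT
    have h1 : U'.ι ''ᵁ (U'.ι ⁻¹ᵁ T) ≤ T := U'.ι.image_preimage_le T
    have h2 : T ≤ U'.ι ''ᵁ (U'.ι ⁻¹ᵁ T) := fun x hx => ⟨⟨x, hT hx⟩, hx, rfl⟩
    exact map_bijective_of_eq L h1 h2
  have hM : ∀ W : X.Opens,
      Function.Bijective (M.presheaf.map (homOfLE (inf_le_left : W ⊓ U' ≤ W)).op) := by
    intro W
    have h1 : U'.ι ⁻¹ᵁ (W ⊓ U') ≤ U'.ι ⁻¹ᵁ W := fun y hy => hy.1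
    have h2 : U'.ι ⁻¹ᵁ W ≤ U'.ι ⁻¹ᵁ (W ⊓ U') := fun y hy => ⟨hy, y.2⟩
    exact map_bijective_of_eq (X := ↑U') N' h1 h2
  let Vf : PUnit.{u + 1} → X.Opens := fun _ => V
  have hV : ∀ z z' : PUnit.{u + 1}, z ≠ z' → Vf z ⊓ Vf z' ≤ U' := fun z z' h => (h rfl).elim
  have hle : V ⊓ U' ≤ U' ⊓ V := by rw [inf_comm]
  let ε' : Γ(L, V ⊓ U') := L.presheaf.map (homOfLE hle).op ε
  have hε' : IsFrame L (V ⊓ U') ε' := isFrame_of_le hε hle
  let e : ∀ z : PUnit.{u + 1}, Γ(M, Vf z ⊓ U') := fun _ => η.app (V ⊓ U') ε'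
  have hfr : IsFrame M (V ⊓ U') (η.app (V ⊓ U') ε') :=
    isFrame_app_of_bijective η (V ⊓ U') (fun T hT => hη T (hT.trans inf_le_right)) ε' hε'
  have he : ∀ (z : PUnit.{u + 1}) (T : X.Opens) (hT : T ≤ Vf z ⊓ U'),
      Function.Bijective (fun r : Γ(X, T) => r • M.presheaf.map (homOfLE hT).op (e z)) :=
    fun z T hT => Groth.Agent.Helper3.DiscPic2.bijective_of_isFrame M _ _ hfr T hT
  obtain ⟨L', π₀, π, hπ₀, hπ, -, -⟩ := glue U' M hM Vf hV e he
  refine ⟨L', ?_, ?_⟩
  · intro x hx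
    rcases hx with hx | hx
    · have h1 : LocTriv M U' := LocTriv.app_of_bijective η U' hη hL
      have h2 : LocTriv L' U' := LocTriv.of_app_bijective π₀ U' hπ₀ h1
      obtain ⟨T, e, hxT, hTU, he⟩ := h2 x hx
      exact ⟨T, e, hxT, hTU.trans le_sup_left, he⟩
    · haveI : IsIso ((restrictFunctor V.ι).map (π PUnit.unit)) :=
        (Groth.Agent.Helper4.GenLoc.isIso_restrict_iff (π PUnit.unit) V).mpr (hπ PUnit.unit)
      let i : L'.restrict V.ι ≅ Coh.structureModule (↑V : Scheme.{u}) :=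
        asIso ((restrictFunctor V.ι).map (π PUnit.unit)) ≪≫ RzIso Vf PUnit.unit
      have hfr' := isFrame_of_triv L' V i
      refine ⟨V.ι ''ᵁ ⊤, _, ?_, ?_, hfr'⟩
      · rw [Scheme.Opens.ι_image_top]; exact hx
      · rw [Scheme.Opens.ι_image_top]; exact le_sup_right
  · intro U hU
    haveI : IsIso ((restrictFunctor U.ι).map π₀) :=
      (Groth.Agent.Helper4.GenLoc.isIso_restrict_iff π₀ U).mpr (fun T hT => hπ₀ T (hT.trans hU))
    haveI : IsIso ((restrictFunctor U.ι).map η) :=
      (Groth.Agent.Helper4.GenLoc.isIso_restrict_iff η U).mpr (fun T hT => hη T (hT.trans hU))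
    exact ⟨asIso ((restrictFunctor U.ι).map π₀) ≪≫ (asIso ((restrictFunctor U.ι).map η)).symm⟩

end Groth.Agent.Helper3.RegExt
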