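import Mathlib

set_option autoImplicit false
set_option linter.style.haveILetI false
set_option linter.unusedSectionVars false
set_option linter.unusedVariables false
set_option linter.deprecated false
set_option linter.style.haveILetI false
set_option linter.unusedSectionVars false
set_option linter.unusedVariables false

universe u

namespace Groth.Agent.Helper3.RegExtAlg

variable {A : Type u} [CommRing A] [IsDomain A] [IsNoetherianRing A] (𝔭 : Ideal A) [𝔭.IsPrime]
  (S : Type u) [CommRing S] [Algebra A S] [IsLocalization.AtPrime S 𝔭]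

include 𝔭 in
theorem algebraMap_injective : Function.Injective (algebraMap A S) :=
  IsLocalization.injective S (Ideal.primeCompl_le_nonZeroDivisors 𝔭)

/-- a prime element of `A_𝔭` is associated to an element of `A` which is prime in `A_g` for all
`g ∉ 𝔭` divisible by a suitable element -/
theorem exists_prime_away (π : S) (hπ : Prime π) :
    ∃ (a g : A), g ∉ 𝔭 ∧ Associated (algebraMap A S a) π ∧
      ∀ (B : Type u) [CommRing B] [Algebra A B] (g' : A) [IsLocalization.Away g' B],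
        g ∣ g' → g' ∉ 𝔭 → Prime (algebraMap A B a) := by
  classical
  have hinj := algebraMap_injective 𝔭 S
  obtain ⟨⟨a, t⟩, hat⟩ := IsLocalization.surj 𝔭.primeCompl π
  have htu : IsUnit (algebraMap A S t) := IsLocalization.map_units S t
  have hassoc : Associated (algebraMap A S a) π := by
    refine Associated.symm ⟨htu.unit, ?_⟩
    rw [IsUnit.unit_spec]; exact hat
  have hπ' : Prime (algebraMap A S a) := hassoc.symm.prime hπ
  have ha0 : a ≠ 0 := by
    rintro rfl
    exact hπ'.ne_zero (map_zero _)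
  let 𝔮 : Ideal A := (Ideal.span {algebraMap A S a}).comap (algebraMap A S)
  haveI hspan : (Ideal.span {algebraMap A S a}).IsPrime :=
    (Ideal.span_singleton_prime hπ'.ne_zero).mpr hπ'
  haveI h𝔮 : 𝔮.IsPrime := Ideal.IsPrime.comap _
  have ha𝔮 : a ∈ 𝔮 := Ideal.mem_comap.mpr (Ideal.subset_span rfl)
  have h𝔮𝔭 : 𝔮 ≤ 𝔭 := by
    intro x hx
    by_contra hx𝔭
    have hxu : IsUnit (algebraMap A S x) := IsLocalization.map_units S (⟨x, hx𝔭⟩ : 𝔭.primeCompl)
    have h1 : algebraMap A S x ∈ Ideal.span {algebraMap A S a} := hx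
    exact hspan.ne_top (Ideal.eq_top_of_isUnit_mem _ h1 hxu)
  obtain ⟨G, hG⟩ := (isNoetherianRing_iff_ideal_fg A).mp ‹_› 𝔮
  have hloc : ∀ b : G, ∃ t : A, t ∉ 𝔭 ∧ a ∣ t * b := by
    rintro ⟨b, hb⟩
    have hb𝔮 : b ∈ 𝔮 := hG ▸ Ideal.subset_span hb
    obtain ⟨σ, hσ⟩ := Ideal.mem_span_singleton'.mp (Ideal.mem_comap.mp hb𝔮)
    obtain ⟨⟨c, t⟩, hct⟩ := IsLocalization.surj 𝔭.primeCompl σ
    refine ⟨t, t.2, c, ?_⟩
    apply hinj
    rw [map_mul, map_mul, ← hσ, ← hct]
    ring
  choose t ht hdvd using hloc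
  let g : A := ∏ b : G, t b
  have hg𝔭 : g ∉ 𝔭 := by
    have : g ∈ 𝔭.primeCompl := Submonoid.prod_mem _ (fun b _ => ht b)
    exact this
  have hgG : ∀ b : G, a ∣ g * b := by
    intro b
    obtain ⟨k, hk⟩ : t b ∣ g := Finset.dvd_prod_of_mem _ (Finset.mem_univ b)
    rw [hk, mul_comm (t b) k, mul_assoc]
    exact Dvd.dvd.mul_left (hdvd b) k
  have hg𝔮 : ∀ b ∈ 𝔮, a ∣ g * b := by
    intro b hb
    rw [← hG] at hb
    induction hb using Submodule.span_induction with
    | mem x hx => exact hgG ⟨x, hx⟩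
    | zero => rw [mul_zero]; exact dvd_zero a
    | add x y _ _ hx hy => rw [mul_add]; exact dvd_add hx hy
    | smul r x _ hx =>
      rw [smul_eq_mul, mul_left_comm]
      exact Dvd.dvd.mul_left hx r
  refine ⟨a, g, hg𝔭, hassoc, ?_⟩
  intro B _ _ g' _ hgg' hg'𝔭
  have hg'0 : g' ≠ 0 := by rintro rfl; exact hg'𝔭 (zero_mem _)
  have hinjB : Function.Injective (algebraMap A B) :=
    IsLocalization.injective B (powers_le_nonZeroDivisors_of_noZeroDivisors hg'0)
  have hg'u : IsUnit (algebraMap A B g') := IsLocalization.Away.algebraMap_isUnit g'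
  have hgu : IsUnit (algebraMap A B g) := isUnit_of_dvd_unit (map_dvd (algebraMap A B) hgg') hg'u
  have hdisj : Disjoint (Submonoid.powers g' : Set A) (𝔮 : Set A) := by
    rw [Set.disjoint_left]
    rintro x ⟨n, rfl⟩ hx
    exact hg'𝔭 (h𝔮𝔭 (h𝔮.mem_of_pow_mem n hx))
  have hprime : (𝔮.map (algebraMap A B)).IsPrime :=
    IsLocalization.isPrime_of_isPrime_disjoint (Submonoid.powers g') B 𝔮 h𝔮 hdisj
  have heq : 𝔮.map (algebraMap A B) = Ideal.span {algebraMap A B a} := by
    apply le_antisymm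
    · rw [Ideal.map_le_iff_le_comap]
      intro b hb
      rw [Ideal.mem_comap, Ideal.mem_span_singleton]
      have h1 : algebraMap A B a ∣ algebraMap A B g * algebraMap A B b := by
        rw [← map_mul]; exact map_dvd _ (hg𝔮 b hb)
      exact (hgu.dvd_mul_left).mp h1
    · rw [Ideal.span_singleton_le_iff_mem]
      exact Ideal.mem_map_of_mem _ ha𝔮
  have h0 : algebraMap A B a ≠ 0 := by
    intro h
    exact ha0 (hinjB (h.trans (map_zero _).symm))
  rw [heq] at hprime
  exact (Ideal.span_singleton_prime h0).mp hprime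

/-- the same for a multiset of prime elements -/
theorem exists_primes_away (σ : Multiset S) (hσ : ∀ π ∈ σ, Prime π) :
    ∃ (τ : Multiset A) (g : A), g ∉ 𝔭 ∧ Associated (τ.map (algebraMap A S)).prod σ.prod ∧
      ∀ (B : Type u) [CommRing B] [Algebra A B] (g' : A) [IsLocalization.Away g' B],
        g ∣ g' → g' ∉ 𝔭 → ∀ a ∈ τ, Prime (algebraMap A B a) := by
  induction σ using Multiset.induction_on with
  | empty =>
    refine ⟨0, 1, ?_, ?_, ?_⟩
    · exact fun h => (Ideal.IsPrime.ne_top ‹_›) ((Ideal.eq_top_iff_one 𝔭).mpr h)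
    · simp
    · intro B _ _ g' _ _ _ a ha
      exact absurd ha (Multiset.notMem_zero a)
  | cons π σ ih =>
    obtain ⟨τ, g₂, hg₂, hassoc₂, hprime₂⟩ := ih (fun π' hπ' => hσ π' (Multiset.mem_cons_of_mem hπ'))
    obtain ⟨a, g₁, hg₁, hassoc₁, hprime₁⟩ :=
      exists_prime_away 𝔭 S π (hσ π (Multiset.mem_cons_self π σ))
    refine ⟨a ::ₘ τ, g₁ * g₂, ?_, ?_, ?_⟩
    · intro h
      rcases (Ideal.IsPrime.mem_or_mem ‹_› h) with h | h
      · exact hg₁ h
      · exact hg₂ h
    · rw [Multiset.map_cons, Multiset.prod_cons, Multiset.prod_cons]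
      exact hassoc₁.mul_mul hassoc₂
    · intro B _ _ g' _ hgg' hg'𝔭 b hb
      rcases Multiset.mem_cons.mp hb with rfl | hb
      · exact hprime₁ B g' ((Dvd.intro _ rfl).trans hgg') hg'𝔭
      · exact hprime₂ B g' ((Dvd.intro_left _ rfl).trans hgg') hg'𝔭 b hb

/-- **Spreading out prime factorisations.** If `A_𝔭` is factorial, a nonzero `f₀ ∈ A` becomes a
unit times a product of prime elements in `A_g` for some `g ∉ 𝔭`. -/
theorem exists_factorization_away [UniqueFactorizationMonoid S] (f₀ : A) (hf₀ : f₀ ≠ 0) :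
    ∃ g : A, g ∉ 𝔭 ∧ ∀ (B : Type u) [CommRing B] [Algebra A B] [IsLocalization.Away g B],
      ∃ s : Multiset B, (∀ q ∈ s, Prime q) ∧ Associated s.prod (algebraMap A B f₀) := by
  have hinj := algebraMap_injective 𝔭 S
  have hf₀S : algebraMap A S f₀ ≠ 0 := fun h => hf₀ (hinj (h.trans (map_zero _).symm))
  obtain ⟨σ, hσ, hσf⟩ := UniqueFactorizationMonoid.exists_prime_factors _ hf₀S
  obtain ⟨τ, g₁, hg₁, hassoc, hprime⟩ := exists_primes_away 𝔭 S σ hσ
  obtain ⟨w, hw⟩ := hassoc.trans hσf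
  rw [Multiset.prod_hom] at hw
  obtain ⟨⟨a₀, t₀⟩, hat⟩ := IsLocalization.surj 𝔭.primeCompl (w : S)
  have ha₀u : IsUnit (algebraMap A S a₀) := by
    rw [← hat]
    exact w.isUnit.mul (IsLocalization.map_units S t₀)
  have ha₀ : a₀ ∉ 𝔭 := fun h =>
    ((IsLocalization.AtPrime.isUnit_to_map_iff S 𝔭 a₀).mp ha₀u) h
  have heq : τ.prod * a₀ = f₀ * t₀ := by
    apply hinj
    rw [map_mul, map_mul, ← hat, ← hw]
    ring
  refine ⟨g₁ * a₀ * t₀, ?_, ?_⟩
  · intro h
    rcases (Ideal.IsPrime.mem_or_mem ‹_› h) with h | h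
    · rcases (Ideal.IsPrime.mem_or_mem ‹_› h) with h | h
      · exact hg₁ h
      · exact ha₀ h
    · exact t₀.2 h
  · intro B _ _ _
    have hg𝔭 : g₁ * a₀ * t₀ ∉ 𝔭 := by
      intro h
      rcases (Ideal.IsPrime.mem_or_mem ‹_› h) with h | h
      · rcases (Ideal.IsPrime.mem_or_mem ‹_› h) with h | h
        · exact hg₁ h
        · exact ha₀ h
      · exact t₀.2 h
    have hgu : IsUnit (algebraMap A B (g₁ * a₀ * t₀)) := IsLocalization.Away.algebraMap_isUnit _
    have hau : IsUnit (algebraMap A B a₀) :=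
      isUnit_of_dvd_unit (map_dvd (algebraMap A B) ⟨g₁ * t₀, by ring⟩) hgu
    have htu : IsUnit (algebraMap A B (t₀ : A)) :=
      isUnit_of_dvd_unit (map_dvd (algebraMap A B) ⟨g₁ * a₀, by ring⟩) hgu
    refine ⟨τ.map (algebraMap A B), ?_, ?_⟩
    · intro q hq
      obtain ⟨a, ha, rfl⟩ := Multiset.mem_map.mp hq
      exact hprime B (g₁ * a₀ * t₀) ⟨a₀ * t₀, by ring⟩ hg𝔭 a ha
    · rw [Multiset.prod_hom]
      refine ⟨hau.unit * htu.unit⁻¹, ?_⟩
      rw [Units.val_mul, ← mul_assoc, IsUnit.unit_spec, ← map_mul, heq, map_mul, mul_assoc]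
      have : algebraMap A B (t₀ : A) * ((htu.unit⁻¹ : Bˣ) : B) = 1 := by
        have := htu.unit.mul_inv
        rwa [IsUnit.unit_spec] at this
      rw [this, mul_one]

end Groth.Agent.Helper3.RegExtAlg
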