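import Mathlib
import Groth.Agent.Helper3.Dim1Top

set_option autoImplicit false
set_option linter.style.haveILetI false
set_option linter.unusedSectionVars false
set_option linter.unusedVariables false
set_option linter.deprecated false
set_option linter.style.haveILetI false
set_option linter.unusedSectionVars false
set_option linter.unusedVariables false

universe u

open CategoryTheory CategoryTheory.Limits AlgebraicGeometry TopologicalSpace Opposite

namespace Groth.Agent.Helper3.RegInt

/-- a generic point is maximal for generisation -/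
theorem specializes_of_mem_genericPoints {α : Type*} [TopologicalSpace α] {η ξ : α}
    (hη : η ∈ genericPoints α) (h : ξ ⤳ η) : η ⤳ ξ := by
  have h1 : closure ({η} : Set α) ⊆ closure {ξ} :=
    closure_minimal (Set.singleton_subset_iff.mpr (specializes_iff_mem_closure.mp h))
      isClosed_closure
  have h2 : IsIrreducible (closure ({ξ} : Set α)) := isIrreducible_singleton.closure
  have hη' : closure ({η} : Set α) ∈ irreducibleComponents α := hη
  have h3 : closure ({ξ} : Set α) ⊆ closure {η} := hη'.2 h2 h1
  exact specializes_iff_mem_closure.mpr (h3 (subset_closure rfl))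

/-- a point whose local ring is a domain lies on exactly one irreducible component -/
theorem eq_of_specializes_of_isDomain (X : Scheme.{u}) (x : X) [IsDomain (X.presheaf.stalk x)]
    {η₁ η₂ : X} (h₁ : η₁ ∈ genericPoints X) (h₂ : η₂ ∈ genericPoints X)
    (hx₁ : η₁ ⤳ x) (hx₂ : η₂ ⤳ x) : η₁ = η₂ := by
  have hr := Scheme.range_fromSpecStalk (X := X) (x := x)
  obtain ⟨q₁, hq₁⟩ : η₁ ∈ Set.range (X.fromSpecStalk x) := by rw [hr]; exact hx₁
  obtain ⟨q₂, hq₂⟩ : η₂ ∈ Set.range (X.fromSpecStalk x) := by rw [hr]; exact hx₂
  let ξ₀ : PrimeSpectrum (X.presheaf.stalk x) := ⟨⊥, Ideal.isPrime_bot⟩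
  have hξ₁ : ξ₀ ⤳ q₁ := (PrimeSpectrum.le_iff_specializes ξ₀ q₁).mp bot_le
  have hξ₂ : ξ₀ ⤳ q₂ := (PrimeSpectrum.le_iff_specializes ξ₀ q₂).mp bot_le
  have e₁ := hξ₁.map (X.fromSpecStalk x).continuous
  have e₂ := hξ₂.map (X.fromSpecStalk x).continuous
  rw [hq₁] at e₁
  rw [hq₂] at e₂
  have f₁ := specializes_of_mem_genericPoints h₁ e₁
  have f₂ := specializes_of_mem_genericPoints h₂ e₂
  exact (f₁.antisymm e₁).eq.trans (e₂.antisymm f₂).eq

/-- a connected Noetherian scheme whose local rings are domains is integral -/
theorem isIntegral_of_connected (X : Scheme.{u}) [IsNoetherian X] [ConnectedSpace X]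
    (hdom : ∀ x : X, IsDomain (X.presheaf.stalk x)) : IsIntegral X := by
  haveI : ∀ x : X, _root_.IsReduced (X.presheaf.stalk x) := fun x => by
    haveI := hdom x; infer_instance
  haveI : IsReduced X := isReduced_of_isReduced_stalk X
  have hfin : (genericPoints X).Finite :=
    genericPoints.finite NoetherianSpace.finite_irreducibleComponents
  obtain ⟨x₀⟩ := (inferInstance : Nonempty X)
  obtain ⟨η₀, hη₀, -⟩ := Groth.Agent.Helper3.Dim1Top.exists_generic_specializes x₀
  -- the closure of `η₀` is clopen
  have hcl : IsClosed (closure ({η₀} : Set X)) := isClosed_closure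
  have hcompl : (closure ({η₀} : Set X))ᶜ = ⋃ η ∈ (genericPoints X \ {η₀}), closure ({η} : Set X) := by
    ext x
    simp only [Set.mem_compl_iff, Set.mem_iUnion, Set.mem_diff, Set.mem_singleton_iff,
      exists_prop]
    constructor
    · intro hx
      obtain ⟨η, hη, hηx⟩ := Groth.Agent.Helper3.Dim1Top.exists_generic_specializes x
      refine ⟨η, ⟨hη, ?_⟩, specializes_iff_mem_closure.mp hηx⟩
      rintro rfl
      exact hx (specializes_iff_mem_closure.mp hηx)
    · rintro ⟨η, ⟨hη, hne⟩, hηx⟩ hx
      haveI := hdom x
      exact hne (eq_of_specializes_of_isDomain X x hη hη₀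
        (specializes_iff_mem_closure.mpr hηx) (specializes_iff_mem_closure.mpr hx))
  have hopen : IsOpen (closure ({η₀} : Set X)) := by
    rw [← isClosed_compl_iff, hcompl]
    exact (hfin.subset Set.diff_subset).isClosed_biUnion (fun η _ => isClosed_closure)
  have huniv : closure ({η₀} : Set X) = Set.univ :=
    IsClopen.eq_univ ⟨hcl, hopen⟩ ⟨η₀, subset_closure rfl⟩
  haveI : IrreducibleSpace X := by
    rw [irreducibleSpace_def]
    have h := (isIrreducible_singleton (x := η₀)).closure
    rw [huniv] at h
    exact h
  exact isIntegral_of_irreducibleSpace_of_isReduced X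

end Groth.Agent.Helper3.RegInt
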