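import Mathlib

set_option autoImplicit false
set_option linter.style.haveILetI false
set_option linter.unusedSectionVars false
set_option linter.unusedVariables false
set_option linter.style.haveILetI false
set_option linter.unusedSectionVars false
set_option linter.unusedVariables false

universe u

namespace Groth.Agent.Helper3.UnitsTorus1

open AddMonoidAlgebra

/-- units of `D[M]`, `D` a domain and `M` with two unique sums, are unit multiples of monomials -/
theorem isUnit_eq_single {D M : Type*} [CommRing D] [IsDomain D] [AddCommMonoid M]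
    [TwoUniqueSums M] (f : AddMonoidAlgebra D M) (hf : IsUnit f) :
    ∃ (d : D) (e : M), IsUnit d ∧ f = single e d := by
  classical
  obtain ⟨g, hfg⟩ := hf.exists_right_inv
  have hgf : g * f = 1 := by rw [mul_comm]; exact hfg
  have hf0 : f ≠ 0 := by
    rintro rfl
    rw [zero_mul] at hfg
    exact zero_ne_one hfg
  have hg0 : g ≠ 0 := by
    rintro rfl
    rw [mul_zero] at hfg
    exact zero_ne_one hfg
  have hfs : f.coeff.support.Nonempty := by
    rw [Finsupp.support_nonempty_iff]
    intro h
    exact hf0 (AddMonoidAlgebra.coeff_eq_zero.mp h)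
  have hgs : g.coeff.support.Nonempty := by
    rw [Finsupp.support_nonempty_iff]
    intro h
    exact hg0 (AddMonoidAlgebra.coeff_eq_zero.mp h)
  have hcard : f.coeff.support.card * g.coeff.support.card ≤ 1 := by
    by_contra hlt
    push Not at hlt
    obtain ⟨p1, hp1, p2, hp2, hne, hu1, hu2⟩ := TwoUniqueSums.uniqueAdd_of_one_lt_card hlt
    rw [Finset.mem_product] at hp1 hp2
    have h1 : (f * g).coeff (p1.1 + p1.2) ≠ 0 := by
      rw [coeff_mul_add_of_uniqueAdd hu1]
      exact mul_ne_zero (Finsupp.mem_support_iff.mp hp1.1) (Finsupp.mem_support_iff.mp hp1.2)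
    have h2 : (f * g).coeff (p2.1 + p2.2) ≠ 0 := by
      rw [coeff_mul_add_of_uniqueAdd hu2]
      exact mul_ne_zero (Finsupp.mem_support_iff.mp hp2.1) (Finsupp.mem_support_iff.mp hp2.2)
    rw [hfg] at h1 h2
    have hone : ∀ m : M, (1 : AddMonoidAlgebra D M).coeff m ≠ 0 → m = 0 := by
      intro m hm
      by_contra hm0
      apply hm
      change (single (0 : M) (1 : D)).coeff m = 0
      rw [coeff_single, Finsupp.single_apply, if_neg (Ne.symm hm0)]
    have e1 := hone _ h1
    have e2 := hone _ h2
    have := hu1 hp2.1 hp2.2 (e2.trans e1.symm)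
    exact hne (Prod.ext this.1.symm this.2.symm)
  have hf1 : f.coeff.support.card = 1 := by
    have h1 := Finset.card_pos.mpr hfs
    have h2 := Finset.card_pos.mpr hgs
    nlinarith
  have hg1 : g.coeff.support.card = 1 := by
    have h1 := Finset.card_pos.mpr hfs
    have h2 := Finset.card_pos.mpr hgs
    nlinarith
  obtain ⟨e, he⟩ := Finset.card_eq_one.mp hf1
  obtain ⟨e', he'⟩ := Finset.card_eq_one.mp hg1
  have hfe : f = single e (f.coeff e) := by
    apply AddMonoidAlgebra.coeff_injective
    rw [coeff_single]
    exact Finsupp.eq_single_iff.mpr ⟨by rw [he], rfl⟩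
  have hge : g = single e' (g.coeff e') := by
    apply AddMonoidAlgebra.coeff_injective
    rw [coeff_single]
    exact Finsupp.eq_single_iff.mpr ⟨by rw [he'], rfl⟩
  refine ⟨f.coeff e, e, ?_, hfe⟩
  have hprod : single (e + e') (f.coeff e * g.coeff e') = (1 : AddMonoidAlgebra D M) := by
    rw [← single_mul_single, ← hfe, ← hge, hfg]
  have h3 := congrArg (fun x : AddMonoidAlgebra D M => x.coeff (e + e')) hprod
  simp only [coeff_single, Finsupp.single_eq_same] at h3
  have h4 : (1 : AddMonoidAlgebra D M).coeff (e + e') = 1 := by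
    by_cases h0 : e + e' = 0
    · rw [h0]; change (single (0 : M) (1 : D)).coeff 0 = 1
      rw [coeff_single, Finsupp.single_eq_same]
    · exfalso
      have : (1 : AddMonoidAlgebra D M).coeff (e + e') = 0 := by
        change (single (0 : M) (1 : D)).coeff (e + e') = 0
        rw [coeff_single, Finsupp.single_apply, if_neg (Ne.symm h0)]
      rw [this] at h3
      have hfe0 : f.coeff e ≠ 0 := by
        have : e ∈ f.coeff.support := by rw [he]; exact Finset.mem_singleton_self e
        exact Finsupp.mem_support_iff.mp this
      have hge0 : g.coeff e' ≠ 0 := by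
        have : e' ∈ g.coeff.support := by rw [he']; exact Finset.mem_singleton_self e'
        exact Finsupp.mem_support_iff.mp this
      exact mul_ne_zero hfe0 hge0 h3
  rw [h4] at h3
  exact IsUnit.of_mul_eq_one _ h3

end Groth.Agent.Helper3.UnitsTorus1
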