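import Mathlib
import Groth.Agent.Helper3.UnitsTorus1

set_option autoImplicit false
set_option linter.style.haveILetI false
set_option linter.unusedSectionVars false
set_option linter.unusedVariables false
set_option linter.style.haveILetI false
set_option linter.unusedSectionVars false
set_option linter.unusedVariables false

universe u

open TensorProduct

namespace Groth.Agent.Helper3.UnitsTorus2

attribute [-instance] ULift.module ULift.module'

theorem ulift_int_hom_ext {R : Type*} [Semiring R] (f g : ULift.{u} ℤ →+* R) : f = g := by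
  have h := RingHom.ext_int (f.comp (ULift.ringEquiv : ULift.{u} ℤ ≃+* ℤ).symm.toRingHom)
    (g.comp (ULift.ringEquiv : ULift.{u} ℤ ≃+* ℤ).symm.toRingHom)
  ext x
  exact congrArg (fun φ : ℤ →+* R => φ x.down) h

section
variable (D : Type u) [CommRing D] (M : Type) [AddCommMonoid M]

/-- the ring map `ULift ℤ[M] → D[M]` -/
noncomputable def fromB : ULift.{u} (AddMonoidAlgebra ℤ M) →+* AddMonoidAlgebra D M :=
  (AddMonoidAlgebra.mapRingHom M (Int.castRingHom D)).comp
    (ULift.ringEquiv : ULift.{u} (AddMonoidAlgebra ℤ M) ≃+* AddMonoidAlgebra ℤ M).toRingHom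

theorem fromB_single (e : M) (z : ℤ) :
    fromB D M (ULift.up (AddMonoidAlgebra.single e z)) = AddMonoidAlgebra.single e (z : D) := by
  change AddMonoidAlgebra.mapRingHom M (Int.castRingHom D) (AddMonoidAlgebra.single e z) = _
  rw [AddMonoidAlgebra.mapRingHom_single]
  simp

variable [Algebra (ULift.{u} ℤ) D] [Algebra (ULift.{u} ℤ) (ULift.{u} (AddMonoidAlgebra ℤ M))]

/-- forward map `D ⊗ ULift ℤ[M] → D[M]` -/
noncomputable def fwd : D ⊗[ULift.{u} ℤ] ULift.{u} (AddMonoidAlgebra ℤ M) →ₐ[D] AddMonoidAlgebra D M :=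
  Algebra.TensorProduct.lift (Algebra.ofId D (AddMonoidAlgebra D M))
    { toRingHom := fromB D M
      commutes' := fun r => by
        exact congrArg (fun φ : ULift.{u} ℤ →+* AddMonoidAlgebra D M => φ r)
          (ulift_int_hom_ext ((fromB D M).comp (algebraMap _ _)) (algebraMap _ _)) }
    (fun _ _ => Commute.all _ _)

theorem fwd_left (d : D) : fwd D M (d ⊗ₜ[ULift.{u} ℤ] 1) = AddMonoidAlgebra.single 0 d := by
  unfold fwd
  rw [Algebra.TensorProduct.lift_tmul, map_one, mul_one]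
  rfl

theorem fwd_right (b : ULift.{u} (AddMonoidAlgebra ℤ M)) :
    fwd D M ((1 : D) ⊗ₜ[ULift.{u} ℤ] b) = fromB D M b := by
  unfold fwd
  rw [Algebra.TensorProduct.lift_tmul, map_one, one_mul]
  rfl

/-- backward map -/
noncomputable def bwd : AddMonoidAlgebra D M →ₐ[D] D ⊗[ULift.{u} ℤ] ULift.{u} (AddMonoidAlgebra ℤ M) :=
  AddMonoidAlgebra.lift D (D ⊗[ULift.{u} ℤ] ULift.{u} (AddMonoidAlgebra ℤ M)) M
    { toFun := fun m => (1 : D) ⊗ₜ[ULift.{u} ℤ] ULift.up (AddMonoidAlgebra.single m.toAdd (1 : ℤ))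
      map_one' := rfl
      map_mul' := fun x y => by
        rw [Algebra.TensorProduct.tmul_mul_tmul, mul_one]
        congr 1
        change _ = ULift.up (AddMonoidAlgebra.single x.toAdd 1 * AddMonoidAlgebra.single y.toAdd 1)
        rw [AddMonoidAlgebra.single_mul_single, mul_one]
        rfl }

theorem bwd_single (e : M) (d : D) :
    bwd D M (AddMonoidAlgebra.single e d) =
      d ⊗ₜ[ULift.{u} ℤ] ULift.up (AddMonoidAlgebra.single e (1 : ℤ)) := by
  unfold bwd
  rw [AddMonoidAlgebra.lift_single]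
  change d • ((1 : D) ⊗ₜ[ULift.{u} ℤ] ULift.up (AddMonoidAlgebra.single e (1 : ℤ))) = _
  rw [TensorProduct.smul_tmul', smul_eq_mul, mul_one]

theorem fwd_bwd (x : AddMonoidAlgebra D M) : fwd D M (bwd D M x) = x := by
  have : (fwd D M).comp (bwd D M) = AlgHom.id D _ := by
    apply AddMonoidAlgebra.algHom_ext
    · intro e
      change fwd D M (bwd D M (AddMonoidAlgebra.single e 1)) = AddMonoidAlgebra.single e 1
      rw [bwd_single, fwd_right, fromB_single]
      simp
    · exact Subsingleton.elim _ _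
  exact congrArg (fun φ : AddMonoidAlgebra D M →ₐ[D] AddMonoidAlgebra D M => φ x) this

theorem bwd_fromB (b : ULift.{u} (AddMonoidAlgebra ℤ M)) :
    bwd D M (fromB D M b) = (1 : D) ⊗ₜ[ULift.{u} ℤ] b := by
  let f₁ : AddMonoidAlgebra ℤ M →+* D ⊗[ULift.{u} ℤ] ULift.{u} (AddMonoidAlgebra ℤ M) :=
    ((bwd D M : AddMonoidAlgebra D M →+* _).comp (fromB D M)).comp
      (ULift.ringEquiv : ULift.{u} (AddMonoidAlgebra ℤ M) ≃+* AddMonoidAlgebra ℤ M).symm.toRingHom
  let f₂ : AddMonoidAlgebra ℤ M →+* D ⊗[ULift.{u} ℤ] ULift.{u} (AddMonoidAlgebra ℤ M) :=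
    ((Algebra.TensorProduct.includeRight : ULift.{u} (AddMonoidAlgebra ℤ M) →ₐ[ULift.{u} ℤ]
      D ⊗[ULift.{u} ℤ] ULift.{u} (AddMonoidAlgebra ℤ M)) : _ →+* _).comp
      (ULift.ringEquiv : ULift.{u} (AddMonoidAlgebra ℤ M) ≃+* AddMonoidAlgebra ℤ M).symm.toRingHom
  have h : f₁ = f₂ := by
    apply AddMonoidAlgebra.ringHom_ext
    · intro z
      exact congrArg (fun φ : ℤ →+* _ => φ z) (RingHom.ext_int
        (f₁.comp (AddMonoidAlgebra.singleZeroRingHom)) (f₂.comp (AddMonoidAlgebra.singleZeroRingHom)))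
    · intro e
      change bwd D M (fromB D M (ULift.up (AddMonoidAlgebra.single e 1))) =
        (1 : D) ⊗ₜ[ULift.{u} ℤ] ULift.up (AddMonoidAlgebra.single e (1 : ℤ))
      rw [fromB_single, Int.cast_one, bwd_single]
  exact congrArg (fun φ : AddMonoidAlgebra ℤ M →+* _ => φ b.down) h

theorem bwd_fwd (x : D ⊗[ULift.{u} ℤ] ULift.{u} (AddMonoidAlgebra ℤ M)) :
    bwd D M (fwd D M x) = x := by
  induction x using TensorProduct.induction_on with
  | zero => simp
  | tmul d b =>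
    have : d ⊗ₜ[ULift.{u} ℤ] b = (d ⊗ₜ[ULift.{u} ℤ] 1) * ((1 : D) ⊗ₜ[ULift.{u} ℤ] b) := by
      rw [Algebra.TensorProduct.tmul_mul_tmul, mul_one, one_mul]
    rw [this, map_mul, map_mul, fwd_left, fwd_right, bwd_single, bwd_fromB]
    rfl
  | add x y hx hy => rw [map_add, map_add, hx, hy]

/-- the ring isomorphism `D ⊗ ULift ℤ[M] ≃ D[M]` -/
noncomputable def Ξ : D ⊗[ULift.{u} ℤ] ULift.{u} (AddMonoidAlgebra ℤ M) ≃+* AddMonoidAlgebra D M :=
  RingEquiv.ofRingHom (fwd D M : _ →+* _) (bwd D M : _ →+* _)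
    (RingHom.ext (fwd_bwd D M)) (RingHom.ext (bwd_fwd D M))

theorem Ξ_left (d : D) : Ξ D M (d ⊗ₜ[ULift.{u} ℤ] 1) = AddMonoidAlgebra.single 0 d := fwd_left D M d

theorem Ξ_right (e : M) :
    Ξ D M ((1 : D) ⊗ₜ[ULift.{u} ℤ] ULift.up (AddMonoidAlgebra.single e (1 : ℤ))) =
      AddMonoidAlgebra.single e 1 := by
  have h : Ξ D M ((1 : D) ⊗ₜ[ULift.{u} ℤ] ULift.up (AddMonoidAlgebra.single e (1 : ℤ))) =
      fwd D M ((1 : D) ⊗ₜ[ULift.{u} ℤ] ULift.up (AddMonoidAlgebra.single e (1 : ℤ))) := rfl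
  rw [h, fwd_right, fromB_single, Int.cast_one]

end

end Groth.Agent.Helper3.UnitsTorus2
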