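import Mathlib
import Groth.Agent.Helper3.UnitsTorus2
import Groth.Agent.Helper3.FinComp2

set_option autoImplicit false
set_option linter.style.haveILetI false
set_option linter.unusedSectionVars false
set_option linter.unusedVariables false
set_option linter.style.haveILetI false
set_option linter.unusedSectionVars false
set_option linter.unusedVariables false

universe u

open AlgebraicGeometry CategoryTheory CategoryTheory.Limits TensorProduct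

namespace Groth.Agent.Helper3.UnitsTorus3

attribute [-instance] ULift.module ULift.module'

open Groth.Agent.Helper3.FinComp2 Groth.Agent.Helper3.UnitsTorus2

section
variable (M : Type) [AddCommMonoid M]

/-- the torus -/
noncomputable abbrev T : Scheme.{u} := Spec (CommRingCat.of (ULift.{u} (AddMonoidAlgebra ℤ M)))

/-- the monomial function -/
noncomputable def τ (e : M) : Γ(T.{u} M, ⊤) :=
  (Scheme.ΓSpecIso (CommRingCat.of (ULift.{u} (AddMonoidAlgebra ℤ M)))).inv.hom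
    (ULift.up (AddMonoidAlgebra.single e 1))

theorem exists_ringEquiv {Z Q : Scheme.{u}} [IsAffine Z] (a : Q ⟶ Z) (b : Q ⟶ T.{u} M)
    (f : Z ⟶ Spec (CommRingCat.of (ULift.{u} ℤ))) (g : T.{u} M ⟶ Spec (CommRingCat.of (ULift.{u} ℤ)))
    (h : IsPullback a b f g) :
    ∃ Φ : Γ(Q, ⊤) ≃+* AddMonoidAlgebra Γ(Z, ⊤) M,
      (∀ d, Φ (a.appTop.hom d) = AddMonoidAlgebra.single 0 d) ∧
      (∀ e, Φ (b.appTop.hom (τ M e)) = AddMonoidAlgebra.single e 1) := by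
  letI algD : Algebra (ULift.{u} ℤ) Γ(Z, ⊤) :=
    ((Int.castRingHom Γ(Z, ⊤)).comp (ULift.ringEquiv : ULift.{u} ℤ ≃+* ℤ).toRingHom).toAlgebra
  letI algB : Algebra (ULift.{u} ℤ) (ULift.{u} (AddMonoidAlgebra ℤ M)) :=
    ((Int.castRingHom (ULift.{u} (AddMonoidAlgebra ℤ M))).comp
      (ULift.ringEquiv : ULift.{u} ℤ ≃+* ℤ).toRingHom).toAlgebra
  have h' : IsPullback (a ≫ Z.isoSpec.hom) b
      (Spec.map (CommRingCat.ofHom (algebraMap (ULift.{u} ℤ) Γ(Z, ⊤))))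
      (Spec.map (CommRingCat.ofHom (algebraMap (ULift.{u} ℤ) (ULift.{u} (AddMonoidAlgebra ℤ M))))) := by
    refine IsPullback.of_iso h (Iso.refl _) Z.isoSpec (Iso.refl _) (Iso.refl _) ?_ ?_ ?_ ?_
    · simp
    · simp
    · exact specULiftZIsTerminal.hom_ext _ _
    · exact specULiftZIsTerminal.hom_ext _ _
  let θ : Q ≅ Spec (CommRingCat.of (Γ(Z, ⊤) ⊗[ULift.{u} ℤ] ULift.{u} (AddMonoidAlgebra ℤ M))) :=
    h'.isoPullback ≪≫ pullbackSpecIso (ULift.{u} ℤ) Γ(Z, ⊤) (ULift.{u} (AddMonoidAlgebra ℤ M))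
  have hθ1 : θ.inv ≫ a = Spec.map (CommRingCat.ofHom
      (Algebra.TensorProduct.includeLeftRingHom :
        Γ(Z, ⊤) →+* Γ(Z, ⊤) ⊗[ULift.{u} ℤ] ULift.{u} (AddMonoidAlgebra ℤ M))) ≫ Z.isoSpec.inv := by
    rw [Iso.inv_comp_eq, ← Category.assoc, Iso.eq_comp_inv]
    change _ = (h'.isoPullback.hom ≫ (pullbackSpecIso _ _ _).hom) ≫ _
    rw [Category.assoc, pullbackSpecIso_hom_fst, IsPullback.isoPullback_hom_fst]
  have hθ2 : θ.inv ≫ b = Spec.map (CommRingCat.ofHom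
      ((Algebra.TensorProduct.includeRight : ULift.{u} (AddMonoidAlgebra ℤ M) →ₐ[ULift.{u} ℤ]
        Γ(Z, ⊤) ⊗[ULift.{u} ℤ] ULift.{u} (AddMonoidAlgebra ℤ M)) : _ →+* _)) := by
    rw [Iso.inv_comp_eq]
    change _ = (h'.isoPullback.hom ≫ (pullbackSpecIso _ _ _).hom) ≫ _
    rw [Category.assoc, pullbackSpecIso_hom_snd, IsPullback.isoPullback_hom_snd]
  let ψ : Γ(Q, ⊤) ⟶ CommRingCat.of (Γ(Z, ⊤) ⊗[ULift.{u} ℤ] ULift.{u} (AddMonoidAlgebra ℤ M)) :=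
    ringOf θ.inv
  haveI : IsIso ψ := by
    haveI : IsIso θ.inv.appTop := inferInstanceAs (IsIso (θ.inv.app ⊤))
    change IsIso (θ.inv.appTop ≫ _)
    infer_instance
  have hψ1 : a.appTop ≫ ψ = CommRingCat.ofHom
      (Algebra.TensorProduct.includeLeftRingHom :
        Γ(Z, ⊤) →+* Γ(Z, ⊤) ⊗[ULift.{u} ℤ] ULift.{u} (AddMonoidAlgebra ℤ M)) := by
    change a.appTop ≫ θ.inv.appTop ≫ _ = _
    rw [← Category.assoc, ← Scheme.Hom.comp_appTop, hθ1]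
    exact ringOf_spec _
  have hψ2 : (Scheme.ΓSpecIso (CommRingCat.of (ULift.{u} (AddMonoidAlgebra ℤ M)))).inv ≫
      b.appTop ≫ ψ = CommRingCat.ofHom
      ((Algebra.TensorProduct.includeRight : ULift.{u} (AddMonoidAlgebra ℤ M) →ₐ[ULift.{u} ℤ]
        Γ(Z, ⊤) ⊗[ULift.{u} ℤ] ULift.{u} (AddMonoidAlgebra ℤ M)) : _ →+* _) := by
    change _ ≫ b.appTop ≫ θ.inv.appTop ≫ _ = _
    rw [← Category.assoc b.appTop, ← Scheme.Hom.comp_appTop, hθ2, Scheme.ΓSpecIso_naturality,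
      Iso.inv_hom_id_assoc]
  let Φ : Γ(Q, ⊤) ≃+* AddMonoidAlgebra Γ(Z, ⊤) M :=
    (asIso ψ).commRingCatIsoToRingEquiv.trans (Ξ Γ(Z, ⊤) M)
  refine ⟨Φ, fun d => ?_, fun e => ?_⟩
  · have h1 : ψ.hom (a.appTop.hom d) = d ⊗ₜ[ULift.{u} ℤ] 1 :=
      congrArg (fun φ : Γ(Z, ⊤) ⟶ _ => φ.hom d) hψ1
    change Ξ Γ(Z, ⊤) M (ψ.hom (a.appTop.hom d)) = _
    rw [h1, Ξ_left]
  · have h2 : ψ.hom (b.appTop.hom (τ M e)) =
        (1 : Γ(Z, ⊤)) ⊗ₜ[ULift.{u} ℤ] ULift.up (AddMonoidAlgebra.single e (1 : ℤ)) :=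
      congrArg (fun φ : CommRingCat.of (ULift.{u} (AddMonoidAlgebra ℤ M)) ⟶ _ =>
        φ.hom (ULift.up (AddMonoidAlgebra.single e (1 : ℤ)))) hψ2
    change Ξ Γ(Z, ⊤) M (ψ.hom (b.appTop.hom (τ M e))) = _
    rw [h2, Ξ_right]

theorem exists_unit_decomp [TwoUniqueSums M] {Z Q : Scheme.{u}} [IsAffine Z] [IsDomain Γ(Z, ⊤)]
    (a : Q ⟶ Z) (b : Q ⟶ T.{u} M)
    (f : Z ⟶ Spec (CommRingCat.of (ULift.{u} ℤ))) (g : T.{u} M ⟶ Spec (CommRingCat.of (ULift.{u} ℤ)))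
    (h : IsPullback a b f g) (w : Γ(Q, ⊤)) (hw : IsUnit w) :
    ∃ (d : Γ(Z, ⊤)) (e : M), IsUnit d ∧ w = a.appTop.hom d * b.appTop.hom (τ M e) := by
  obtain ⟨Φ, h1, h2⟩ := exists_ringEquiv M a b f g h
  obtain ⟨d, e, hd, hde⟩ := Groth.Agent.Helper3.UnitsTorus1.isUnit_eq_single (Φ w) (hw.map Φ)
  refine ⟨d, e, hd, Φ.injective ?_⟩
  rw [hde, map_mul, h1, h2, AddMonoidAlgebra.single_mul_single, zero_add, mul_one]

theorem monomial_injective {Z Q : Scheme.{u}} [IsAffine Z] [Nontrivial Γ(Z, ⊤)]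
    (a : Q ⟶ Z) (b : Q ⟶ T.{u} M)
    (f : Z ⟶ Spec (CommRingCat.of (ULift.{u} ℤ))) (g : T.{u} M ⟶ Spec (CommRingCat.of (ULift.{u} ℤ)))
    (h : IsPullback a b f g) (e e' : M) (hee : b.appTop.hom (τ M e) = b.appTop.hom (τ M e')) :
    e = e' := by
  obtain ⟨Φ, h1, h2⟩ := exists_ringEquiv M a b f g h
  have := congrArg Φ hee
  rw [h2, h2] at this
  rcases AddMonoidAlgebra.single_inj.1 this with h3 | h3
  · exact h3.1
  · exact absurd h3.1 one_ne_zero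

end

example : TwoUniqueSums (Fin 3 → ℤ) := inferInstance

end Groth.Agent.Helper3.UnitsTorus3
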