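import Mathlib
import Groth.Agent.Helper3.UnitsTorus3

set_option autoImplicit false
set_option linter.style.haveILetI false
set_option linter.unusedSectionVars false
set_option linter.unusedVariables false
set_option linter.style.haveILetI false
set_option linter.unusedSectionVars false
set_option linter.unusedVariables false

universe u

open AlgebraicGeometry CategoryTheory CategoryTheory.Limits TensorProduct

namespace Groth.Agent.Helper3.UnitsTorus4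

open Groth.Agent.Helper3.UnitsTorus3

section Aug
variable (M : Type) [AddCommMonoid M]

/-- the augmentation `ULift ℤ[M] → ULift ℤ` -/
noncomputable def aug : ULift.{u} (AddMonoidAlgebra ℤ M) →+* ULift.{u} ℤ :=
  ((ULift.ringEquiv : ULift.{u} ℤ ≃+* ℤ).symm.toRingHom.comp
    ((AddMonoidAlgebra.lift ℤ ℤ M (1 : Multiplicative M →* ℤ) : AddMonoidAlgebra ℤ M →ₐ[ℤ] ℤ) :
      AddMonoidAlgebra ℤ M →+* ℤ)).comp
    (ULift.ringEquiv : ULift.{u} (AddMonoidAlgebra ℤ M) ≃+* AddMonoidAlgebra ℤ M).toRingHom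

theorem aug_single (e : M) : aug.{u} M (ULift.up (AddMonoidAlgebra.single e 1)) = 1 := by
  change ULift.up (AddMonoidAlgebra.lift ℤ ℤ M (1 : Multiplicative M →* ℤ)
    (AddMonoidAlgebra.single e 1)) = 1
  rw [AddMonoidAlgebra.lift_single]
  simp
  rfl

theorem specMap_aug_τ (e : M) :
    (Spec.map (CommRingCat.ofHom (aug.{u} M))).appTop.hom (τ M e) = 1 := by
  have h := Scheme.ΓSpecIso_inv_naturality (CommRingCat.ofHom (aug.{u} M))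
  have h2 := congrArg (fun φ : CommRingCat.of (ULift.{u} (AddMonoidAlgebra ℤ M)) ⟶ _ =>
    φ.hom (ULift.up (AddMonoidAlgebra.single e 1))) h
  change (Scheme.ΓSpecIso _).inv.hom (aug.{u} M (ULift.up (AddMonoidAlgebra.single e 1))) =
    (Spec.map (CommRingCat.ofHom (aug.{u} M))).appTop.hom (τ M e) at h2
  rw [← h2, aug_single, map_one]

end Aug

section Generic
variable {M : Type} [AddCommMonoid M] [TwoUniqueSums M]
variable {X P : Scheme.{u}} [IsIntegral X] (pr₁ : P ⟶ X) (pr₂ : P ⟶ T.{u} M)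
  (tX : X ⟶ Spec (CommRingCat.of (ULift.{u} ℤ))) (tT : T.{u} M ⟶ Spec (CommRingCat.of (ULift.{u} ℤ)))
  (hP : IsPullback pr₁ pr₂ tX tT)
  (σ : X ⟶ P) (hσ1 : σ ≫ pr₁ = 𝟙 X) (hσ2 : ∀ e, σ.appTop.hom (pr₂.appTop.hom (τ M e)) = 1)

include hP in
theorem restr_pullback (U : X.Opens) :
    IsPullback (pr₁ ∣_ U) ((pr₁ ⁻¹ᵁ U).ι ≫ pr₂) (U.ι ≫ tX) tT :=
  ((isPullback_morphismRestrict pr₁ U).flip.paste_horiz hP.flip).flip

include hσ1 in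
theorem exists_section (U : X.Opens) :
    ∃ σU : U.toScheme ⟶ (pr₁ ⁻¹ᵁ U).toScheme, σU ≫ (pr₁ ∣_ U) = 𝟙 _ ∧
      σU ≫ (pr₁ ⁻¹ᵁ U).ι = U.ι ≫ σ := by
  have hc : 𝟙 U.toScheme ≫ U.ι = (U.ι ≫ σ) ≫ pr₁ := by
    rw [Category.id_comp, Category.assoc, hσ1, Category.comp_id]
  exact ⟨(isPullback_morphismRestrict pr₁ U).lift (𝟙 _) (U.ι ≫ σ) hc,
    IsPullback.lift_fst _ _ _ _, IsPullback.lift_snd _ _ _ _⟩

theorem integral_open (U : X.Opens) (hne : (U : Set X).Nonempty) : IsIntegral U.toScheme := by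
  haveI : Nonempty U.toScheme := by
    obtain ⟨x, hx⟩ := hne
    exact ⟨⟨x, hx⟩⟩
  exact isIntegral_of_isOpenImmersion U.ι

include hP hσ1 hσ2 in
theorem lemmaB (U : X.Opens) (hU : IsAffineOpen U) (hne : (U : Set X).Nonempty)
    (v' : Γ(P, ⊤)) (hv' : IsUnit v') (hσv : σ.appTop.hom v' = 1) :
    ∃ e : M, (pr₁ ⁻¹ᵁ U).ι.appTop.hom v' =
      (pr₁ ⁻¹ᵁ U).ι.appTop.hom (pr₂.appTop.hom (τ M e)) := by
  haveI : IsAffine U.toScheme := hU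
  haveI : IsIntegral U.toScheme := integral_open U hne
  obtain ⟨σU, hσU1, hσU2⟩ := exists_section pr₁ σ hσ1 U
  obtain ⟨d, e, hd, hde⟩ := exists_unit_decomp M (pr₁ ∣_ U) ((pr₁ ⁻¹ᵁ U).ι ≫ pr₂) (U.ι ≫ tX) tT
    (restr_pullback pr₁ pr₂ tX tT hP U) ((pr₁ ⁻¹ᵁ U).ι.appTop.hom v') (hv'.map _)
  refine ⟨e, ?_⟩
  have h1 : σU.appTop.hom ((pr₁ ⁻¹ᵁ U).ι.appTop.hom v') = 1 := by
    have : σU.appTop.hom ((pr₁ ⁻¹ᵁ U).ι.appTop.hom v') = (σU ≫ (pr₁ ⁻¹ᵁ U).ι).appTop.hom v' := by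
      rw [Scheme.Hom.comp_appTop]; rfl
    rw [this, hσU2, Scheme.Hom.comp_appTop]
    change U.ι.appTop.hom (σ.appTop.hom v') = 1
    rw [hσv, map_one]
  have h2 : σU.appTop.hom ((pr₁ ∣_ U).appTop.hom d) = d := by
    have : σU.appTop.hom ((pr₁ ∣_ U).appTop.hom d) = (σU ≫ (pr₁ ∣_ U)).appTop.hom d := by
      rw [Scheme.Hom.comp_appTop]; rfl
    rw [this, hσU1]
    simp
  have h3 : σU.appTop.hom (((pr₁ ⁻¹ᵁ U).ι ≫ pr₂).appTop.hom (τ M e)) = 1 := by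
    have : σU.appTop.hom (((pr₁ ⁻¹ᵁ U).ι ≫ pr₂).appTop.hom (τ M e)) =
        (σU ≫ (pr₁ ⁻¹ᵁ U).ι ≫ pr₂).appTop.hom (τ M e) := by
      rw [Scheme.Hom.comp_appTop σU]; rfl
    rw [this, ← Category.assoc, hσU2, Category.assoc, Scheme.Hom.comp_appTop, Scheme.Hom.comp_appTop]
    change U.ι.appTop.hom (σ.appTop.hom (pr₂.appTop.hom (τ M e))) = 1
    rw [hσ2, map_one]
  have h4 := congrArg σU.appTop.hom hde
  rw [map_mul, h1, h2, h3, mul_one] at h4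
  rw [hde, ← h4, map_one, one_mul, Scheme.Hom.comp_appTop]
  rfl

include hP in
theorem lemmaB' (U : X.Opens) (hU : IsAffineOpen U) (hne : (U : Set X).Nonempty) (e e' : M)
    (h : (pr₁ ⁻¹ᵁ U).ι.appTop.hom (pr₂.appTop.hom (τ M e)) =
      (pr₁ ⁻¹ᵁ U).ι.appTop.hom (pr₂.appTop.hom (τ M e'))) : e = e' := by
  haveI : IsAffine U.toScheme := hU
  haveI : IsIntegral U.toScheme := integral_open U hne
  refine monomial_injective M (pr₁ ∣_ U) ((pr₁ ⁻¹ᵁ U).ι ≫ pr₂) (U.ι ≫ tX) tT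
    (restr_pullback pr₁ pr₂ tX tT hP U) e e' ?_
  rw [Scheme.Hom.comp_appTop]
  exact h

theorem restrict_mono {Y : Scheme.{u}} {V W : Y.Opens} (hWV : W ≤ V) (x y : Γ(Y, ⊤))
    (h : V.ι.appTop.hom x = V.ι.appTop.hom y) : W.ι.appTop.hom x = W.ι.appTop.hom y := by
  have h1 : W.ι = Y.homOfLE hWV ≫ V.ι := (Scheme.homOfLE_ι Y hWV).symm
  rw [h1, Scheme.Hom.comp_appTop]
  change (Y.homOfLE hWV).appTop.hom (V.ι.appTop.hom x) = (Y.homOfLE hWV).appTop.hom (V.ι.appTop.hom y)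
  rw [h]

include hP hσ1 hσ2 in
theorem exists_monomial (v' : Γ(P, ⊤)) (hv' : IsUnit v') (hσv : σ.appTop.hom v' = 1) :
    ∃ e : M, v' = pr₂.appTop.hom (τ M e) := by
  -- affine neighbourhoods
  have hnb : ∀ x : X, ∃ U : X.Opens, IsAffineOpen U ∧ x ∈ U := fun x => by
    obtain ⟨U, hU, hxU, -⟩ := X.isBasis_affineOpens.exists_subset_of_mem_open
      (show x ∈ ((⊤ : X.Opens) : Set X) from trivial) (⊤ : X.Opens).isOpen
    obtain ⟨U', hU', rfl⟩ := hU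
    exact ⟨U', hU', hxU⟩
  choose Ux hUx hxUx using hnb
  have hex : ∀ x : X, ∃ e : M, (pr₁ ⁻¹ᵁ (Ux x)).ι.appTop.hom v' =
      (pr₁ ⁻¹ᵁ (Ux x)).ι.appTop.hom (pr₂.appTop.hom (τ M e)) := fun x =>
    lemmaB pr₁ pr₂ tX tT hP σ hσ1 hσ2 (Ux x) (hUx x) ⟨x, hxUx x⟩ v' hv' hσv
  choose ex hexx using hex
  obtain ⟨x₀⟩ := (inferInstance : Nonempty X)
  -- independence
  have hind : ∀ x, ex x = ex x₀ := by
    intro x
    obtain ⟨y, hy1, hy2⟩ := nonempty_preirreducible_inter (Ux x).isOpen (Ux x₀).isOpen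
      ⟨x, hxUx x⟩ ⟨x₀, hxUx x₀⟩
    obtain ⟨W, hW, hyW, hWsub⟩ := X.isBasis_affineOpens.exists_subset_of_mem_open
      (show y ∈ ((Ux x ⊓ Ux x₀ : X.Opens) : Set X) from ⟨hy1, hy2⟩) (Ux x ⊓ Ux x₀).isOpen
    obtain ⟨W', hW', rfl⟩ := hW
    have hW1 : W' ≤ Ux x := fun z hz => (hWsub hz).1
    have hW2 : W' ≤ Ux x₀ := fun z hz => (hWsub hz).2
    have hP1 : pr₁ ⁻¹ᵁ W' ≤ pr₁ ⁻¹ᵁ (Ux x) := fun z hz => hW1 hz
    have hP2 : pr₁ ⁻¹ᵁ W' ≤ pr₁ ⁻¹ᵁ (Ux x₀) := fun z hz => hW2 hz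
    have e1 := restrict_mono hP1 _ _ (hexx x)
    have e2 := restrict_mono hP2 _ _ (hexx x₀)
    exact lemmaB' pr₁ pr₂ tX tT hP W' hW' ⟨y, hyW⟩ _ _ (e1.symm.trans e2)
  refine ⟨ex x₀, ?_⟩
  have hcov : TopologicalSpace.IsOpenCover (fun x : X => pr₁ ⁻¹ᵁ (Ux x)) := by
    rw [TopologicalSpace.IsOpenCover, eq_top_iff]
    intro p _
    rw [TopologicalSpace.Opens.mem_iSup]
    exact ⟨pr₁ p, hxUx (pr₁ p)⟩
  refine Scheme.OpenCover.ext_elem _ _ (P.openCoverOfIsOpenCover _ hcov) (fun x => ?_)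
  change (pr₁ ⁻¹ᵁ (Ux x)).ι.appTop.hom v' = (pr₁ ⁻¹ᵁ (Ux x)).ι.appTop.hom (pr₂.appTop.hom (τ M (ex x₀)))
  rw [hexx x, hind x]

end Generic

section Main

theorem main (X : Scheme.{u}) [IsIntegral X] (n : ℕ)
    (v : Γ(X ⨯ Spec (CommRingCat.of (ULift.{u} (AddMonoidAlgebra ℤ (Fin n → ℤ)))), ⊤)) (hv : IsUnit v) :
    ∃! p : (Γ(X, ⊤))ˣ × (Fin n → ℤ),
      v = (prod.fst : X ⨯ Spec (CommRingCat.of (ULift.{u} (AddMonoidAlgebra ℤ (Fin n → ℤ)))) ⟶ X).appTop (p.1 : Γ(X, ⊤)) *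
        (prod.snd : X ⨯ Spec (CommRingCat.of (ULift.{u} (AddMonoidAlgebra ℤ (Fin n → ℤ)))) ⟶ Spec (CommRingCat.of (ULift.{u} (AddMonoidAlgebra ℤ (Fin n → ℤ))))).appTop
          ((Scheme.ΓSpecIso (CommRingCat.of (ULift.{u} (AddMonoidAlgebra ℤ (Fin n → ℤ))))).inv (ULift.up (AddMonoidAlgebra.single p.2 1))) := by
  let pr₁ : X ⨯ T.{u} (Fin n → ℤ) ⟶ X := prod.fst
  let pr₂ : X ⨯ T.{u} (Fin n → ℤ) ⟶ T.{u} (Fin n → ℤ) := prod.snd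
  have hP : IsPullback pr₁ pr₂ (specULiftZIsTerminal.from _) (specULiftZIsTerminal.from _) :=
    IsPullback.of_is_product (limit.isLimit _) specULiftZIsTerminal
  let σ : X ⟶ X ⨯ T.{u} (Fin n → ℤ) :=
    prod.lift (𝟙 X) (specULiftZIsTerminal.from X ≫ Spec.map (CommRingCat.ofHom (aug.{u} (Fin n → ℤ))))
  have hσ1 : σ ≫ pr₁ = 𝟙 X := prod.lift_fst _ _
  have hσ2' : σ ≫ pr₂ =
      specULiftZIsTerminal.from X ≫ Spec.map (CommRingCat.ofHom (aug.{u} (Fin n → ℤ))) :=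
    prod.lift_snd _ _
  have hσ2 : ∀ e, σ.appTop.hom (pr₂.appTop.hom (τ (Fin n → ℤ) e)) = 1 := by
    intro e
    have : σ.appTop.hom (pr₂.appTop.hom (τ (Fin n → ℤ) e)) =
        (σ ≫ pr₂).appTop.hom (τ (Fin n → ℤ) e) := by
      rw [Scheme.Hom.comp_appTop]; rfl
    rw [this, hσ2', Scheme.Hom.comp_appTop]
    change (specULiftZIsTerminal.from X).appTop.hom
      ((Spec.map (CommRingCat.ofHom (aug.{u} (Fin n → ℤ)))).appTop.hom (τ (Fin n → ℤ) e)) = 1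
    rw [specMap_aug_τ, map_one]
  have hσpr : ∀ d : Γ(X, ⊤), σ.appTop.hom (pr₁.appTop.hom d) = d := by
    intro d
    have : σ.appTop.hom (pr₁.appTop.hom d) = (σ ≫ pr₁).appTop.hom d := by
      rw [Scheme.Hom.comp_appTop]; rfl
    rw [this, hσ1]
    simp
  change ∃! p : (Γ(X, ⊤))ˣ × (Fin n → ℤ),
      v = pr₁.appTop.hom (p.1 : Γ(X, ⊤)) * pr₂.appTop.hom (τ (Fin n → ℤ) p.2)
  -- existence
  have hu : IsUnit (σ.appTop.hom v) := hv.map _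
  let u : (Γ(X, ⊤))ˣ := hu.unit
  have huv : (u : Γ(X, ⊤)) = σ.appTop.hom v := hu.unit_spec
  let v' : Γ(X ⨯ T.{u} (Fin n → ℤ), ⊤) := v * pr₁.appTop.hom ((u⁻¹ : (Γ(X, ⊤))ˣ) : Γ(X, ⊤))
  have hv' : IsUnit v' := hv.mul ((u⁻¹).isUnit.map _)
  have hσv' : σ.appTop.hom v' = 1 := by
    change σ.appTop.hom (v * pr₁.appTop.hom ((u⁻¹ : (Γ(X, ⊤))ˣ) : Γ(X, ⊤))) = 1
    rw [map_mul, hσpr, ← huv, Units.mul_inv]
  obtain ⟨e, he⟩ := exists_monomial pr₁ pr₂ _ _ hP σ hσ1 hσ2 v' hv' hσv'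
  have hvv : v = pr₁.appTop.hom (u : Γ(X, ⊤)) * pr₂.appTop.hom (τ (Fin n → ℤ) e) := by
    rw [← he]
    change v = pr₁.appTop.hom (u : Γ(X, ⊤)) * (v * pr₁.appTop.hom ((u⁻¹ : (Γ(X, ⊤))ˣ) : Γ(X, ⊤)))
    rw [mul_left_comm, ← map_mul, Units.mul_inv, map_one, mul_one]
  refine ⟨(u, e), hvv, ?_⟩
  rintro ⟨u₂, e₂⟩ h2
  change v = pr₁.appTop.hom (u₂ : Γ(X, ⊤)) * pr₂.appTop.hom (τ (Fin n → ℤ) e₂) at h2
  have h3 := congrArg σ.appTop.hom h2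
  rw [map_mul, hσpr, hσ2, mul_one, ← huv] at h3
  have hu2 : u₂ = u := (Units.ext h3).symm
  subst hu2
  have h4 : pr₂.appTop.hom (τ (Fin n → ℤ) e₂) = pr₂.appTop.hom (τ (Fin n → ℤ) e) := by
    have hunit : IsUnit (pr₁.appTop.hom (u : Γ(X, ⊤))) := u.isUnit.map _
    exact hunit.mul_left_cancel (h2.symm.trans hvv)
  -- pick a nonempty affine open
  obtain ⟨x₀⟩ := (inferInstance : Nonempty X)
  obtain ⟨U, hU, hxU, -⟩ := X.isBasis_affineOpens.exists_subset_of_mem_open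
    (show x₀ ∈ ((⊤ : X.Opens) : Set X) from trivial) (⊤ : X.Opens).isOpen
  obtain ⟨U', hU', rfl⟩ := hU
  have h5 := lemmaB' pr₁ pr₂ _ _ hP U' hU' ⟨x₀, hxU⟩ e₂ e (by rw [h4])
  rw [h5]

end Main

end Groth.Agent.Helper3.UnitsTorus4
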