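import Mathlib
import Groth.Agent.Helper3.RegExt1
import Groth.Agent.Helper3.RegExtAlg
import Groth.Agent.Helper3.RegInt
import Groth.Agent.Helper3.UnitsTorus4
import Groth.Agent.Helper4.StalkDict
import Groth.Agent.Lead.RegUFDA
import Groth.Agent.Lead.RegLocal

set_option autoImplicit false
set_option linter.style.haveILetI false
set_option linter.unusedSectionVars false
set_option linter.unusedVariables false
set_option linter.deprecated false
set_option linter.style.haveILetI false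
set_option linter.unusedSectionVars false
set_option linter.unusedVariables false

universe u

open CategoryTheory CategoryTheory.Limits AlgebraicGeometry TopologicalSpace Opposite

namespace Groth.Agent.Helper3.RegExt

open Scheme.Modules Groth.Agent.Helper4.TwistExt Groth.Agent.Helper4.TensorInv
  Groth.Agent.Helper1.CC Groth.Agent.Helper3.GlueInv Groth.Agent.Helper3.FrameFin
  Groth.Agent.Helper3.FrameGlue Groth.Agent.Helper3.DiscPic1

variable {X : Scheme.{u}}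

/-- restriction of local triviality to an open subscheme -/
theorem LocTriv.restrict {L : X.Modules} {U' : X.Opens} (hL : LocTriv L U') (V : X.Opens) :
    LocTriv (L.restrict V.ι) (V.ι ⁻¹ᵁ U') := by
  intro y hy
  obtain ⟨T, e, hyT, hTU', he⟩ := hL (V.ι y) hy
  have hle : V.ι ''ᵁ (V.ι ⁻¹ᵁ T) ≤ T := V.ι.image_preimage_le T
  exact ⟨V.ι ⁻¹ᵁ T, _, hyT, V.ι.preimage_mono hTU',
    isFrame_restrict V.ι L (V.ι ⁻¹ᵁ T) _ (isFrame_of_le he hle)⟩

/-- **Local trivialisation near a factorial point.** -/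
theorem local_frame [IsIntegral X] [IsLocallyNoetherian X] (x : X)
    [UniqueFactorizationMonoid (X.presheaf.stalk x)]
    (L : X.Modules) (U' : X.Opens) (hL : LocTriv L U') :
    ∃ (V : X.Opens) (ε : Γ(L, U' ⊓ V)), x ∈ V ∧ IsFrame L (U' ⊓ V) ε := by
  obtain ⟨_, ⟨V₀, hV₀, rfl⟩, hxV₀, -⟩ :=
    (X.isBasis_affineOpens).exists_subset_of_mem_open (Set.mem_univ x) isOpen_univ
  by_cases hbot : U' ⊓ V₀ ≤ ⊥
  · exact ⟨V₀, 0, hxV₀, isFrame_of_le_bot hbot 0⟩
  · have hne : ∃ y, y ∈ U' ⊓ V₀ := by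
      by_contra hcon
      push Not at hcon
      exact hbot (fun y hy => (hcon y hy).elim)
    obtain ⟨y, hyU', hyV₀⟩ := hne
    obtain ⟨T, e₁, hyT, hTU', he₁⟩ := hL y hyU'
    obtain ⟨f₀, hf₀T, hyf₀⟩ := hV₀.exists_basicOpen_le (V := T ⊓ V₀) ⟨y, hyT, hyV₀⟩ hyV₀
    have hf₀ : f₀ ≠ 0 := by
      rintro rfl
      rw [Scheme.basicOpen_zero] at hyf₀
      exact hyf₀
    haveI : IsDomain Γ(X, V₀) := @IsIntegral.component_integral X _ V₀ ⟨⟨x, hxV₀⟩⟩
    haveI : IsNoetherianRing Γ(X, V₀) := IsLocallyNoetherian.component_noetherian ⟨V₀, hV₀⟩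
    letI := X.presheaf.algebra_section_stalk ⟨x, hxV₀⟩
    haveI := hV₀.isLocalization_stalk ⟨x, hxV₀⟩
    obtain ⟨g, hg𝔭, hfact⟩ := Groth.Agent.Helper3.RegExtAlg.exists_factorization_away
      (hV₀.primeIdealOf ⟨x, hxV₀⟩).asIdeal (X.presheaf.stalk x) f₀ hf₀
    have hxg : x ∈ X.basicOpen g :=
      (Groth.Agent.Helper4.StalkDict.mem_basicOpen_iff_notMem_primeIdealOf hV₀ x hxV₀ g).mpr hg𝔭
    let V : X.Opens := X.basicOpen g
    have hV : IsAffineOpen V := hV₀.basicOpen g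
    haveI : IsAffine (↑V : Scheme.{u}) := hV
    haveI : IsIntegral (↑V : Scheme.{u}) :=
      Groth.Agent.Helper3.UnitsTorus4.integral_open V ⟨x, hxg⟩
    have hle : V.ι ''ᵁ ⊤ ≤ V₀ := by
      rw [Scheme.Opens.ι_image_top]; exact X.basicOpen_le g
    letI : Algebra Γ(X, V₀) Γ((↑V : Scheme.{u}), ⊤) :=
      (X.presheaf.map (homOfLE hle).op).hom.toAlgebra
    haveI : IsLocalization.Away g Γ((↑V : Scheme.{u}), ⊤) :=
      hV₀.isLocalization_of_eq_basicOpen g (homOfLE hle) V.ι_image_top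
    obtain ⟨s, hs, u, hu⟩ := hfact Γ((↑V : Scheme.{u}), ⊤)
    let M_Y : (↑V : Scheme.{u}).Modules := L.restrict V.ι
    let U_Y : (↑V : Scheme.{u}).Opens := V.ι ⁻¹ᵁ U'
    have hM_Y : LocTriv M_Y U_Y := hL.restrict V
    have hbo : (↑V : Scheme.{u}).basicOpen s.prod =
        (↑V : Scheme.{u}).basicOpen (algebraMap Γ(X, V₀) Γ((↑V : Scheme.{u}), ⊤) f₀) := by
      rw [← hu, Scheme.basicOpen_mul, Scheme.basicOpen_of_isUnit _ u.isUnit, inf_top_eq]
    have himg : V.ι ''ᵁ ((↑V : Scheme.{u}).basicOpen s.prod) ≤ X.basicOpen f₀ := by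
      rw [hbo, Scheme.Opens.ι_image_basicOpen]
      show X.basicOpen (X.presheaf.map (homOfLE hle).op f₀) ≤ _
      rw [Scheme.basicOpen_res]
      exact inf_le_right
    have hle2 : V.ι ''ᵁ (U_Y ⊓ (↑V : Scheme.{u}).basicOpen s.prod) ≤ T := by
      rintro _ ⟨z', hz', rfl⟩
      exact (hf₀T (himg ⟨z', hz'.2, rfl⟩)).1
    have hfr0 := isFrame_restrict V.ι L _ _ (isFrame_of_le he₁ hle2)
    have hfin : ∀ p a : Γ((↑V : Scheme.{u}), ⊤), Prime p → a ≠ 0 → FiniteMultiplicity p a := by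
      haveI : IsNoetherianRing Γ((↑V : Scheme.{u}), ⊤) :=
        IsLocalization.isNoetherianRing (Submonoid.powers g) _ inferInstance
      haveI : IsDomain Γ((↑V : Scheme.{u}), ⊤) :=
        @IsIntegral.component_integral (↑V : Scheme.{u}) _ ⊤ ⟨⟨⟨x, hxg⟩, trivial⟩⟩
      intro p a hp ha
      exact FiniteMultiplicity.of_prime_left hp ha
    obtain ⟨e, he⟩ := Groth.Agent.Helper3.PrimeFrame.core_mul M_Y U_Y hM_Y hfin s hs U_Y le_rfl
      ⟨_, hfr0⟩
    have hfr1 := isFrame_of_restrict V.ι L U_Y e he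
    have hle3 : U' ⊓ V ≤ V.ι ''ᵁ U_Y := fun z hz => ⟨⟨z, hz.2⟩, hz.1, rfl⟩
    exact ⟨V, _, hxg, isFrame_of_le hfr1 hle3⟩

/-- S7887 -/
theorem main (X : Scheme.{u}) [IsNoetherian X] [ConnectedSpace X]
    (hreg : ∀ x : X, IsRegularLocalRing (X.presheaf.stalk x)) (U : X.Opens)
    (M : (U : Scheme.{u}).Modules) (hM : PicF.IsInvertible M) :
    ∃ L : X.Modules, PicF.IsInvertible L ∧ Nonempty (L.restrict U.ι ≅ M) := by
  haveI : IsIntegral X := Groth.Agent.Helper3.RegInt.isIntegral_of_connected X (fun x => by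
    haveI := hreg x
    exact Groth.Agent.Lead.RegLocal.isDomain_of_isRegularLocalRing _)
  let 𝒮 : Set X.Opens := {U' | U ≤ U' ∧ ∃ L : X.Modules, LocTriv L U' ∧
    Nonempty (L.restrict U.ι ≅ M)}
  have hU : U ∈ 𝒮 := ⟨le_rfl, (pushforward U.ι).obj M,
    fun x hx => exists_frame_pushforward_ι U M hM x hx,
    ⟨asIso ((restrictAdjunction U.ι).counit.app M)⟩⟩
  have hwf : WellFounded ((· > ·) : X.Opens → X.Opens → Prop) :=
    (inferInstance : NoetherianSpace X).wf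
  obtain ⟨U', ⟨hUU', L, hL, ⟨i⟩⟩, hmax⟩ := hwf.has_min 𝒮 ⟨U, hU⟩
  have htop : U' = ⊤ := by
    by_contra hne
    obtain ⟨x, hx⟩ : ∃ x, x ∉ U' := by
      by_contra hcon
      push Not at hcon
      exact hne (top_le_iff.mp (fun x _ => hcon x))
    haveI := hreg x
    haveI : UniqueFactorizationMonoid (X.presheaf.stalk x) :=
      Groth.Agent.Lead.RegUFD.ufd_of_isRegularLocalRing _
    obtain ⟨V, ε, hxV, hε⟩ := local_frame x L U' hL
    obtain ⟨L', hL', hiso⟩ := ext_step U' V L hL ε hε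
    obtain ⟨i'⟩ := hiso U hUU'
    have hmem : U' ⊔ V ∈ 𝒮 := ⟨hUU'.trans le_sup_left, L', hL', ⟨i' ≪≫ i⟩⟩
    apply hmax (U' ⊔ V) hmem
    refine lt_of_le_of_ne le_sup_left ?_
    intro heq
    apply hx
    rw [heq]
    exact Or.inr hxV
  subst htop
  exact ⟨L, hL.isInvertible, ⟨i⟩⟩

end Groth.Agent.Helper3.RegExt
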