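import Mathlib
import Groth.Agent.Helper3.RelFP
set_option linter.style.haveILetI false
set_option linter.unusedSectionVars false
set_option linter.unusedVariables false
open TensorProduct
universe u
namespace Groth.Agent.Helper3.RelFP

/-- Step a: a module relatively f.p. over `R_f[x]` is relatively f.p. over `R[x, y]`. -/
theorem away_presentation {R A : Type u} [CommRing R] [CommRing A] (f : R)
    [Algebra R A] [Algebra (Localization.Away f) A] [IsScalarTower R (Localization.Away f) A]
    {σ : Type*} [Finite σ]
    (α : MvPolynomial σ (Localization.Away f) →ₐ[Localization.Away f] A)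
    (hα : Function.Surjective α)
    (M : Type u) [AddCommGroup M] [Module A M]
    (hM : @Module.FinitePresentation (MvPolynomial σ (Localization.Away f)) M _ _
      (Module.compHom M α.toRingHom)) :
    ∃ (α' : MvPolynomial (Option σ) R →ₐ[R] A), Function.Surjective α' ∧
      @Module.FinitePresentation (MvPolynomial (Option σ) R) M _ _
        (Module.compHom M α'.toRingHom) := by
  let Rf := Localization.Away f
  let inv : Rf := IsLocalization.Away.invSelf f
  let π : MvPolynomial (Option σ) R →ₐ[R] MvPolynomial σ Rf :=
    MvPolynomial.aeval (fun o => o.elim (MvPolynomial.C inv) MvPolynomial.X)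
  have hπC : ∀ a : Rf, MvPolynomial.C a ∈ π.range := by
    intro a
    obtain ⟨⟨r, ⟨_, m, rfl⟩⟩, hr⟩ := IsLocalization.surj (Submonoid.powers f) a
    simp only at hr
    have ha : a = algebraMap R Rf r * inv ^ m := by
      have h1 : algebraMap R Rf f * inv = 1 := IsLocalization.Away.mul_invSelf f
      calc a = a * (algebraMap R Rf f * inv) ^ m := by rw [h1, one_pow, mul_one]
        _ = (a * algebraMap R Rf (f ^ m)) * inv ^ m := by rw [mul_pow, map_pow]; ring
        _ = algebraMap R Rf r * inv ^ m := by rw [hr]
    rw [ha, map_mul, map_pow]
    refine π.range.mul_mem ?_ (π.range.pow_mem ⟨MvPolynomial.X none, by simp [π]⟩ m)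
    refine ⟨MvPolynomial.C r, ?_⟩
    show π (MvPolynomial.C r) = _
    rw [← MvPolynomial.algebraMap_eq, AlgHom.commutes, IsScalarTower.algebraMap_apply R Rf,
      MvPolynomial.algebraMap_eq]
  have hπ : Function.Surjective π := by
    intro x
    have : x ∈ π.range := by
      induction x using MvPolynomial.induction_on with
      | C a => exact hπC a
      | add p q hp hq => exact π.range.add_mem hp hq
      | mul_X p i hp => exact π.range.mul_mem hp ⟨MvPolynomial.X (some i), by simp [π]⟩
    exact this
  haveI : Algebra.FinitePresentation R (MvPolynomial σ Rf) :=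
    Algebra.FinitePresentation.trans R Rf _
  have hk : (RingHom.ker π.toRingHom).FG := Algebra.FinitePresentation.ker_fG_of_surjective π hπ
  let α' : MvPolynomial (Option σ) R →ₐ[R] A := (α.restrictScalars R).comp π
  refine ⟨α', hα.comp hπ, ?_⟩
  exact compHom_of_surjective_fg π.toRingHom hπ hk α.toRingHom α'.toRingHom rfl hM

theorem main7006 {R A : Type u} [CommRing R] [CommRing A] (f : R)
    [Algebra R A] [Algebra (Localization.Away f) A] [IsScalarTower R (Localization.Away f) A] {n k : ℕ}
    (α : MvPolynomial (Fin n) (Localization.Away f) →ₐ[Localization.Away f] A) (hα : Function.Surjective α)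
    (g : A) (M : Type u) [AddCommGroup M] [Module A M]
    (hM : @Module.FinitePresentation (MvPolynomial (Fin n) (Localization.Away f)) (M) _ _ (Module.compHom (M) α.toRingHom))
    (γ : MvPolynomial (Fin k) R →ₐ[R] Localization.Away g) (hγ : Function.Surjective γ) :
    @Module.FinitePresentation (MvPolynomial (Fin k) R) (LocalizedModule (Submonoid.powers g) M) _ _ (Module.compHom (LocalizedModule (Submonoid.powers g) M) γ.toRingHom) := by
  obtain ⟨α', hα', hM'⟩ := away_presentation f α hα M hM
  have h1 := relBC_poly (R := R) (A := A) (A' := Localization.Away g) M α' hα' hM' γ hγ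
  exact compHom_equiv γ.toRingHom
    (LocalizedModule.equivTensorProduct (Submonoid.powers g) M).symm h1

end Groth.Agent.Helper3.RelFP
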