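import Mathlib
import Groth.Agent.Helper3.RelFP2
set_option linter.style.haveILetI false
set_option linter.unusedSectionVars false
set_option linter.unusedVariables false
open TensorProduct
universe u
namespace Groth.Agent.Helper3.RelFP

/-- Lemma A: change of presentation. -/
theorem change {R A : Type*} {σ τ : Type*} [Finite σ] [Finite τ] [CommRing R] [CommRing A]
    [Algebra R A] (M : Type*) [AddCommGroup M] [Module A M]
    (α : MvPolynomial σ R →ₐ[R] A) (hα : Function.Surjective α)
    (β : MvPolynomial τ R →ₐ[R] A) (hβ : Function.Surjective β)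
    (hM : @Module.FinitePresentation (MvPolynomial σ R) M _ _ (Module.compHom M α.toRingHom)) :
    @Module.FinitePresentation (MvPolynomial τ R) M _ _ (Module.compHom M β.toRingHom) := by
  choose p hp using fun i => hβ (α (MvPolynomial.X i))
  choose q hq using fun j => hα (β (MvPolynomial.X j))
  let ρ : MvPolynomial (σ ⊕ τ) R →ₐ[R] MvPolynomial σ R :=
    MvPolynomial.aeval (Sum.elim MvPolynomial.X q)
  let ρ' : MvPolynomial (σ ⊕ τ) R →ₐ[R] MvPolynomial τ R :=
    MvPolynomial.aeval (Sum.elim p MvPolynomial.X)
  have hρ : Function.Surjective ρ := by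
    intro x
    have : x ∈ ρ.range := by
      induction x using MvPolynomial.induction_on with
      | C a => exact ⟨MvPolynomial.C a, by simp [ρ]⟩
      | add p q hp hq => exact ρ.range.add_mem hp hq
      | mul_X p i hp => exact ρ.range.mul_mem hp ⟨MvPolynomial.X (Sum.inl i), by simp [ρ]⟩
    exact this
  have hρ' : Function.Surjective ρ' := by
    intro x
    have : x ∈ ρ'.range := by
      induction x using MvPolynomial.induction_on with
      | C a => exact ⟨MvPolynomial.C a, by simp [ρ']⟩
      | add p q hp hq => exact ρ'.range.add_mem hp hq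
      | mul_X p i hp => exact ρ'.range.mul_mem hp ⟨MvPolynomial.X (Sum.inr i), by simp [ρ']⟩
    exact this
  have hk : (RingHom.ker ρ.toRingHom).FG := Algebra.FinitePresentation.ker_fG_of_surjective ρ hρ
  have hcomm : α.comp ρ = β.comp ρ' := by
    apply MvPolynomial.algHom_ext
    rintro (i | j)
    · simp [ρ, ρ', hp]
    · simp [ρ, ρ', hq]
  have h1 : @Module.FinitePresentation (MvPolynomial (σ ⊕ τ) R) M _ _
      (Module.compHom M (α.comp ρ).toRingHom) :=
    compHom_of_surjective_fg ρ.toRingHom hρ hk α.toRingHom (α.comp ρ).toRingHom rfl hM
  exact compHom_of_surjective ρ'.toRingHom hρ' β.toRingHom (α.comp ρ).toRingHom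
    (by rw [hcomm]; rfl) h1

/-- finite presentation is local for a finite cover by basic opens. -/
theorem fp_of_localizationSpan {P M : Type*} [CommRing P] [AddCommGroup M] [Module P M]
    (t : Finset P) (ht : Ideal.span (t : Set P) = ⊤)
    (H : ∀ g : t, Module.FinitePresentation (Localization.Away g.val)
      (LocalizedModule (Submonoid.powers g.val) M)) :
    Module.FinitePresentation P M := by
  haveI : Module.Finite P M :=
    Module.Finite.of_localizationSpan_finite t ht (fun g => by haveI := H g; infer_instance)
  obtain ⟨m, π, hπ⟩ := Module.Finite.exists_fin' P M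
  refine Module.finitePresentation_of_surjective π hπ ?_
  rw [← Module.Finite.iff_fg]
  refine Module.Finite.of_localizationSpan_finite' t ht
    (Rₚ := fun g => Localization.Away g.val)
    (Mₚ := fun g => ((LinearMap.ker π).localized' (Localization.Away g.val)
      (Submonoid.powers g.val) (LocalizedModule.mkLinearMap (Submonoid.powers g.val) (Fin m → P))))
    (fun g => (LinearMap.ker π).toLocalized' (Localization.Away g.val)
      (Submonoid.powers g.val) (LocalizedModule.mkLinearMap (Submonoid.powers g.val) (Fin m → P)))
    ?_
  intro g
  haveI := H g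
  rw [Module.Finite.iff_fg]
  rw [LinearMap.localized'_ker_eq_ker_localizedMap (Localization.Away g.val)
    (Submonoid.powers g.val) (LocalizedModule.mkLinearMap (Submonoid.powers g.val) (Fin m → P))
    (LocalizedModule.mkLinearMap (Submonoid.powers g.val) M) π]
  apply Module.FinitePresentation.fg_ker
  exact IsLocalizedModule.map_surjective (Submonoid.powers g.val) _ _ π hπ

end Groth.Agent.Helper3.RelFP
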