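import Mathlib
import Groth.Agent.Helper3.RelFP3
set_option linter.style.haveILetI false
set_option linter.unusedSectionVars false
set_option linter.unusedVariables false
open TensorProduct
universe u
namespace Groth.Agent.Helper3.RelFP

/-- a presentation of `P_F` by a polynomial ring over `R` with one more variable. -/
theorem surj_away {R P : Type*} [CommRing R] [CommRing P] [Algebra R P] {σ : Type*}
    (x : σ → P) (hx : Algebra.adjoin R (Set.range x) = ⊤) (F : P) :
    Function.Surjective (MvPolynomial.aeval (R := R) (fun o : Option σ =>
      o.elim (IsLocalization.Away.invSelf (S := Localization.Away F) F)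
        (fun j => algebraMap P (Localization.Away F) (x j)))) := by
  set π : MvPolynomial (Option σ) R →ₐ[R] Localization.Away F := MvPolynomial.aeval
    (fun o : Option σ => o.elim (IsLocalization.Away.invSelf (S := Localization.Away F) F)
        (fun j => algebraMap P (Localization.Away F) (x j))) with hπdef
  let inv : Localization.Away F := IsLocalization.Away.invSelf F
  have h1 : ∀ p : P, algebraMap P (Localization.Away F) p ∈ π.range := by
    intro p
    have hp : p ∈ Algebra.adjoin R (Set.range x) := by rw [hx]; trivial
    induction hp using Algebra.adjoin_induction with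
    | mem y hy =>
      obtain ⟨j, rfl⟩ := hy
      exact ⟨MvPolynomial.X (some j), by simp [π]⟩
    | algebraMap r =>
      refine ⟨MvPolynomial.C r, ?_⟩
      show π (MvPolynomial.C r) = _
      rw [← MvPolynomial.algebraMap_eq, AlgHom.commutes, ← IsScalarTower.algebraMap_apply]
    | add a b _ _ ha hb => rw [map_add]; exact π.range.add_mem ha hb
    | mul a b _ _ ha hb => rw [map_mul]; exact π.range.mul_mem ha hb
  intro a
  obtain ⟨⟨r, ⟨_, m, rfl⟩⟩, hr⟩ := IsLocalization.surj (Submonoid.powers F) a
  simp only at hr
  have ha : a = algebraMap P (Localization.Away F) r * inv ^ m := by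
    have h1 : algebraMap P (Localization.Away F) F * inv = 1 := IsLocalization.Away.mul_invSelf F
    calc a = a * (algebraMap P (Localization.Away F) F * inv) ^ m := by
          rw [h1, one_pow, mul_one]
      _ = (a * algebraMap P (Localization.Away F) (F ^ m)) * inv ^ m := by
          rw [mul_pow, map_pow]; ring
      _ = algebraMap P (Localization.Away F) r * inv ^ m := by rw [hr]
  have : a ∈ π.range := by
    rw [ha]
    exact π.range.mul_mem (h1 r) (π.range.pow_mem ⟨MvPolynomial.X none, by simp [π, inv]⟩ m)
  exact this

/-- transport of finite presentation between two descriptions of a localized module. -/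
theorem loc_transport {P A M : Type*} [CommRing P] [CommRing A] [AddCommGroup M] [Module A M]
    (α : P →+* A) (F : P) (fA : A) (hF : α F = fA)
    (αbar : Localization.Away F →+* Localization.Away fA)
    (hαbar : αbar.comp (algebraMap P (Localization.Away F)) =
      (algebraMap A (Localization.Away fA)).comp α)
    (h : @Module.FinitePresentation (Localization.Away F)
      (LocalizedModule (Submonoid.powers fA) M) _ _
      (Module.compHom (LocalizedModule (Submonoid.powers fA) M) αbar)) :
    letI : Module P M := Module.compHom M α
    Module.FinitePresentation (Localization.Away F) (LocalizedModule (Submonoid.powers F) M) := by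
  letI : Module P M := Module.compHom M α
  let N := LocalizedModule (Submonoid.powers fA) M
  letI : Module (Localization.Away F) N := Module.compHom N αbar
  letI : Module P N := Module.compHom N α
  have hsmulP : ∀ (p : P) (n : N), p • n = α p • n := fun p n => rfl
  have hsmulPM : ∀ (p : P) (m : M), p • m = α p • m := fun p m => rfl
  haveI : IsScalarTower P (Localization.Away F) N := IsScalarTower.of_algebraMap_smul fun p n => by
    show αbar (algebraMap P (Localization.Away F) p) • n = α p • n
    have := congrArg (fun φ => φ p) hαbar
    simp only [RingHom.comp_apply] at this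
    rw [this, algebraMap_smul]
  let l : M →ₗ[A] N := LocalizedModule.mkLinearMap (Submonoid.powers fA) M
  let lP : M →ₗ[P] N :=
    { toFun := l
      map_add' := l.map_add
      map_smul' := fun p m => by
        show l (α p • m) = α p • l m
        exact l.map_smul _ _ }
  haveI : IsLocalizedModule.Away F lP := by
    apply IsLocalizedModule.Away.mk_of_addCommGroup
    · have hu := IsLocalizedModule.Away.isUnit_algebraMap l fA
      rw [Module.End.isUnit_iff] at hu ⊢
      convert hu using 1
      ext n
      show F • n = fA • n
      rw [hsmulP, hF]
    · intro x
      obtain ⟨n, y, hy⟩ := IsLocalizedModule.Away.surj l fA x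
      refine ⟨n, y, ?_⟩
      show F ^ n • x = l y
      rw [hsmulP, map_pow, hF, hy]
    · intro x hx
      have hx' : l x = l 0 := by rw [map_zero]; exact hx
      obtain ⟨n, hn⟩ := IsLocalizedModule.Away.exists_of_eq fA hx'
      refine ⟨n, ?_⟩
      rw [hsmulPM, map_pow, hF, hn, smul_zero]
  let e₀ : LocalizedModule (Submonoid.powers F) M ≃ₗ[P] N :=
    IsLocalizedModule.iso (Submonoid.powers F) lP
  let e : LocalizedModule (Submonoid.powers F) M ≃ₗ[Localization.Away F] N :=
    e₀.extendScalarsOfIsLocalization (Submonoid.powers F) (Localization.Away F)
  haveI : Module.FinitePresentation (Localization.Away F) N := h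
  exact Module.FinitePresentation.of_equiv e.symm

theorem main7007 {R A : Type u} [CommRing R] [CommRing A] [Algebra R A]
    {n : ℕ} (α : MvPolynomial (Fin n) R →ₐ[R] A) (hα : Function.Surjective α) (M : Type u) [AddCommGroup M]
    [Module A M] {r : ℕ} (f : Fin r → A) (hf : Ideal.span (Set.range f) = ⊤) (k : Fin r → ℕ)
    (γ : ∀ i, MvPolynomial (Fin (k i)) R →ₐ[R] Localization.Away (f i)) (hγ : ∀ i, Function.Surjective (γ i)) :
    @Module.FinitePresentation (MvPolynomial (Fin n) R) (M) _ _ (Module.compHom (M) α.toRingHom) ↔
      ∀ i, @Module.FinitePresentation (MvPolynomial (Fin (k i)) R) (LocalizedModule (Submonoid.powers (f i)) M) _ _ (Module.compHom (LocalizedModule (Submonoid.powers (f i)) M) (γ i).toRingHom) := by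
  classical
  constructor
  · intro hM i
    have h1 := relBC_poly (R := R) (A := A) (A' := Localization.Away (f i)) M α hα hM (γ i) (hγ i)
    exact compHom_equiv (γ i).toRingHom
      (LocalizedModule.equivTensorProduct (Submonoid.powers (f i)) M).symm h1
  · intro H
    let P := MvPolynomial (Fin n) R
    choose F hF using fun i => hα (f i)
    have hloc : ∀ i, letI : Module P M := Module.compHom M α.toRingHom
        Module.FinitePresentation (Localization.Away (F i))
          (LocalizedModule (Submonoid.powers (F i)) M) := by
      intro i
      let xA : Fin n → A := fun j => α (MvPolynomial.X j)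
      have hxA : Algebra.adjoin R (Set.range xA) = ⊤ := by
        have h1 : Algebra.adjoin R (Set.range xA) =
            (Algebra.adjoin R (Set.range (MvPolynomial.X : Fin n → P))).map α := by
          rw [AlgHom.map_adjoin, ← Set.range_comp]; rfl
        rw [h1, MvPolynomial.adjoin_range_X, Algebra.map_top, AlgHom.range_eq_top]
        exact hα
      let β := MvPolynomial.aeval (R := R) (fun o : Option (Fin n) =>
        o.elim (IsLocalization.Away.invSelf (S := Localization.Away (f i)) (f i))
          (fun j => algebraMap A (Localization.Away (f i)) (xA j)))
      have hβ : Function.Surjective β := surj_away xA hxA (f i)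
      have ha := change (LocalizedModule (Submonoid.powers (f i)) M) (γ i) (hγ i) β hβ (H i)
      let xP : Fin n → P := MvPolynomial.X
      have hxP : Algebra.adjoin R (Set.range xP) = ⊤ := MvPolynomial.adjoin_range_X
      let κ := MvPolynomial.aeval (R := R) (fun o : Option (Fin n) =>
        o.elim (IsLocalization.Away.invSelf (S := Localization.Away (F i)) (F i))
          (fun j => algebraMap P (Localization.Away (F i)) (xP j)))
      have hκ : Function.Surjective κ := surj_away xP hxP (F i)
      let g0 : P →+* Localization.Away (f i) :=
        (algebraMap A (Localization.Away (f i))).comp α.toRingHom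
      have hg0 : IsUnit (g0 (F i)) := by
        show IsUnit (algebraMap A (Localization.Away (f i)) (α (F i)))
        rw [hF i]; exact IsLocalization.Away.algebraMap_isUnit (f i)
      let αbar : Localization.Away (F i) →+* Localization.Away (f i) :=
        IsLocalization.Away.lift (F i) hg0
      have hαbar : αbar.comp (algebraMap P (Localization.Away (F i))) = g0 :=
        IsLocalization.Away.lift_comp (F i) hg0
      have hαbar' : ∀ p : P, αbar (algebraMap P (Localization.Away (F i)) p) =
          algebraMap A (Localization.Away (f i)) (α p) := fun p =>
        IsLocalization.Away.lift_eq (F i) hg0 p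
      have hβκ : β.toRingHom = αbar.comp κ.toRingHom := by
        apply MvPolynomial.ringHom_ext
        · intro c
          show β (MvPolynomial.C c) = αbar (κ (MvPolynomial.C c))
          rw [← MvPolynomial.algebraMap_eq, AlgHom.commutes, AlgHom.commutes,
            IsScalarTower.algebraMap_apply R P (Localization.Away (F i)), hαbar',
            AlgHom.commutes, ← IsScalarTower.algebraMap_apply]
        · rintro (_ | j)
          · show β (MvPolynomial.X none) = αbar (κ (MvPolynomial.X none))
            simp only [β, κ, MvPolynomial.aeval_X, Option.elim_none]
            have h1 : algebraMap A (Localization.Away (f i)) (f i) *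
                IsLocalization.Away.invSelf (S := Localization.Away (f i)) (f i) = 1 :=
              IsLocalization.Away.mul_invSelf (f i)
            have h2 : algebraMap A (Localization.Away (f i)) (f i) *
                αbar (IsLocalization.Away.invSelf (S := Localization.Away (F i)) (F i)) = 1 := by
              have h3 := hαbar' (F i)
              rw [hF i] at h3
              rw [← h3, ← map_mul, IsLocalization.Away.mul_invSelf, map_one]
            have hu : IsUnit (algebraMap A (Localization.Away (f i)) (f i)) :=
              IsLocalization.Away.algebraMap_isUnit (f i)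
            exact hu.mul_left_cancel (h1.trans h2.symm)
          · show β (MvPolynomial.X (some j)) = αbar (κ (MvPolynomial.X (some j)))
            simp only [β, κ, MvPolynomial.aeval_X, Option.elim_some, hαbar', xA, xP]
      have hd := compHom_of_surjective κ.toRingHom hκ αbar β.toRingHom hβκ ha
      exact loc_transport α.toRingHom (F i) (f i) (hF i) αbar hαbar hd
    letI : Module P M := Module.compHom M α.toRingHom
    have h1mem : (1 : A) ∈ Ideal.span (Set.range f) := by rw [hf]; trivial
    obtain ⟨c, hc⟩ := (Ideal.mem_span_range_iff_exists_fun).mp h1mem
    choose C hC using fun i => hα (c i)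
    let G : P := 1 - ∑ i, C i * F i
    have hG : α G = 0 := by
      simp only [G, map_sub, map_one, map_sum, map_mul, hC, hF, hc, sub_self]
    let t : Finset P := insert G (Finset.univ.image F)
    have ht : Ideal.span (t : Set P) = ⊤ := by
      rw [Ideal.eq_top_iff_one]
      have h1 : (1 : P) = G + ∑ i, C i * F i := by simp [G]
      rw [h1]
      refine Ideal.add_mem _ (Ideal.subset_span (by simp [t])) (Ideal.sum_mem _ fun i _ =>
        Ideal.mul_mem_left _ _ (Ideal.subset_span (by simp [t])))
    refine fp_of_localizationSpan t ht ?_
    rintro ⟨g, hg⟩
    simp only [t, Finset.mem_insert, Finset.mem_image, Finset.mem_univ, true_and] at hg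
    rcases hg with rfl | ⟨i, rfl⟩
    · haveI : Subsingleton (LocalizedModule (Submonoid.powers G) M) := by
        rw [LocalizedModule.subsingleton_iff]
        intro m
        refine ⟨G, Submonoid.mem_powers G, ?_⟩
        show α G • m = 0
        rw [hG, zero_smul]
      infer_instance
    · exact hloc i

end Groth.Agent.Helper3.RelFP
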