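import Mathlib
import Groth.Agent.Helper3.RelFP4
set_option linter.style.haveILetI false
set_option linter.unusedSectionVars false
set_option linter.unusedVariables false
open TensorProduct
universe u
namespace Groth.Agent.Helper3.RelFP

theorem main12083 {R A R' A' : Type u} [CommRing R] [CommRing A] [CommRing R'] [CommRing A']
    [Algebra R A] [Algebra R R'] [Algebra A A'] [Algebra R' A'] [Algebra R A'] [IsScalarTower R A A'] [IsScalarTower R R' A']
    [Algebra.IsPushout R A R' A'] (M : Type u) [AddCommGroup M] [Module A M] {n k : ℕ}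
    (α : MvPolynomial (Fin n) R →ₐ[R] A) (hα : Function.Surjective α)
    (hM : @Module.FinitePresentation (MvPolynomial (Fin n) R) M _ _ (Module.compHom M α.toRingHom))
    (γ : MvPolynomial (Fin k) R' →ₐ[R'] A') (hγ : Function.Surjective γ) :
    @Module.FinitePresentation (MvPolynomial (Fin k) R') (TensorProduct A A' M) _ _
      (Module.compHom (TensorProduct A A' M) γ.toRingHom) := by
  let P := MvPolynomial (Fin n) R
  let P₃ := MvPolynomial (Fin n) R'
  let φ : P →+* P₃ := MvPolynomial.map (algebraMap R R')
  let δ : P₃ →ₐ[R'] A' := MvPolynomial.aeval (fun j => algebraMap A A' (α (MvPolynomial.X j)))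
  have hδφ : ∀ p : P, δ (φ p) = algebraMap A A' (α p) := by
    intro p
    induction p using MvPolynomial.induction_on with
    | C r =>
      show δ (MvPolynomial.map (algebraMap R R') (MvPolynomial.C r)) = _
      rw [MvPolynomial.map_C, ← MvPolynomial.algebraMap_eq, AlgHom.commutes,
        ← MvPolynomial.algebraMap_eq, AlgHom.commutes, ← IsScalarTower.algebraMap_apply,
        ← IsScalarTower.algebraMap_apply]
    | add p q hp hq => rw [map_add, map_add, map_add, map_add, hp, hq]
    | mul_X p j hp =>
      rw [map_mul, map_mul, map_mul, map_mul, hp]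
      congr 1
      show δ (MvPolynomial.map (algebraMap R R') (MvPolynomial.X j)) = _
      rw [MvPolynomial.map_X, MvPolynomial.aeval_X]
  haveI hpo : Algebra.IsPushout R R' A A' := Algebra.IsPushout.symm inferInstance
  let e₁ : R' ⊗[R] P ≃ₐ[R'] P₃ := MvPolynomial.algebraTensorAlgEquiv R R'
  let e₂ : R' ⊗[R] A ≃ₐ[R'] A' := Algebra.IsPushout.equiv R R' A A'
  let μ : R' ⊗[R] P →ₐ[R] R' ⊗[R] A := Algebra.TensorProduct.map (AlgHom.id R R') α
  have hμsurj : Function.Surjective μ := LinearMap.lTensor_surjective R' hα
  have hcomm : δ.toRingHom.comp e₁.toRingHom = e₂.toRingHom.comp μ.toRingHom := by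
    apply RingHom.ext
    intro x
    induction x with
    | zero => simp
    | tmul r' p =>
      show δ (e₁ (r' ⊗ₜ p)) = e₂ (μ (r' ⊗ₜ p))
      rw [MvPolynomial.algebraTensorAlgEquiv_tmul, map_smul, Algebra.TensorProduct.map_tmul,
        Algebra.IsPushout.equiv_tmul, Algebra.smul_def]
      congr 1
      exact hδφ p
    | add x y hx hy => rw [map_add, map_add, hx, hy]
  have hδsurj : Function.Surjective δ := by
    have h1 : Function.Surjective (e₂.toRingHom.comp μ.toRingHom) :=
      e₂.surjective.comp hμsurj
    rw [← hcomm] at h1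
    exact Function.Surjective.of_comp h1
  have hker : RingHom.ker δ.toRingHom = (RingHom.ker α.toRingHom).map φ := by
    have h1 : RingHom.ker δ.toRingHom =
        (RingHom.ker (δ.toRingHom.comp e₁.toRingHom)).map e₁.toRingHom := by
      rw [← RingHom.comap_ker]
      exact (Ideal.map_comap_of_surjective _ e₁.surjective _).symm
    have h2 : RingHom.ker (e₂.toRingHom.comp μ.toRingHom) = RingHom.ker μ.toRingHom :=
      RingHom.ker_comp_of_injective _ e₂.injective
    have h3 : RingHom.ker μ.toRingHom = (RingHom.ker α.toRingHom).map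
        (Algebra.TensorProduct.includeRight : P →ₐ[R] R' ⊗[R] P).toRingHom :=
      Algebra.TensorProduct.lTensor_ker α hα
    rw [h1, hcomm, h2, h3, Ideal.map_map]
    congr 1
    apply MvPolynomial.ringHom_ext
    · intro r
      show e₁ ((1 : R') ⊗ₜ (MvPolynomial.C r)) = φ (MvPolynomial.C r)
      rw [MvPolynomial.algebraTensorAlgEquiv_tmul, one_smul]
    · intro j
      show e₁ ((1 : R') ⊗ₜ (MvPolynomial.X j)) = φ (MvPolynomial.X j)
      rw [MvPolynomial.algebraTensorAlgEquiv_tmul, one_smul]
  -- instances
  letI : Algebra P A := α.toRingHom.toAlgebra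
  letI : Algebra P P₃ := φ.toAlgebra
  letI : Algebra P₃ A' := δ.toRingHom.toAlgebra
  letI : Algebra P A' := ((algebraMap A A').comp α.toRingHom).toAlgebra
  haveI : IsScalarTower P A A' := IsScalarTower.of_algebraMap_eq fun x => rfl
  haveI : IsScalarTower P P₃ A' := IsScalarTower.of_algebraMap_eq fun x => (hδφ x).symm
  letI : Module P M := Module.compHom M α.toRingHom
  haveI : IsScalarTower P A M := IsScalarTower.of_algebraMap_smul fun r x => rfl
  haveI : Module.FinitePresentation P M := hM
  have key : Module.FinitePresentation P₃ (A' ⊗[A] M) :=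
    baseChange_aux (P := P) (A := A) (P₃ := P₃) (A' := A') (M := M) hα hδsurj ⊥
      Submodule.fg_bot (by rw [sup_bot_eq]; exact hker)
  have key2 := fp_compHom_of_fp key
  exact change (R := R') (A' ⊗[A] M) δ hδsurj γ hγ key2

end Groth.Agent.Helper3.RelFP
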