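import Mathlib

set_option autoImplicit false
universe u

namespace Groth.Agent.Helper3.RelFPa

/-- For a surjective ring map `π : S → T` with finitely generated kernel and a `T`-module `M`,
`M` is finitely presented over `S` (through `π`) iff it is finitely presented over `T`. -/
lemma fp_of_fp_compHom {S T : Type u} [CommRing S] [CommRing T] (π : S →+* T)
    (hπ : Function.Surjective π) (M : Type u) [AddCommGroup M] [Module T M]
    (h : @Module.FinitePresentation S M _ _ (Module.compHom M π)) :
    Module.FinitePresentation T M := by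
  letI : Algebra S T := π.toAlgebra
  letI : Module S M := Module.compHom M π
  haveI : IsScalarTower S T M := by
    constructor
    intro s t m
    change (π s * t) • m = π s • (t • m)
    rw [mul_smul]
  haveI : Module.FinitePresentation S M := h
  have hbc : IsBaseChange T (LinearMap.id : M →ₗ[S] M) := by
    apply IsBaseChange.of_lift_unique
    intro Q _ _ _ _ g
    refine ⟨{ toFun := g, map_add' := g.map_add, map_smul' := ?_ }, ?_, ?_⟩
    · intro t m
      obtain ⟨s, rfl⟩ := hπ t
      change g (s • m) = (algebraMap S T s) • g m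
      rw [map_smul, algebraMap_smul]
    · ext m; rfl
    · intro g' hg'
      ext m
      have := LinearMap.congr_fun hg' m
      exact this
  exact FinitePresentation.of_isBaseChange (LinearMap.id : M →ₗ[S] M) hbc

lemma fp_compHom_of_fp {S T : Type u} [CommRing S] [CommRing T] (π : S →+* T)
    (hπ : Function.Surjective π) (hker : (RingHom.ker π).FG) (M : Type u) [AddCommGroup M]
    [Module T M] [h : Module.FinitePresentation T M] :
    @Module.FinitePresentation S M _ _ (Module.compHom M π) := by
  letI : Algebra S T := π.toAlgebra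
  letI : Module S M := Module.compHom M π
  haveI : IsScalarTower S T M := by
    constructor
    intro s t m
    change (π s * t) • m = π s • (t • m)
    rw [mul_smul]
  haveI : Module.FinitePresentation S T := by
    apply Module.finitePresentation_of_surjective (Algebra.linearMap S T) hπ
    have : LinearMap.ker (Algebra.linearMap S T) = RingHom.ker π := by
      ext x; rfl
    rw [this]; exact hker
  exact Module.FinitePresentation.trans S M T

lemma fp_compHom_iff {S T : Type u} [CommRing S] [CommRing T] (π : S →+* T)
    (hπ : Function.Surjective π) (hker : (RingHom.ker π).FG) (M : Type u) [AddCommGroup M]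
    [Module T M] :
    @Module.FinitePresentation S M _ _ (Module.compHom M π) ↔ Module.FinitePresentation T M :=
  ⟨fp_of_fp_compHom π hπ M, fun _ => fp_compHom_of_fp π hπ hker M⟩

/-- composite version -/
lemma fp_comp_iff {S T A : Type u} [CommRing S] [CommRing T] [CommRing A] (π : S →+* T)
    (hπ : Function.Surjective π) (hker : (RingHom.ker π).FG) (α : T →+* A)
    (M : Type u) [AddCommGroup M] [Module A M] :
    @Module.FinitePresentation S M _ _ (Module.compHom M (α.comp π)) ↔
      @Module.FinitePresentation T M _ _ (Module.compHom M α) := by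
  letI : Module T M := Module.compHom M α
  exact fp_compHom_iff π hπ hker M

open MvPolynomial in
/-- Independence of the polynomial presentation. -/
lemma fp_indep_aux {R A : Type u} [CommRing R] [CommRing A] {τ σ : Type} [Finite τ] [Finite σ]
    (α : MvPolynomial τ R →+* A) (β : MvPolynomial σ R →+* A)
    (hα : Function.Surjective α) (hC : α.comp C = β.comp C)
    (M : Type u) [AddCommGroup M] [Module A M] :
    ∃ γ : MvPolynomial (τ ⊕ σ) R →+* A,
      γ.comp C = α.comp C ∧ (∀ i, γ (X (Sum.inl i)) = α (X i)) ∧ (∀ j, γ (X (Sum.inr j)) = β (X j)) ∧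
      (@Module.FinitePresentation (MvPolynomial (τ ⊕ σ) R) M _ _ (Module.compHom M γ) ↔
        @Module.FinitePresentation (MvPolynomial τ R) M _ _ (Module.compHom M α)) := by
  classical
  choose lift hlift using fun j : σ => hα (β (X j))
  let ψ : MvPolynomial (τ ⊕ σ) R →ₐ[R] MvPolynomial τ R := aeval (Sum.elim X lift)
  have hsurj : Function.Surjective ψ := by
    intro q
    refine ⟨rename Sum.inl q, ?_⟩
    change aeval (Sum.elim X lift) (rename Sum.inl q) = q
    rw [aeval_rename]
    have : (Sum.elim X lift ∘ Sum.inl : τ → MvPolynomial τ R) = X := by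
      ext i; rfl
    rw [this, aeval_X_left]
    rfl
  have hker : (RingHom.ker ψ.toRingHom).FG :=
    Algebra.FinitePresentation.ker_fG_of_surjective ψ hsurj
  refine ⟨α.comp ψ.toRingHom, ?_, ?_, ?_, ?_⟩
  · ext r
    change α (ψ (C r)) = α (C r)
    congr 1
    change aeval (Sum.elim X lift) (C r) = C r
    rw [aeval_C]
    rfl
  · intro i
    change α (aeval (Sum.elim X lift) (X (Sum.inl i))) = α (X i)
    rw [aeval_X]
    rfl
  · intro j
    change α (aeval (Sum.elim X lift) (X (Sum.inr j))) = β (X j)
    rw [aeval_X]
    exact hlift j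
  · exact fp_comp_iff ψ.toRingHom hsurj hker α M

open MvPolynomial in
lemma fp_indep {R A : Type u} [CommRing R] [CommRing A] {τ σ : Type} [Finite τ] [Finite σ]
    (α : MvPolynomial τ R →+* A) (β : MvPolynomial σ R →+* A)
    (hα : Function.Surjective α) (hβ : Function.Surjective β) (hC : α.comp C = β.comp C)
    (M : Type u) [AddCommGroup M] [Module A M] :
    @Module.FinitePresentation (MvPolynomial τ R) M _ _ (Module.compHom M α) ↔
      @Module.FinitePresentation (MvPolynomial σ R) M _ _ (Module.compHom M β) := by
  obtain ⟨γ₁, h1C, h1l, h1r, h1⟩ := fp_indep_aux α β hα hC M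
  obtain ⟨γ₂, h2C, h2l, h2r, h2⟩ := fp_indep_aux β α hβ hC.symm M
  -- γ₂ ∘ swap = γ₁
  let sw : MvPolynomial (τ ⊕ σ) R ≃ₐ[R] MvPolynomial (σ ⊕ τ) R := renameEquiv R (Equiv.sumComm τ σ)
  have hsw : γ₁ = γ₂.comp sw.toAlgHom.toRingHom := by
    apply MvPolynomial.ringHom_ext
    · intro r
      have e1 : γ₁ (C r) = α (C r) := RingHom.congr_fun h1C r
      have e2 : γ₂ (C r) = β (C r) := RingHom.congr_fun h2C r
      have e3 : α (C r) = β (C r) := RingHom.congr_fun hC r
      change γ₁ (C r) = γ₂ (rename (Equiv.sumComm τ σ) (C r))
      rw [rename_C, e1, e2, e3]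
    · intro i
      change γ₁ (X i) = γ₂ (rename (Equiv.sumComm τ σ) (X i))
      rw [rename_X]
      cases i with
      | inl i => rw [h1l]; exact (h2r i).symm
      | inr j => rw [h1r]; exact (h2l j).symm
  have h3 : @Module.FinitePresentation (MvPolynomial (τ ⊕ σ) R) M _ _ (Module.compHom M γ₁) ↔
      @Module.FinitePresentation (MvPolynomial (σ ⊕ τ) R) M _ _ (Module.compHom M γ₂) := by
    rw [hsw]
    apply fp_comp_iff sw.toAlgHom.toRingHom sw.surjective _ γ₂ M
    have : RingHom.ker sw.toAlgHom.toRingHom = ⊥ := by
      rw [RingHom.ker_eq_bot_iff_eq_zero]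
      intro x hx
      exact (map_eq_zero_iff sw sw.injective).1 hx
    rw [this]
    exact Submodule.fg_bot
  exact h1.symm.trans (h3.trans h2)

end Groth.Agent.Helper3.RelFPa
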