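import Mathlib
import Groth.Agent.Helper3.RelFPa

set_option autoImplicit false
set_option linter.style.haveILetI false
universe u

namespace Groth.Agent.Helper3.RelFPa

/-- For a ring map `π : S → T'` making `T'` a finitely presented `S`-module and a `T'`-module `M`,
`M` is finitely presented over `S` (through `π`) iff over `T'`. -/
lemma fp_finite_ext {S T' : Type u} [CommRing S] [CommRing T'] (π : S →+* T')
    (hfp : @Module.FinitePresentation S T' _ _ π.toAlgebra.toModule)
    (M : Type u) [AddCommGroup M] [Module T' M] :
    @Module.FinitePresentation S M _ _ (Module.compHom M π) ↔ Module.FinitePresentation T' M := by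
  letI : Algebra S T' := π.toAlgebra
  letI : Module S M := Module.compHom M π
  haveI : IsScalarTower S T' M := by
    constructor
    intro s t m
    change (π s * t) • m = π s • (t • m)
    rw [mul_smul]
  haveI : Module.FinitePresentation S T' := hfp
  constructor
  · intro h
    haveI : Module.FinitePresentation S M := h
    haveI : Module.Finite T' M := Module.Finite.of_restrictScalars_finite S T' M
    obtain ⟨n, φ, hφ⟩ := Module.Finite.exists_fin' T' M
    have hker : (LinearMap.ker (φ.restrictScalars S)).FG :=
      Module.FinitePresentation.fg_ker (φ.restrictScalars S) hφ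
    have hker' : (LinearMap.ker φ).FG := by
      apply Submodule.FG.of_restrictScalars S
      rw [← LinearMap.ker_restrictScalars]
      exact hker
    exact Module.finitePresentation_of_surjective φ hφ hker'
  · intro h
    exact Module.FinitePresentation.trans S M T'

/-- composite version -/
lemma fp_finite_ext_comp {S T' A : Type u} [CommRing S] [CommRing T'] [CommRing A] (π : S →+* T')
    (hfp : @Module.FinitePresentation S T' _ _ π.toAlgebra.toModule) (α : T' →+* A)
    (M : Type u) [AddCommGroup M] [Module A M] :
    @Module.FinitePresentation S M _ _ (Module.compHom M (α.comp π)) ↔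
      @Module.FinitePresentation T' M _ _ (Module.compHom M α) := by
  letI : Module T' M := Module.compHom M α
  exact fp_finite_ext π hfp M

open Polynomial in
/-- One integral variable. -/
lemma fp_polynomial_iff {S B : Type u} [CommRing S] [CommRing B] (γ : S[X] →+* B)
    (g : S[X]) (hg : g.Monic) (hroot : γ g = 0)
    (M : Type u) [AddCommGroup M] [Module B M] :
    @Module.FinitePresentation S M _ _ (Module.compHom M (γ.comp C)) ↔
      @Module.FinitePresentation S[X] M _ _ (Module.compHom M γ) := by
  have hγ : γ = eval₂RingHom (γ.comp C) (γ X) := by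
    apply Polynomial.ringHom_ext
    · intro a; simp
    · simp
  have hroot' : eval₂ (γ.comp C) (γ X) g = 0 := by
    have := hroot
    rw [hγ] at this
    exact this
  let γ' : AdjoinRoot g →+* B := AdjoinRoot.lift (γ.comp C) (γ X) hroot'
  have h1 : γ = γ'.comp (AdjoinRoot.mk g) := by
    apply Polynomial.ringHom_ext
    · intro a
      change γ (C a) = γ' (AdjoinRoot.mk g (C a))
      rw [AdjoinRoot.lift_mk, eval₂_C]
      rfl
    · change γ X = γ' (AdjoinRoot.mk g X)
      rw [AdjoinRoot.lift_mk, eval₂_X]
  have h2 : γ.comp C = γ'.comp (AdjoinRoot.of g) := by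
    ext a
    change γ (C a) = γ' (AdjoinRoot.of g a)
    rw [AdjoinRoot.lift_of]
    rfl
  have hker : (RingHom.ker (AdjoinRoot.mk g)).FG := by
    have : RingHom.ker (AdjoinRoot.mk g) = Ideal.span {g} := by
      ext p
      rw [RingHom.mem_ker, AdjoinRoot.mk_eq_zero, Ideal.mem_span_singleton]
    rw [this]
    exact ⟨{g}, by simp⟩
  have hfp : @Module.FinitePresentation S (AdjoinRoot g) _ _ (AdjoinRoot.of g).toAlgebra.toModule := by
    haveI := hg.free_adjoinRoot
    haveI := hg.finite_adjoinRoot
    have halg : (AdjoinRoot.of g).toAlgebra = AdjoinRoot.instAlgebra g := by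
      apply Algebra.algebra_ext
      intro r
      rfl
    rw [halg]
    exact Module.finitePresentation_of_projective S (AdjoinRoot g)
  calc @Module.FinitePresentation S M _ _ (Module.compHom M (γ.comp C))
      ↔ @Module.FinitePresentation S M _ _ (Module.compHom M (γ'.comp (AdjoinRoot.of g))) := by
        rw [h2]
    _ ↔ @Module.FinitePresentation (AdjoinRoot g) M _ _ (Module.compHom M γ') :=
        fp_finite_ext_comp (AdjoinRoot.of g) hfp γ' M
    _ ↔ @Module.FinitePresentation S[X] M _ _ (Module.compHom M (γ'.comp (AdjoinRoot.mk g))) :=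
        (fp_comp_iff (AdjoinRoot.mk g) AdjoinRoot.mk_surjective hker γ' M).symm
    _ ↔ @Module.FinitePresentation S[X] M _ _ (Module.compHom M γ) := by
        rw [← h1]

open MvPolynomial in
/-- Finitely many integral variables. -/
lemma fp_mvPolynomial_iff {S B : Type u} [CommRing S] [CommRing B] (M : Type u) [AddCommGroup M]
    [Module B M] :
    ∀ (k : ℕ) (γ : MvPolynomial (Fin k) S →+* B),
      (∀ j, ∃ g : Polynomial S, g.Monic ∧ Polynomial.eval₂ (γ.comp C) (γ (X j)) g = 0) →
      (@Module.FinitePresentation S M _ _ (Module.compHom M (γ.comp C)) ↔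
        @Module.FinitePresentation (MvPolynomial (Fin k) S) M _ _ (Module.compHom M γ)) := by
  intro k
  induction k with
  | zero =>
    intro γ _
    apply fp_comp_iff (C : S →+* MvPolynomial (Fin 0) S) (C_surjective (Fin 0)) ?_ γ M
    have : RingHom.ker (C : S →+* MvPolynomial (Fin 0) S) = ⊥ :=
      (RingHom.injective_iff_ker_eq_bot _).1 (C_injective (Fin 0) S)
    rw [this]
    exact Submodule.fg_bot
  | succ k ih =>
    intro γ hγ
    let e := finSuccEquiv S k
    let γ₂ : MvPolynomial (Fin k) S →+* B :=
      γ.comp (rename Fin.succ : MvPolynomial (Fin k) S →ₐ[S] MvPolynomial (Fin (k+1)) S).toRingHom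
    let γ₁ : Polynomial (MvPolynomial (Fin k) S) →+* B := Polynomial.eval₂RingHom γ₂ (γ (X 0))
    have hγ₂C : ∀ s, γ₂ (C s) = γ (C s) := by
      intro s
      change γ (rename Fin.succ (C s)) = γ (C s)
      rw [rename_C]
    have hγ₂X : ∀ j, γ₂ (X j) = γ (X j.succ) := by
      intro j
      change γ (rename Fin.succ (X j)) = γ (X j.succ)
      rw [rename_X]
    have hγe : γ = γ₁.comp e.toAlgHom.toRingHom := by
      apply MvPolynomial.ringHom_ext
      · intro s
        change γ (C s) = γ₁ (e (C s))
        have : e (C s) = Polynomial.C (C s) := by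
          change finSuccEquiv S k (C s) = _
          rw [finSuccEquiv_apply]
          simp
        rw [this]
        change γ (C s) = Polynomial.eval₂ γ₂ (γ (X 0)) (Polynomial.C (C s))
        rw [Polynomial.eval₂_C, hγ₂C]
      · intro i
        change γ (X i) = γ₁ (e (X i))
        refine Fin.cases ?_ (fun j => ?_) i
        · have : e (X 0) = Polynomial.X := finSuccEquiv_X_zero
          rw [this]
          change γ (X 0) = Polynomial.eval₂ γ₂ (γ (X 0)) Polynomial.X
          rw [Polynomial.eval₂_X]
        · have : e (X j.succ) = Polynomial.C (X j) := finSuccEquiv_X_succ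
          rw [this]
          change γ (X j.succ) = Polynomial.eval₂ γ₂ (γ (X 0)) (Polynomial.C (X j))
          rw [Polynomial.eval₂_C, hγ₂X]
    have hC1 : γ₁.comp Polynomial.C = γ₂ := by
      ext p
      · change Polynomial.eval₂ γ₂ (γ (X 0)) (Polynomial.C (C p)) = γ₂ (C p)
        rw [Polynomial.eval₂_C]
      · change Polynomial.eval₂ γ₂ (γ (X 0)) (Polynomial.C (X _)) = γ₂ (X _)
        rw [Polynomial.eval₂_C]
    have hC2 : γ₂.comp C = γ.comp C := by
      ext s
      exact hγ₂C s
    obtain ⟨g, hgm, hg0⟩ := hγ 0
    have hroot : γ₁ (g.map (C : S →+* MvPolynomial (Fin k) S)) = 0 := by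
      change Polynomial.eval₂ γ₂ (γ (X 0)) (g.map C) = 0
      rw [Polynomial.eval₂_map, hC2]
      exact hg0
    have ih' := ih γ₂ (fun j => by
      obtain ⟨g, hgm, hg0⟩ := hγ j.succ
      refine ⟨g, hgm, ?_⟩
      rw [hC2, hγ₂X]
      exact hg0)
    have hker : (RingHom.ker e.toAlgHom.toRingHom).FG := by
      have : RingHom.ker e.toAlgHom.toRingHom = ⊥ :=
        (RingHom.injective_iff_ker_eq_bot _).1 e.injective
      rw [this]
      exact Submodule.fg_bot
    calc @Module.FinitePresentation S M _ _ (Module.compHom M (γ.comp C))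
        ↔ @Module.FinitePresentation S M _ _ (Module.compHom M (γ₂.comp C)) := by rw [hC2]
      _ ↔ @Module.FinitePresentation (MvPolynomial (Fin k) S) M _ _ (Module.compHom M γ₂) := ih'
      _ ↔ @Module.FinitePresentation (MvPolynomial (Fin k) S) M _ _
            (Module.compHom M (γ₁.comp Polynomial.C)) := by rw [hC1]
      _ ↔ @Module.FinitePresentation (Polynomial (MvPolynomial (Fin k) S)) M _ _
            (Module.compHom M γ₁) := fp_polynomial_iff γ₁ (g.map C) (hgm.map _) hroot M
      _ ↔ @Module.FinitePresentation (MvPolynomial (Fin (k+1)) S) M _ _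
            (Module.compHom M (γ₁.comp e.toAlgHom.toRingHom)) :=
          (fp_comp_iff e.toAlgHom.toRingHom e.surjective hker γ₁ M).symm
      _ ↔ @Module.FinitePresentation (MvPolynomial (Fin (k+1)) S) M _ _ (Module.compHom M γ) := by
          rw [← hγe]

end Groth.Agent.Helper3.RelFPa
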