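import Mathlib
import Groth.Prelude.Def_DualSh
import Groth.Agent.Helper3.DRingTor7
import Groth.Agent.Helper3.DRingRestr2

set_option autoImplicit false
set_option linter.style.haveILetI false
set_option linter.unusedSectionVars false
set_option linter.unusedVariables false
set_option linter.style.haveILetI false
set_option linter.unusedSectionVars false
set_option linter.unusedVariables false

universe u

namespace Groth.Agent.Helper3.RelPerfTri

open CategoryTheory CategoryTheory.Limits Pretriangulated Groth.Agent.Helper3.DRingLib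
open Triangulated DerivedCategory ZeroObject

attribute [local instance] HasDerivedCategory.standard

variable {A : Type u} [CommRing A]

lemma hasTorAmplitudeIn_mono {a b a' b' : ℤ} {K : Dual.D A} (h : DRing.HasTorAmplitudeIn A a b K)
    (ha : a' ≤ a) (hb : b ≤ b') : DRing.HasTorAmplitudeIn A a' b' K := by
  rw [hasTorAmplitudeIn_iff'] at h ⊢
  obtain ⟨h1, h2⟩ := h
  exact ⟨TStructure.t.isLE_of_le K b b' hb, h2.of_le ha⟩

lemma hasTorAmplitudeIn_shift {a b : ℤ} {K : Dual.D A} (h : DRing.HasTorAmplitudeIn A a b K)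
    (n a' b' : ℤ) (ha : n + a' = a) (hb : n + b' = b) :
    DRing.HasTorAmplitudeIn A a' b' (K⟦n⟧) := by
  rw [hasTorAmplitudeIn_iff'] at h ⊢
  obtain ⟨h1, h2⟩ := h
  exact ⟨TStructure.t.isLE_shift K b n b' (by omega), h2.shift n a' ha⟩

/-- finite tor dimension is a triangulated property -/
theorem hasFiniteTorDimCx_obj₂ (T : Triangle (Dual.D A)) (hT : T ∈ distTriang _)
    (h₁ : DRing.HasFiniteTorDimCx A T.obj₁) (h₃ : DRing.HasFiniteTorDimCx A T.obj₃) :
    DRing.HasFiniteTorDimCx A T.obj₂ := by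
  obtain ⟨a₁, b₁, h₁⟩ := h₁
  obtain ⟨a₃, b₃, h₃⟩ := h₃
  exact ⟨min a₁ a₃, max b₁ b₃, hasTorAmplitudeIn_obj₂ T hT _ _
    (hasTorAmplitudeIn_mono h₁ (min_le_left _ _) (le_max_left _ _))
    (hasTorAmplitudeIn_mono h₃ (min_le_right _ _) (le_max_right _ _))⟩

theorem hasFiniteTorDimCx_shift {K : Dual.D A} (h : DRing.HasFiniteTorDimCx A K) (n : ℤ) :
    DRing.HasFiniteTorDimCx A (K⟦n⟧) := by
  obtain ⟨a, b, h⟩ := h
  exact ⟨a - n, b - n, hasTorAmplitudeIn_shift h n _ _ (by omega) (by omega)⟩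

theorem hasFiniteTorDimCx_of_iso {K L : Dual.D A} (e : K ≅ L) (h : DRing.HasFiniteTorDimCx A K) :
    DRing.HasFiniteTorDimCx A L := by
  obtain ⟨a, b, h⟩ := h
  exact ⟨a, b, hasTorAmplitudeIn_of_iso e a b h⟩

theorem hasFiniteTorDimCx_of_retract {K Z : Dual.D A} (i : K ⟶ Z) (r : Z ⟶ K)
    (hir : i ≫ r = 𝟙 K) (h : DRing.HasFiniteTorDimCx A Z) : DRing.HasFiniteTorDimCx A K := by
  obtain ⟨a, b, h⟩ := h
  exact ⟨a, b, hasTorAmplitudeIn_of_retract i r hir h⟩

section Rel

variable (R B : Type u) [CommRing R] [CommRing B] [Algebra R B]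

local notation "rD" => DRing.restrictD (algebraMap R B)

theorem main :
    ObjectProperty.IsTriangulated (C := Dual.D B) (fun K => Dual2.IsRelPerfect R B K) ∧
      ObjectProperty.IsClosedUnderIsomorphisms (C := Dual.D B)
        (fun K => Dual2.IsRelPerfect R B K) ∧
      ∀ X Y : Dual.D B, Dual2.IsRelPerfect R B (X ⊞ Y) →
        Dual2.IsRelPerfect R B X ∧ Dual2.IsRelPerfect R B Y := by
  have hiso : ObjectProperty.IsClosedUnderIsomorphisms (C := Dual.D B)
      (fun K => Dual2.IsRelPerfect R B K) :=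
    ⟨fun {K L} e h => ⟨isPseudoCoherent'_of_iso e h.1,
      hasFiniteTorDimCx_of_iso ((rD).mapIso e) h.2⟩⟩
  refine ⟨?_, hiso, ?_⟩
  · haveI := hiso
    exact
    { exists_zero := ⟨0, isZero_zero _, isPseudoCoherent'_of_isZero _ (isZero_zero _),
        0, 0, hasTorAmplitudeIn_of_isZero ((rD).map_isZero (isZero_zero _)) 0 0⟩
      toIsStableUnderShift := ⟨fun n => ⟨fun K hK =>
        ⟨isPseudoCoherent'_shift n hK.1,
          hasFiniteTorDimCx_of_iso (((rD).commShiftIso n).app K).symm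
            (hasFiniteTorDimCx_shift hK.2 n)⟩⟩⟩
      toIsTriangulatedClosed₂ := ObjectProperty.IsTriangulatedClosed₂.mk' (fun T hT h₁ h₃ =>
        ⟨isPseudoCoherent'_obj₂ T hT h₁.1 h₃.1,
          hasFiniteTorDimCx_obj₂ ((rD).mapTriangle.obj T)
            ((rD).map_distinguished T hT) h₁.2 h₃.2⟩) }
  · intro X Y h
    exact ⟨⟨isPseudoCoherent'_of_retract biprod.inl biprod.fst biprod.inl_fst h.1,
        hasFiniteTorDimCx_of_retract ((rD).map biprod.inl) ((rD).map biprod.fst)
          (by rw [← CategoryTheory.Functor.map_comp, biprod.inl_fst, CategoryTheory.Functor.map_id]) h.2⟩,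
      ⟨isPseudoCoherent'_of_retract biprod.inr biprod.snd biprod.inr_snd h.1,
        hasFiniteTorDimCx_of_retract ((rD).map biprod.inr) ((rD).map biprod.snd)
          (by rw [← CategoryTheory.Functor.map_comp, biprod.inr_snd, CategoryTheory.Functor.map_id]) h.2⟩⟩

end Rel

end Groth.Agent.Helper3.RelPerfTri
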