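import Mathlib
import Groth.Prelude.Def_RegImm
import Groth.Agent.Helper3.NzdFlatN
import Groth.Agent.Helper8.RegSeqL
import Groth.Agent.Helper7.QRReg

set_option autoImplicit false
set_option linter.style.haveILetI false
set_option linter.unusedSectionVars false
set_option linter.unusedVariables false
set_option linter.style.haveILetI false
set_option linter.unusedSectionVars false
set_option linter.unusedVariables false
open CategoryTheory CategoryTheory.Limits AlgebraicGeometry Opposite TopologicalSpace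
universe u

/-!
# The ambient scheme is flat along a relative quasi-regular immersion at Noetherian points
-/

namespace Groth.Agent.Helper3.RelQRFlat
open RingTheory.Sequence Groth.Agent.Helper8

section alg
variable {B A C : Type u} [CommRing B] [CommRing A] [CommRing C] [Algebra B A]
  [IsNoetherianRing A]

theorem flat_of_surjective_ker (g : A →+* C) (hg : Function.Surjective g) (rs : List A)
    (hker : RingHom.ker g = Ideal.ofList rs) (hw : IsWeaklyRegular A rs)
    (hjac : ∀ r ∈ rs, r ∈ (⊥ : Ideal A).jacobson)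
    (hfl : (g.comp (algebraMap B A)).Flat) : Module.Flat B A := by
  letI algBC : Algebra B C := (g.comp (algebraMap B A)).toAlgebra
  haveI : Module.Flat B C := hfl
  let gA : A →ₐ[B] C := { g with commutes' := fun b => rfl }
  have hgA : Function.Surjective gA := hg
  let e : (A ⧸ RingHom.ker gA) ≃ₐ[B] C := Ideal.quotientKerAlgEquivOfSurjective hgA
  have hk : RingHom.ker gA = Ideal.ofList rs := hker
  let e' : (A ⧸ Ideal.ofList rs) ≃ₐ[B] C := (Ideal.quotientEquivAlgOfEq B hk.symm).trans e
  haveI : Module.Flat B (A ⧸ Ideal.ofList rs) := Module.Flat.of_linearEquiv e'.toLinearEquiv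
  exact Groth.Agent.Helper3.NzdFlatN.flat_of_weaklyRegular _ rs rfl hw hjac inferInstance

end alg

theorem main {Z X S : Scheme.{u}} (f : X ⟶ S) (i : Z ⟶ X)
    (hi : RegImm.IsRelRegularImmersion RegImm.Kind.quasi f i) (z : Z)
    [IsNoetherianRing (X.presheaf.stalk (i z))] : (f.stalkMap (i z)).hom.Flat := by
  obtain ⟨⟨himm, hreg⟩, hflat⟩ := hi
  haveI := himm
  obtain ⟨U, hzU, hcl, rs, hrs, hker⟩ := hreg z
  have hq : CAlgX.IsQuasiRegular rs.get := hrs
  haveI : IsAffine U.1.toScheme := U.2
  have hV : IsAffineOpen (i ⁻¹ᵁ U.1) := isAffine_of_isAffineHom (i ∣_ U.1)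
  have hs0 : Function.Surjective ((i ∣_ U.1).app ⊤).hom :=
    (isClosedImmersion_iff_isAffineHom.mp hcl).2 ⊤ (isAffineOpen_top _)
  have hs1 := RegSeqC.restrict_app_surjective i U.1 ⊤ hs0
  have hs2 : Function.Surjective (i.app U.1).hom :=
    RegSeqC.app_surjective_of_eq i U.1.ι_image_top hs1
  have hkst := RegSeqB.ker_stalkMap_eq i z U.2 hzU hV hs2
  letI algS : Algebra Γ(X, U.1) (X.presheaf.stalk (i z)) :=
    X.presheaf.algebra_section_stalk ⟨i z, hzU⟩
  haveI locS : IsLocalization.AtPrime (X.presheaf.stalk (i z))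
      (U.2.primeIdealOf ⟨i z, hzU⟩).asIdeal := U.2.isLocalization_stalk ⟨i z, hzU⟩
  have hq' := RegSeqL.isQuasiRegular_localization (U.2.primeIdealOf ⟨i z, hzU⟩).asIdeal.primeCompl
    (X.presheaf.stalk (i z)) rs.get hq
  have hlist : rs.map (algebraMap Γ(X, U.1) (X.presheaf.stalk (i z))) =
      List.ofFn (fun k => algebraMap Γ(X, U.1) (X.presheaf.stalk (i z)) (rs.get k)) := by
    conv_lhs => rw [← List.ofFn_get rs, List.map_ofFn]
    rfl
  have hker' : RingHom.ker (i.stalkMap z).hom =
      Ideal.ofList (List.ofFn (fun k => algebraMap Γ(X, U.1) (X.presheaf.stalk (i z)) (rs.get k))) := by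
    rw [hkst, hker, ← hlist]
    exact Ideal.map_ofList _ _
  have hne : RingHom.ker (i.stalkMap z).hom ≠ ⊤ := RingHom.ker_ne_top _
  have hmem : ∀ k, algebraMap Γ(X, U.1) (X.presheaf.stalk (i z)) (rs.get k) ∈
      Ring.jacobson (X.presheaf.stalk (i z)) := by
    intro k
    rw [IsLocalRing.ringJacobson_eq_maximalIdeal]
    apply IsLocalRing.le_maximalIdeal hne
    rw [hker']
    exact Ideal.subset_span ((List.mem_ofFn' _ _).2 ⟨k, rfl⟩)
  have hw := Groth.Agent.Helper7.QRReg.isWeaklyRegular_of_isQuasiRegular _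
    (X.presheaf.stalk (i z)) _ hmem hq'
  have hsurj : Function.Surjective (i.stalkMap z).hom := i.stalkMap_surjective z
  letI algBA : Algebra (S.presheaf.stalk (f (i z))) (X.presheaf.stalk (i z)) :=
    (f.stalkMap (i z)).hom.toAlgebra
  have hfl : ((i.stalkMap z).hom.comp
      (algebraMap (S.presheaf.stalk (f (i z))) (X.presheaf.stalk (i z)))).Flat := by
    have h1 := (Flat.iff_flat_stalkMap (i ≫ f)).mp hflat z
    rw [Scheme.Hom.stalkMap_comp] at h1
    exact h1
  have hjac : ∀ r ∈ List.ofFn (fun k => algebraMap Γ(X, U.1) (X.presheaf.stalk (i z)) (rs.get k)),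
      r ∈ (⊥ : Ideal (X.presheaf.stalk (i z))).jacobson := by
    intro r hr
    obtain ⟨k, rfl⟩ := (List.mem_ofFn' _ _).1 hr
    have := hmem k
    rwa [← Ideal.jacobson_bot] at this
  exact flat_of_surjective_ker (i.stalkMap z).hom hsurj _ hker' hw hjac hfl

end Groth.Agent.Helper3.RelQRFlat
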