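import Mathlib
set_option linter.style.haveILetI false
set_option linter.unusedSectionVars false
set_option linter.unusedVariables false

namespace Groth.Agent.Helper3.ResExt
open Polynomial

universe u

/-- The conclusion for an ideal `I` of an `R`-algebra `S`. -/
def Good (R : Type u) [CommRing R] (S : Type u) [CommRing S] [Algebra R S]
    (L : Type u) [Field L] [Algebra R L] (I : Ideal S) : Prop :=
  ∃ (_ : I.IsPrime) (e : I.ResidueField ≃+* L),
    ∀ r : R, e (algebraMap R I.ResidueField r) = algebraMap R L r

variable (R : Type u) [CommRing R] (p : Ideal R) [p.IsPrime]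
    (L : Type u) [Field L] [Algebra p.ResidueField L]
    [Algebra R L] [IsScalarTower R p.ResidueField L]

/-- Scaling an element so that its minimal polynomial lifts to a monic polynomial over `R`. -/
lemma exists_monic_lift (x : L) (hx : IsIntegral p.ResidueField x) :
    ∃ (t : R) (_ : t ∉ p) (f : R[X]), f.Monic ∧
      f.map (algebraMap R p.ResidueField) =
        minpoly p.ResidueField (algebraMap R p.ResidueField t • x) := by
  classical
  set m := minpoly p.ResidueField x with hm
  have hmon : m.Monic := minpoly.monic hx
  obtain ⟨b, hb⟩ := IsLocalization.exist_integer_multiples_of_finset (nonZeroDivisors (R ⧸ p))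
    (m.support.image m.coeff)
  obtain ⟨t, ht⟩ := Ideal.Quotient.mk_surjective (b : R ⧸ p)
  have htp : t ∉ p := by
    intro h
    have : (b : R ⧸ p) = 0 := by rw [← ht]; exact Ideal.Quotient.eq_zero_iff_mem.mpr h
    exact nonZeroDivisors.ne_zero b.2 this
  have ht0 : algebraMap R p.ResidueField t ≠ 0 := by
    rwa [Ne, Ideal.algebraMap_residueField_eq_zero]
  have hcoeff : ∀ i, algebraMap R p.ResidueField t * m.coeff i ∈
      Set.range (algebraMap R p.ResidueField) := by
    intro i
    by_cases hi : i ∈ m.support
    · obtain ⟨y, hy⟩ := hb (m.coeff i) (Finset.mem_image_of_mem _ hi)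
      obtain ⟨r, rfl⟩ := Ideal.Quotient.mk_surjective y
      refine ⟨r, ?_⟩
      rw [← Ideal.algebraMap_quotient_residueField_mk, hy, Algebra.smul_def, ← ht,
        Ideal.algebraMap_quotient_residueField_mk]
    · rw [Polynomial.notMem_support_iff.mp hi, mul_zero]
      exact ⟨0, map_zero _⟩
  have hsmul : minpoly p.ResidueField (algebraMap R p.ResidueField t • x) =
      m.scaleRoots (algebraMap R p.ResidueField t) :=
    IsIntegrallyClosed.minpoly_smul ht0 hx
  have hlifts : m.scaleRoots (algebraMap R p.ResidueField t) ∈
      Polynomial.lifts (algebraMap R p.ResidueField) := by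
    rw [Polynomial.lifts_iff_coeff_lifts]
    intro i
    rw [Polynomial.coeff_scaleRoots]
    rcases lt_trichotomy i m.natDegree with h | h | h
    · obtain ⟨r, hr⟩ := hcoeff i
      obtain ⟨k, hk⟩ : ∃ k, m.natDegree - i = k + 1 := ⟨m.natDegree - i - 1, by omega⟩
      refine ⟨r * t ^ k, ?_⟩
      rw [map_mul, hr, map_pow, hk, pow_succ]
      ring
    · refine ⟨1, ?_⟩
      rw [h, Nat.sub_self, pow_zero, mul_one, map_one]
      exact hmon.coeff_natDegree.symm
    · refine ⟨0, ?_⟩
      rw [Polynomial.coeff_eq_zero_of_natDegree_lt h, zero_mul, map_zero]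
  have hmon' : (m.scaleRoots (algebraMap R p.ResidueField t)).Monic :=
    (Polynomial.monic_scaleRoots_iff _).mpr hmon
  obtain ⟨f, hf1, -, hf3⟩ := Polynomial.lifts_and_natDegree_eq_and_monic hlifts hmon'
  exact ⟨t, htp, f, hf3, hf1.trans hsmul.symm⟩

/-- the evaluation map `R[X]/(f) → L`. -/
noncomputable def psi (f : R[X]) (x' : L) (h : f.eval₂ (Algebra.ofId R L) x' = 0) :
    AdjoinRoot f →ₐ[R] L :=
  AdjoinRoot.liftAlgHom f (Algebra.ofId R L) x' h

lemma eval₂_eq_zero (f : R[X]) (x' : L)
    (hf : f.map (algebraMap R p.ResidueField) = minpoly p.ResidueField x') :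
    f.eval₂ (Algebra.ofId R L) x' = 0 := by
  have h1 : Polynomial.aeval x' (f.map (algebraMap R p.ResidueField)) = 0 := by
    rw [hf]; exact minpoly.aeval _ _
  rw [Polynomial.aeval_def, Polynomial.eval₂_map, ← IsScalarTower.algebraMap_eq] at h1
  exact h1

lemma ker_psi (f : R[X]) (hmon : f.Monic) (x' : L)
    (hf : f.map (algebraMap R p.ResidueField) = minpoly p.ResidueField x') :
    RingHom.ker (psi R L f x' (eval₂_eq_zero R p L f x' hf)).toRingHom =
      p.map (algebraMap R (AdjoinRoot f)) := by
  haveI : Nontrivial R := RingHom.domain_nontrivial (algebraMap R p.ResidueField)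
  apply le_antisymm
  · intro s hs
    obtain ⟨g, rfl⟩ := AdjoinRoot.mk_surjective s
    -- reduce mod f
    have hg : AdjoinRoot.mk f g = AdjoinRoot.mk f (g %ₘ f) := by
      rw [AdjoinRoot.mk_eq_mk]
      refine ⟨g /ₘ f, ?_⟩
      have := Polynomial.modByMonic_add_div g f
      linear_combination -this
    rw [hg] at hs ⊢
    set g' := g %ₘ f with hg'
    have hdeg : g'.degree < f.degree := Polynomial.degree_modByMonic_lt g hmon
    rw [RingHom.mem_ker] at hs
    have h1 : Polynomial.aeval x' (g'.map (algebraMap R p.ResidueField)) = 0 := by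
      rw [Polynomial.aeval_def, Polynomial.eval₂_map, ← IsScalarTower.algebraMap_eq]
      exact hs
    have h2 : g'.map (algebraMap R p.ResidueField) = 0 := by
      by_contra hne
      have h3 := minpoly.degree_le_of_ne_zero p.ResidueField x' hne h1
      rw [← hf, Polynomial.degree_map_eq_of_leadingCoeff_ne_zero] at h3
      · exact absurd (lt_of_le_of_lt (h3.trans (Polynomial.degree_map_le)) hdeg) (lt_irrefl _)
      · rw [hmon.leadingCoeff, map_one]; exact one_ne_zero
    have h4 : g' ∈ Ideal.map (C : R →+* R[X]) p := by
      rw [Ideal.mem_map_C_iff]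
      intro n
      have := congrArg (fun q => q.coeff n) h2
      simp only [Polynomial.coeff_map, Polynomial.coeff_zero] at this
      rwa [Ideal.algebraMap_residueField_eq_zero] at this
    have h5 : p.map (algebraMap R (AdjoinRoot f)) =
        (Ideal.map (C : R →+* R[X]) p).map (AdjoinRoot.mk f) := by
      rw [Ideal.map_map, AdjoinRoot.algebraMap_eq]
      rfl
    rw [h5]
    exact Ideal.mem_map_of_mem _ h4
  · rw [Ideal.map_le_iff_le_comap]
    intro r hr
    rw [Ideal.mem_comap, RingHom.mem_ker]
    show (psi R L f x' _) (algebraMap R (AdjoinRoot f) r) = 0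
    rw [AlgHom.commutes, IsScalarTower.algebraMap_apply R p.ResidueField L,
      (Ideal.algebraMap_residueField_eq_zero).mpr hr, map_zero]

lemma step [FiniteDimensional p.ResidueField L] (x : L)
    (hx : x ∉ Set.range (algebraMap p.ResidueField L)) :
    ∃ (S₁ : Type u) (_ : CommRing S₁) (_ : Algebra R S₁) (_ : Module.Finite R S₁)
      (_ : Module.Free R S₁)
      (_ : (p.map (algebraMap R S₁)).IsPrime) (_ : Algebra S₁ L) (_ : IsScalarTower R S₁ L)
      (_ : Algebra (p.map (algebraMap R S₁)).ResidueField L)
      (_ : IsScalarTower S₁ (p.map (algebraMap R S₁)).ResidueField L)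
      (_ : FiniteDimensional (p.map (algebraMap R S₁)).ResidueField L),
      Module.finrank (p.map (algebraMap R S₁)).ResidueField L <
        Module.finrank p.ResidueField L := by
  have hxi : IsIntegral p.ResidueField x := IsIntegral.of_finite _ x
  obtain ⟨t, htp, f, hmon, hf⟩ := exists_monic_lift R p L x hxi
  have ht0 : algebraMap R p.ResidueField t ≠ 0 := by
    rwa [Ne, Ideal.algebraMap_residueField_eq_zero]
  set x' := algebraMap R p.ResidueField t • x with hx'
  set ψ := psi R L f x' (eval₂_eq_zero R p L f x' hf) with hψ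
  have hker := ker_psi R p L f hmon x' hf
  set q := p.map (algebraMap R (AdjoinRoot f)) with hq
  haveI hqp : q.IsPrime := by rw [← hker]; exact RingHom.ker_isPrime _
  letI : Algebra (AdjoinRoot f) L := ψ.toRingHom.toAlgebra
  haveI : IsScalarTower R (AdjoinRoot f) L :=
    IsScalarTower.of_algebraMap_eq fun r => (ψ.commutes r).symm
  have hunit : q.primeCompl ≤ (IsUnit.submonoid L).comap ψ.toRingHom := by
    intro s hs
    simp only [Submonoid.mem_comap, IsUnit.mem_submonoid_iff]
    apply IsUnit.mk0
    intro h0
    exact hs (hker ▸ (RingHom.mem_ker.mpr h0))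
  let χ : q.ResidueField →+* L := Ideal.ResidueField.lift q ψ.toRingHom hker.ge hunit
  have hχ : ∀ s, χ (algebraMap (AdjoinRoot f) q.ResidueField s) = ψ s :=
    fun s => Ideal.ResidueField.lift_algebraMap q ψ.toRingHom hker.ge hunit s
  letI : Algebra q.ResidueField L := χ.toAlgebra
  haveI : IsScalarTower (AdjoinRoot f) q.ResidueField L :=
    IsScalarTower.of_algebraMap_eq fun s => (hχ s).symm
  -- κ(p) → κ(q)
  have hχR : ∀ r : R, χ (algebraMap R q.ResidueField r) = algebraMap R L r := by
    intro r
    rw [IsScalarTower.algebraMap_apply R (AdjoinRoot f) q.ResidueField, hχ]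
    exact ψ.commutes r
  have hρ1 : p ≤ RingHom.ker (algebraMap R q.ResidueField) := by
    intro r hr
    rw [RingHom.mem_ker]
    apply χ.injective
    rw [hχR, map_zero, IsScalarTower.algebraMap_apply R p.ResidueField L,
      (Ideal.algebraMap_residueField_eq_zero).mpr hr, map_zero]
  have hρ2 : p.primeCompl ≤ (IsUnit.submonoid q.ResidueField).comap (algebraMap R q.ResidueField) := by
    intro r hr
    simp only [Submonoid.mem_comap, IsUnit.mem_submonoid_iff]
    apply IsUnit.mk0
    intro h0
    have h1 : algebraMap R L r = 0 := by rw [← hχR, h0, map_zero]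
    rw [IsScalarTower.algebraMap_apply R p.ResidueField L, map_eq_zero,
      Ideal.algebraMap_residueField_eq_zero] at h1
    exact hr h1
  let ρ : p.ResidueField →+* q.ResidueField :=
    Ideal.ResidueField.lift p (algebraMap R q.ResidueField) hρ1 hρ2
  have hρ : ∀ r, ρ (algebraMap R p.ResidueField r) = algebraMap R q.ResidueField r :=
    fun r => Ideal.ResidueField.lift_algebraMap p _ hρ1 hρ2 r
  letI : Algebra p.ResidueField q.ResidueField := ρ.toAlgebra
  haveI : IsScalarTower p.ResidueField q.ResidueField L := by
    apply IsScalarTower.of_algebraMap_eq'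
    show algebraMap p.ResidueField L = χ.comp ρ
    apply Ideal.ResidueField.ringHom_ext
    ext r
    simp only [RingHom.comp_apply]
    rw [hρ, hχR, ← IsScalarTower.algebraMap_apply]
  haveI hfin : FiniteDimensional q.ResidueField L :=
    Module.Finite.of_restrictScalars_finite p.ResidueField q.ResidueField L
  refine ⟨AdjoinRoot f, inferInstance, inferInstance, (AdjoinRoot.powerBasis' hmon).finite,
    Module.Free.of_basis (AdjoinRoot.powerBasis' hmon).basis, hqp, inferInstance, inferInstance,
    inferInstance, inferInstance, hfin, ?_⟩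
  haveI : FiniteDimensional p.ResidueField q.ResidueField :=
    FiniteDimensional.left p.ResidueField q.ResidueField L
  have hmul := Module.finrank_mul_finrank p.ResidueField q.ResidueField L
  have hne1 : Module.finrank p.ResidueField q.ResidueField ≠ 1 := by
    intro h1
    have hbij := (Algebra.finrank_eq_one_iff_bijective_algebraMap).mp h1
    obtain ⟨y, hy⟩ := hbij.2 (algebraMap (AdjoinRoot f) q.ResidueField (AdjoinRoot.root f))
    apply hx
    refine ⟨(algebraMap R p.ResidueField t)⁻¹ * y, ?_⟩
    have h2 : algebraMap p.ResidueField L y = x' := by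
      rw [IsScalarTower.algebraMap_apply p.ResidueField q.ResidueField L, hy]
      show χ _ = x'
      rw [hχ]
      exact AdjoinRoot.liftAlgHom_root f _ _ _
    rw [map_mul, h2, hx', Algebra.smul_def, ← mul_assoc, ← map_mul, inv_mul_cancel₀ ht0, map_one,
      one_mul]
  have hpos1 : 0 < Module.finrank p.ResidueField q.ResidueField := Module.finrank_pos
  have hpos2 : 0 < Module.finrank q.ResidueField L := Module.finrank_pos
  have h2 : 2 ≤ Module.finrank p.ResidueField q.ResidueField := by omega
  calc Module.finrank q.ResidueField L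
      < 2 * Module.finrank q.ResidueField L := by omega
    _ ≤ Module.finrank p.ResidueField q.ResidueField * Module.finrank q.ResidueField L :=
        Nat.mul_le_mul_right _ h2
    _ = _ := hmul

omit [IsScalarTower R p.ResidueField L] [Algebra p.ResidueField L] [p.IsPrime] in
lemma good_of_eq {S : Type u} [CommRing S] [Algebra R S] {I J : Ideal S} (h : I = J)
    (hI : Good R S L I) : Good R S L J := by
  subst h; exact hI

theorem main_aux (n : ℕ) : ∀ (R : Type u) [CommRing R] (p : Ideal R) [p.IsPrime]
    (L : Type u) [Field L] [Algebra p.ResidueField L] [FiniteDimensional p.ResidueField L]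
    [Algebra R L] [IsScalarTower R p.ResidueField L],
    Module.finrank p.ResidueField L = n →
    ∃ (S : Type u) (_ : CommRing S) (_ : Algebra R S) (_ : Module.Finite R S) (_ : Module.Free R S),
      Good R S L (p.map (algebraMap R S)) := by
  induction n using Nat.strong_induction_on with
  | _ n ih =>
    intro R _ p _ L _ _ _ _ _ hn
    by_cases hsurj : Function.Surjective (algebraMap p.ResidueField L)
    · -- base case
      refine ⟨R, inferInstance, inferInstance, inferInstance, inferInstance, ?_⟩
      have hid : p = p.map (algebraMap R R) := by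
        rw [Algebra.algebraMap_self, Ideal.map_id]
      refine good_of_eq R L hid ?_
      refine ⟨inferInstance, RingEquiv.ofBijective (algebraMap p.ResidueField L)
        ⟨(algebraMap p.ResidueField L).injective, hsurj⟩, ?_⟩
      intro r
      simp only [RingEquiv.ofBijective_apply]
      rw [← IsScalarTower.algebraMap_apply]
    · -- inductive step
      have : ∃ x, x ∉ Set.range (algebraMap p.ResidueField L) := by
        by_contra hcon
        push Not at hcon
        exact hsurj hcon
      obtain ⟨x, hx⟩ := this
      obtain ⟨S₁, _, _, _, _, hq, _, _, _, _, _, hlt⟩ := step R p L x hx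
      obtain ⟨S₂, _, _, _, _, hgood⟩ := ih _ (hn ▸ hlt) S₁ (p.map (algebraMap R S₁)) L rfl
      letI : Algebra R S₂ := ((algebraMap S₁ S₂).comp (algebraMap R S₁)).toAlgebra
      haveI : IsScalarTower R S₁ S₂ := IsScalarTower.of_algebraMap_eq fun r => rfl
      refine ⟨S₂, inferInstance, inferInstance, Module.Finite.trans S₁ S₂,
        Module.Free.trans (S := S₁), ?_⟩
      have hmm : (p.map (algebraMap R S₁)).map (algebraMap S₁ S₂) = p.map (algebraMap R S₂) := by
        rw [Ideal.map_map, ← IsScalarTower.algebraMap_eq]
      obtain ⟨hprime, e, he⟩ := hgood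
      have key : ∀ (J : Ideal S₂) (hJ : (p.map (algebraMap R S₁)).map (algebraMap S₁ S₂) = J),
          Good R S₂ L J := by
        intro J hJ
        subst hJ
        refine ⟨hprime, e, ?_⟩
        intro r
        rw [IsScalarTower.algebraMap_apply R S₁ _, he, ← IsScalarTower.algebraMap_apply]
      exact key _ hmm

theorem main (R : Type u) [CommRing R] (p : Ideal R) [p.IsPrime]
    (L : Type u) [Field L] [Algebra p.ResidueField L] [FiniteDimensional p.ResidueField L]
    [Algebra R L] [IsScalarTower R p.ResidueField L] :
    ∃ (S : Type u) (_ : CommRing S) (_ : Algebra R S) (_ : Module.Finite R S) (_ : Module.Free R S)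
      (_ : (p.map (algebraMap R S)).IsPrime)
      (e : (p.map (algebraMap R S)).ResidueField ≃+* L),
      ∀ r : R, e (algebraMap R (p.map (algebraMap R S)).ResidueField r) = algebraMap R L r := by
  obtain ⟨S, i1, i2, i3, i4, i5, e, he⟩ := main_aux _ R p L rfl
  exact ⟨S, i1, i2, i3, i4, i5, e, he⟩

end Groth.Agent.Helper3.ResExt
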