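import Mathlib

set_option autoImplicit false
set_option linter.style.haveILetI false
set_option linter.unusedSectionVars false
set_option linter.unusedVariables false
set_option linter.deprecated false
set_option linter.style.haveILetI false
set_option linter.unusedSectionVars false
set_option linter.unusedVariables false

universe u

namespace Groth.Agent.Helper3.ResFldExt

open AlgebraicGeometry CategoryTheory CategoryTheory.Limits TopologicalSpace Opposite

/-- a finite field extension of a "fraction-like" residue field is a residue field of a polynomial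
ring -/
theorem alg_core {A κ ℓ : Type u} [CommRing A] [Field κ] [Field ℓ] [Algebra κ ℓ]
    [Module.Finite κ ℓ] (g : A →+* κ)
    (hg : ∀ c : κ, ∃ a d : A, g d ≠ 0 ∧ g d * c = g a) :
    ∃ (n : ℕ) (f : MvPolynomial (Fin n) A →+* ℓ),
      f.comp MvPolynomial.C = (algebraMap κ ℓ).comp g ∧ f.SurjectiveOnStalks := by
  haveI : Algebra.FiniteType κ ℓ := inferInstance
  obtain ⟨n, φ, hφ⟩ := Algebra.FiniteType.iff_quotient_mvPolynomial''.mp
    (inferInstance : Algebra.FiniteType κ ℓ)
  let α : Fin n → ℓ := fun i => φ (MvPolynomial.X i)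
  let f : MvPolynomial (Fin n) A →+* ℓ := MvPolynomial.eval₂Hom ((algebraMap κ ℓ).comp g) α
  refine ⟨n, f, ?_, ?_⟩
  · ext a
    simp [f]
  · apply RingHom.surjectiveOnStalks_of_exists_div
    intro y
    have hadj : Algebra.adjoin κ (Set.range α) = ⊤ := by
      have h1 : Algebra.adjoin κ (Set.range α) = φ.range := by
        have : Set.range α = φ '' (Set.range (MvPolynomial.X : Fin n → MvPolynomial (Fin n) κ)) := by
          ext z; simp [α]
        rw [this, ← AlgHom.map_adjoin, MvPolynomial.adjoin_range_X, Algebra.map_top]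
      rw [h1]
      exact (AlgHom.range_eq_top φ).mpr hφ
    have hy : y ∈ Algebra.adjoin κ (Set.range α) := by rw [hadj]; trivial
    have key : ∃ r s : MvPolynomial (Fin n) A, f s ≠ 0 ∧ f s * y = f r := by
      induction hy using Algebra.adjoin_induction with
      | mem x hx =>
        obtain ⟨i, rfl⟩ := hx
        exact ⟨MvPolynomial.X i, 1, by simp, by simp [f]⟩
      | algebraMap c =>
        obtain ⟨a, d, hd, hda⟩ := hg c
        refine ⟨MvPolynomial.C a, MvPolynomial.C d, ?_, ?_⟩
        · simpa [f] using hd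
        · simp only [f, MvPolynomial.coe_eval₂Hom, MvPolynomial.eval₂_C, RingHom.comp_apply]
          rw [← map_mul, hda]
      | add x y _ _ hx hy =>
        obtain ⟨r₁, s₁, hs₁, h₁⟩ := hx
        obtain ⟨r₂, s₂, hs₂, h₂⟩ := hy
        refine ⟨r₁ * s₂ + r₂ * s₁, s₁ * s₂, ?_, ?_⟩
        · rw [map_mul]; exact mul_ne_zero hs₁ hs₂
        · rw [map_mul, map_add, map_mul, map_mul, ← h₁, ← h₂]; ring
      | mul x y _ _ hx hy =>
        obtain ⟨r₁, s₁, hs₁, h₁⟩ := hx
        obtain ⟨r₂, s₂, hs₂, h₂⟩ := hy
        refine ⟨r₁ * r₂, s₁ * s₂, ?_, ?_⟩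
        · rw [map_mul]; exact mul_ne_zero hs₁ hs₂
        · rw [map_mul, map_mul, ← h₁, ← h₂]; ring
    obtain ⟨r, s, hs, hrs⟩ := key
    exact ⟨r, s, isUnit_iff_ne_zero.mpr hs, hrs⟩

theorem s14678 (S : Scheme.{u}) (s : ↥S)
    (ℓ : Type u) [Field ℓ] [Algebra (S.residueField s) ℓ] [Module.Finite (S.residueField s) ℓ] :
    ∃ (U' : Scheme.{u}) (b : U' ⟶ S) (t : Spec (CommRingCat.of ℓ) ⟶ U'),
      IsAffine U' ∧ Flat b ∧ LocallyOfFinitePresentation b ∧ IsPreimmersion t ∧
        t ≫ b = Spec.map (CommRingCat.ofHom (algebraMap (S.residueField s) ℓ)) ≫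
          S.fromSpecResidueField s := by
  obtain ⟨_, ⟨W, hW, rfl⟩, hsW, -⟩ := S.isBasis_affineOpens.exists_subset_of_mem_open
    (Set.mem_univ s) isOpen_univ
  replace hW : IsAffineOpen W := hW
  have hgfac : S.fromSpecResidueField s = Spec.map (S.evaluation W s hsW) ≫ hW.fromSpec := by
    rw [Scheme.fromSpecResidueField, ← hW.fromSpecStalk_eq_fromSpecStalk hsW,
      IsAffineOpen.fromSpecStalk, ← Spec.map_comp_assoc]
    rfl
  -- every element of the residue field is a quotient of evaluations
  have hg : ∀ c : S.residueField s, ∃ a d : Γ(S, W), (S.evaluation W s hsW).hom d ≠ 0 ∧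
      (S.evaluation W s hsW).hom d * c = (S.evaluation W s hsW).hom a := by
    intro c
    letI : Algebra Γ(S, W) (S.presheaf.stalk s) := S.presheaf.algebra_section_stalk ⟨s, hsW⟩
    haveI h1 := hW.isLocalization_stalk ⟨s, hsW⟩
    obtain ⟨c', rfl⟩ := IsLocalRing.residue_surjective (R := S.presheaf.stalk s) c
    obtain ⟨a, d, rfl⟩ := IsLocalization.exists_mk'_eq (hW.primeIdealOf ⟨s, hsW⟩).asIdeal.primeCompl c'
    refine ⟨a, d, ?_, ?_⟩
    · show IsLocalRing.residue (S.presheaf.stalk s) (algebraMap Γ(S, W) (S.presheaf.stalk s) d) ≠ 0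
      rw [Ne, IsLocalRing.residue_eq_zero_iff]
      intro hmem
      have hu : IsUnit (algebraMap Γ(S, W) (S.presheaf.stalk s) d) :=
        IsLocalization.map_units (S.presheaf.stalk s) d
      exact (IsLocalRing.mem_maximalIdeal _).mp hmem hu
    · show IsLocalRing.residue (S.presheaf.stalk s) (algebraMap Γ(S, W) (S.presheaf.stalk s) d) *
          IsLocalRing.residue (S.presheaf.stalk s) (IsLocalization.mk' _ a d) =
        IsLocalRing.residue (S.presheaf.stalk s) (algebraMap Γ(S, W) (S.presheaf.stalk s) a)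
      rw [← map_mul, mul_comm, IsLocalization.mk'_spec]
  obtain ⟨n, f, hfC, hfs⟩ := alg_core (κ := S.residueField s) (ℓ := ℓ) (S.evaluation W s hsW).hom hg
  let B : CommRingCat.{u} := CommRingCat.of (MvPolynomial (Fin n) Γ(S, W))
  let cC : Γ(S, W) ⟶ B := CommRingCat.ofHom MvPolynomial.C
  refine ⟨Spec B, Spec.map cC ≫ hW.fromSpec, Spec.map (CommRingCat.ofHom f), inferInstance,
    ?_, ?_, ?_, ?_⟩
  · haveI : Flat (Spec.map cC) := by
      rw [Flat.SpecMap_iff]
      show (MvPolynomial.C : Γ(S, W) →+* MvPolynomial (Fin n) Γ(S, W)).Flat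
      rw [← MvPolynomial.algebraMap_eq, RingHom.flat_algebraMap_iff]
      infer_instance
    infer_instance
  · haveI : LocallyOfFinitePresentation (Spec.map cC) := by
      rw [HasRingHomProperty.Spec_iff (P := @LocallyOfFinitePresentation)]
      show (MvPolynomial.C : Γ(S, W) →+* MvPolynomial (Fin n) Γ(S, W)).FinitePresentation
      rw [← MvPolynomial.algebraMap_eq, RingHom.finitePresentation_algebraMap]
      infer_instance
    infer_instance
  · apply IsPreimmersion.mk_SpecMap
    · exact Topology.IsEmbedding.of_subsingleton _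
    · exact hfs
  · rw [← Spec.map_comp_assoc, hgfac, ← Spec.map_comp_assoc]
    congr 2
    ext a
    exact congrFun (congrArg DFunLike.coe hfC) a

end Groth.Agent.Helper3.ResFldExt
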