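import Mathlib

set_option linter.style.haveILetI false
set_option linter.unusedSectionVars false
set_option linter.unusedVariables false
set_option linter.style.haveILetI false
set_option linter.unusedSectionVars false
set_option linter.unusedVariables false

namespace Groth.Agent.Helper3.ResLim

open AlgebraicGeometry CategoryTheory Limits

universe u

theorem affine_case {J : Type u} [Category.{u} J] [IsCofiltered J] (D : J ⥤ Scheme.{u})
    (c : Cone D) (hc : IsLimit c) [∀ j, IsAffine (D.obj j)] [IsAffine c.pt] (s : c.pt)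
    (a : c.pt.residueField s) :
    ∃ (j : J) (b : (D.obj j).residueField ((c.π.app j) s)),
      ((c.π.app j).residueFieldMap s).hom b = a := by
  obtain ⟨x, rfl⟩ := c.pt.residue_surjective s a
  letI := c.pt.presheaf.algebra_section_stalk (U := ⊤) ⟨s, trivial⟩
  haveI := (isAffineOpen_top c.pt).isLocalization_stalk ⟨s, trivial⟩
  obtain ⟨⟨f, g⟩, hfg⟩ := IsLocalization.surj
    ((isAffineOpen_top c.pt).primeIdealOf ⟨s, trivial⟩).asIdeal.primeCompl x
  have hgu : IsUnit (algebraMap Γ(c.pt, ⊤) (c.pt.presheaf.stalk s) g) :=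
    IsLocalization.map_units _ g
  have hev : ∀ t : Γ(c.pt, ⊤), (c.pt.residue s).hom (algebraMap Γ(c.pt, ⊤) (c.pt.presheaf.stalk s) t)
      = (c.pt.Γevaluation s).hom t := fun t => rfl
  have h1 : (c.pt.residue s).hom x * (c.pt.Γevaluation s).hom g = (c.pt.Γevaluation s).hom f := by
    rw [← hev, ← hev, ← map_mul]
    exact congrArg _ hfg
  have h2 : (c.pt.Γevaluation s).hom g ≠ 0 := by
    rw [← hev]
    exact (hgu.map (c.pt.residue s).hom).ne_zero
  obtain ⟨j1, f1, hf1⟩ := exists_appTop_π_eq_of_isAffine_of_isLimit D c hc f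
  obtain ⟨j2, g2, hg2⟩ := exists_appTop_π_eq_of_isAffine_of_isLimit D c hc g.1
  let j3 := IsCofiltered.min j1 j2
  let u1 : j3 ⟶ j1 := IsCofiltered.minToLeft j1 j2
  let u2 : j3 ⟶ j2 := IsCofiltered.minToRight j1 j2
  let f3 := (D.map u1).appTop f1
  let g3 := (D.map u2).appTop g2
  have hf3 : (c.π.app j3).appTop f3 = f := by
    rw [← hf1, ← c.w u1, Scheme.Hom.comp_appTop]
    rfl
  have hg3 : (c.π.app j3).appTop g3 = g.1 := by
    rw [← hg2, ← c.w u2, Scheme.Hom.comp_appTop]
    rfl
  refine ⟨j3, ((D.obj j3).Γevaluation ((c.π.app j3) s)).hom f3 *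
    (((D.obj j3).Γevaluation ((c.π.app j3) s)).hom g3)⁻¹, ?_⟩
  rw [map_mul, map_inv₀]
  have e1 : ((c.π.app j3).residueFieldMap s).hom
      (((D.obj j3).Γevaluation ((c.π.app j3) s)).hom f3) = (c.pt.Γevaluation s).hom f := by
    rw [← hf3]
    exact Scheme.Γevaluation_naturality_apply (c.π.app j3) s f3
  have e2 : ((c.π.app j3).residueFieldMap s).hom
      (((D.obj j3).Γevaluation ((c.π.app j3) s)).hom g3) = (c.pt.Γevaluation s).hom g.1 := by
    rw [← hg3]
    exact Scheme.Γevaluation_naturality_apply (c.π.app j3) s g3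
  rw [e1, e2]
  exact (eq_mul_inv_iff_mul_eq₀ h2).mpr h1 |>.symm

theorem sq_residue {A B C E : Scheme.{u}} (p : A ⟶ B) (q : B ⟶ E) (r : A ⟶ C) (t : C ⟶ E)
    (h : p ≫ q = r ≫ t) (x : A) (hpt : q (p x) = t (r x)) :
    q.residueFieldMap (p x) ≫ p.residueFieldMap x =
      (E.residueFieldCongr hpt).hom ≫ t.residueFieldMap (r x) ≫ r.residueFieldMap x := by
  have := Scheme.Hom.residueFieldMap_congr h x
  rwa [Scheme.residueFieldMap_comp, Scheme.residueFieldMap_comp] at this

theorem main {I : Type u} [SmallCategory I] [IsCofiltered I]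
    (D : I ⥤ Scheme.{u}) (c : Limits.Cone D) (hc : Limits.IsLimit c)
    [∀ (i j : I) (f : i ⟶ j), IsAffineHom (D.map f)] (s : c.pt) (a : c.pt.residueField s) :
    ∃ (i : I) (b : (D.obj i).residueField ((c.π.app i).base s)),
      ((c.π.app i).residueFieldMap s).hom b = a := by
  haveI : ∀ {i j : I} (f : i ⟶ j), IsAffineHom (D.map f) := fun f => inferInstance
  let i0 := IsCofiltered.nonempty (C := I).some
  obtain ⟨_, ⟨U, hU : IsAffineOpen U, rfl⟩, hxU, -⟩ :=
      (D.obj i0).isBasis_affineOpens.exists_subset_of_mem_open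
        (Set.mem_univ ((c.π.app i0).base s)) isOpen_univ
  let W : c.pt.Opens := c.π.app i0 ⁻¹ᵁ U
  have hW : IsAffineOpen W := by
    haveI := isAffineHom_π_app D c hc i0
    exact hU.preimage (c.π.app i0)
  let D' := opensDiagram D i0 U
  let c' := opensCone D c i0 U
  let hc' := isLimitOpensCone D c hc i0 U
  haveI : ∀ j, IsAffine (D'.obj j) := fun j => hU.preimage (D.map j.hom)
  haveI : IsAffine c'.pt := hW
  have key : ∀ (s' : c'.pt) (a : c.pt.residueField (W.ι s')),
      ∃ (i : I) (b : (D.obj i).residueField ((c.π.app i) (W.ι s'))),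
      ((c.π.app i).residueFieldMap (W.ι s')).hom b = a := by
    intro s' a
    obtain ⟨j, b', hb'⟩ := affine_case D' c' hc' s' ((W.ι.residueFieldMap s').hom a)
    let ιj : D'.obj j ⟶ D.obj j.left := (D.map j.hom ⁻¹ᵁ U).ι
    have hsq : c'.π.app j ≫ ιj = W.ι ≫ c.π.app j.left := Scheme.Hom.resLE_comp_ι _ _
    have hpt : ιj ((c'.π.app j) s') = (c.π.app j.left) (W.ι s') := by
      have := congrArg (fun g : c'.pt ⟶ D.obj j.left => g s') hsq
      exact this
    haveI : IsOpenImmersion ιj := inferInstanceAs (IsOpenImmersion (D.map j.hom ⁻¹ᵁ U).ι)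
    haveI : IsIso (ιj.residueFieldMap ((c'.π.app j) s')) := inferInstance
    let b'' := (inv (ιj.residueFieldMap ((c'.π.app j) s'))).hom b'
    have hb'' : (ιj.residueFieldMap ((c'.π.app j) s')).hom b'' = b' := by
      simp only [b'']
      rw [← CommRingCat.comp_apply, IsIso.inv_hom_id]
      rfl
    refine ⟨j.left, ((D.obj j.left).residueFieldCongr hpt).hom.hom b'', ?_⟩
    apply (W.ι.residueFieldMap s').hom.injective
    rw [← hb', ← hb'']
    have e1 := sq_residue (c'.π.app j) ιj W.ι (c.π.app j.left) hsq s' hpt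
    exact (congrArg (fun φ => φ.hom b'') e1).symm
  exact key ⟨s, hxU⟩ a

end Groth.Agent.Helper3.ResLim
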