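import Mathlib
import Groth.Agent.Helper3.Rig3
import Groth.Agent.Helper3.Fib5
import Groth.Prelude.Def_ega3

set_option autoImplicit false
set_option linter.style.haveILetI false
set_option linter.unusedSectionVars false
set_option linter.unusedVariables false
set_option linter.style.haveILetI false
set_option linter.unusedSectionVars false
set_option linter.unusedVariables false

open AlgebraicGeometry CategoryTheory CategoryTheory.Limits TopologicalSpace Opposite

universe u

namespace Groth.Agent.Helper3.Rig4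

open Groth.Agent.Helper3.Rig1 Groth.Agent.Helper3.Rig2 Groth.Agent.Helper3.Rig3

theorem s11434 (S X Y : Scheme.{u}) [IsLocallyNoetherian S] [IsLocallyNoetherian X]
    [IsLocallyNoetherian Y] (p : X ⟶ S) (q : Y ⟶ S) (f : X ⟶ Y) (hf : f ≫ q = p) [Flat p]
    [IsSeparated q] [ConnectedSpace S]
    (h0 : ∀ s : S, Function.Bijective (Limits.pullback.snd p (S.fromSpecResidueField s)).appTop)
    (hp : IsProper p ∨ (IsClosedMap p.base ∧ ∃ e : S ⟶ X, e ≫ p = 𝟙 S))
    (s : S) (hs : ∀ x x' : X, p.base x = s → p.base x' = s → f.base x = f.base x') :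
    ∃ t : S ⟶ Y, t ≫ q = 𝟙 S ∧ f = p ≫ t := by
  have h0' : ∀ s : S,
      Function.Bijective (pullback.snd p (S.fromSpecResidueField s)).appTop.hom := fun s => h0 s
  rcases hp with hp | ⟨hcl, e, he⟩
  · haveI := hp
    obtain ⟨t, ht⟩ := rigid_proper p h0' f q (𝟙 S) (by rw [hf, Category.comp_id]) s hs
    refine ⟨t, ?_, ht⟩
    haveI : Surjective p := ⟨surjective_of_h0 p h0'⟩
    haveI : EffectiveEpi p := inferInstance
    haveI : Epi p := inferInstance
    rw [← cancel_epi p, ← Category.assoc, ← ht, hf, Category.comp_id]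
  · have hq' : f ≫ q = p ≫ e ≫ f ≫ q := by
      rw [hf, he, Category.comp_id]
    have hΓ : ∀ (t : S) (n : ℕ), Function.Bijective (pullback.snd p (σ t n)).appTop.hom :=
      fun t n => hΓ_of_h0 p t (h0' t) n
    have key := rigid_section p e he f q hq' hΓ hcl s hs
    refine ⟨e ≫ f, ?_, key⟩
    rw [Category.assoc, hf, he]

theorem s14141 {X Y S : Scheme.{u}} [IsNoetherian S] [ConnectedSpace ↥S]
    (f : X ⟶ S) [IsProper f] [Flat f]
    (hfib : ∀ s : ↥S, Function.Bijective (algebraMap (S.residueField s) Γ(f.fiber s, ⊤)))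
    (g : Y ⟶ S) [IsSeparated g] (π : X ⟶ Y) (hπ : π ≫ g = f) (s : ↥S)
    (hs : ∃ y : Spec (S.residueField s) ⟶ Y, f.fiberι s ≫ π = f.fiberToSpecResidueField s ≫ y) :
    ∃ σ : S ⟶ Y, σ ≫ g = 𝟙 S ∧ π = f ≫ σ := by
  have h0' : ∀ s : S,
      Function.Bijective (pullback.snd f (S.fromSpecResidueField s)).appTop.hom := by
    intro s
    have h1 := hfib s
    have b1 : Function.Bijective (Scheme.ΓSpecIso (S.residueField s)).inv.hom :=
      ConcreteCategory.bijective_of_isIso _
    have h2 : Function.Bijective ((pullback.snd f (S.fromSpecResidueField s)).appTop.hom ∘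
        (Scheme.ΓSpecIso (S.residueField s)).inv.hom) := h1
    exact (Function.Bijective.of_comp_iff _ b1).mp h2
  obtain ⟨y, hy⟩ := hs
  have hpt : ∀ x : X, f x = s → π x = y default := by
    intro x hx
    obtain ⟨z, hz1, hz2⟩ := Scheme.Pullback.exists_preimage_pullback (f := f)
      (g := S.fromSpecResidueField s) x default (by
        rw [hx]; exact (Scheme.fromSpecResidueField_apply s _).symm)
    have := congrArg (fun k : f.fiber s ⟶ Y => k z) hy
    simp only [Scheme.Hom.comp_apply] at this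
    change π (pullback.fst f (S.fromSpecResidueField s) z) = _ at this
    rw [hz1] at this
    rw [this]
    congr 1
  have hs' : ∀ x x' : X, f x = s → f x' = s → π x = π x' := fun x x' hx hx' => by
    rw [hpt x hx, hpt x' hx']
  obtain ⟨t, ht⟩ := rigid_proper f h0' π g (𝟙 S) (by rw [hπ, Category.comp_id]) s hs'
  refine ⟨t, ?_, ht⟩
  haveI : Surjective f := ⟨surjective_of_h0 f h0'⟩
  haveI : EffectiveEpi f := inferInstance
  haveI : Epi f := inferInstance
  rw [← cancel_epi f, ← Category.assoc, ← ht, hπ, Category.comp_id]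

theorem h0_of_geomIntegral {X S : Scheme.{u}} (ξ : X ⟶ S) [IsProper ξ] [GeometricallyIntegral ξ]
    (s : S) : Function.Bijective (pullback.snd ξ (S.fromSpecResidueField s)).appTop.hom := by
  let k : Type u := S.residueField s
  let Xs : Over (Spec (CommRingCat.of k)) := Over.mk (pullback.snd ξ (S.fromSpecResidueField s))
  haveI : IsProper Xs.hom :=
    inferInstanceAs (IsProper (pullback.snd ξ (S.fromSpecResidueField s)))
  haveI : GeometricallyIntegral Xs.hom :=
    inferInstanceAs (GeometricallyIntegral (pullback.snd ξ (S.fromSpecResidueField s)))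
  exact Fib.hΓ_of_geomIntegral k Xs (AlgebraicClosure k)

theorem s14667 {X Y S : Scheme.{u}} [IsLocallyNoetherian S]
    (ξ : X ⟶ S) [IsProper ξ] [Flat ξ] [GeometricallyIntegral ξ]
    (v : Y ⟶ S) [IsSeparated v] (f : X ⟶ Y) (hf : f ≫ v = ξ) :
    IsClosed {s : ↥S | ∃ y : ↥Y, ∀ x : ↥X, ξ.base x = s → f.base x = y} ∧
      IsOpen {s : ↥S | ∃ y : ↥Y, ∀ x : ↥X, ξ.base x = s → f.base x = y} := by
  have h0 := h0_of_geomIntegral ξ
  have hC : {s : ↥S | ∃ y : ↥Y, ∀ x : ↥X, ξ.base x = s → f.base x = y} = C ξ f := by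
    ext s
    constructor
    · rintro ⟨y, hy⟩ x x' hx hx'
      rw [hy x hx, hy x' hx']
    · intro hs
      obtain ⟨x₀, hx₀⟩ := surjective_of_h0 ξ h0 s
      exact ⟨f x₀, fun x hx => hs x x₀ hx hx₀⟩
  rw [hC]
  have := isClopen_C ξ h0 f v (𝟙 S) (by rw [hf, Category.comp_id])
  exact ⟨this.1, this.2⟩

end Groth.Agent.Helper3.Rig4
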