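import Mathlib
import Groth.Agent.Helper3.Rig5
import Groth.Agent.Helper3.Fib5
import Groth.Agent.Helper2.SmoothRegSch

set_option autoImplicit false
set_option linter.style.haveILetI false
set_option linter.unusedSectionVars false
set_option linter.unusedVariables false
set_option linter.style.haveILetI false
set_option linter.unusedSectionVars false
set_option linter.unusedVariables false

open AlgebraicGeometry CategoryTheory CategoryTheory.Limits TopologicalSpace Opposite MonoidalCategory CartesianMonoidalCategory MonObj

universe u

namespace Groth.Agent.Helper3.Rig6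

open Groth.Agent.Helper5.GrpDense Groth.Agent.Helper3.AntiAffApps in
/-- global functions of a proper geometrically connected and geometrically reduced scheme over a
field are constants -/
lemma hΓ_of_geomConn_geomRed (k : Type u) [Field k] (X : Over (Spec (CommRingCat.of k)))
    [IsProper X.hom] [GeometricallyConnected X.hom] [GeometricallyReduced X.hom]
    (K : Type u) [Field K] [Algebra k K] [IsAlgClosed K] :
    Function.Bijective X.hom.appTop.hom := by
  let q : Spec (CommRingCat.of K) ⟶ Spec (CommRingCat.of k) :=
    Spec.map (CommRingCat.ofHom (algebraMap k K))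
  haveI hred : AlgebraicGeometry.IsReduced (pullback X.hom q) :=
    GeometricallyReduced.geometrically_isReduced (f := X.hom) q _ _
      (IsPullback.of_hasPullback X.hom q)
  haveI hconn : ConnectedSpace ↥(pullback X.hom q) :=
    GeometricallyConnected.geometrically_connectedSpace (f := X.hom) q _ _
      (IsPullback.of_hasPullback X.hom q)
  let XK : Over (Spec (CommRingCat.of K)) := Over.mk (pullback.snd X.hom q)
  haveI : IsProper XK.hom := by change IsProper (pullback.snd X.hom q); infer_instance
  haveI : LocallyOfFiniteType XK.hom := inferInstance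
  haveI : Nonempty XK.left := by change Nonempty ↥(pullback X.hom q); infer_instance
  obtain ⟨v₀⟩ := exists_ratPt (k := K) (X := XK)
  have hK : Function.Bijective (pullback.snd X.hom q).appTop.hom :=
    Groth.Agent.Helper3.GammaConn.bijective_appTop_of_connected K (pullback.snd X.hom q) v₀.left
      (Over.w v₀)
  haveI : Surjective q := by
    constructor
    intro y
    obtain ⟨x⟩ : Nonempty (Spec (CommRingCat.of K)) := inferInstance
    exact ⟨x, Subsingleton.elim _ _⟩
  haveI : CompactSpace X.left := by
    have : QuasiCompact X.hom := inferInstance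
    exact (quasiCompact_iff_compactSpace X.hom).mp this
  haveI : QuasiSeparatedSpace X.left := by
    have : QuasiSeparated X.hom := inferInstance
    exact (quasiSeparated_iff_quasiSeparatedSpace X.hom).mp this
  exact Groth.Agent.Helper5.GammaBC.bijective_appTop_of_bijective_of_surjective
    (IsPullback.of_hasPullback X.hom q) hK

theorem h0_of_smooth_geomConn {X S : Scheme.{u}} (ξ : X ⟶ S) [IsProper ξ] [Smooth ξ]
    [GeometricallyConnected ξ]
    (s : S) : Function.Bijective (pullback.snd ξ (S.fromSpecResidueField s)).appTop.hom := by
  let k : Type u := S.residueField s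
  let Xs : Over (Spec (CommRingCat.of k)) := Over.mk (pullback.snd ξ (S.fromSpecResidueField s))
  haveI : IsProper Xs.hom :=
    inferInstanceAs (IsProper (pullback.snd ξ (S.fromSpecResidueField s)))
  haveI : GeometricallyConnected Xs.hom :=
    inferInstanceAs (GeometricallyConnected (pullback.snd ξ (S.fromSpecResidueField s)))
  haveI : Smooth Xs.hom :=
    inferInstanceAs (Smooth (pullback.snd ξ (S.fromSpecResidueField s)))
  haveI : GeometricallyReduced Xs.hom :=
    Groth.Agent.Helper2.SmoothRegSch.geometricallyReduced_of_smooth k _ _
  exact hΓ_of_geomConn_geomRed k Xs (AlgebraicClosure k)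

open Groth.Agent.Helper3.Rig1 in
theorem main {T : Scheme.{u}} [IsLocallyNoetherian T]
    (A : Over T) [GrpObj A] [IsProper A.hom] [Smooth A.hom] [GeometricallyConnected A.hom]
    (H : Over T) [IsFinite H.hom] :
    Function.Bijective fun s : (𝟙_ (Over T) ⟶ H) => toUnit A ≫ s := by
  constructor
  · intro s s' hss'
    have h1 : η[A] ≫ toUnit A = 𝟙 _ := toUnit_unique _ _
    have := congrArg (fun w => η[A] ≫ w) hss'
    simpa only [← Category.assoc, h1, Category.id_comp] using this
  · intro g
    refine ⟨η[A] ≫ g, ?_⟩
    change toUnit A ≫ η[A] ≫ g = g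
    ext
    rw [Over.comp_left, Over.comp_left]
    have hε : η[A].left ≫ A.hom = 𝟙 T := by
      have := Over.w η[A]
      simpa using this
    haveI : IsLocallyNoetherian A.left := LocallyOfFiniteType.isLocallyNoetherian A.hom
    haveI : Flat A.hom := inferInstance
    have htu : (toUnit A).left = A.hom := by
      have := Over.w (toUnit A)
      simpa using this
    rw [htu]
    have hq : g.left ≫ H.hom = A.hom ≫ η[A].left ≫ g.left ≫ H.hom := by
      rw [Over.w g, hε, Category.comp_id]
    have hΓ : ∀ (t : T) (n : ℕ), Function.Bijective (pullback.snd A.hom (σ t n)).appTop.hom :=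
      fun t n => Rig2.hΓ_of_h0 A.hom t (h0_of_smooth_geomConn A.hom t) n
    refine (eq_of_C_eq_univ A.hom η[A].left hε g.left H.hom hq hΓ ?_).symm
    rw [Set.eq_univ_iff_forall]
    intro t x x' hx hx'
    have hconn := A.hom.isConnected_preimage_singleton t
    have hdisc := H.hom.isDiscrete_preimage_singleton t
    refine hconn.isPreconnected.constant_of_mapsTo hdisc
      g.left.continuous.continuousOn ?_ hx hx'
    intro y hy
    change H.hom (g.left y) = t
    rw [← Scheme.Hom.comp_apply, Over.w g]
    exact hy

end Groth.Agent.Helper3.Rig6
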