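import Mathlib
import Groth.Agent.Helper3.RigClosed2
set_option backward.isDefEq.respectTransparency.types false
set_option maxHeartbeats 4000000
set_option synthInstance.maxHeartbeats 400000

universe u

namespace Groth.Agent.Helper3.RigClosed3

theorem main (A : Type u) [CommRing A] [IsNoetherianRing A] (I : Ideal A) [IsAdicComplete I A]
    (B : Type u) [CommRing B] [Algebra A B] [IsNoetherianRing B]
    [IsAdicComplete (I.map (algebraMap A B)) B]
    (hft : Algebra.FiniteType A (B ⧸ (I.map (algebraMap A B)))) [Module.Flat A B]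
    (p : PrimeSpectrum A)
    (hp : (¬ I ≤ p.asIdeal ∧ ∀ y : PrimeSpectrum A, p ≤ y → ¬ I ≤ y.asIdeal → y = p)) :
    (∃ Q : PrimeSpectrum B, (I.map (algebraMap A B)) ≤ Q.asIdeal ∧
      p.asIdeal ≤ (PrimeSpectrum.comap (algebraMap A B) Q).asIdeal ∧
      (PrimeSpectrum.comap (algebraMap A B) Q).asIdeal.IsMaximal) ↔
    (∃ q : PrimeSpectrum B, (¬ (I.map (algebraMap A B)) ≤ q.asIdeal ∧
      ∀ y : PrimeSpectrum B, q ≤ y → ¬ (I.map (algebraMap A B)) ≤ y.asIdeal → y = q) ∧
      PrimeSpectrum.comap (algebraMap A B) q = p) := by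
  have hIB : ∀ m : Ideal B, m.IsMaximal → I.map (algebraMap A B) ≤ m := fun m hm =>
    (IsAdicComplete.le_jacobson_bot _).trans
      (Groth.Agent.Helper3.RigClosed.jacobson_bot_le_of_isMaximal m hm)
  constructor
  · rintro ⟨Q, hIQ, hpQ, hQmax⟩
    haveI : Algebra.HasGoingDown A B := Algebra.HasGoingDown.of_flat
    haveI := p.isPrime
    haveI := Q.isPrime
    haveI : ((PrimeSpectrum.comap (algebraMap A B) Q).asIdeal).IsPrime :=
      (PrimeSpectrum.comap (algebraMap A B) Q).isPrime
    haveI : Q.asIdeal.LiesOver (PrimeSpectrum.comap (algebraMap A B) Q).asIdeal := ⟨rfl⟩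
    obtain ⟨q₀, hq₀Q, hq₀prime, hq₀over⟩ :=
      Ideal.exists_ideal_le_liesOver_of_le (p := p.asIdeal)
        (q := (PrimeSpectrum.comap (algebraMap A B) Q).asIdeal) Q.asIdeal hpQ
    -- the set of primes above q₀ not containing IB
    let S : Set (Ideal B) := {P | P.IsPrime ∧ q₀ ≤ P ∧ ¬ I.map (algebraMap A B) ≤ P}
    have hq₀S : q₀ ∈ S := by
      refine ⟨hq₀prime, le_rfl, ?_⟩
      intro h
      apply hp.1
      rw [hq₀over.over]
      exact Ideal.map_le_iff_le_comap.mp h
    obtain ⟨q, hqS, hqmax⟩ := set_has_maximal_iff_noetherian.mpr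
      (inferInstance : IsNoetherian B B) S ⟨q₀, hq₀S⟩
    obtain ⟨hqprime, hq₀q, hIq⟩ := hqS
    refine ⟨⟨q, hqprime⟩, ⟨hIq, ?_⟩, ?_⟩
    · intro y hqy hIy
      have hyS : y.asIdeal ∈ S := ⟨y.isPrime, hq₀q.trans hqy, hIy⟩
      have hnlt := hqmax y.asIdeal hyS
      have : q = y.asIdeal := by
        by_contra hne
        exact hnlt (lt_of_le_of_ne hqy hne)
      exact PrimeSpectrum.ext this.symm
    · -- comap q = p
      apply hp.2
      · show p.asIdeal ≤ Ideal.comap (algebraMap A B) q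
        rw [hq₀over.over]
        exact Ideal.comap_mono hq₀q
      · intro h
        exact hIq (Ideal.map_le_iff_le_comap.mpr h)
  · rintro ⟨q, hq, hqp⟩
    -- the maximal ideal containing q
    obtain ⟨m, hm, hqm⟩ := Ideal.exists_le_maximal q.asIdeal q.isPrime.ne_top
    have hp' : (¬ I ≤ (PrimeSpectrum.comap (algebraMap A B) q).asIdeal ∧
        ∀ y : PrimeSpectrum A, (PrimeSpectrum.comap (algebraMap A B) q) ≤ y → ¬ I ≤ y.asIdeal →
          y = (PrimeSpectrum.comap (algebraMap A B) q)) := by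
      rw [hqp]; exact hp
    have h10 := (Groth.Agent.Helper3.RigClosed2.main_tfae A I B hft q hq).out 1 0
    have hfin : Module.Finite A (B ⧸ m) := h10.mp hp' m hm hqm
    refine ⟨⟨m, hm.isPrime⟩, hIB m hm, ?_, ?_⟩
    · rw [← hqp]
      exact Ideal.comap_mono hqm
    · haveI : Algebra.IsIntegral A (B ⧸ m) := Algebra.IsIntegral.of_finite A _
      show (m.comap (algebraMap A B)).IsMaximal
      have h1 : m.comap (algebraMap A B) =
          (⊥ : Ideal (B ⧸ m)).comap (algebraMap A (B ⧸ m)) := by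
        rw [show algebraMap A (B ⧸ m) = (Ideal.Quotient.mk m).comp (algebraMap A B) from rfl,
          ← Ideal.comap_comap]
        congr 1
        exact Ideal.mk_ker.symm
      rw [h1]
      letI : Field (B ⧸ m) := Ideal.Quotient.field m
      haveI : (⊥ : Ideal (B ⧸ m)).IsMaximal := Ideal.bot_isMaximal
      exact Ideal.isMaximal_comap_of_isIntegral_of_isMaximal (R := A) (⊥ : Ideal (B ⧸ m))

end Groth.Agent.Helper3.RigClosed3
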