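import Mathlib

set_option autoImplicit false




namespace Groth.Agent.Helper3.ZarInt

universe u

/-- every element of a field of finite type over `A` is algebraic over the image of `A`:
some multiple by an element of `A` not mapping to zero is integral over `A`. -/
theorem exists_integral_smul (A K : Type*) [CommRing A] [Field K] [Algebra A K]
    [Algebra.FiniteType A K] (x : K) :
    ∃ c : A, algebraMap A K c ≠ 0 ∧ IsIntegral A (algebraMap A K c * x) := by
  have hinj := RingHom.kerLift_injective (algebraMap A K)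
  letI : Algebra (A ⧸ RingHom.ker (algebraMap A K)) K :=
    (RingHom.kerLift (algebraMap A K)).toAlgebra
  haveI : IsScalarTower A (A ⧸ RingHom.ker (algebraMap A K)) K :=
    IsScalarTower.of_algebraMap_eq (fun x => rfl)
  haveI : (RingHom.ker (algebraMap A K)).IsPrime := RingHom.ker_isPrime _
  haveI : IsDomain (A ⧸ RingHom.ker (algebraMap A K)) := Ideal.Quotient.isDomain _
  haveI : Algebra.FiniteType (A ⧸ RingHom.ker (algebraMap A K)) K :=
    Algebra.FiniteType.of_restrictScalars_finiteType A _ K
  have hinj' : Function.Injective (algebraMap (A ⧸ RingHom.ker (algebraMap A K)) K) := hinj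
  letI : Algebra (FractionRing (A ⧸ RingHom.ker (algebraMap A K))) K :=
    (IsFractionRing.lift hinj').toAlgebra
  haveI : IsScalarTower (A ⧸ RingHom.ker (algebraMap A K))
      (FractionRing (A ⧸ RingHom.ker (algebraMap A K))) K :=
    IsScalarTower.of_algebraMap_eq (fun x => (IsFractionRing.lift_algebraMap hinj' x).symm)
  haveI : Algebra.FiniteType (FractionRing (A ⧸ RingHom.ker (algebraMap A K))) K :=
    Algebra.FiniteType.of_restrictScalars_finiteType (A ⧸ RingHom.ker (algebraMap A K)) _ K
  haveI : Module.Finite (FractionRing (A ⧸ RingHom.ker (algebraMap A K))) K :=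
    finite_of_finite_type_of_isJacobsonRing _ K
  have h1 : IsAlgebraic (FractionRing (A ⧸ RingHom.ker (algebraMap A K))) x :=
    Algebra.IsAlgebraic.isAlgebraic x
  have h2 : IsAlgebraic (A ⧸ RingHom.ker (algebraMap A K)) x :=
    (IsFractionRing.isAlgebraic_iff (A ⧸ RingHom.ker (algebraMap A K))
      (FractionRing (A ⧸ RingHom.ker (algebraMap A K))) K).mpr h1
  obtain ⟨y, hy0, hy⟩ := h2.exists_integral_multiple
  obtain ⟨c, rfl⟩ := Ideal.Quotient.mk_surjective y
  refine ⟨c, ?_, ?_⟩
  · intro h
    apply hy0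
    rw [Ideal.Quotient.eq_zero_iff_mem, RingHom.mem_ker]
    exact h
  · haveI : Algebra.IsIntegral A (A ⧸ RingHom.ker (algebraMap A K)) :=
      Algebra.IsIntegral.of_surjective (Ideal.Quotient.mkₐ A _) Ideal.Quotient.mk_surjective
    have h3 := isIntegral_trans (R := A) _ hy
    rw [Algebra.smul_def] at h3
    exact h3

theorem exists_integral_pow_mul (A K : Type*) [CommRing A] [Field K] [Algebra A K]
    [Algebra.FiniteType A K] :
    ∃ f : A, algebraMap A K f ≠ 0 ∧
      ∀ x : K, ∃ n : ℕ, IsIntegral A (algebraMap A K f ^ n * x) := by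
  classical
  obtain ⟨s, hs⟩ := (Algebra.FiniteType.out : (⊤ : Subalgebra A K).FG)
  choose c hc0 hc using exists_integral_smul A K
  refine ⟨∏ x ∈ s, c x, ?_, ?_⟩
  · rw [map_prod]
    exact Finset.prod_ne_zero_iff.mpr (fun x _ => hc0 x)
  · intro x
    have hx : x ∈ Algebra.adjoin A (s : Set K) := by rw [hs]; trivial
    induction hx using Algebra.adjoin_induction with
    | mem x hx =>
      refine ⟨1, ?_⟩
      rw [pow_one, map_prod, ← Finset.prod_erase_mul s _ hx, mul_assoc]
      refine IsIntegral.mul ?_ (hc x)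
      rw [← map_prod]
      exact isIntegral_algebraMap
    | algebraMap r =>
      exact ⟨0, by rw [pow_zero, one_mul]; exact isIntegral_algebraMap⟩
    | add x y _ _ hx hy =>
      obtain ⟨n, hn⟩ := hx
      obtain ⟨m, hm⟩ := hy
      refine ⟨n + m, ?_⟩
      have : algebraMap A K (∏ x ∈ s, c x) ^ (n + m) * (x + y) =
          algebraMap A K (∏ x ∈ s, c x) ^ m * (algebraMap A K (∏ x ∈ s, c x) ^ n * x) +
          algebraMap A K (∏ x ∈ s, c x) ^ n * (algebraMap A K (∏ x ∈ s, c x) ^ m * y) := by
        ring
      rw [this]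
      exact IsIntegral.add (IsIntegral.mul (isIntegral_algebraMap.pow m) hn)
        (IsIntegral.mul (isIntegral_algebraMap.pow n) hm)
    | mul x y _ _ hx hy =>
      obtain ⟨n, hn⟩ := hx
      obtain ⟨m, hm⟩ := hy
      refine ⟨n + m, ?_⟩
      have : algebraMap A K (∏ x ∈ s, c x) ^ (n + m) * (x * y) =
          (algebraMap A K (∏ x ∈ s, c x) ^ n * x) *
          (algebraMap A K (∏ x ∈ s, c x) ^ m * y) := by
        ring
      rw [this]
      exact IsIntegral.mul hn hm

end Groth.Agent.Helper3.ZarInt
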