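import Mathlib
import Groth.Agent.Helper3.RigClosed2
import Groth.Agent.Helper3.RigClosed
import Groth.Agent.Helper3.ComplLoc
import Groth.Agent.Helper3.ZarInt
import Groth.Agent.S0543

set_option autoImplicit false
set_option linter.style.haveILetI false
set_option linter.unusedSectionVars false

namespace Groth.Agent.Helper3.RigLoc

open TensorProduct

universe u

theorem isIntegral_of_isUnit {A S K : Type*} [CommRing A] [CommRing S] [Field K] [Algebra A S]
    [Algebra S K] [Algebra A K] [IsScalarTower A S K] (f : A) (hf : IsUnit (algebraMap A S f))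
    (x : K) (n : ℕ) (h : IsIntegral A (algebraMap A K f ^ n * x)) : IsIntegral S x := by
  have h1 : IsIntegral S (algebraMap A K f ^ n * x) := h.tower_top
  obtain ⟨u, hu⟩ := hf
  have h2 : x = algebraMap S K ((↑u⁻¹ : S) ^ n) * (algebraMap A K f ^ n * x) := by
    rw [IsScalarTower.algebraMap_apply A S K, ← hu, ← mul_assoc, ← map_pow, ← map_mul, ← mul_pow,
      Units.inv_mul, one_pow, map_one, one_mul]
  rw [h2]
  exact IsIntegral.mul isIntegral_algebraMap h1

/-- abstract step: rig-closedness of the preimage -/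
theorem step4 (A' B' : Type u) [CommRing A'] [CommRing B'] [IsNoetherianRing A'] (I' : Ideal A')
    [IsAdicComplete I' A'] [IsNoetherianRing B'] (ψ : A' →+* B') [IsAdicComplete (I'.map ψ) B']
    (hft : ((Ideal.Quotient.mk (I'.map ψ)).comp ψ).FiniteType) (Q : Ideal B') [hQ : Q.IsPrime]
    (hdim : ringKrullDim (B' ⧸ Q) = 1) (hIQ : ¬ I'.map ψ ≤ Q)
    (hres : ∀ m : Ideal B', m.IsMaximal → Q ≤ m → ((Ideal.Quotient.mk m).comp ψ).Finite) :
    (Q.comap ψ).IsPrime ∧ ¬ I' ≤ Q.comap ψ ∧ ∀ y : PrimeSpectrum A', Q.comap ψ ≤ y.asIdeal →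
      ¬ I' ≤ y.asIdeal → y.asIdeal = Q.comap ψ := by
  letI : Algebra A' B' := ψ.toAlgebra
  have hq : ¬ (I'.map (algebraMap A' B')) ≤ (⟨Q, hQ⟩ : PrimeSpectrum B').asIdeal ∧
      ∀ y : PrimeSpectrum B', (⟨Q, hQ⟩ : PrimeSpectrum B') ≤ y →
      ¬ (I'.map (algebraMap A' B')) ≤ y.asIdeal → y = ⟨Q, hQ⟩ := by
    have htfae := (Groth.Agent.Helper3.RigClosed.main B' (I'.map ψ)
      (⟨Q, hQ⟩ : PrimeSpectrum B')).out 1 0
    exact htfae.mp ⟨hdim, hIQ⟩
  have hfin : Module.Finite A' (B' ⧸ Q) := by
    refine Groth.Agent.Helper3.RigClosed2.finite_quotient A' I' B' ?_ ⟨Q, hQ⟩ hq ?_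
    · exact hft
    · intro m hm hQm
      exact hres m hm hQm
  obtain ⟨h1, h2⟩ := Groth.Agent.Helper3.RigClosed2.rigClosed_comap_of_finite A' I' B' ⟨Q, hQ⟩ hq hfin
  refine ⟨Ideal.comap_isPrime ψ Q, h1, ?_⟩
  intro y hy hIy
  exact congrArg PrimeSpectrum.asIdeal (h2 y hy hIy)

section Compl

variable {R : Type u} [CommRing R] [IsNoetherianRing R] (a : Ideal R)

theorem complete_map :
    IsAdicComplete (a.map (algebraMap R (AdicCompletion a R))) (AdicCompletion a R) := by
  haveI : IsAdicComplete a (AdicCompletion a R) :=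
    AdicCompletion.isAdicComplete (I := a) (M := R) (Ideal.fg_of_isNoetherianRing a)
  exact (IsAdicComplete.map_algebraMap_iff (R := R) (S := AdicCompletion a R) (I := a)
    (M := AdicCompletion a R)).mpr inferInstance

theorem exists_of_sub_mem (x : AdicCompletion a R) :
    ∃ r : R, x - algebraMap R (AdicCompletion a R) r ∈
      a.map (algebraMap R (AdicCompletion a R)) := by
  obtain ⟨r, hr⟩ := Ideal.Quotient.mk_surjective (AdicCompletion.evalOneₐ a x)
  refine ⟨r, ?_⟩
  rw [← AdicCompletion.ker_evalOneₐ_eq_map a (Ideal.fg_of_isNoetherianRing a), RingHom.mem_ker,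
    map_sub]
  have : (AdicCompletion.evalOneₐ a).toRingHom (algebraMap R (AdicCompletion a R) r) =
      Ideal.Quotient.mk a r := AdicCompletion.evalOneₐ_of a r
  rw [this, hr]
  exact sub_self _

end Compl

theorem complLoc_main' (A : Type u) [CommRing A] [IsNoetherianRing A] (I : Ideal A)
    [IsAdicComplete I A] (p : Ideal A) [p.IsPrime] (f : A)
    (hf : IsUnit (Ideal.Quotient.mk p f)) (a : Ideal (Localization.Away f))
    (ha : a = I.map (algebraMap A (Localization.Away f))) :
    (p.map (algebraMap A (AdicCompletion a (Localization.Away f)))).IsPrime ∧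
      Function.Bijective (Ideal.quotientMap (p.map (algebraMap A (AdicCompletion a
        (Localization.Away f)))) (algebraMap A (AdicCompletion a (Localization.Away f)))
        Ideal.le_comap_map) := by
  subst ha
  exact Groth.Agent.Helper3.ComplLoc.main A I p f hf

section Step5

variable (A : Type u) [CommRing A] [IsNoetherianRing A] (I : Ideal A) [IsAdicComplete I A]
  (B : Type u) [CommRing B] [Algebra A B] [IsNoetherianRing B] (J : Ideal B)
  (hJ : J = I.map (algebraMap A B)) [IsAdicComplete J B]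
  (hft : Algebra.FiniteType A (B ⧸ J)) (q : Ideal B) [q.IsPrime]
  (hdim : ringKrullDim (B ⧸ q) = 1) (hJq : ¬ J ≤ q)
  (mB : Ideal B) [mB.IsMaximal] (hqm : q ≤ mB)
  (huniq : ∀ m : Ideal B, m.IsMaximal → q ≤ m → m = mB)
  (f : A) (hunit : IsUnit (Ideal.Quotient.mk q (algebraMap A B f)))
  (hfint : ∀ x : B ⧸ mB, ∃ n : ℕ, IsIntegral A (algebraMap A (B ⧸ mB) f ^ n * x))
  (aA : Ideal (Localization.Away f)) (haA : aA = I.map (algebraMap A _))
  (aB : Ideal (Localization.Away (algebraMap A B f))) (haB : aB = J.map (algebraMap B _))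

include hJ hft hdim hJq hqm huniq hunit hfint haA haB

local notation "RA" => Localization.Away f
local notation "RB" => Localization.Away (algebraMap A B f)
local notation "Â" => AdicCompletion aA (Localization.Away f)
local notation "B̂" => AdicCompletion aB (Localization.Away (algebraMap A B f))

theorem step5 (ψ : Â →+* B̂)
    (hψ : ψ.comp (algebraMap RA Â) =
      (algebraMap RB B̂).comp (Localization.awayMap (algebraMap A B) f)) :
    ((q.map (algebraMap B B̂)).comap ψ).IsPrime ∧
    ¬ (I.map (algebraMap A Â)) ≤ ((q.map (algebraMap B B̂)).comap ψ) ∧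
    ∀ y : PrimeSpectrum Â, ((q.map (algebraMap B B̂)).comap ψ) ≤ y.asIdeal →
      ¬ (I.map (algebraMap A Â)) ≤ y.asIdeal →
      y.asIdeal = ((q.map (algebraMap B B̂)).comap ψ) := by
  -- compatibility on A
  have hcomp : ∀ x : A, ψ (algebraMap A Â x) = algebraMap B B̂ (algebraMap A B x) := by
    intro x
    have h1 := RingHom.congr_fun hψ (algebraMap A RA x)
    rw [RingHom.comp_apply, RingHom.comp_apply, Localization.awayMap,
      IsLocalization.Away.map, IsLocalization.map_eq] at h1
    exact h1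
  obtain ⟨I', hI'⟩ : ∃ I' : Ideal Â, I' = I.map (algebraMap A Â) := ⟨_, rfl⟩
  obtain ⟨J', hJ'⟩ : ∃ J' : Ideal B̂, J' = aB.map (algebraMap RB B̂) := ⟨_, rfl⟩
  have hI'a : I' = aA.map (algebraMap RA Â) := by rw [hI', haA, Ideal.map_map]; rfl
  have hJB : J.map (algebraMap B B̂) = J' := by
    rw [hJ', haB, Ideal.map_map]; rfl
  have hI'ψ : I'.map ψ = J' := by
    rw [hI', ← hJB, hJ, Ideal.map_map, Ideal.map_map]
    congr 1
    exact RingHom.ext hcomp
  haveI : IsNoetherianRing Â := Groth.Agent.S0543.result RA aA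
  haveI : IsNoetherianRing B̂ := Groth.Agent.S0543.result RB aB
  haveI : IsAdicComplete I' Â := by rw [hI'a]; exact complete_map aA
  haveI : IsAdicComplete (I'.map ψ) B̂ := by rw [hI'ψ, hJ']; exact complete_map aB
  obtain ⟨hQprime, hbij⟩ := complLoc_main' B J q (algebraMap A B f) hunit aB haB
  rw [← hI']
  refine step4 Â B̂ I' ψ ?hft (q.map (algebraMap B B̂)) ?hdim ?hIQ ?hres
  case hdim =>
    rw [← ringKrullDim_eq_of_ringEquiv (RingEquiv.ofBijective _ hbij)]
    exact hdim
  case hIQ =>
    rw [hI'ψ, ← hJB]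
    intro h
    apply hJq
    intro j hj
    have h1 : algebraMap B B̂ j ∈ q.map (algebraMap B B̂) := h (Ideal.mem_map_of_mem _ hj)
    have h2 : Ideal.quotientMap (q.map (algebraMap B B̂)) (algebraMap B B̂) Ideal.le_comap_map
        (Ideal.Quotient.mk q j) = 0 := by
      rw [Ideal.quotientMap_mk, Ideal.Quotient.eq_zero_iff_mem]
      exact h1
    have h3 := hbij.1 (h2.trans (map_zero _).symm)
    exact Ideal.Quotient.eq_zero_iff_mem.mp h3
  case hft =>
    apply RingHom.FiniteType.of_comp_finiteType (f := algebraMap A Â)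
    have hle2 : J ≤ aB.comap (algebraMap B RB) := by rw [haB]; exact Ideal.le_comap_map
    have hle3 : aB ≤ (I'.map ψ).comap (algebraMap RB B̂) := by
      rw [hI'ψ, hJ']; exact Ideal.le_comap_map
    have h1 : (algebraMap A (B ⧸ J)).FiniteType := RingHom.finiteType_algebraMap.mpr hft
    have h2 : (Ideal.quotientMap aB (algebraMap B RB) hle2).FiniteType := by
      apply RingHom.FiniteType.of_comp_finiteType (f := Ideal.Quotient.mk J)
      have : (Ideal.quotientMap aB (algebraMap B RB) hle2).comp (Ideal.Quotient.mk J) =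
          (Ideal.Quotient.mk aB).comp (algebraMap B RB) := by ext x; rfl
      rw [this]
      exact (RingHom.FiniteType.of_surjective _ Ideal.Quotient.mk_surjective).comp
        (RingHom.finiteType_algebraMap.mpr inferInstance)
    have h3 : (Ideal.quotientMap (I'.map ψ) (algebraMap RB B̂) hle3).FiniteType := by
      apply RingHom.FiniteType.of_surjective
      intro y
      obtain ⟨x, rfl⟩ := Ideal.Quotient.mk_surjective y
      obtain ⟨r, hr⟩ := exists_of_sub_mem aB x
      refine ⟨Ideal.Quotient.mk aB r, ?_⟩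
      rw [Ideal.quotientMap_mk, eq_comm, Ideal.Quotient.eq, hI'ψ, hJ']
      exact hr
    have h4 := (h3.comp h2).comp h1
    convert h4 using 1
    ext x
    show Ideal.Quotient.mk _ (ψ (algebraMap A Â x)) = _
    rw [hcomp x]
    rfl
  case hres =>
    intro m hm hQm
    have hJm : J ≤ mB :=
      (IsAdicComplete.le_jacobson_bot J).trans (sInf_le ⟨bot_le, inferInstance⟩)
    have hftm : Algebra.FiniteType A (B ⧸ mB) :=
      Algebra.FiniteType.of_surjective (Ideal.Quotient.factorₐ A hJm)
        (Ideal.Quotient.factor_surjective hJm)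
    letI : Field (B̂ ⧸ m) := Ideal.Quotient.field m
    obtain ⟨θ, hθ⟩ : ∃ θ : B →+* B̂ ⧸ m,
      θ = (Ideal.Quotient.mk m).comp (algebraMap B B̂) := ⟨_, rfl⟩
    have hθsurj : Function.Surjective θ := by
      intro y
      obtain ⟨x', rfl⟩ := Ideal.Quotient.mk_surjective y
      obtain ⟨b', hb'⟩ := hbij.2 (Ideal.Quotient.mk _ x')
      obtain ⟨b, rfl⟩ := Ideal.Quotient.mk_surjective b'
      refine ⟨b, ?_⟩
      rw [hθ, RingHom.comp_apply, Ideal.Quotient.eq]
      apply hQm
      rw [Ideal.quotientMap_mk] at hb'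
      exact Ideal.Quotient.eq.mp hb'
    have hker : RingHom.ker θ = mB := by
      apply huniq _ (RingHom.ker_isMaximal_of_surjective θ hθsurj)
      intro b hb
      rw [RingHom.mem_ker, hθ, RingHom.comp_apply, Ideal.Quotient.eq_zero_iff_mem]
      exact hQm (Ideal.mem_map_of_mem _ hb)
    obtain ⟨σ, hσ⟩ : ∃ σ : B ⧸ mB →+* B̂ ⧸ m, ∀ b, σ (Ideal.Quotient.mk mB b) = θ b :=
      ⟨Ideal.Quotient.lift mB θ (fun b hb => by rw [← RingHom.mem_ker, hker]; exact hb),
        fun b => rfl⟩
    have hσsurj : Function.Surjective σ := by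
      intro y; obtain ⟨b, rfl⟩ := hθsurj y; exact ⟨_, hσ b⟩
    have hρcomp : ((Ideal.Quotient.mk m).comp ψ).comp (algebraMap A Â) =
        σ.comp (algebraMap A (B ⧸ mB)) := by
      ext x
      show Ideal.Quotient.mk m (ψ (algebraMap A Â x)) =
        σ (Ideal.Quotient.mk mB (algebraMap A B x))
      rw [hcomp x, hσ, hθ]; rfl
    apply RingHom.IsIntegral.to_finite
    · intro x'
      obtain ⟨x, rfl⟩ := hσsurj x'
      obtain ⟨n, hn⟩ := hfint x
      have h1 : (σ.comp (algebraMap A (B ⧸ mB))).IsIntegralElem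
          (σ (algebraMap A (B ⧸ mB) f ^ n * x)) := RingHom.IsIntegralElem.map hn σ
      rw [← hρcomp] at h1
      have h2 := RingHom.IsIntegralElem.of_comp h1
      have hu : IsUnit (algebraMap A Â f) := by
        have : algebraMap A Â f = algebraMap RA Â (algebraMap A RA f) := rfl
        rw [this]
        exact (IsLocalization.Away.algebraMap_isUnit f).map _
      obtain ⟨u, hu⟩ := hu
      rw [map_mul, map_pow, mul_comm] at h2
      refine RingHom.IsIntegralElem.of_mul_unit _ (σ x) (σ (algebraMap A (B ⧸ mB) f) ^ n)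
        ((↑u⁻¹ : Â) ^ n) ?_ h2
      have : σ (algebraMap A (B ⧸ mB) f) =
          ((Ideal.Quotient.mk m).comp ψ) (algebraMap A Â f) := (RingHom.congr_fun hρcomp f).symm
      rw [this, ← hu, map_pow, ← mul_pow, ← map_mul, Units.inv_mul, map_one, one_pow]
    · apply RingHom.FiniteType.of_comp_finiteType (f := algebraMap A Â)
      rw [hρcomp]
      exact (RingHom.FiniteType.of_surjective σ hσsurj).comp
        (RingHom.finiteType_algebraMap.mpr hftm)

end Step5

theorem main (A : Type u) [CommRing A] [IsNoetherianRing A] (I : Ideal A) [IsAdicComplete I A] (B : Type u) [CommRing B] [Algebra A B] [IsNoetherianRing B] [IsAdicComplete (I.map (algebraMap A B)) B] (hft : Algebra.FiniteType A (B ⧸ (I.map (algebraMap A B)))) (q : PrimeSpectrum B) (hq : (¬ (I.map (algebraMap A B)) ≤ q.asIdeal ∧ ∀ y : PrimeSpectrum B, q ≤ y → ¬ (I.map (algebraMap A B)) ≤ y.asIdeal → y = q)) : ∃ f : A, IsUnit (Ideal.Quotient.mk q.asIdeal (algebraMap A B f)) ∧ ∀ ψ : (AdicCompletion (I.map (algebraMap A (Localization.Away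 f))) (Localization.Away f)) →+* (AdicCompletion ((I.map (algebraMap A B)).map (algebraMap B (Localization.Away (algebraMap A B f)))) (Localization.Away (algebraMap A B f))), ψ.comp (algebraMap (Localization.Away f) (AdicCompletion (I.map (algebraMap A (Localization.Away f))) (Localization.Away f))) = (algebraMap (Localization.Away (algebraMap A B f)) (AdicCompletion ((I.map (algebraMap A B)).map (algebraMap B (Localization.Away (algebraMap A B f)))) (Localization.Away (algebraMap A B f)))).comp (Localization.awayMap (algebraMap A B) f) → (((q.asIdeal.map (algebraMap B (AdicCompletion ((I.map (algebraMap A B)).map (algebraMap B (Localization.Away (algebraMap A B f)))) (Localization.Away (algebraMap A B f))))).comap ψ).IsPrime ∧ ¬ (I.map (algebraMap A (AdicCompletion (I.map (algebraMap A (Localization.Away f))) (Localization.Away f)))) ≤ ((q.asIdeal.map (algebraMap B (AdicCompletion ((I.map (algebraMap A B)).map (algebraMap B (Localization.Away (algebraMap A B f)))) (Localization.Away (algebraMap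 A B f))))).comap ψ) ∧ ∀ y : PrimeSpectrum (AdicCompletion (I.map (algebraMap A (Localization.Away f))) (Localization.Away f)), ((q.asIdeal.map (algebraMap B (AdicCompletion ((I.map (algebraMap A B)).map (algebraMap B (Localization.Away (algebraMap A B f)))) (Localization.Away (algebraMap A B f))))).comap ψ) ≤ y.asIdeal → ¬ (I.map (algebraMap A (AdicCompletion (I.map (algebraMap A (Localization.Away f))) (Localization.Away f)))) ≤ y.asIdeal → y.asIdeal = ((q.asIdeal.map (algebraMap B (AdicCompletion ((I.map (algebraMap A B)).map (algebraMap B (Localization.Away (algebraMap A B f)))) (Localization.Away (algebraMap A B f))))).comap ψ)) := by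
  obtain ⟨J, hJ⟩ : ∃ J : Ideal B, J = I.map (algebraMap A B) := ⟨_, rfl⟩
  haveI : IsAdicComplete J B := hJ ▸ inferInstance
  rw [← hJ] at hq hft
  have htfae := (Groth.Agent.Helper3.RigClosed.main B J q).out 0 2
  obtain ⟨hdim, hmax, -⟩ := htfae.mp hq
  obtain ⟨n, hn⟩ : ∃ n : Ideal (B ⧸ q.asIdeal),
    n = (J.map (Ideal.Quotient.mk q.asIdeal)).radical := ⟨_, rfl⟩
  rw [← hn] at hmax
  haveI : Nontrivial (B ⧸ q.asIdeal) := Ideal.Quotient.nontrivial_iff.mpr q.isPrime.ne_top
  obtain ⟨M, hM⟩ := Ideal.exists_maximal (B ⧸ q.asIdeal)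
  have hnmax : n.IsMaximal := by rw [← hmax M hM]; exact hM
  obtain ⟨mB, hmB⟩ : ∃ mB : Ideal B, mB = n.comap (Ideal.Quotient.mk q.asIdeal) := ⟨_, rfl⟩
  haveI hmBmax : mB.IsMaximal :=
    hmB ▸ Ideal.comap_isMaximal_of_surjective _ Ideal.Quotient.mk_surjective
  have hqm : q.asIdeal ≤ mB := by
    rw [hmB]
    conv_lhs => rw [← Ideal.mk_ker (I := q.asIdeal)]
    exact Ideal.comap_mono bot_le
  have huniq : ∀ m : Ideal B, m.IsMaximal → q.asIdeal ≤ m → m = mB := by
    intro m hm hqm'
    have hker : RingHom.ker (Ideal.Quotient.mk q.asIdeal) ≤ m := by rw [Ideal.mk_ker]; exact hqm'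
    have h1 := Ideal.map_eq_top_or_isMaximal_of_surjective (Ideal.Quotient.mk q.asIdeal)
      Ideal.Quotient.mk_surjective hm
    have h2 : m.map (Ideal.Quotient.mk q.asIdeal) ≠ ⊤ := by
      intro h
      have h3 := congrArg (Ideal.comap (Ideal.Quotient.mk q.asIdeal)) h
      rw [Ideal.comap_map_of_surjective _ Ideal.Quotient.mk_surjective, Ideal.comap_top,
        show (⊥ : Ideal (B ⧸ q.asIdeal)).comap (Ideal.Quotient.mk q.asIdeal) = q.asIdeal
          from Ideal.mk_ker, sup_eq_left.mpr hqm'] at h3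
      exact hm.ne_top h3
    have h4 := hmax _ (h1.resolve_left h2)
    rw [hmB, ← h4, Ideal.comap_map_of_surjective _ Ideal.Quotient.mk_surjective,
      show (⊥ : Ideal (B ⧸ q.asIdeal)).comap (Ideal.Quotient.mk q.asIdeal) = q.asIdeal
        from Ideal.mk_ker, sup_eq_left.mpr hqm']
  have hJm : J ≤ mB :=
    (IsAdicComplete.le_jacobson_bot J).trans (sInf_le ⟨bot_le, hmBmax⟩)
  letI : Field (B ⧸ mB) := Ideal.Quotient.field mB
  haveI hftm : Algebra.FiniteType A (B ⧸ mB) :=
    Algebra.FiniteType.of_surjective (Ideal.Quotient.factorₐ A hJm)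
      (Ideal.Quotient.factor_surjective hJm)
  obtain ⟨f, hf0, hfint⟩ := Groth.Agent.Helper3.ZarInt.exists_integral_pow_mul A (B ⧸ mB)
  have hunit : IsUnit (Ideal.Quotient.mk q.asIdeal (algebraMap A B f)) := by
    by_contra hnu
    obtain ⟨M', hM', hmem⟩ := exists_max_ideal_of_mem_nonunits hnu
    rw [hmax M' hM'] at hmem
    apply hf0
    show Ideal.Quotient.mk mB (algebraMap A B f) = 0
    rw [Ideal.Quotient.eq_zero_iff_mem, hmB]
    exact hmem
  refine ⟨f, hunit, ?_⟩
  intro ψ hψ
  haveI := q.isPrime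
  subst hJ
  exact step5 A I B _ rfl hft q.asIdeal hdim hq.1 mB hqm huniq f hunit hfint _ rfl _ rfl ψ hψ

end Groth.Agent.Helper3.RigLoc
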