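import Mathlib
import Groth.Agent.Helper3.RigLoc

set_option autoImplicit false
set_option linter.style.haveILetI false
set_option linter.unusedSectionVars false

namespace Groth.Agent.Helper3.RigPoly

open TensorProduct

universe u

/-- local lemma: a flat local homomorphism `λ : L' → L` with `m_L = m_{L'} L` which is surjective
modulo `m_L` is bijective modulo all powers. -/
theorem local_step {L' L : Type*} [CommRing L'] [CommRing L] [IsLocalRing L'] [IsLocalRing L]
    (lam : L' →+* L) [IsLocalHom lam] (hflat : lam.Flat)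
    (hmax : (IsLocalRing.maximalIdeal L').map lam = IsLocalRing.maximalIdeal L)
    (hsurj : ∀ y : L, ∃ x : L', y - lam x ∈ IsLocalRing.maximalIdeal L) (m : ℕ) :
    (∀ x : L', lam x ∈ IsLocalRing.maximalIdeal L ^ m → x ∈ IsLocalRing.maximalIdeal L' ^ m) ∧
    (∀ y : L, ∃ x : L', y - lam x ∈ IsLocalRing.maximalIdeal L ^ m) := by
  constructor
  · intro x hx
    letI : Algebra L' L := lam.toAlgebra
    haveI : Module.Flat L' L := hflat
    haveI : IsLocalHom (algebraMap L' L) := ‹IsLocalHom lam›
    haveI : Module.FaithfullyFlat L' L := Module.FaithfullyFlat.of_flat_of_isLocalHom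
    rw [← Ideal.comap_map_eq_self_of_faithfullyFlat (B := L) (IsLocalRing.maximalIdeal L' ^ m),
      Ideal.mem_comap, Ideal.map_pow]
    show lam x ∈ (Ideal.map lam (IsLocalRing.maximalIdeal L')) ^ m
    rw [hmax]
    exact hx
  · induction m with
    | zero => intro y; exact ⟨0, by simp⟩
    | succ k ih =>
      -- key claim: elements of m_L are approximated by elements of m_{L'}
      have key : ∀ z ∈ (IsLocalRing.maximalIdeal L').map lam,
          ∃ x ∈ IsLocalRing.maximalIdeal L', z - lam x ∈ IsLocalRing.maximalIdeal L ^ (k + 1) := by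
        intro z hz
        induction hz using Submodule.span_induction with
        | mem z hz =>
          obtain ⟨μ, hμ, rfl⟩ := hz
          exact ⟨μ, hμ, by simp⟩
        | zero => exact ⟨0, Ideal.zero_mem _, by simp⟩
        | add z w _ _ hz hw =>
          obtain ⟨x, hx, hxz⟩ := hz
          obtain ⟨x', hx', hxw⟩ := hw
          refine ⟨x + x', Ideal.add_mem _ hx hx', ?_⟩
          have : z + w - lam (x + x') = (z - lam x) + (w - lam x') := by rw [map_add]; ring
          rw [this]
          exact Ideal.add_mem _ hxz hxw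
        | smul l z _ hz =>
          obtain ⟨xz, hxz, hz'⟩ := hz
          obtain ⟨xl, hl⟩ := ih l
          refine ⟨xl * xz, Ideal.mul_mem_left _ _ hxz, ?_⟩
          have : l • z - lam (xl * xz) = l * (z - lam xz) + (l - lam xl) * lam xz := by
            rw [map_mul, smul_eq_mul]; ring
          rw [this]
          refine Ideal.add_mem _ (Ideal.mul_mem_left _ _ hz') ?_
          rw [pow_succ]
          refine Ideal.mul_mem_mul hl ?_
          rw [← hmax]
          exact Ideal.mem_map_of_mem _ hxz
      intro y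
      obtain ⟨x0, hx0⟩ := hsurj y
      rw [← hmax] at hx0
      obtain ⟨x1, -, hx1⟩ := key _ hx0
      refine ⟨x0 + x1, ?_⟩
      have : y - lam (x0 + x1) = (y - lam x0) - lam x1 := by rw [map_add]; ring
      rw [this]
      exact hx1

section Abstract

variable (A : Type u) [CommRing A] [IsNoetherianRing A] (I : Ideal A) [IsAdicComplete I A]
    (R : Type u) [CommRing R] [Algebra A R] [IsNoetherianRing R] [Algebra.FiniteType A R]
    (a : Ideal R) (ha : a = I.map (algebraMap A R))

local notation "R̂" => AdicCompletion a R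

include ha

theorem abstract_data (q : PrimeSpectrum R̂)
    (hq : ¬ (I.map (algebraMap A R̂)) ≤ q.asIdeal ∧ ∀ y : PrimeSpectrum R̂, q ≤ y →
      ¬ (I.map (algebraMap A R̂)) ≤ y.asIdeal → y = q)
    (hp : ¬ I ≤ (PrimeSpectrum.comap (algebraMap A R̂) q).asIdeal ∧ ∀ y : PrimeSpectrum A,
      (PrimeSpectrum.comap (algebraMap A R̂) q) ≤ y → ¬ I ≤ y.asIdeal →
        y = (PrimeSpectrum.comap (algebraMap A R̂) q)) :
    (Localization.localRingHom (PrimeSpectrum.comap (algebraMap R R̂) q).asIdeal q.asIdeal
        (algebraMap R R̂) rfl).Flat ∧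
    (IsLocalRing.maximalIdeal
        (Localization.AtPrime (PrimeSpectrum.comap (algebraMap R R̂) q).asIdeal)).map
      (Localization.localRingHom (PrimeSpectrum.comap (algebraMap R R̂) q).asIdeal q.asIdeal
        (algebraMap R R̂) rfl) = IsLocalRing.maximalIdeal (Localization.AtPrime q.asIdeal) ∧
    (∀ y : Localization.AtPrime q.asIdeal,
      ∃ x : Localization.AtPrime (PrimeSpectrum.comap (algebraMap R R̂) q).asIdeal,
        y - Localization.localRingHom (PrimeSpectrum.comap (algebraMap R R̂) q).asIdeal q.asIdeal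
          (algebraMap R R̂) rfl x ∈ IsLocalRing.maximalIdeal (Localization.AtPrime q.asIdeal)) := by
  haveI : IsNoetherianRing R̂ := Groth.Agent.S0543.result R a
  have hIR : I.map (algebraMap A R̂) = a.map (algebraMap R R̂) := by
    rw [ha, Ideal.map_map]; rfl
  haveI : IsAdicComplete (I.map (algebraMap A R̂)) R̂ := by
    rw [hIR]; exact Groth.Agent.Helper3.RigLoc.complete_map a
  haveI : IsScalarTower A R R̂ := IsScalarTower.of_algebraMap_eq (fun x => rfl)
  have hft : Algebra.FiniteType A (R̂ ⧸ I.map (algebraMap A R̂)) := by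
    have hs : Function.Surjective ((Ideal.Quotient.mkₐ A (I.map (algebraMap A R̂))).comp
        (IsScalarTower.toAlgHom A R R̂)) := by
      intro y
      obtain ⟨x, rfl⟩ := Ideal.Quotient.mk_surjective y
      obtain ⟨r, hr⟩ := Groth.Agent.Helper3.RigLoc.exists_of_sub_mem a x
      refine ⟨r, ?_⟩
      show Ideal.Quotient.mk _ (algebraMap R R̂ r) = _
      rw [eq_comm, Ideal.Quotient.eq, hIR]
      exact hr
    exact Algebra.FiniteType.of_surjective _ hs
  have hfinq : Module.Finite A (R̂ ⧸ q.asIdeal) := by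
    have h12 := (Groth.Agent.Helper3.RigClosed2.main_tfae A I R̂ hft q hq).out 1 2
    exact h12.mp hp
  obtain ⟨q', hq'⟩ : ∃ q' : Ideal R, q' = q.asIdeal.comap (algebraMap R R̂) := ⟨_, rfl⟩
  haveI hq'prime : q'.IsPrime := hq' ▸ Ideal.comap_isPrime _ _
  have hle : q'.map (algebraMap R R̂) ≤ q.asIdeal := by
    rw [Ideal.map_le_iff_le_comap, hq']
  -- R/q' is finite over A
  haveI hfinq' : Module.Finite A (R ⧸ q') := by
    let g : (R ⧸ q') →ₐ[A] (R̂ ⧸ q.asIdeal) :=
      Ideal.quotientMapₐ q.asIdeal (IsScalarTower.toAlgHom A R R̂) (le_of_eq hq')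
    have hg : Function.Injective g := by
      rw [injective_iff_map_eq_zero]
      intro x hx
      obtain ⟨r, rfl⟩ := Ideal.Quotient.mk_surjective x
      have hx' : Ideal.Quotient.mk q.asIdeal (algebraMap R R̂ r) = 0 := hx
      rw [Ideal.Quotient.eq_zero_iff_mem] at hx' ⊢
      rw [hq']
      exact hx'
    exact Module.Finite.of_injective g.toLinearMap hg
  haveI : IsPrecomplete I (R ⧸ q') :=
    Groth.Agent.Helper5.ComplDVR.isPrecomplete_of_finite I _
  haveI : IsHausdorff I (R ⧸ q') :=
    IsHausdorff.of_le_jacobson I _ (IsAdicComplete.le_jacobson_bot I)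
  haveI : IsAdicComplete I (R ⧸ q') := { }
  haveI hcompl : IsAdicComplete a (R ⧸ q') := by
    rw [ha]
    exact (IsAdicComplete.map_algebraMap_iff (R := A) (S := R) (I := I)
      (M := R ⧸ q')).mpr inferInstance
  have hmemq : ∀ r : R, algebraMap R R̂ r ∈ q.asIdeal → r ∈ q' := by
    intro r hr; rw [hq']; exact hr
  have hqeq : q.asIdeal = q'.map (algebraMap R R̂) := by
    apply le_antisymm _ hle
    intro x hx
    obtain ⟨r, hr⟩ := Groth.Agent.Helper3.ComplLoc.exists_sub_mem a q' x
    have hrq : algebraMap R R̂ r ∈ q.asIdeal := by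
      have := q.asIdeal.sub_mem hx (hle hr)
      simpa using this
    have : x = (x - algebraMap R R̂ r) + algebraMap R R̂ r := by ring
    rw [this]
    exact Ideal.add_mem _ hr (Ideal.mem_map_of_mem _ (hmemq r hrq))
  subst hq'
  have hflat : (Localization.localRingHom (PrimeSpectrum.comap (algebraMap R R̂) q).asIdeal
      q.asIdeal (algebraMap R R̂) rfl).Flat :=
    RingHom.Flat.localRingHom (RingHom.flat_algebraMap_iff.mpr inferInstance) q.asIdeal _ rfl
  refine ⟨hflat, ?hmax, ?hsurj⟩
  case hmax =>
    rw [← Localization.AtPrime.map_eq_maximalIdeal, ← Localization.AtPrime.map_eq_maximalIdeal,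
      Ideal.map_map]
    have h1 := congrArg (Ideal.map (algebraMap R̂ (Localization.AtPrime q.asIdeal))) hqeq
    rw [h1, Ideal.map_map]
    congr 1
    ext r
    exact Localization.localRingHom_to_map _ _ _ rfl r
  case hsurj =>
    intro y
    obtain ⟨x, ⟨s, hs⟩, rfl⟩ := IsLocalization.exists_mk'_eq q.asIdeal.primeCompl y
    obtain ⟨r, hr⟩ := Groth.Agent.Helper3.ComplLoc.exists_sub_mem a
      (q.asIdeal.comap (algebraMap R R̂)) x
    obtain ⟨t, ht⟩ := Groth.Agent.Helper3.ComplLoc.exists_sub_mem a
      (q.asIdeal.comap (algebraMap R R̂)) s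
    have htq : algebraMap R R̂ t ∉ q.asIdeal := by
      intro h
      apply hs
      have : s = (s - algebraMap R R̂ t) + algebraMap R R̂ t := by ring
      rw [this]
      exact Ideal.add_mem _ (hle ht) h
    have ht' : t ∈ (PrimeSpectrum.comap (algebraMap R R̂) q).asIdeal.primeCompl := htq
    refine ⟨IsLocalization.mk' _ r ⟨t, ht'⟩, ?_⟩
    rw [Localization.localRingHom_mk']
    have h1 := IsLocalization.mk'_spec (Localization.AtPrime q.asIdeal) x ⟨s, hs⟩
    have h2 := IsLocalization.mk'_spec (Localization.AtPrime q.asIdeal) (algebraMap R R̂ r)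
      (⟨algebraMap R R̂ t, htq⟩ : q.asIdeal.primeCompl)
    simp only at h1 h2
    have h3 : (IsLocalization.mk' (Localization.AtPrime q.asIdeal) x ⟨s, hs⟩ -
        IsLocalization.mk' (Localization.AtPrime q.asIdeal) (algebraMap R R̂ r)
          (⟨algebraMap R R̂ t, htq⟩ : q.asIdeal.primeCompl)) *
        (algebraMap R̂ (Localization.AtPrime q.asIdeal) s *
          algebraMap R̂ (Localization.AtPrime q.asIdeal) (algebraMap R R̂ t)) =
        algebraMap R̂ (Localization.AtPrime q.asIdeal)
          (x * algebraMap R R̂ t - algebraMap R R̂ r * s) := by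
      rw [map_sub, map_mul, map_mul]
      linear_combination (algebraMap R̂ (Localization.AtPrime q.asIdeal) (algebraMap R R̂ t)) * h1 -
        (algebraMap R̂ (Localization.AtPrime q.asIdeal) s) * h2
    have h4 : x * algebraMap R R̂ t - algebraMap R R̂ r * s ∈ q.asIdeal := by
      have : x * algebraMap R R̂ t - algebraMap R R̂ r * s =
          (x - algebraMap R R̂ r) * algebraMap R R̂ t -
            algebraMap R R̂ r * (s - algebraMap R R̂ t) := by ring
      rw [this]
      exact Ideal.sub_mem _ (Ideal.mul_mem_right _ _ (hle hr)) (Ideal.mul_mem_left _ _ (hle ht))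
    have h5 : algebraMap R̂ (Localization.AtPrime q.asIdeal)
        (x * algebraMap R R̂ t - algebraMap R R̂ r * s) ∈
        IsLocalRing.maximalIdeal (Localization.AtPrime q.asIdeal) :=
      (IsLocalization.AtPrime.to_map_mem_maximal_iff _ q.asIdeal _).mpr h4
    rw [← h3] at h5
    have hu : IsUnit (algebraMap R̂ (Localization.AtPrime q.asIdeal) s *
        algebraMap R̂ (Localization.AtPrime q.asIdeal) (algebraMap R R̂ t)) :=
      (IsLocalization.map_units _ (⟨s, hs⟩ : q.asIdeal.primeCompl)).mul
        (IsLocalization.map_units _ (⟨algebraMap R R̂ t, htq⟩ : q.asIdeal.primeCompl))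
    exact (Ideal.IsPrime.mem_or_mem inferInstance h5).resolve_right
      (fun h => (IsLocalRing.maximalIdeal.isMaximal _).ne_top (Ideal.eq_top_of_isUnit_mem _ h hu))


theorem abstract (q : PrimeSpectrum R̂)
    (hq : ¬ (I.map (algebraMap A R̂)) ≤ q.asIdeal ∧ ∀ y : PrimeSpectrum R̂, q ≤ y →
      ¬ (I.map (algebraMap A R̂)) ≤ y.asIdeal → y = q)
    (hp : ¬ I ≤ (PrimeSpectrum.comap (algebraMap A R̂) q).asIdeal ∧ ∀ y : PrimeSpectrum A,
      (PrimeSpectrum.comap (algebraMap A R̂) q) ≤ y → ¬ I ≤ y.asIdeal →
        y = (PrimeSpectrum.comap (algebraMap A R̂) q))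
    (m : ℕ) :
    (∀ x : Localization.AtPrime (PrimeSpectrum.comap (algebraMap R R̂) q).asIdeal,
      Localization.localRingHom (PrimeSpectrum.comap (algebraMap R R̂) q).asIdeal q.asIdeal
        (algebraMap R R̂) rfl x ∈ IsLocalRing.maximalIdeal (Localization.AtPrime q.asIdeal) ^ m →
      x ∈ IsLocalRing.maximalIdeal
        (Localization.AtPrime (PrimeSpectrum.comap (algebraMap R R̂) q).asIdeal) ^ m) ∧
    (∀ y : Localization.AtPrime q.asIdeal,
      ∃ x : Localization.AtPrime (PrimeSpectrum.comap (algebraMap R R̂) q).asIdeal,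
        y - Localization.localRingHom (PrimeSpectrum.comap (algebraMap R R̂) q).asIdeal q.asIdeal
          (algebraMap R R̂) rfl x ∈ IsLocalRing.maximalIdeal (Localization.AtPrime q.asIdeal) ^ m) := by
  obtain ⟨hflat, hmax, hsurj⟩ := abstract_data A I R a ha q hq hp
  exact local_step _ hflat hmax hsurj m

end Abstract

end Groth.Agent.Helper3.RigPoly
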