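import Mathlib
import Groth.Agent.Helper3.RigPoly
import Groth.Agent.Helper3.ComplFlat
import Groth.Agent.Helper1.LocalFlat

set_option autoImplicit false
set_option linter.style.haveILetI false
set_option linter.unusedSectionVars false

namespace Groth.Agent.Helper3.RigFlat

open TensorProduct

universe u

/-- If `λ : C₀ → C` is "dense" for the `K₀`-adic topology with `K₀ C = m_C`, and `μ ∘ λ` is flat
for a local homomorphism `μ : C → D` of Noetherian local rings, then `μ` is flat. -/
theorem dense_flat {C₀ C D : Type u} [CommRing C₀] [CommRing C] [CommRing D]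
    [IsNoetherianRing C] [IsNoetherianRing D] [IsLocalRing C] [IsLocalRing D]
    (lam : C₀ →+* C) (mu : C →+* D) [IsLocalHom mu] (K₀ : Ideal C₀)
    (hK : K₀.map lam = IsLocalRing.maximalIdeal C)
    (hdense : ∀ (k : ℕ) (x : C), ∃ c : C₀, x - lam c ∈ IsLocalRing.maximalIdeal C ^ k)
    (hflat : (mu.comp lam).Flat) : mu.Flat := by
  letI : Algebra C₀ C := lam.toAlgebra
  letI : Algebra C D := mu.toAlgebra
  letI : Algebra C₀ D := (mu.comp lam).toAlgebra
  haveI : IsScalarTower C₀ C D := IsScalarTower.of_algebraMap_eq (fun x => rfl)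
  haveI : Module.Flat C₀ D := hflat
  show Module.Flat C D
  refine Groth.Agent.Helper1.LocalFlat.flat_of_flat_baseChange_pow (A := C) (B := D) (M := D)
    (IsLocalRing.maximalIdeal C) ?_ fun k => ?_
  · rw [IsLocalRing.jacobson_eq_maximalIdeal ⊥ bot_ne_top]
    exact ((IsLocalRing.local_hom_TFAE (algebraMap C D)).out 0 2).mp ‹IsLocalHom mu›
  · have key : ∀ J : Ideal C, J = (K₀ ^ k).map (algebraMap C₀ C) →
        Module.Flat (C ⧸ J) ((C ⧸ J) ⊗[C] D) := by
      rintro J rfl
      refine Groth.Agent.Helper3.ComplFlat.flat_quotient_of_flat_quotient (A := C₀) (A' := C)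
        (M := D) (K₀ ^ k) ?_
      intro x
      obtain ⟨c, hc⟩ := hdense k x
      refine ⟨c, ?_⟩
      rw [Ideal.map_pow]
      show x - lam c ∈ (Ideal.map lam K₀) ^ k
      rw [hK]
      exact hc
    refine key _ ?_
    rw [Ideal.map_pow]
    show _ = (Ideal.map lam K₀) ^ k
    rw [hK]

theorem jacobson_step (A' B' : Type u) [CommRing A'] [CommRing B'] [IsNoetherianRing A']
    (I' : Ideal A') [IsAdicComplete I' A'] [IsNoetherianRing B'] (ψ : A' →+* B')
    [IsAdicComplete (I'.map ψ) B']
    (hft : ((Ideal.Quotient.mk (I'.map ψ)).comp ψ).FiniteType) (q' : PrimeSpectrum B')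
    (hq' : ¬ I'.map ψ ≤ q'.asIdeal ∧ ∀ y : PrimeSpectrum B', q' ≤ y →
      ¬ I'.map ψ ≤ y.asIdeal → y = q') (hJ : IsJacobsonRing (A' ⧸ I')) :
    ¬ I' ≤ (PrimeSpectrum.comap ψ q').asIdeal ∧ ∀ y : PrimeSpectrum A',
      PrimeSpectrum.comap ψ q' ≤ y → ¬ I' ≤ y.asIdeal → y = PrimeSpectrum.comap ψ q' := by
  letI : Algebra A' B' := ψ.toAlgebra
  exact Groth.Agent.Helper3.RigClosed2.main_jacobson A' I' B' hft q' hq' hJ

theorem flat_of_comp_localization {R S D : Type*} [CommRing R] [CommRing S] [CommRing D]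
    [Algebra R S] (M : Submonoid R) [IsLocalization M S] (g : S →+* D)
    (h : (g.comp (algebraMap R S)).Flat) : g.Flat := by
  letI : Algebra S D := g.toAlgebra
  letI : Algebra R D := (g.comp (algebraMap R S)).toAlgebra
  haveI : IsScalarTower R S D := IsScalarTower.of_algebraMap_eq (fun _ => rfl)
  show Module.Flat S D
  rw [Module.flat_iff_of_isLocalization S M]
  exact h

section Main

variable (A : Type u) [CommRing A] [IsNoetherianRing A] (I : Ideal A) [IsAdicComplete I A]
  (B : Type u) [CommRing B] [Algebra A B] [IsNoetherianRing B] (J : Ideal B)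
  (hJ : J = I.map (algebraMap A B)) [IsAdicComplete J B]
  (hft : Algebra.FiniteType A (B ⧸ J)) (hJac : IsJacobsonRing (A ⧸ I))
  (hnaive : ∀ q : PrimeSpectrum B, (¬ J ≤ q.asIdeal ∧ ∀ y : PrimeSpectrum B, q ≤ y →
    ¬ J ≤ y.asIdeal → y = q) → (algebraMap A (Localization.AtPrime q.asIdeal)).Flat)
  (f : A)
  (aA : Ideal (Localization.Away f)) (haA : aA = I.map (algebraMap A _))
  (aB : Ideal (Localization.Away (algebraMap A B f))) (haB : aB = J.map (algebraMap B _))

include hJ hft hJac hnaive haA haB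

local notation "RA" => Localization.Away f
local notation "RB" => Localization.Away (algebraMap A B f)
local notation "Â" => AdicCompletion aA (Localization.Away f)
local notation "B̂" => AdicCompletion aB (Localization.Away (algebraMap A B f))

theorem main (ψ : Â →+* B̂)
    (hψ : ψ.comp (algebraMap RA Â) =
      (algebraMap RB B̂).comp (Localization.awayMap (algebraMap A B) f))
    (q' : PrimeSpectrum B̂)
    (hq' : ¬ aB.map (algebraMap RB B̂) ≤ q'.asIdeal ∧ ∀ y : PrimeSpectrum B̂, q' ≤ y →
      ¬ aB.map (algebraMap RB B̂) ≤ y.asIdeal → y = q') :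
    ((algebraMap B̂ (Localization.AtPrime q'.asIdeal)).comp ψ).Flat := by
  have hcomp : ∀ x : A, ψ (algebraMap A Â x) = algebraMap B B̂ (algebraMap A B x) := by
    intro x
    have h1 := RingHom.congr_fun hψ (algebraMap A RA x)
    rw [RingHom.comp_apply, RingHom.comp_apply, Localization.awayMap,
      IsLocalization.Away.map, IsLocalization.map_eq] at h1
    exact h1
  obtain ⟨I', hI'⟩ : ∃ I' : Ideal Â, I' = I.map (algebraMap A Â) := ⟨_, rfl⟩
  obtain ⟨J', hJ'⟩ : ∃ J' : Ideal B̂, J' = aB.map (algebraMap RB B̂) := ⟨_, rfl⟩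
  have hI'a : I' = aA.map (algebraMap RA Â) := by rw [hI', haA, Ideal.map_map]; rfl
  have hJB : J.map (algebraMap B B̂) = J' := by
    rw [hJ', haB, Ideal.map_map]; rfl
  have hI'ψ : I'.map ψ = J' := by
    rw [hI', ← hJB, hJ, Ideal.map_map, Ideal.map_map]
    congr 1
    exact RingHom.ext hcomp
  haveI : IsNoetherianRing Â := Groth.Agent.S0543.result RA aA
  haveI : IsNoetherianRing B̂ := Groth.Agent.S0543.result RB aB
  haveI : IsAdicComplete I' Â := by rw [hI'a]; exact Groth.Agent.Helper3.RigLoc.complete_map aA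
  haveI : IsAdicComplete (I'.map ψ) B̂ := by
    rw [hI'ψ, hJ']; exact Groth.Agent.Helper3.RigLoc.complete_map aB
  haveI : IsAdicComplete (J.map (algebraMap B B̂)) B̂ := by
    rw [hJB, hJ']; exact Groth.Agent.Helper3.RigLoc.complete_map aB
  rw [← hJ'] at hq'
  -- (1a) q := q' ∩ B is rig-closed in B
  have hJacB : IsJacobsonRing (B ⧸ J) := by
    subst hJ
    haveI := hft
    haveI : Algebra.FiniteType (A ⧸ I) (B ⧸ I.map (algebraMap A B)) :=
      Algebra.FiniteType.of_restrictScalars_finiteType A (A ⧸ I) _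
    exact isJacobsonRing_of_finiteType (A := A ⧸ I)
  haveI : IsScalarTower B RB B̂ := IsScalarTower.of_algebraMap_eq (fun x => rfl)
  have hftBh : Algebra.FiniteType B (B̂ ⧸ J.map (algebraMap B B̂)) := by
    have hs : Function.Surjective ((Ideal.Quotient.mkₐ B (J.map (algebraMap B B̂))).comp
        (IsScalarTower.toAlgHom B RB B̂)) := by
      intro y
      obtain ⟨x, rfl⟩ := Ideal.Quotient.mk_surjective y
      obtain ⟨r, hr⟩ := Groth.Agent.Helper3.RigLoc.exists_of_sub_mem aB x
      refine ⟨r, ?_⟩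
      show Ideal.Quotient.mk _ (algebraMap RB B̂ r) = _
      rw [eq_comm, Ideal.Quotient.eq, hJB, hJ']
      exact hr
    exact Algebra.FiniteType.of_surjective _ hs
  have hq'J : ¬ J.map (algebraMap B B̂) ≤ q'.asIdeal ∧ ∀ y : PrimeSpectrum B̂, q' ≤ y →
      ¬ J.map (algebraMap B B̂) ≤ y.asIdeal → y = q' := by rw [hJB]; exact hq'
  have h1a := Groth.Agent.Helper3.RigClosed2.main_jacobson B J B̂ hftBh q' hq'J hJacB
  -- D is flat over A
  have hflatBq := hnaive _ h1a
  have hBBh : (algebraMap B B̂).Flat := by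
    have : algebraMap B B̂ = (algebraMap RB B̂).comp (algebraMap B RB) := rfl
    rw [this]
    exact RingHom.Flat.comp (RingHom.flat_algebraMap_iff.mpr inferInstance)
      (RingHom.flat_algebraMap_iff.mpr inferInstance)
  have hloc : (Localization.localRingHom (PrimeSpectrum.comap (algebraMap B B̂) q').asIdeal
      q'.asIdeal (algebraMap B B̂) rfl).Flat := RingHom.Flat.localRingHom hBBh q'.asIdeal _ rfl
  have hAD : (((algebraMap B̂ (Localization.AtPrime q'.asIdeal)).comp ψ).comp
      (algebraMap A Â)).Flat := by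
    have h := RingHom.Flat.comp hflatBq hloc
    convert h using 1
    ext x
    simp only [RingHom.comp_apply]
    rw [hcomp x, IsScalarTower.algebraMap_apply A B (Localization.AtPrime
      (PrimeSpectrum.comap (algebraMap B B̂) q').asIdeal), Localization.localRingHom_to_map]
  -- (1b) p' := ψ⁻¹ q' is rig-closed in Â
  have hftψ : ((Ideal.Quotient.mk (I'.map ψ)).comp ψ).FiniteType := by
    apply RingHom.FiniteType.of_comp_finiteType (f := algebraMap A Â)
    have hle2 : J ≤ aB.comap (algebraMap B RB) := by rw [haB]; exact Ideal.le_comap_map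
    have hle3 : aB ≤ (I'.map ψ).comap (algebraMap RB B̂) := by
      rw [hI'ψ, hJ']; exact Ideal.le_comap_map
    have h1 : (algebraMap A (B ⧸ J)).FiniteType := RingHom.finiteType_algebraMap.mpr hft
    have h2 : (Ideal.quotientMap aB (algebraMap B RB) hle2).FiniteType := by
      apply RingHom.FiniteType.of_comp_finiteType (f := Ideal.Quotient.mk J)
      have : (Ideal.quotientMap aB (algebraMap B RB) hle2).comp (Ideal.Quotient.mk J) =
          (Ideal.Quotient.mk aB).comp (algebraMap B RB) := by ext x; rfl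
      rw [this]
      exact (RingHom.FiniteType.of_surjective _ Ideal.Quotient.mk_surjective).comp
        (RingHom.finiteType_algebraMap.mpr inferInstance)
    have h3 : (Ideal.quotientMap (I'.map ψ) (algebraMap RB B̂) hle3).FiniteType := by
      apply RingHom.FiniteType.of_surjective
      intro y
      obtain ⟨x, rfl⟩ := Ideal.Quotient.mk_surjective y
      obtain ⟨r, hr⟩ := Groth.Agent.Helper3.RigLoc.exists_of_sub_mem aB x
      refine ⟨Ideal.Quotient.mk aB r, ?_⟩
      rw [Ideal.quotientMap_mk, eq_comm, Ideal.Quotient.eq, hI'ψ, hJ']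
      exact hr
    have h4 := (h3.comp h2).comp h1
    convert h4 using 1
    ext x
    show Ideal.Quotient.mk _ (ψ (algebraMap A Â x)) = _
    rw [hcomp x]
    rfl
  have hJacRA : IsJacobsonRing (RA ⧸ aA) := by
    subst haA
    haveI : Algebra.FiniteType A (RA ⧸ I.map (algebraMap A RA)) :=
      Algebra.FiniteType.of_surjective (Ideal.Quotient.mkₐ A _) Ideal.Quotient.mk_surjective
    haveI : Algebra.FiniteType (A ⧸ I) (RA ⧸ I.map (algebraMap A RA)) :=
      Algebra.FiniteType.of_restrictScalars_finiteType A (A ⧸ I) _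
    exact isJacobsonRing_of_finiteType (A := A ⧸ I)
  have hJacAh : IsJacobsonRing (Â ⧸ I') := by
    haveI := hJacRA
    have hle : aA ≤ I'.comap (algebraMap RA Â) := by rw [hI'a]; exact Ideal.le_comap_map
    refine isJacobsonRing_of_surjective ⟨Ideal.quotientMap I' (algebraMap RA Â) hle, ?_⟩
    intro y
    obtain ⟨x, rfl⟩ := Ideal.Quotient.mk_surjective y
    obtain ⟨r, hr⟩ := Groth.Agent.Helper3.RigLoc.exists_of_sub_mem aA x
    refine ⟨Ideal.Quotient.mk aA r, ?_⟩
    rw [Ideal.quotientMap_mk, eq_comm, Ideal.Quotient.eq, hI'a]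
    exact hr
  have hq'ψ : ¬ I'.map ψ ≤ q'.asIdeal ∧ ∀ y : PrimeSpectrum B̂, q' ≤ y →
      ¬ I'.map ψ ≤ y.asIdeal → y = q' := by rw [hI'ψ]; exact hq'
  have h1b := jacobson_step Â B̂ I' ψ hftψ q' hq'ψ hJacAh
  -- (1c) p := p' ∩ A is rig-closed in A
  haveI : IsScalarTower A RA Â := IsScalarTower.of_algebraMap_eq (fun x => rfl)
  haveI : IsAdicComplete (I.map (algebraMap A Â)) Â := by rw [← hI']; infer_instance
  have hftAh : Algebra.FiniteType A (Â ⧸ I.map (algebraMap A Â)) := by
    have hs : Function.Surjective ((Ideal.Quotient.mkₐ A (I.map (algebraMap A Â))).comp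
        (IsScalarTower.toAlgHom A RA Â)) := by
      intro y
      obtain ⟨x, rfl⟩ := Ideal.Quotient.mk_surjective y
      obtain ⟨r, hr⟩ := Groth.Agent.Helper3.RigLoc.exists_of_sub_mem aA x
      refine ⟨r, ?_⟩
      show Ideal.Quotient.mk _ (algebraMap RA Â r) = _
      rw [eq_comm, Ideal.Quotient.eq, ← hI', hI'a]
      exact hr
    exact Algebra.FiniteType.of_surjective _ hs
  have h1b' : ¬ I.map (algebraMap A Â) ≤ (PrimeSpectrum.comap ψ q').asIdeal ∧
      ∀ y : PrimeSpectrum Â, PrimeSpectrum.comap ψ q' ≤ y →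
        ¬ I.map (algebraMap A Â) ≤ y.asIdeal → y = PrimeSpectrum.comap ψ q' := by
    rw [← hI']; exact h1b
  have h1c := Groth.Agent.Helper3.RigClosed2.main_jacobson A I Â hftAh
    (PrimeSpectrum.comap ψ q') h1b' hJac
  obtain ⟨hlflat, hlmax, hlsurj⟩ := Groth.Agent.Helper3.RigPoly.abstract_data A I RA aA haA
    (PrimeSpectrum.comap ψ q') h1b' h1c
  have hgoal : (algebraMap B̂ (Localization.AtPrime q'.asIdeal)).comp ψ =
      (Localization.localRingHom (PrimeSpectrum.comap ψ q').asIdeal q'.asIdeal ψ rfl).comp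
        (algebraMap Â (Localization.AtPrime (PrimeSpectrum.comap ψ q').asIdeal)) := by
    ext x
    simp only [RingHom.comp_apply]
    rw [Localization.localRingHom_to_map]
  rw [hgoal]
  refine RingHom.Flat.comp (RingHom.flat_algebraMap_iff.mpr inferInstance) ?_
  refine dense_flat (Localization.localRingHom
    (PrimeSpectrum.comap (algebraMap RA Â) (PrimeSpectrum.comap ψ q')).asIdeal
    (PrimeSpectrum.comap ψ q').asIdeal (algebraMap RA Â) rfl) _ (IsLocalRing.maximalIdeal _)
    hlmax ?_ ?_
  · intro k x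
    exact (Groth.Agent.Helper3.RigPoly.local_step _ hlflat hlmax hlsurj k).2 x
  · apply flat_of_comp_localization
      (PrimeSpectrum.comap (algebraMap RA Â) (PrimeSpectrum.comap ψ q')).asIdeal.primeCompl
    apply flat_of_comp_localization (Submonoid.powers f)
    convert hAD using 1
    ext x
    simp only [RingHom.comp_apply]
    rw [Localization.localRingHom_to_map, Localization.localRingHom_to_map]
    rfl

end Main

end Groth.Agent.Helper3.RigFlat
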