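import Mathlib
import Groth.Agent.Helper3.RigFlat
import Groth.Agent.Helper3.ComplMap

set_option autoImplicit false
set_option linter.style.haveILetI false
set_option linter.unusedSectionVars false
set_option linter.unusedVariables false

namespace Groth.Agent.Helper3.RigComp

universe u

/-- flatness at rig-closed primes implies flatness at all primes not containing `K`. -/
theorem flat_at_all {A' B' : Type u} [CommRing A'] [CommRing B'] [IsNoetherianRing B']
    (ψ : A' →+* B') (K : Ideal B')
    (h : ∀ q : PrimeSpectrum B', (¬ K ≤ q.asIdeal ∧ ∀ y : PrimeSpectrum B', q ≤ y →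
      ¬ K ≤ y.asIdeal → y = q) → ((algebraMap B' (Localization.AtPrime q.asIdeal)).comp ψ).Flat)
    (Q : Ideal B') [hQ : Q.IsPrime] (hKQ : ¬ K ≤ Q) :
    ((algebraMap B' (Localization.AtPrime Q)).comp ψ).Flat := by
  let S : Set (Ideal B') := {P | P.IsPrime ∧ Q ≤ P ∧ ¬ K ≤ P}
  have hQS : Q ∈ S := ⟨hQ, le_rfl, hKQ⟩
  obtain ⟨q, hqS, hqmax⟩ : ∃ q : Ideal B', q ∈ S ∧ ∀ P ∈ S, ¬ q < P :=
    set_has_maximal_iff_noetherian.mpr (inferInstance : IsNoetherian B' B') S ⟨Q, hQS⟩
  obtain ⟨hqprime, hQq, hKq⟩ := hqS
  have hrig : (¬ K ≤ (⟨q, hqprime⟩ : PrimeSpectrum B').asIdeal ∧ ∀ y : PrimeSpectrum B',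
      (⟨q, hqprime⟩ : PrimeSpectrum B') ≤ y → ¬ K ≤ y.asIdeal → y = ⟨q, hqprime⟩) := by
    refine ⟨hKq, ?_⟩
    intro y hqy hKy
    have hyS : y.asIdeal ∈ S := ⟨y.isPrime, hQq.trans hqy, hKy⟩
    have hnlt := hqmax y.asIdeal hyS
    have : q = y.asIdeal := by
      by_contra hne
      exact hnlt (lt_of_le_of_ne hqy hne)
    exact PrimeSpectrum.ext this.symm
  have hflat := h ⟨q, hqprime⟩ hrig
  haveI := hqprime
  -- B'_Q is a localization of B'_q
  have hle : q.primeCompl ≤ Q.primeCompl := fun x hx hxQ => hx (hQq hxQ)
  have hunits : ∀ y : q.primeCompl, IsUnit (algebraMap B' (Localization.AtPrime Q) y) :=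
    fun y => IsLocalization.map_units _ (⟨y.1, hle y.2⟩ : Q.primeCompl)
  letI : Algebra (Localization.AtPrime q) (Localization.AtPrime Q) :=
    (IsLocalization.lift (M := q.primeCompl) (g := algebraMap B' (Localization.AtPrime Q))
      hunits).toAlgebra
  haveI : IsScalarTower B' (Localization.AtPrime q) (Localization.AtPrime Q) :=
    IsScalarTower.of_algebraMap_eq (fun x => (IsLocalization.lift_eq hunits x).symm)
  haveI : IsLocalization (Q.primeCompl.map (algebraMap B' (Localization.AtPrime q)))
      (Localization.AtPrime Q) :=
    IsLocalization.isLocalization_of_submonoid_le (Localization.AtPrime q)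
      (Localization.AtPrime Q) q.primeCompl Q.primeCompl hle
  have hflat2 : (algebraMap (Localization.AtPrime q) (Localization.AtPrime Q)).Flat := by
    rw [RingHom.flat_algebraMap_iff]
    exact IsLocalization.flat _ (Q.primeCompl.map (algebraMap B' (Localization.AtPrime q)))
  have h3 := RingHom.Flat.comp hflat hflat2
  convert h3 using 1
  ext x
  simp only [RingHom.comp_apply]
  rw [← IsScalarTower.algebraMap_apply B' (Localization.AtPrime q) (Localization.AtPrime Q)]

/-- rig-flatness of `B → C` at the element `g`, where the localization of `C` is taken away from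
an abstract element `z` and the ideal of definition of `C` is an abstract ideal `KC`. -/
def RigFlatAt (B C : Type u) [CommRing B] [CommRing C] [Algebra B C] (KB : Ideal B) (g : B)
    (z : C) (KC : Ideal C) : Prop :=
  ∀ θ : Localization.Away g →+* Localization.Away z,
    θ.comp (algebraMap B (Localization.Away g)) =
      (algebraMap C (Localization.Away z)).comp (algebraMap B C) →
  ∀ ψ : AdicCompletion (KB.map (algebraMap B (Localization.Away g))) (Localization.Away g) →+*
      AdicCompletion (KC.map (algebraMap C (Localization.Away z))) (Localization.Away z),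
    ψ.comp (algebraMap (Localization.Away g) _) = (algebraMap (Localization.Away z) _).comp θ →
  ∀ q : PrimeSpectrum (AdicCompletion (KC.map (algebraMap C (Localization.Away z)))
      (Localization.Away z)),
    (¬ ((KC.map (algebraMap C (Localization.Away z))).map (algebraMap (Localization.Away z)
        (AdicCompletion (KC.map (algebraMap C (Localization.Away z))) (Localization.Away z)))) ≤
          q.asIdeal ∧
      ∀ y : PrimeSpectrum (AdicCompletion (KC.map (algebraMap C (Localization.Away z)))
        (Localization.Away z)), q ≤ y →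
        ¬ ((KC.map (algebraMap C (Localization.Away z))).map (algebraMap (Localization.Away z)
          (AdicCompletion (KC.map (algebraMap C (Localization.Away z))) (Localization.Away z)))) ≤
            y.asIdeal → y = q) →
    ((algebraMap (AdicCompletion (KC.map (algebraMap C (Localization.Away z)))
      (Localization.Away z)) (Localization.AtPrime q.asIdeal)).comp ψ).Flat

theorem rigFlatAt_of (B C : Type u) [CommRing B] [CommRing C] [Algebra B C] (KB : Ideal B) (g : B)
    (h : ∀ ψ : AdicCompletion (KB.map (algebraMap B (Localization.Away g))) (Localization.Away g) →+*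
      AdicCompletion ((KB.map (algebraMap B C)).map (algebraMap C (Localization.Away
        (algebraMap B C g)))) (Localization.Away (algebraMap B C g)),
    ψ.comp (algebraMap (Localization.Away g) _) =
      (algebraMap (Localization.Away (algebraMap B C g)) _).comp
        (Localization.awayMap (algebraMap B C) g) →
    ∀ q : PrimeSpectrum (AdicCompletion ((KB.map (algebraMap B C)).map (algebraMap C
      (Localization.Away (algebraMap B C g)))) (Localization.Away (algebraMap B C g))),
    (¬ (((KB.map (algebraMap B C)).map (algebraMap C (Localization.Away (algebraMap B C g)))).map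
        (algebraMap (Localization.Away (algebraMap B C g))
        (AdicCompletion ((KB.map (algebraMap B C)).map (algebraMap C (Localization.Away
          (algebraMap B C g)))) (Localization.Away (algebraMap B C g))))) ≤ q.asIdeal ∧
      ∀ y : PrimeSpectrum (AdicCompletion ((KB.map (algebraMap B C)).map (algebraMap C
        (Localization.Away (algebraMap B C g)))) (Localization.Away (algebraMap B C g))), q ≤ y →
        ¬ (((KB.map (algebraMap B C)).map (algebraMap C (Localization.Away
          (algebraMap B C g)))).map (algebraMap (Localization.Away (algebraMap B C g))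
          (AdicCompletion ((KB.map (algebraMap B C)).map (algebraMap C (Localization.Away
            (algebraMap B C g)))) (Localization.Away (algebraMap B C g))))) ≤ y.asIdeal → y = q) →
    ((algebraMap (AdicCompletion ((KB.map (algebraMap B C)).map (algebraMap C (Localization.Away
      (algebraMap B C g)))) (Localization.Away (algebraMap B C g)))
        (Localization.AtPrime q.asIdeal)).comp ψ).Flat) :
    RigFlatAt B C KB g (algebraMap B C g) (KB.map (algebraMap B C)) := by
  intro θ hθ ψ hψ q hq
  have hθ' : θ = Localization.awayMap (algebraMap B C) g := by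
    apply IsLocalization.ringHom_ext (Submonoid.powers g)
    rw [hθ, Localization.awayMap, IsLocalization.Away.map, IsLocalization.map_comp]
  subst hθ'
  exact h ψ hψ q hq

theorem rigFlatAt_congr (B C : Type u) [CommRing B] [CommRing C] [Algebra B C] (KB : Ideal B)
    (g : B) (z₁ z₂ : C) (hz : z₁ = z₂) (K₁ K₂ : Ideal C) (hK : K₁ = K₂)
    (h : RigFlatAt B C KB g z₁ K₁) : RigFlatAt B C KB g z₂ K₂ := by
  subst hz hK
  exact h

section Core

variable (A : Type u) [CommRing A] [IsNoetherianRing A] (I : Ideal A)
  (B : Type u) [CommRing B] [Algebra A B] [IsNoetherianRing B]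
  (C : Type u) [CommRing C] [Algebra A C] [Algebra B C] [IsScalarTower A B C] [IsNoetherianRing C]
  (e : A)

local notation "RA" => Localization.Away e
local notation "RB" => Localization.Away (algebraMap A B e)
local notation "RC" => Localization.Away (algebraMap A C e)
local notation "aA" => Ideal.map (algebraMap A (Localization.Away e)) I
local notation "aB" => Ideal.map (algebraMap B (Localization.Away (algebraMap A B e)))
  (Ideal.map (algebraMap A B) I)
local notation "aC" => Ideal.map (algebraMap C (Localization.Away (algebraMap A C e)))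
  (Ideal.map (algebraMap A C) I)
local notation "Â" => AdicCompletion (Ideal.map (algebraMap A (Localization.Away e)) I)
  (Localization.Away e)
local notation "B̂" => AdicCompletion (Ideal.map (algebraMap B (Localization.Away
  (algebraMap A B e))) (Ideal.map (algebraMap A B) I)) (Localization.Away (algebraMap A B e))
local notation "Ĉ" => AdicCompletion (Ideal.map (algebraMap C (Localization.Away
  (algebraMap A C e))) (Ideal.map (algebraMap A C) I)) (Localization.Away (algebraMap A C e))

theorem core
    (hAB : ∀ ψf : Â →+* B̂, ψf.comp (algebraMap RA Â) =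
        (algebraMap RB B̂).comp (Localization.awayMap (algebraMap A B) e) →
      ∀ qf : PrimeSpectrum B̂, (¬ (Ideal.map (algebraMap RB B̂) aB) ≤ qf.asIdeal ∧
        ∀ y : PrimeSpectrum B̂, qf ≤ y → ¬ (Ideal.map (algebraMap RB B̂) aB) ≤ y.asIdeal → y = qf) →
      ((algebraMap B̂ (Localization.AtPrime qf.asIdeal)).comp ψf).Flat)
    (hBC : RigFlatAt B C (I.map (algebraMap A B)) (algebraMap A B e) (algebraMap A C e)
      (I.map (algebraMap A C)))
    (ψe : Â →+* Ĉ)
    (hψe : ψe.comp (algebraMap RA Â) =
      (algebraMap RC Ĉ).comp (Localization.awayMap (algebraMap A C) e))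
    (qe : PrimeSpectrum Ĉ)
    (hqe : ¬ (Ideal.map (algebraMap RC Ĉ) aC) ≤ qe.asIdeal ∧
        ∀ y : PrimeSpectrum Ĉ, qe ≤ y → ¬ (Ideal.map (algebraMap RC Ĉ) aC) ≤ y.asIdeal → y = qe) :
    ((algebraMap Ĉ (Localization.AtPrime qe.asIdeal)).comp ψe).Flat := by
  -- the map RB → RC
  have hunit : IsUnit (((algebraMap C RC).comp (algebraMap B C)) (algebraMap A B e)) := by
    rw [RingHom.comp_apply, ← IsScalarTower.algebraMap_apply A B C]
    exact IsLocalization.Away.algebraMap_isUnit _
  obtain ⟨θBC, hθBC⟩ : ∃ θ : RB →+* RC, θ.comp (algebraMap B RB) =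
      (algebraMap C RC).comp (algebraMap B C) :=
    ⟨IsLocalization.Away.lift (algebraMap A B e) hunit, IsLocalization.Away.lift_comp _ hunit⟩
  obtain ⟨θAB, hθABdef⟩ : ∃ θ : RA →+* RB, θ = Localization.awayMap (algebraMap A B) e :=
    ⟨_, rfl⟩
  have hθAB : θAB.comp (algebraMap A RA) = (algebraMap B RB).comp (algebraMap A B) := by
    rw [hθABdef, Localization.awayMap, IsLocalization.Away.map, IsLocalization.map_comp]
  have hθAC : Localization.awayMap (algebraMap A C) e = θBC.comp θAB := by
    apply IsLocalization.ringHom_ext (Submonoid.powers e)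
    have hAC : (Localization.awayMap (algebraMap A C) e).comp (algebraMap A RA) =
        (algebraMap C RC).comp (algebraMap A C) := by
      rw [Localization.awayMap, IsLocalization.Away.map, IsLocalization.map_comp]
    rw [hAC]
    ext x
    have h1 := RingHom.congr_fun hθAB x
    have h2 := RingHom.congr_fun hθBC (algebraMap A B x)
    simp only [RingHom.comp_apply] at h1 h2 ⊢
    rw [h1, h2, ← IsScalarTower.algebraMap_apply A B C]
  have h3a : Ideal.map θAB aA = aB := by
    rw [Ideal.map_map, hθAB, ← Ideal.map_map]
  have h3b : Ideal.map θBC aB = aC := by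
    rw [Ideal.map_map, hθBC, Ideal.map_map, RingHom.comp_assoc, ← IsScalarTower.algebraMap_eq,
      ← Ideal.map_map]
  haveI : IsNoetherianRing B̂ := Groth.Agent.S0543.result RB aB
  have hCcompl := Groth.Agent.Helper3.RigLoc.complete_map (R := RC) aC
  obtain ⟨ψB, hψB⟩ : ∃ ψ : Â →+* B̂, ψ.comp (algebraMap RA Â) = (algebraMap RB B̂).comp θAB :=
    ⟨Groth.Agent.Helper3.ComplMap.lift aA aB θAB (le_of_eq h3a),
      Groth.Agent.Helper3.ComplMap.lift_comp _ _ _ _⟩
  obtain ⟨ψC, hψC⟩ : ∃ ψ : B̂ →+* Ĉ, ψ.comp (algebraMap RB B̂) = (algebraMap RC Ĉ).comp θBC :=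
    ⟨Groth.Agent.Helper3.ComplMap.lift aB aC θBC (le_of_eq h3b),
      Groth.Agent.Helper3.ComplMap.lift_comp _ _ _ _⟩
  have hψe' : ψe = ψC.comp ψB := by
    haveI : IsHausdorff (Ideal.map (algebraMap RC Ĉ) aC) Ĉ := hCcompl.toIsHausdorff
    apply Groth.Agent.Helper3.ComplMap.ringHom_ext aA (Ideal.map (algebraMap RC Ĉ) aC)
    · rw [hψe, hθAC]
      have : (ψC.comp ψB).comp (algebraMap RA Â) = ((algebraMap RC Ĉ).comp θBC).comp θAB := by
        rw [RingHom.comp_assoc, hψB, ← RingHom.comp_assoc, hψC]
      rw [this, RingHom.comp_assoc]
    · rw [hψe, hθAC, ← Ideal.map_map, ← Ideal.map_map, h3a, h3b]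
  obtain ⟨qB, hqB⟩ : ∃ qB : Ideal B̂, qB = qe.asIdeal.comap ψC := ⟨_, rfl⟩
  haveI : qB.IsPrime := hqB ▸ Ideal.comap_isPrime _ _
  have hKqB : ¬ Ideal.map (algebraMap RB B̂) aB ≤ qB := by
    intro h
    apply hqe.1
    have h1 : Ideal.map (algebraMap RC Ĉ) aC =
        Ideal.map ψC (Ideal.map (algebraMap RB B̂) aB) := by
      conv_rhs => rw [Ideal.map_map, hψC, ← Ideal.map_map, h3b]
    rw [h1]
    rw [hqB] at h
    exact Ideal.map_le_iff_le_comap.mpr h
  have h7 := flat_at_all ψB (Ideal.map (algebraMap RB B̂) aB) (hAB ψB (hθABdef ▸ hψB)) qB hKqB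
  have h8 := hBC θBC hθBC ψC hψC qe hqe
  subst hqB
  have h9 : (Localization.localRingHom (qe.asIdeal.comap ψC) qe.asIdeal ψC rfl).Flat := by
    apply Groth.Agent.Helper3.RigFlat.flat_of_comp_localization (qe.asIdeal.comap ψC).primeCompl
    convert h8 using 1
    ext x
    simp only [RingHom.comp_apply]
    rw [Localization.localRingHom_to_map]
  have h10 := RingHom.Flat.comp h7 h9
  convert h10 using 1
  rw [hψe']
  ext x
  simp only [RingHom.comp_apply]
  rw [Localization.localRingHom_to_map]

end Core

theorem main (A : Type u) [CommRing A] [IsNoetherianRing A] (I : Ideal A) [IsAdicComplete I A] (B : Type u) [CommRing B] [Algebra A B] [IsNoetherianRing B] [IsAdicComplete (I.map (algebraMap A B)) B] (hftB : Algebra.FiniteType A (B ⧸ (I.map (algebraMap A B)))) (C : Type u) [CommRing C] [Algebra A C] [Algebra B C] [IsScalarTower A B C] [IsNoetherianRing C] [IsAdicComplete (I.map (algebraMap A C)) C] (hftC : Algebra.FiniteType B (C ⧸ (I.map (algebraMap A C)))) (hAB : (∀ f : A, ∀ ψf : (AdicCompletion (I.map (algebraMap A (Localization.Away f))) (Localization.Away f)) →+* (AdicCompletion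 ((I.map (algebraMap A B)).map (algebraMap B (Localization.Away (algebraMap A B f)))) (Localization.Away (algebraMap A B f))), ψf.comp (algebraMap (Localization.Away f) (AdicCompletion (I.map (algebraMap A (Localization.Away f))) (Localization.Away f))) = (algebraMap (Localization.Away (algebraMap A B f)) (AdicCompletion ((I.map (algebraMap A B)).map (algebraMap B (Localization.Away (algebraMap A B f)))) (Localization.Away (algebraMap A B f)))).comp (Localization.awayMap (algebraMap A B) f) → ∀ qf : PrimeSpectrum (AdicCompletion ((I.map (algebraMap A B)).map (algebraMap B (Localization.Away (algebraMap A B f)))) (Localization.Away (algebraMap A B f))), (¬ (((I.map (algebraMap A B)).map (algebraMap B (Localization.Away (algebraMap A B f)))).map (algebraMap (Localization.Away (algebraMap A B f)) (AdicCompletion ((I.map (algebraMap A B)).map (algebraMap B (Localization.Away (algebraMap A B f)))) (Localization.Away (algebraMap A B f))))) ≤ qf.asIdeal ∧ ∀ y : PrimeSpectrum (AdicCompletion ((I.map (algebraMap A B)).map (algebraMap B (Localization.Away (algebraMap A B f)))) (Localization.Away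 (algebraMap A B f))), qf ≤ y → ¬ (((I.map (algebraMap A B)).map (algebraMap B (Localization.Away (algebraMap A B f)))).map (algebraMap (Localization.Away (algebraMap A B f)) (AdicCompletion ((I.map (algebraMap A B)).map (algebraMap B (Localization.Away (algebraMap A B f)))) (Localization.Away (algebraMap A B f))))) ≤ y.asIdeal → y = qf) → ((algebraMap (AdicCompletion ((I.map (algebraMap A B)).map (algebraMap B (Localization.Away (algebraMap A B f)))) (Localization.Away (algebraMap A B f))) (Localization.AtPrime qf.asIdeal)).comp ψf).Flat)) (hBC : (∀ g : B, ∀ ψg : (AdicCompletion ((I.map (algebraMap A B)).map (algebraMap B (Localization.Away g))) (Localization.Away g)) →+* (AdicCompletion (((I.map (algebraMap A B)).map (algebraMap B C)).map (algebraMap C (Localization.Away (algebraMap B C g)))) (Localization.Away (algebraMap B C g))), ψg.comp (algebraMap (Localization.Away g) (AdicCompletion ((I.map (algebraMap A B)).map (algebraMap B (Localization.Away g))) (Localization.Away g))) = (algebraMap (Localization.Away (algebraMap B C g)) (AdicCompletion (((I.map (algebraMap A B)).map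 (algebraMap B C)).map (algebraMap C (Localization.Away (algebraMap B C g)))) (Localization.Away (algebraMap B C g)))).comp (Localization.awayMap (algebraMap B C) g) → ∀ qg : PrimeSpectrum (AdicCompletion (((I.map (algebraMap A B)).map (algebraMap B C)).map (algebraMap C (Localization.Away (algebraMap B C g)))) (Localization.Away (algebraMap B C g))), (¬ ((((I.map (algebraMap A B)).map (algebraMap B C)).map (algebraMap C (Localization.Away (algebraMap B C g)))).map (algebraMap (Localization.Away (algebraMap B C g)) (AdicCompletion (((I.map (algebraMap A B)).map (algebraMap B C)).map (algebraMap C (Localization.Away (algebraMap B C g)))) (Localization.Away (algebraMap B C g))))) ≤ qg.asIdeal ∧ ∀ y : PrimeSpectrum (AdicCompletion (((I.map (algebraMap A B)).map (algebraMap B C)).map (algebraMap C (Localization.Away (algebraMap B C g)))) (Localization.Away (algebraMap B C g))), qg ≤ y → ¬ ((((I.map (algebraMap A B)).map (algebraMap B C)).map (algebraMap C (Localization.Away (algebraMap B C g)))).map (algebraMap (Localization.Away (algebraMap B C g)) (AdicCompletion (((I.map (algebraMap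 A B)).map (algebraMap B C)).map (algebraMap C (Localization.Away (algebraMap B C g)))) (Localization.Away (algebraMap B C g))))) ≤ y.asIdeal → y = qg) → ((algebraMap (AdicCompletion (((I.map (algebraMap A B)).map (algebraMap B C)).map (algebraMap C (Localization.Away (algebraMap B C g)))) (Localization.Away (algebraMap B C g))) (Localization.AtPrime qg.asIdeal)).comp ψg).Flat)) : (∀ e : A, ∀ ψe : (AdicCompletion (I.map (algebraMap A (Localization.Away e))) (Localization.Away e)) →+* (AdicCompletion ((I.map (algebraMap A C)).map (algebraMap C (Localization.Away (algebraMap A C e)))) (Localization.Away (algebraMap A C e))), ψe.comp (algebraMap (Localization.Away e) (AdicCompletion (I.map (algebraMap A (Localization.Away e))) (Localization.Away e))) = (algebraMap (Localization.Away (algebraMap A C e)) (AdicCompletion ((I.map (algebraMap A C)).map (algebraMap C (Localization.Away (algebraMap A C e)))) (Localization.Away (algebraMap A C e)))).comp (Localization.awayMap (algebraMap A C) e) → ∀ qe : PrimeSpectrum (AdicCompletion ((I.map (algebraMap A C)).map (algebraMap C (Localization.Away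 (algebraMap A C e)))) (Localization.Away (algebraMap A C e))), (¬ (((I.map (algebraMap A C)).map (algebraMap C (Localization.Away (algebraMap A C e)))).map (algebraMap (Localization.Away (algebraMap A C e)) (AdicCompletion ((I.map (algebraMap A C)).map (algebraMap C (Localization.Away (algebraMap A C e)))) (Localization.Away (algebraMap A C e))))) ≤ qe.asIdeal ∧ ∀ y : PrimeSpectrum (AdicCompletion ((I.map (algebraMap A C)).map (algebraMap C (Localization.Away (algebraMap A C e)))) (Localization.Away (algebraMap A C e))), qe ≤ y → ¬ (((I.map (algebraMap A C)).map (algebraMap C (Localization.Away (algebraMap A C e)))).map (algebraMap (Localization.Away (algebraMap A C e)) (AdicCompletion ((I.map (algebraMap A C)).map (algebraMap C (Localization.Away (algebraMap A C e)))) (Localization.Away (algebraMap A C e))))) ≤ y.asIdeal → y = qe) → ((algebraMap (AdicCompletion ((I.map (algebraMap A C)).map (algebraMap C (Localization.Away (algebraMap A C e)))) (Localization.Away (algebraMap A C e))) (Localization.AtPrime qe.asIdeal)).comp ψe).Flat) := by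
  intro e ψe hψe qe hqe
  have hBC' : RigFlatAt B C (I.map (algebraMap A B)) (algebraMap A B e) (algebraMap A C e)
      (I.map (algebraMap A C)) :=
    rigFlatAt_congr B C _ _ _ _ (IsScalarTower.algebraMap_apply A B C e).symm _ _
      (by rw [Ideal.map_map, ← IsScalarTower.algebraMap_eq])
      (rigFlatAt_of B C _ _ (hBC (algebraMap A B e)))
  exact core A I B C e (hAB e) hBC' ψe hψe qe hqe

end Groth.Agent.Helper3.RigComp
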