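import Mathlib
import Groth.Agent.Helper3.RigComp
set_option linter.style.haveILetI false
set_option linter.unusedSectionVars false
set_option linter.unusedVariables false
set_option autoImplicit false

namespace Groth.Agent.Helper3.RigDesc

open TensorProduct

universe u

/-- non-local version of `RigFlat.dense_flat`. -/
theorem dense_flat' {C₀ C D : Type u} [CommRing C₀] [CommRing C] [CommRing D]
    [IsNoetherianRing C] [IsNoetherianRing D]
    (lam : C₀ →+* C) (mu : C →+* D) (K₀ : Ideal C₀)
    (hjac : (K₀.map lam).map mu ≤ Ideal.jacobson ⊥)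
    (hdense : ∀ (k : ℕ) (x : C), ∃ c : C₀, x - lam c ∈ (K₀.map lam) ^ k)
    (hflat : (mu.comp lam).Flat) : mu.Flat := by
  letI : Algebra C₀ C := lam.toAlgebra
  letI : Algebra C D := mu.toAlgebra
  letI : Algebra C₀ D := (mu.comp lam).toAlgebra
  haveI : IsScalarTower C₀ C D := IsScalarTower.of_algebraMap_eq (fun x => rfl)
  haveI : Module.Flat C₀ D := hflat
  show Module.Flat C D
  refine Groth.Agent.Helper1.LocalFlat.flat_of_flat_baseChange_pow (A := C) (B := D) (M := D)
    (K₀.map lam) hjac fun k => ?_
  have key : ∀ J : Ideal C, J = (K₀ ^ k).map (algebraMap C₀ C) →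
      Module.Flat (C ⧸ J) ((C ⧸ J) ⊗[C] D) := by
    rintro J rfl
    refine Groth.Agent.Helper3.ComplFlat.flat_quotient_of_flat_quotient (A := C₀) (A' := C)
      (M := D) (K₀ ^ k) ?_
    intro x
    obtain ⟨c, hc⟩ := hdense k x
    refine ⟨c, ?_⟩
    rw [Ideal.map_pow]
    exact hc
  refine key _ ?_
  rw [Ideal.map_pow]
  rfl


/-- primes lift along the completion of a flat map which is surjective on spectra. -/
theorem exists_prime_over {R R' : Type u} [CommRing R] [CommRing R'] [IsNoetherianRing R]
    [IsNoetherianRing R'] (a : Ideal R) (a' : Ideal R') (θ : R →+* R') (hθ : a.map θ = a')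
    (hsurj : ∀ p : Ideal R, p.IsPrime → ∃ p' : Ideal R', p'.IsPrime ∧ p'.comap θ = p)
    (β : AdicCompletion a R →+* AdicCompletion a' R')
    (hβ : β.comp (algebraMap R (AdicCompletion a R)) =
      (algebraMap R' (AdicCompletion a' R')).comp θ)
    (hβflat : β.Flat) (q : Ideal (AdicCompletion a R)) [q.IsPrime] :
    ∃ q' : Ideal (AdicCompletion a' R'), q'.IsPrime ∧ q'.comap β = q := by
  haveI hcompl := Groth.Agent.Helper3.RigLoc.complete_map (R := R) a
  set K := a.map (algebraMap R (AdicCompletion a R)) with hK
  obtain ⟨m, hm, hqm⟩ := Ideal.exists_le_maximal q (Ideal.IsPrime.ne_top ‹_›)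
  have hKm : K ≤ m := by
    have h1 : K ≤ Ideal.jacobson ⊥ := IsAdicComplete.le_jacobson_bot K
    refine h1.trans ?_
    rw [Ideal.jacobson_bot]
    exact Ring.jacobson_le_of_isMaximal m
  set m₀ := m.comap (algebraMap R (AdicCompletion a R)) with hm₀
  haveI : m.IsPrime := hm.isPrime
  haveI : m₀.IsPrime := Ideal.comap_isPrime _ _
  obtain ⟨n₀, hn₀, hn₀m⟩ := hsurj m₀ inferInstance
  have ham₀ : a ≤ m₀ := by
    rw [hm₀, ← Ideal.map_le_iff_le_comap]
    exact hKm
  have ha'n : a' ≤ n₀ := by
    rw [← hθ, Ideal.map_le_iff_le_comap, hn₀m]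
    exact ham₀
  let π : AdicCompletion a' R' →+* R' ⧸ n₀ :=
    (Ideal.Quotient.factor ha'n).comp (AdicCompletion.evalOneₐ a').toRingHom
  have hπ : ∀ r', π (algebraMap R' _ r') = Ideal.Quotient.mk n₀ r' := by
    intro r'
    have : (AdicCompletion.evalOneₐ a').toRingHom (algebraMap R' (AdicCompletion a' R') r') =
        Ideal.Quotient.mk a' r' := AdicCompletion.evalOneₐ_of a' r'
    simp only [π, RingHom.comp_apply, this, Ideal.Quotient.factor_mk]
  set n' := RingHom.ker π with hn'
  haveI : n'.IsPrime := RingHom.ker_isPrime π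
  have hmle : m ≤ n'.comap β := by
    intro x hx
    obtain ⟨r, hr⟩ := Groth.Agent.Helper3.RigLoc.exists_of_sub_mem a x
    have hrm : algebraMap R (AdicCompletion a R) r ∈ m := by
      have := m.sub_mem hx (hKm hr)
      simpa using this
    have hr₀ : θ r ∈ n₀ := by
      have : r ∈ m₀ := hrm
      rw [← hn₀m] at this
      exact this
    have h1 : π (β (algebraMap R (AdicCompletion a R) r)) = 0 := by
      have := RingHom.congr_fun hβ r
      simp only [RingHom.comp_apply] at this
      rw [this, hπ, Ideal.Quotient.eq_zero_iff_mem]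
      exact hr₀
    have h2 : π (β (x - algebraMap R (AdicCompletion a R) r)) = 0 := by
      have hle : K ≤ (RingHom.ker π).comap β := by
        rw [hK, Ideal.map_le_iff_le_comap]
        intro y hy
        rw [Ideal.mem_comap, Ideal.mem_comap, RingHom.mem_ker]
        have := RingHom.congr_fun hβ y
        simp only [RingHom.comp_apply] at this
        rw [this, hπ, Ideal.Quotient.eq_zero_iff_mem]
        apply ha'n
        rw [← hθ]
        exact Ideal.mem_map_of_mem θ hy
      exact hle hr
    rw [Ideal.mem_comap, hn', RingHom.mem_ker]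
    have : x = algebraMap R (AdicCompletion a R) r + (x - algebraMap R (AdicCompletion a R) r) := by
      ring
    rw [this, map_add, map_add, h1, h2, add_zero]
  have hmeq : n'.comap β = m :=
    (hm.eq_of_le (Ideal.comap_ne_top β (Ideal.IsPrime.ne_top ‹_›)) hmle).symm
  letI : Algebra (AdicCompletion a R) (AdicCompletion a' R') := β.toAlgebra
  haveI : Module.Flat (AdicCompletion a R) (AdicCompletion a' R') := hβflat
  haveI : n'.LiesOver m := ⟨hmeq.symm⟩
  obtain ⟨P, -, hP, hPq⟩ := Ideal.exists_ideal_le_liesOver_of_le (p := q) (q := m) n' hqm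
  exact ⟨P, hP, hPq.over.symm⟩


/-- spectrum surjectivity of the localized faithfully flat map. -/
theorem spec_surj_away {B B' : Type u} [CommRing B] [CommRing B'] [Algebra B B']
    [Module.FaithfullyFlat B B'] (g : B) (g' : B') (hg : algebraMap B B' g = g')
    (θ : Localization.Away g →+* Localization.Away g')
    (hθ : θ.comp (algebraMap B (Localization.Away g)) =
      (algebraMap B' (Localization.Away g')).comp (algebraMap B B'))
    (p : Ideal (Localization.Away g)) (hp : p.IsPrime) :
    ∃ p' : Ideal (Localization.Away g'), p'.IsPrime ∧ p'.comap θ = p := by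
  set p₀ := p.comap (algebraMap B (Localization.Away g)) with hp₀
  haveI : p₀.IsPrime := Ideal.comap_isPrime _ _
  obtain ⟨⟨P₀, hP₀⟩, hP₀p⟩ :=
    PrimeSpectrum.comap_surjective_of_faithfullyFlat (A := B) (B := B') ⟨p₀, inferInstance⟩
  have hP₀p' : P₀.comap (algebraMap B B') = p₀ := congrArg PrimeSpectrum.asIdeal hP₀p
  have hgp₀ : g ∉ p₀ := by
    intro h
    have h1 : algebraMap B (Localization.Away g) g ∈ p := h
    exact hp.ne_top (p.eq_top_of_isUnit_mem h1 (IsLocalization.Away.algebraMap_isUnit g))
  have hdisj : Disjoint (Submonoid.powers g' : Set B') (P₀ : Set B') := by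
    rw [Set.disjoint_left]
    rintro x ⟨n, rfl⟩ hx
    have : g' ∈ P₀ := hP₀.mem_of_pow_mem n hx
    apply hgp₀
    rw [← hP₀p', Ideal.mem_comap, hg]
    exact this
  have hP'prime : (P₀.map (algebraMap B' (Localization.Away g'))).IsPrime :=
    IsLocalization.isPrime_of_isPrime_disjoint (Submonoid.powers g') _ P₀ hP₀ hdisj
  have hP'comap : (P₀.map (algebraMap B' (Localization.Away g'))).comap
      (algebraMap B' (Localization.Away g')) = P₀ :=
    IsLocalization.under_map_of_isPrime_disjoint (Submonoid.powers g') _ hP₀ hdisj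
  refine ⟨_, hP'prime, ?_⟩
  have h1 : ((P₀.map (algebraMap B' (Localization.Away g'))).comap θ).comap
      (algebraMap B (Localization.Away g)) = p₀ := by
    rw [Ideal.comap_comap, hθ, ← Ideal.comap_comap, hP'comap, hP₀p']
  have e1 := IsLocalization.map_under (Submonoid.powers g) (Localization.Away g)
    ((P₀.map (algebraMap B' (Localization.Away g'))).comap θ)
  have e2 := IsLocalization.map_under (Submonoid.powers g) (Localization.Away g) p
  exact e1.symm.trans ((congrArg (Ideal.map (algebraMap B (Localization.Away g))) h1).trans e2)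

section Core

variable (A : Type u) [CommRing A] [IsNoetherianRing A] (I : Ideal A)
  (B : Type u) [CommRing B] [Algebra A B] [IsNoetherianRing B]
  (A' : Type u) [CommRing A'] [Algebra A A'] [IsNoetherianRing A']
  (B' : Type u) [CommRing B'] [Algebra A B'] [Algebra B B'] [Algebra A' B'] [IsScalarTower A B B']
  [IsScalarTower A A' B'] [IsNoetherianRing B']
  (e : A)

local notation "RA" => Localization.Away e
local notation "RB" => Localization.Away (algebraMap A B e)
local notation "RA'" => Localization.Away (algebraMap A A' e)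
local notation "RB'" => Localization.Away (algebraMap A B' e)
local notation "aA" => Ideal.map (algebraMap A (Localization.Away e)) I
local notation "aB" => Ideal.map (algebraMap B (Localization.Away (algebraMap A B e)))
  (Ideal.map (algebraMap A B) I)
local notation "aA'" => Ideal.map (algebraMap A' (Localization.Away (algebraMap A A' e)))
  (Ideal.map (algebraMap A A') I)
local notation "aB'" => Ideal.map (algebraMap B' (Localization.Away (algebraMap A B' e)))
  (Ideal.map (algebraMap A B') I)
local notation "Â" => AdicCompletion (Ideal.map (algebraMap A (Localization.Away e)) I)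
  (Localization.Away e)
local notation "B̂" => AdicCompletion (Ideal.map (algebraMap B (Localization.Away
  (algebraMap A B e))) (Ideal.map (algebraMap A B) I)) (Localization.Away (algebraMap A B e))
local notation "Â'" => AdicCompletion (Ideal.map (algebraMap A' (Localization.Away
  (algebraMap A A' e))) (Ideal.map (algebraMap A A') I)) (Localization.Away (algebraMap A A' e))
local notation "B̂'" => AdicCompletion (Ideal.map (algebraMap B' (Localization.Away
  (algebraMap A B' e))) (Ideal.map (algebraMap A B') I)) (Localization.Away (algebraMap A B' e))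

theorem core [Module.Flat A A'] [Module.FaithfullyFlat B B']
    (hA'B' : Groth.Agent.Helper3.RigComp.RigFlatAt A' B' (I.map (algebraMap A A'))
      (algebraMap A A' e) (algebraMap A B' e) (I.map (algebraMap A B')))
    (ψe : Â →+* B̂)
    (hψe : ψe.comp (algebraMap RA Â) =
      (algebraMap RB B̂).comp (Localization.awayMap (algebraMap A B) e))
    (qe : PrimeSpectrum B̂)
    (hqe : ¬ (Ideal.map (algebraMap RB B̂) aB) ≤ qe.asIdeal) :
    ((algebraMap B̂ (Localization.AtPrime qe.asIdeal)).comp ψe).Flat := by
  -- the maps between localizations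
  obtain ⟨θAB, hθABdef⟩ : ∃ θ : RA →+* RB, θ = Localization.awayMap (algebraMap A B) e :=
    ⟨_, rfl⟩
  have hθAB : θAB.comp (algebraMap A RA) = (algebraMap B RB).comp (algebraMap A B) := by
    rw [hθABdef, Localization.awayMap, IsLocalization.Away.map, IsLocalization.map_comp]
  obtain ⟨θAA', hθAA'def⟩ : ∃ θ : RA →+* RA', θ = Localization.awayMap (algebraMap A A') e :=
    ⟨_, rfl⟩
  have hθAA' : θAA'.comp (algebraMap A RA) = (algebraMap A' RA').comp (algebraMap A A') := by
    rw [hθAA'def, Localization.awayMap, IsLocalization.Away.map, IsLocalization.map_comp]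
  have hunitB : IsUnit (((algebraMap B' RB').comp (algebraMap B B')) (algebraMap A B e)) := by
    rw [RingHom.comp_apply, ← IsScalarTower.algebraMap_apply A B B']
    exact IsLocalization.Away.algebraMap_isUnit _
  obtain ⟨θBB', hθBB'⟩ : ∃ θ : RB →+* RB', θ.comp (algebraMap B RB) =
      (algebraMap B' RB').comp (algebraMap B B') :=
    ⟨IsLocalization.Away.lift (algebraMap A B e) hunitB, IsLocalization.Away.lift_comp _ hunitB⟩
  have hunitA' : IsUnit (((algebraMap B' RB').comp (algebraMap A' B')) (algebraMap A A' e)) := by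
    rw [RingHom.comp_apply, ← IsScalarTower.algebraMap_apply A A' B']
    exact IsLocalization.Away.algebraMap_isUnit _
  obtain ⟨θA'B', hθA'B'⟩ : ∃ θ : RA' →+* RB', θ.comp (algebraMap A' RA') =
      (algebraMap B' RB').comp (algebraMap A' B') :=
    ⟨IsLocalization.Away.lift (algebraMap A A' e) hunitA', IsLocalization.Away.lift_comp _ hunitA'⟩
  have hsq : θBB'.comp θAB = θA'B'.comp θAA' := by
    apply IsLocalization.ringHom_ext (Submonoid.powers e)
    ext x
    have h1 := RingHom.congr_fun hθAB x
    have h2 := RingHom.congr_fun hθBB' (algebraMap A B x)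
    have h3 := RingHom.congr_fun hθAA' x
    have h4 := RingHom.congr_fun hθA'B' (algebraMap A A' x)
    simp only [RingHom.comp_apply] at h1 h2 h3 h4 ⊢
    rw [h1, h2, h3, h4, ← IsScalarTower.algebraMap_apply A B B',
      ← IsScalarTower.algebraMap_apply A A' B']
  have h3AB : Ideal.map θAB aA = aB := by
    rw [Ideal.map_map, hθAB, ← Ideal.map_map]
  have h3AA' : Ideal.map θAA' aA = aA' := by
    rw [Ideal.map_map, hθAA', ← Ideal.map_map]
  have h3BB' : Ideal.map θBB' aB = aB' := by
    rw [Ideal.map_map, hθBB', Ideal.map_map, RingHom.comp_assoc, ← IsScalarTower.algebraMap_eq,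
      ← Ideal.map_map]
  have h3A'B' : Ideal.map θA'B' aA' = aB' := by
    rw [Ideal.map_map, hθA'B', Ideal.map_map, RingHom.comp_assoc, ← IsScalarTower.algebraMap_eq,
      ← Ideal.map_map]
  haveI : IsNoetherianRing Â := Groth.Agent.S0543.result RA aA
  haveI : IsNoetherianRing B̂ := Groth.Agent.S0543.result RB aB
  haveI : IsNoetherianRing Â' := Groth.Agent.S0543.result RA' aA'
  haveI : IsNoetherianRing B̂' := Groth.Agent.S0543.result RB' aB'
  have hB'compl := Groth.Agent.Helper3.RigLoc.complete_map (R := RB') aB'
  have hA'compl := Groth.Agent.Helper3.RigLoc.complete_map (R := RA') aA'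
  obtain ⟨α, hα⟩ : ∃ ψ : Â →+* Â', ψ.comp (algebraMap RA Â) = (algebraMap RA' Â').comp θAA' :=
    ⟨Groth.Agent.Helper3.ComplMap.lift aA aA' θAA' (le_of_eq h3AA'),
      Groth.Agent.Helper3.ComplMap.lift_comp _ _ _ _⟩
  obtain ⟨β, hβ⟩ : ∃ ψ : B̂ →+* B̂', ψ.comp (algebraMap RB B̂) = (algebraMap RB' B̂').comp θBB' :=
    ⟨Groth.Agent.Helper3.ComplMap.lift aB aB' θBB' (le_of_eq h3BB'),
      Groth.Agent.Helper3.ComplMap.lift_comp _ _ _ _⟩
  obtain ⟨ψ', hψ'⟩ : ∃ ψ : Â' →+* B̂', ψ.comp (algebraMap RA' Â') =
      (algebraMap RB' B̂').comp θA'B' :=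
    ⟨Groth.Agent.Helper3.ComplMap.lift aA' aB' θA'B' (le_of_eq h3A'B'),
      Groth.Agent.Helper3.ComplMap.lift_comp _ _ _ _⟩
  have hcomm : β.comp ψe = ψ'.comp α := by
    haveI : IsHausdorff (Ideal.map (algebraMap RB' B̂') aB') B̂' := hB'compl.toIsHausdorff
    have e1 : (β.comp ψe).comp (algebraMap RA Â) = (algebraMap RB' B̂').comp (θBB'.comp θAB) := by
      rw [RingHom.comp_assoc, hψe, ← hθABdef, ← RingHom.comp_assoc, hβ, RingHom.comp_assoc]
    have e2 : (ψ'.comp α).comp (algebraMap RA Â) = (algebraMap RB' B̂').comp (θBB'.comp θAB) := by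
      rw [RingHom.comp_assoc, hα, ← RingHom.comp_assoc, hψ', RingHom.comp_assoc, hsq]
    apply Groth.Agent.Helper3.ComplMap.ringHom_ext aA (Ideal.map (algebraMap RB' B̂') aB')
    · rw [e1, e2]
    · rw [e1, ← Ideal.map_map (θBB'.comp θAB) (algebraMap RB' B̂'), ← Ideal.map_map θAB θBB',
        h3AB, h3BB']
  -- flatness of the localized maps
  have hθBB'flat : θBB'.Flat := by
    apply Groth.Agent.Helper3.RigFlat.flat_of_comp_localization
      (Submonoid.powers (algebraMap A B e))
    rw [hθBB']
    exact RingHom.Flat.comp (RingHom.flat_algebraMap_iff.mpr inferInstance)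
      (RingHom.flat_algebraMap_iff.mpr (IsLocalization.flat _
        (Submonoid.powers (algebraMap A B' e))))
  have hθAA'flat : θAA'.Flat := by
    apply Groth.Agent.Helper3.RigFlat.flat_of_comp_localization (Submonoid.powers e)
    rw [hθAA']
    exact RingHom.Flat.comp (RingHom.flat_algebraMap_iff.mpr inferInstance)
      (RingHom.flat_algebraMap_iff.mpr (IsLocalization.flat _
        (Submonoid.powers (algebraMap A A' e))))
  have hKβ : Ideal.map β (Ideal.map (algebraMap RB B̂) aB) =
      Ideal.map (algebraMap RB' B̂') aB' := by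
    rw [Ideal.map_map (algebraMap RB B̂) β, hβ, ← Ideal.map_map θBB' (algebraMap RB' B̂'), h3BB']
  have hKα : Ideal.map α (Ideal.map (algebraMap RA Â) aA) =
      Ideal.map (algebraMap RA' Â') aA' := by
    rw [Ideal.map_map (algebraMap RA Â) α, hα, ← Ideal.map_map θAA' (algebraMap RA' Â'), h3AA']
  have hβflat : β.Flat := by
    refine dense_flat' (algebraMap RB B̂) β aB ?_ ?_ ?_
    · rw [hKβ]
      exact IsAdicComplete.le_jacobson_bot _
    · intro k x
      obtain ⟨r, hr⟩ := Groth.Agent.Helper3.ComplMap.exists_sub_mem_pow aB k x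
      refine ⟨r, ?_⟩
      rw [← Ideal.map_pow]
      exact hr
    · rw [hβ]
      exact RingHom.Flat.comp hθBB'flat (RingHom.flat_algebraMap_iff.mpr
        (AdicCompletion.flat_of_isNoetherian aB'))
  have hαflat : α.Flat := by
    refine dense_flat' (algebraMap RA Â) α aA ?_ ?_ ?_
    · rw [hKα]
      exact IsAdicComplete.le_jacobson_bot _
    · intro k x
      obtain ⟨r, hr⟩ := Groth.Agent.Helper3.ComplMap.exists_sub_mem_pow aA k x
      refine ⟨r, ?_⟩
      rw [← Ideal.map_pow]
      exact hr
    · rw [hα]
      exact RingHom.Flat.comp hθAA'flat (RingHom.flat_algebraMap_iff.mpr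
        (AdicCompletion.flat_of_isNoetherian aA'))
  -- a prime of B̂' over qe
  obtain ⟨q', hq'prime, hq'β⟩ := exists_prime_over aB aB' θBB' h3BB'
    (spec_surj_away (algebraMap A B e) (algebraMap A B' e)
      (IsScalarTower.algebraMap_apply A B B' e).symm θBB' hθBB') β hβ hβflat qe.asIdeal
  have hKq' : ¬ Ideal.map (algebraMap RB' B̂') aB' ≤ q' := by
    intro h
    apply hqe
    rw [← hq'β, ← Ideal.map_le_iff_le_comap, hKβ]
    exact h
  have h7 := Groth.Agent.Helper3.RigComp.flat_at_all ψ' (Ideal.map (algebraMap RB' B̂') aB')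
    (fun q hq => hA'B' θA'B' hθA'B' ψ' hψ' q hq) q' hKq'
  have h8 := RingHom.Flat.comp hαflat h7
  -- descent along the faithfully flat local map
  have hL : (Localization.localRingHom qe.asIdeal q' β hq'β.symm).Flat :=
    RingHom.Flat.localRingHom hβflat q' qe.asIdeal hq'β.symm
  have hcomp : (Localization.localRingHom qe.asIdeal q' β hq'β.symm).comp
      ((algebraMap B̂ (Localization.AtPrime qe.asIdeal)).comp ψe) =
      ((algebraMap B̂' (Localization.AtPrime q')).comp ψ').comp α := by
    ext x
    simp only [RingHom.comp_apply]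
    rw [Localization.localRingHom_to_map]
    have := RingHom.congr_fun hcomm x
    simp only [RingHom.comp_apply] at this
    rw [this]
  rw [← hcomp] at h8
  set φ := (algebraMap B̂ (Localization.AtPrime qe.asIdeal)).comp ψe with hφ
  set L := Localization.localRingHom qe.asIdeal q' β hq'β.symm with hLdef
  letI : Algebra Â (Localization.AtPrime qe.asIdeal) := φ.toAlgebra
  letI : Algebra (Localization.AtPrime qe.asIdeal) (Localization.AtPrime q') := L.toAlgebra
  letI : Algebra Â (Localization.AtPrime q') := (L.comp φ).toAlgebra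
  haveI : IsScalarTower Â (Localization.AtPrime qe.asIdeal) (Localization.AtPrime q') :=
    IsScalarTower.of_algebraMap_eq (fun x => rfl)
  haveI : Module.Flat (Localization.AtPrime qe.asIdeal) (Localization.AtPrime q') := hL
  haveI : IsLocalHom (algebraMap (Localization.AtPrime qe.asIdeal) (Localization.AtPrime q')) :=
    inferInstanceAs (IsLocalHom (Localization.localRingHom qe.asIdeal q' β hq'β.symm))
  haveI : Module.FaithfullyFlat (Localization.AtPrime qe.asIdeal) (Localization.AtPrime q') :=
    Module.FaithfullyFlat.of_flat_of_isLocalHom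
  haveI : Module.Flat Â (Localization.AtPrime q') := h8
  exact Groth.Agent.Helper3.LocalTower.flat_of_flat_comp Â (Localization.AtPrime qe.asIdeal)
    (Localization.AtPrime q')

end Core

theorem main (A : Type u) [CommRing A] [IsNoetherianRing A] (I : Ideal A) [IsAdicComplete I A] (B : Type u) [CommRing B] [Algebra A B] [IsNoetherianRing B] [IsAdicComplete (I.map (algebraMap A B)) B] (hftB : Algebra.FiniteType A (B ⧸ (I.map (algebraMap A B)))) (A' : Type u) [CommRing A'] [Algebra A A'] [IsNoetherianRing A'] [IsAdicComplete (I.map (algebraMap A A')) A'] (hftA' : Algebra.FiniteType A (A' ⧸ (I.map (algebraMap A A')))) (B' : Type u) [CommRing B'] [Algebra A B'] [Algebra B B'] [Algebra A' B'] [IsScalarTower A B B'] [IsScalarTower A A' B'] [IsNoetherianRing B'] [IsAdicComplete (I.map (algebraMap A B')) B'] (hftB'B : Algebra.FiniteType B (B' ⧸ (I.map (algebraMap A B')))) (hftB'A' : Algebra.FiniteType A' (B' ⧸ (I.map (algebraMap A B')))) [Module.Flat A A'] [Module.FaithfullyFlat B B'] (hA'B' : (∀ f' : A', ∀ ψf' : (AdicCompletion ((I.map (algebraMap A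 A')).map (algebraMap A' (Localization.Away f'))) (Localization.Away f')) →+* (AdicCompletion (((I.map (algebraMap A A')).map (algebraMap A' B')).map (algebraMap B' (Localization.Away (algebraMap A' B' f')))) (Localization.Away (algebraMap A' B' f'))), ψf'.comp (algebraMap (Localization.Away f') (AdicCompletion ((I.map (algebraMap A A')).map (algebraMap A' (Localization.Away f'))) (Localization.Away f'))) = (algebraMap (Localization.Away (algebraMap A' B' f')) (AdicCompletion (((I.map (algebraMap A A')).map (algebraMap A' B')).map (algebraMap B' (Localization.Away (algebraMap A' B' f')))) (Localization.Away (algebraMap A' B' f')))).comp (Localization.awayMap (algebraMap A' B') f') → ∀ qf' : PrimeSpectrum (AdicCompletion (((I.map (algebraMap A A')).map (algebraMap A' B')).map (algebraMap B' (Localization.Away (algebraMap A' B' f')))) (Localization.Away (algebraMap A' B' f'))), (¬ ((((I.map (algebraMap A A')).map (algebraMap A' B')).map (algebraMap B' (Localization.Away (algebraMap A' B' f')))).map (algebraMap (Localization.Away (algebraMap A' B' f'))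 (AdicCompletion (((I.map (algebraMap A A')).map (algebraMap A' B')).map (algebraMap B' (Localization.Away (algebraMap A' B' f')))) (Localization.Away (algebraMap A' B' f'))))) ≤ qf'.asIdeal ∧ ∀ y : PrimeSpectrum (AdicCompletion (((I.map (algebraMap A A')).map (algebraMap A' B')).map (algebraMap B' (Localization.Away (algebraMap A' B' f')))) (Localization.Away (algebraMap A' B' f'))), qf' ≤ y → ¬ ((((I.map (algebraMap A A')).map (algebraMap A' B')).map (algebraMap B' (Localization.Away (algebraMap A' B' f')))).map (algebraMap (Localization.Away (algebraMap A' B' f')) (AdicCompletion (((I.map (algebraMap A A')).map (algebraMap A' B')).map (algebraMap B' (Localization.Away (algebraMap A' B' f')))) (Localization.Away (algebraMap A' B' f'))))) ≤ y.asIdeal → y = qf') → ((algebraMap (AdicCompletion (((I.map (algebraMap A A')).map (algebraMap A' B')).map (algebraMap B' (Localization.Away (algebraMap A' B' f')))) (Localization.Away (algebraMap A' B' f'))) (Localization.AtPrime qf'.asIdeal)).comp ψf').Flat)) : (∀ f : A, ∀ ψf : (AdicCompletion (I.map (algebraMap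 A (Localization.Away f))) (Localization.Away f)) →+* (AdicCompletion ((I.map (algebraMap A B)).map (algebraMap B (Localization.Away (algebraMap A B f)))) (Localization.Away (algebraMap A B f))), ψf.comp (algebraMap (Localization.Away f) (AdicCompletion (I.map (algebraMap A (Localization.Away f))) (Localization.Away f))) = (algebraMap (Localization.Away (algebraMap A B f)) (AdicCompletion ((I.map (algebraMap A B)).map (algebraMap B (Localization.Away (algebraMap A B f)))) (Localization.Away (algebraMap A B f)))).comp (Localization.awayMap (algebraMap A B) f) → ∀ qf : PrimeSpectrum (AdicCompletion ((I.map (algebraMap A B)).map (algebraMap B (Localization.Away (algebraMap A B f)))) (Localization.Away (algebraMap A B f))), (¬ (((I.map (algebraMap A B)).map (algebraMap B (Localization.Away (algebraMap A B f)))).map (algebraMap (Localization.Away (algebraMap A B f)) (AdicCompletion ((I.map (algebraMap A B)).map (algebraMap B (Localization.Away (algebraMap A B f)))) (Localization.Away (algebraMap A B f))))) ≤ qf.asIdeal ∧ ∀ y : PrimeSpectrum (AdicCompletion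 ((I.map (algebraMap A B)).map (algebraMap B (Localization.Away (algebraMap A B f)))) (Localization.Away (algebraMap A B f))), qf ≤ y → ¬ (((I.map (algebraMap A B)).map (algebraMap B (Localization.Away (algebraMap A B f)))).map (algebraMap (Localization.Away (algebraMap A B f)) (AdicCompletion ((I.map (algebraMap A B)).map (algebraMap B (Localization.Away (algebraMap A B f)))) (Localization.Away (algebraMap A B f))))) ≤ y.asIdeal → y = qf) → ((algebraMap (AdicCompletion ((I.map (algebraMap A B)).map (algebraMap B (Localization.Away (algebraMap A B f)))) (Localization.Away (algebraMap A B f))) (Localization.AtPrime qf.asIdeal)).comp ψf).Flat) := by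
  intro f ψf hψf qf hqf
  have hA'B'' : Groth.Agent.Helper3.RigComp.RigFlatAt A' B' (I.map (algebraMap A A'))
      (algebraMap A A' f) (algebraMap A B' f) (I.map (algebraMap A B')) :=
    Groth.Agent.Helper3.RigComp.rigFlatAt_congr A' B' _ _ _ _
      (IsScalarTower.algebraMap_apply A A' B' f).symm _ _
      (by rw [Ideal.map_map, ← IsScalarTower.algebraMap_eq])
      (Groth.Agent.Helper3.RigComp.rigFlatAt_of A' B' _ _ (hA'B' (algebraMap A A' f)))
  exact core A I B A' B' f hA'B'' ψf hψf qf hqf.1

end Groth.Agent.Helper3.RigDesc
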