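import Mathlib
import Groth.Agent.Helper3.RigDesc
import Groth.Agent.Helper3.EtRed
import Groth.Agent.Helper3.FlatTransport
set_option linter.style.haveILetI false
set_option linter.unusedSectionVars false
set_option linter.unusedVariables false
set_option autoImplicit false

namespace Groth.Agent.Helper3.RigEt

open TensorProduct

universe u

/-- flatness descends along a flat local homomorphism of local rings. -/
theorem ringHom_flat_descent {R S T : Type u} [CommRing R] [CommRing S] [CommRing T]
    [IsLocalRing S] [IsLocalRing T] (φ : R →+* S) (L : S →+* T) [IsLocalHom L]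
    (hL : L.Flat) (h : (L.comp φ).Flat) : φ.Flat := by
  letI : Algebra R S := φ.toAlgebra
  letI : Algebra S T := L.toAlgebra
  letI : Algebra R T := (L.comp φ).toAlgebra
  haveI : IsScalarTower R S T := IsScalarTower.of_algebraMap_eq (fun x => rfl)
  haveI : Module.Flat S T := hL
  haveI : IsLocalHom (algebraMap S T) := ‹IsLocalHom L›
  haveI : Module.FaithfullyFlat S T := Module.FaithfullyFlat.of_flat_of_isLocalHom
  haveI : Module.Flat R T := h
  exact Groth.Agent.Helper3.LocalTower.flat_of_flat_comp R S T

section X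

variable {R S M : Type*} [CommRing R] [CommRing S] [Algebra R S]
  [AddCommGroup M] [Module R M] [Module S M] [IsScalarTower R S M]

/-- The "étale trick" modulo an ideal: if `M` is `R`-flat and `S/JS` is unramified over `R/J`,
then `M/JM` is flat over `S/JS`. -/
theorem flat_quotient_of_unramified [Module.Flat R M] (J : Ideal R)
    [Algebra.EssFiniteType (R ⧸ J) (S ⧸ J.map (algebraMap R S))]
    [Algebra.FormallyUnramified (R ⧸ J) (S ⧸ J.map (algebraMap R S))] :
    Module.Flat (S ⧸ J.map (algebraMap R S)) ((S ⧸ J.map (algebraMap R S)) ⊗[S] M) := by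
  set J' := J.map (algebraMap R S) with hJ'
  have hsub : (J' • ⊤ : Submodule S M).restrictScalars R = J • ⊤ := by
    rw [hJ', Ideal.smul_restrictScalars, Submodule.restrictScalars_top]
  let e₁ : (R ⧸ J) ⊗[R] M ≃ₗ[R] M ⧸ (J • ⊤ : Submodule R M) := quotTensorEquivQuotSMul M J
  let e₂ : (S ⧸ J') ⊗[S] M ≃ₗ[S] M ⧸ (J' • ⊤ : Submodule S M) := quotTensorEquivQuotSMul M J'
  let e₃ : (M ⧸ (J • ⊤ : Submodule R M)) ≃ₗ[R] M ⧸ (J' • ⊤ : Submodule S M) :=
    (Submodule.quotEquivOfEq _ _ hsub.symm) ≪≫ₗ
      Submodule.Quotient.restrictScalarsEquiv R (J' • ⊤ : Submodule S M)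
  -- the `R/J`-module structure on `M/J'M`
  letI : Module (R ⧸ J) (M ⧸ (J' • ⊤ : Submodule S M)) :=
    Module.compHom _ (algebraMap (R ⧸ J) (S ⧸ J'))
  haveI : IsScalarTower (R ⧸ J) (S ⧸ J') (M ⧸ (J' • ⊤ : Submodule S M)) :=
    IsScalarTower.of_algebraMap_smul fun r x => rfl
  haveI : IsScalarTower R (R ⧸ J) (M ⧸ (J' • ⊤ : Submodule S M)) := by
    refine IsScalarTower.of_algebraMap_smul fun r x => ?_
    obtain ⟨m, rfl⟩ := Submodule.Quotient.mk_surjective _ x
    show (algebraMap (R ⧸ J) (S ⧸ J') (algebraMap R (R ⧸ J) r)) •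
      (Submodule.Quotient.mk m : M ⧸ (J' • ⊤ : Submodule S M)) = r • Submodule.Quotient.mk m
    rw [← IsScalarTower.algebraMap_apply R (R ⧸ J) (S ⧸ J'),
      IsScalarTower.algebraMap_apply R S (S ⧸ J'), algebraMap_smul, algebraMap_smul]
  haveI h2 : Module.Flat (R ⧸ J) (M ⧸ (J' • ⊤ : Submodule S M)) :=
    FlatTransport.flat_of_linearEquiv_of_surjective (A := R) (R := R ⧸ J) (R' := R ⧸ J)
      Ideal.Quotient.mk_surjective Ideal.Quotient.mk_surjective le_rfl (e₁ ≪≫ₗ e₃)
  haveI h3 : Module.Flat (S ⧸ J') (M ⧸ (J' • ⊤ : Submodule S M)) :=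
    Algebra.FormallyUnramified.flat_of_restrictScalars (R := R ⧸ J) (S := S ⧸ J') _
  exact FlatTransport.flat_of_linearEquiv_of_surjective (A := S) (R := S ⧸ J') (R' := S ⧸ J')
      Ideal.Quotient.mk_surjective Ideal.Quotient.mk_surjective le_rfl e₂.symm

end X

theorem unram_quotient' (A : Type u) [CommRing A] [IsNoetherianRing A] (I : Ideal A)
    [IsAdicComplete I A] (B : Type u) [CommRing B] [Algebra A B] [IsNoetherianRing B]
    [IsAdicComplete (I.map (algebraMap A B)) B]
    (hft : Algebra.FiniteType A (B ⧸ (I.map (algebraMap A B))))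
    [Algebra.FormallyUnramified A (B ⧸ (I.map (algebraMap A B)))]
    (p : Ideal A) [IsArtinianRing (A ⧸ (I ⊔ p))] :
    Module.Finite A (B ⧸ p.map (algebraMap A B)) ∧
      Algebra.FormallyUnramified A (B ⧸ p.map (algebraMap A B)) := by
  obtain ⟨P, hP⟩ : ∃ P : Ideal B, P = p.map (algebraMap A B) := ⟨_, rfl⟩
  rw [← hP]
  obtain ⟨J, hJdef⟩ : ∃ J : Ideal (B ⧸ P), J = I.map (algebraMap A (B ⧸ P)) := ⟨_, rfl⟩
  have hJ : J = (I.map (algebraMap A B)).map (Ideal.Quotient.mk P) := by
    rw [hJdef, Ideal.map_map]; rfl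
  -- the surjection B/IB → B'/J
  let f : (B ⧸ (I.map (algebraMap A B))) →ₐ[A] ((B ⧸ P) ⧸ J) :=
    Ideal.quotientMapₐ J (Ideal.Quotient.mkₐ A P)
      (by rw [hJ]; exact Ideal.le_comap_map)
  have hf : Function.Surjective f := by
    intro x
    obtain ⟨d, rfl⟩ := Ideal.Quotient.mk_surjective x
    obtain ⟨b, rfl⟩ := Ideal.Quotient.mk_surjective d
    exact ⟨Ideal.Quotient.mk _ b, rfl⟩
  haveI hunr : Algebra.FormallyUnramified A ((B ⧸ P) ⧸ J) :=
    Algebra.FormallyUnramified.of_surjective f hf
  haveI hftJ : Algebra.FiniteType A ((B ⧸ P) ⧸ J) := Algebra.FiniteType.of_surjective f hf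
  haveI : Algebra.QuasiFinite A ((B ⧸ P) ⧸ J) := inferInstance
  have hK : I ⊔ p ≤ RingHom.ker (algebraMap A ((B ⧸ P) ⧸ J)) := by
    refine sup_le ?_ ?_
    · intro x hx
      rw [RingHom.mem_ker]
      show Ideal.Quotient.mk J (algebraMap A (B ⧸ P) x) = 0
      rw [Ideal.Quotient.eq_zero_iff_mem, hJdef]
      exact Ideal.mem_map_of_mem _ hx
    · intro x hx
      rw [RingHom.mem_ker]
      show Ideal.Quotient.mk J (Ideal.Quotient.mk P (algebraMap A B x)) = 0
      have : Ideal.Quotient.mk P (algebraMap A B x) = 0 := by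
        rw [Ideal.Quotient.eq_zero_iff_mem, hP]
        exact Ideal.mem_map_of_mem _ hx
      rw [this, map_zero]
  haveI hfinJ : Module.Finite A ((B ⧸ P) ⧸ J) := Groth.Agent.Helper3.EtRed.finite_of_quasiFinite (I ⊔ p) hK
  -- Hausdorff
  haveI hH : IsHausdorff I (B ⧸ P) := by
    have h2 : IsHausdorff (I.map (algebraMap A B)) (B ⧸ P) :=
      IsHausdorff.of_le_jacobson _ _ (IsAdicComplete.le_jacobson_bot _)
    exact (IsHausdorff.map_algebraMap_iff (R := A) (S := B) (I := I)
      (M := B ⧸ P)).mp h2
  have hIJ : (I • ⊤ : Submodule A (B ⧸ P)) = J.restrictScalars A := by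
    rw [Ideal.smul_top_eq_map, hJdef]
  haveI : Module.Finite A ((B ⧸ P) ⧸ (I • ⊤ : Submodule A (B ⧸ P))) := by
    let e1 := Submodule.quotEquivOfEq _ _ hIJ
    let e2 := Submodule.Quotient.restrictScalarsEquiv A J
    exact Module.Finite.equiv (e1.trans e2).symm
  haveI hfin : Module.Finite A (B ⧸ P) :=
    Groth.Agent.Helper3.ComplUnram.finite_of_finite_quotient I
  refine ⟨hfin, ?_⟩
  -- J in the Jacobson radical
  have hJjac : I.map (algebraMap A (B ⧸ P)) ≤ Ideal.jacobson ⊥ := by
    rw [← hJdef, hJ]
    refine le_sInf ?_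
    rintro M ⟨-, hM⟩
    rw [Ideal.map_le_iff_le_comap]
    have hM' : (M.comap (Ideal.Quotient.mk P)).IsMaximal :=
      Ideal.comap_isMaximal_of_surjective _ Ideal.Quotient.mk_surjective
    refine le_trans (IsAdicComplete.le_jacobson_bot (I.map (algebraMap A B))) ?_
    exact sInf_le ⟨bot_le, hM'⟩
  haveI : Algebra.FormallyUnramified A ((B ⧸ P) ⧸ I.map (algebraMap A (B ⧸ P))) := by
    rw [← hJdef]; exact hunr
  exact Groth.Agent.Helper3.EtRed.formallyUnramified_of_quotient I hJjac



theorem isArtinianRing_quotient_sup_pow {A : Type*} [CommRing A] [IsNoetherianRing A]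
    (I p : Ideal A) [p.IsPrime] (hdim : ringKrullDim (A ⧸ p) = 1) (hI : ¬ I ≤ p) (k : ℕ) :
    IsArtinianRing (A ⧸ (I ⊔ p ^ k)) := by
  rw [isArtinianRing_iff_krullDimLE_zero, Ring.krullDimLE_zero_iff]
  intro Q' hQ'
  have hQ : (Q'.comap (Ideal.Quotient.mk (I ⊔ p ^ k))).IsPrime := Ideal.comap_isPrime _ _
  have hle : I ⊔ p ^ k ≤ Q'.comap (Ideal.Quotient.mk (I ⊔ p ^ k)) := by
    conv_lhs => rw [← Ideal.mk_ker (I := I ⊔ p ^ k)]
    exact Ideal.comap_mono bot_le
  have hpQ : p ≤ Q'.comap (Ideal.Quotient.mk (I ⊔ p ^ k)) :=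
    Ideal.IsPrime.le_of_pow_le (le_sup_right.trans hle)
  have hmax := Groth.Agent.Helper3.RigClosed2.isMaximal_of_dim_one p hdim _ hQ
    hpQ (fun h => hI (h ▸ le_sup_left.trans hle))
  have h1 := Ideal.map_eq_top_or_isMaximal_of_surjective (Ideal.Quotient.mk (I ⊔ p ^ k))
    Ideal.Quotient.mk_surjective hmax
  rw [Ideal.map_comap_of_surjective _ Ideal.Quotient.mk_surjective Q'] at h1
  exact h1.resolve_left hQ'.ne_top


theorem flat_of_unramified_rigClosed (R : Type u) [CommRing R] [IsNoetherianRing R]
    (IR : Ideal R) [IsAdicComplete IR R]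
    (S : Type u) [CommRing S] [Algebra R S] [IsNoetherianRing S]
    [IsAdicComplete (IR.map (algebraMap R S)) S]
    (hft : Algebra.FiniteType R (S ⧸ IR.map (algebraMap R S)))
    [Algebra.FormallyUnramified R (S ⧸ IR.map (algebraMap R S))]
    (P : Ideal R) [P.IsPrime] (hdim : ringKrullDim (R ⧸ P) = 1) (hIP : ¬ IR ≤ P)
    (D : Type u) [CommRing D] [IsNoetherianRing D] [Algebra S D] [Algebra R D]
    [IsScalarTower R S D] [Module.Flat R D]
    (hjac : (P.map (algebraMap R S)).map (algebraMap S D) ≤ Ideal.jacobson ⊥) :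
    Module.Flat S D := by
  refine Groth.Agent.Helper1.LocalFlat.flat_of_flat_baseChange_pow (A := S) (B := D) (M := D)
    (P.map (algebraMap R S)) hjac fun k => ?_
  have key : ∀ K : Ideal S, K = (P ^ k).map (algebraMap R S) →
      Module.Flat (S ⧸ K) ((S ⧸ K) ⊗[S] D) := by
    rintro K rfl
    haveI := isArtinianRing_quotient_sup_pow IR P hdim hIP k
    obtain ⟨hfin, hunr⟩ := unram_quotient' R IR S hft (P ^ k)
    haveI : Module.Finite (R ⧸ P ^ k) (S ⧸ (P ^ k).map (algebraMap R S)) :=
      Module.Finite.of_restrictScalars_finite R _ _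
    haveI : Algebra.FormallyUnramified (R ⧸ P ^ k) (S ⧸ (P ^ k).map (algebraMap R S)) :=
      Algebra.FormallyUnramified.of_restrictScalars R _ _
    exact flat_quotient_of_unramified (P ^ k)
  exact key _ (Ideal.map_pow _ _ _).symm


/-- unramifiedness and finite type descend to `A` for an `A'`-algebra killed by `I`. -/
theorem unram_of_killed (A A' T : Type u) [CommRing A] [CommRing A'] [CommRing T]
    [Algebra A A'] [Algebra A' T] [Algebra A T] [IsScalarTower A A' T] (I : Ideal A)
    (hft : Algebra.FiniteType A (A' ⧸ I.map (algebraMap A A')))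
    [Algebra.FormallyUnramified A (A' ⧸ I.map (algebraMap A A'))]
    [Algebra.FiniteType A' T] [Algebra.FormallyUnramified A' T]
    (hkill : I.map (algebraMap A A') ≤ RingHom.ker (algebraMap A' T)) :
    Algebra.FiniteType A T ∧ Algebra.FormallyUnramified A T := by
  letI : Algebra (A' ⧸ I.map (algebraMap A A')) T :=
    (Ideal.Quotient.lift _ (algebraMap A' T) (fun x hx => hkill hx)).toAlgebra
  haveI : IsScalarTower A' (A' ⧸ I.map (algebraMap A A')) T :=
    IsScalarTower.of_algebraMap_eq (fun x => rfl)
  haveI : IsScalarTower A (A' ⧸ I.map (algebraMap A A')) T :=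
    IsScalarTower.of_algebraMap_eq (fun x => by
      rw [IsScalarTower.algebraMap_apply A A' T,
        IsScalarTower.algebraMap_apply A A' (A' ⧸ I.map (algebraMap A A')),
        ← IsScalarTower.algebraMap_apply A' (A' ⧸ I.map (algebraMap A A')) T])
  haveI : Algebra.FormallyUnramified (A' ⧸ I.map (algebraMap A A')) T :=
    Algebra.FormallyUnramified.of_restrictScalars A' _ _
  haveI : Algebra.FiniteType (A' ⧸ I.map (algebraMap A A')) T :=
    Algebra.FiniteType.of_restrictScalars_finiteType A' _ _
  exact ⟨Algebra.FiniteType.trans hft inferInstance,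
    Algebra.FormallyUnramified.comp A (A' ⧸ I.map (algebraMap A A')) T⟩


/-- the reduction of a completed principal localization of `A'` is of finite type and unramified
over `A` when `A'/IA'` is. -/
theorem unram_completion_quotient (A A' : Type u) [CommRing A] [CommRing A'] [Algebra A A']
    [IsNoetherianRing A'] (I : Ideal A)
    (hft : Algebra.FiniteType A (A' ⧸ I.map (algebraMap A A')))
    [Algebra.FormallyUnramified A (A' ⧸ I.map (algebraMap A A'))] (g : A')
    (a : Ideal (Localization.Away g))
    (ha : a = (I.map (algebraMap A A')).map (algebraMap A' (Localization.Away g))) :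
    Algebra.FiniteType A
        (AdicCompletion a (Localization.Away g) ⧸
          a.map (algebraMap (Localization.Away g) (AdicCompletion a (Localization.Away g)))) ∧
      Algebra.FormallyUnramified A
        (AdicCompletion a (Localization.Away g) ⧸
          a.map (algebraMap (Localization.Away g) (AdicCompletion a (Localization.Away g)))) := by
  set T := AdicCompletion a (Localization.Away g) ⧸
    a.map (algebraMap (Localization.Away g) (AdicCompletion a (Localization.Away g))) with hT
  have hsurj : Function.Surjective (algebraMap (Localization.Away g) T) := by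
    intro t
    obtain ⟨x, rfl⟩ := Ideal.Quotient.mk_surjective t
    obtain ⟨r, hr⟩ := Groth.Agent.Helper3.RigLoc.exists_of_sub_mem a x
    refine ⟨r, ?_⟩
    rw [IsScalarTower.algebraMap_apply (Localization.Away g)
      (AdicCompletion a (Localization.Away g)) T, Ideal.Quotient.algebraMap_eq, eq_comm,
      Ideal.Quotient.mk_eq_mk_iff_sub_mem]
    exact hr
  haveI : Algebra.FiniteType (Localization.Away g) T :=
    Algebra.FiniteType.of_surjective (Algebra.ofId (Localization.Away g) T) hsurj
  haveI : Algebra.FormallyUnramified (Localization.Away g) T :=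
    Algebra.FormallyUnramified.of_surjective (Algebra.ofId (Localization.Away g) T) hsurj
  haveI : Algebra.FiniteType A' T :=
    Algebra.FiniteType.trans (inferInstance : Algebra.FiniteType A' (Localization.Away g))
      inferInstance
  haveI : Algebra.FormallyUnramified A' T :=
    Algebra.FormallyUnramified.comp A' (Localization.Away g) T
  refine unram_of_killed A A' T I hft ?_
  intro x hx
  rw [RingHom.mem_ker, IsScalarTower.algebraMap_apply A' (Localization.Away g) T,
    IsScalarTower.algebraMap_apply (Localization.Away g)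
      (AdicCompletion a (Localization.Away g)) T, Ideal.Quotient.algebraMap_eq,
    Ideal.Quotient.eq_zero_iff_mem]
  apply Ideal.mem_map_of_mem
  rw [ha]
  exact Ideal.mem_map_of_mem _ hx


section Core

variable (A : Type u) [CommRing A] [IsNoetherianRing A] (I : Ideal A) [IsAdicComplete I A]
  (B : Type u) [CommRing B] [Algebra A B] [IsNoetherianRing B]
  (A' : Type u) [CommRing A'] [Algebra A A'] [IsNoetherianRing A']
  (B' : Type u) [CommRing B'] [Algebra A B'] [Algebra B B'] [Algebra A' B'] [IsScalarTower A B B']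
  [IsScalarTower A A' B'] [IsNoetherianRing B'] [IsAdicComplete (I.map (algebraMap A B')) B']
  (e : A)

local notation "RA" => Localization.Away e
local notation "RB" => Localization.Away (algebraMap A B e)
local notation "RA'" => Localization.Away (algebraMap A A' e)
local notation "RB'" => Localization.Away (algebraMap A B' e)
local notation "aA" => Ideal.map (algebraMap A (Localization.Away e)) I
local notation "aB" => Ideal.map (algebraMap B (Localization.Away (algebraMap A B e)))
  (Ideal.map (algebraMap A B) I)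
local notation "aA'" => Ideal.map (algebraMap A' (Localization.Away (algebraMap A A' e)))
  (Ideal.map (algebraMap A A') I)
local notation "aB'" => Ideal.map (algebraMap B' (Localization.Away (algebraMap A B' e)))
  (Ideal.map (algebraMap A B') I)
local notation "Â" => AdicCompletion (Ideal.map (algebraMap A (Localization.Away e)) I)
  (Localization.Away e)
local notation "B̂" => AdicCompletion (Ideal.map (algebraMap B (Localization.Away
  (algebraMap A B e))) (Ideal.map (algebraMap A B) I)) (Localization.Away (algebraMap A B e))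
local notation "Â'" => AdicCompletion (Ideal.map (algebraMap A' (Localization.Away
  (algebraMap A A' e))) (Ideal.map (algebraMap A A') I)) (Localization.Away (algebraMap A A' e))
local notation "B̂'" => AdicCompletion (Ideal.map (algebraMap B' (Localization.Away
  (algebraMap A B' e))) (Ideal.map (algebraMap A B') I)) (Localization.Away (algebraMap A B' e))

theorem core_aux
    (hftA' : Algebra.FiniteType A (A' ⧸ I.map (algebraMap A A')))
    [Algebra.FormallyUnramified A (A' ⧸ I.map (algebraMap A A'))]
    [Module.Flat A A'] [Module.Flat B B']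
    (hAB : Groth.Agent.Helper3.RigComp.RigFlatAt A B I e (algebraMap A B e)
      (I.map (algebraMap A B)))
    (q' : PrimeSpectrum B')
    (hunit : IsUnit (Ideal.Quotient.mk q'.asIdeal (algebraMap A B' e)))
    (hrig : ∀ ψ : (AdicCompletion (I.map (algebraMap A (Localization.Away e))) (Localization.Away e)) →+* (AdicCompletion ((I.map (algebraMap A B')).map (algebraMap B' (Localization.Away (algebraMap A B' e)))) (Localization.Away (algebraMap A B' e))), ψ.comp (algebraMap (Localization.Away e) (AdicCompletion (I.map (algebraMap A (Localization.Away e))) (Localization.Away e))) = (algebraMap (Localization.Away (algebraMap A B' e)) (AdicCompletion ((I.map (algebraMap A B')).map (algebraMap B' (Localization.Away (algebraMap A B' e)))) (Localization.Away (algebraMap A B' e)))).comp (Localization.awayMap (algebraMap A B') e) → (((q'.asIdeal.map (algebraMap B' (AdicCompletion ((I.map (algebraMap A B')).map (algebraMap B' (Localization.Away (algebraMap A B' e)))) (Localization.Away (algebraMap A B' e))))).comap ψ).IsPrime ∧ ¬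 (I.map (algebraMap A (AdicCompletion (I.map (algebraMap A (Localization.Away e))) (Localization.Away e)))) ≤ ((q'.asIdeal.map (algebraMap B' (AdicCompletion ((I.map (algebraMap A B')).map (algebraMap B' (Localization.Away (algebraMap A B' e)))) (Localization.Away (algebraMap A B' e))))).comap ψ) ∧ ∀ y : PrimeSpectrum (AdicCompletion (I.map (algebraMap A (Localization.Away e))) (Localization.Away e)), ((q'.asIdeal.map (algebraMap B' (AdicCompletion ((I.map (algebraMap A B')).map (algebraMap B' (Localization.Away (algebraMap A B' e)))) (Localization.Away (algebraMap A B' e))))).comap ψ) ≤ y.asIdeal → ¬ (I.map (algebraMap A (AdicCompletion (I.map (algebraMap A (Localization.Away e))) (Localization.Away e)))) ≤ y.asIdeal → y.asIdeal = ((q'.asIdeal.map (algebraMap B' (AdicCompletion ((I.map (algebraMap A B')).map (algebraMap B' (Localization.Away (algebraMap A B' e)))) (Localization.Away (algebraMap A B' e))))).comap ψ))) :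
    ((algebraMap B' (Localization.AtPrime q'.asIdeal)).comp (algebraMap A' B')).Flat := by
  -- the maps between localizations
  obtain ⟨θAB, hθABdef⟩ : ∃ θ : RA →+* RB, θ = Localization.awayMap (algebraMap A B) e :=
    ⟨_, rfl⟩
  have hθAB : θAB.comp (algebraMap A RA) = (algebraMap B RB).comp (algebraMap A B) := by
    rw [hθABdef, Localization.awayMap, IsLocalization.Away.map, IsLocalization.map_comp]
  obtain ⟨θAA', hθAA'def⟩ : ∃ θ : RA →+* RA', θ = Localization.awayMap (algebraMap A A') e :=
    ⟨_, rfl⟩
  have hθAA' : θAA'.comp (algebraMap A RA) = (algebraMap A' RA').comp (algebraMap A A') := by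
    rw [hθAA'def, Localization.awayMap, IsLocalization.Away.map, IsLocalization.map_comp]
  have hunitB : IsUnit (((algebraMap B' RB').comp (algebraMap B B')) (algebraMap A B e)) := by
    rw [RingHom.comp_apply, ← IsScalarTower.algebraMap_apply A B B']
    exact IsLocalization.Away.algebraMap_isUnit _
  obtain ⟨θBB', hθBB'⟩ : ∃ θ : RB →+* RB', θ.comp (algebraMap B RB) =
      (algebraMap B' RB').comp (algebraMap B B') :=
    ⟨IsLocalization.Away.lift (algebraMap A B e) hunitB, IsLocalization.Away.lift_comp _ hunitB⟩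
  have hunitA' : IsUnit (((algebraMap B' RB').comp (algebraMap A' B')) (algebraMap A A' e)) := by
    rw [RingHom.comp_apply, ← IsScalarTower.algebraMap_apply A A' B']
    exact IsLocalization.Away.algebraMap_isUnit _
  obtain ⟨θA'B', hθA'B'⟩ : ∃ θ : RA' →+* RB', θ.comp (algebraMap A' RA') =
      (algebraMap B' RB').comp (algebraMap A' B') :=
    ⟨IsLocalization.Away.lift (algebraMap A A' e) hunitA', IsLocalization.Away.lift_comp _ hunitA'⟩
  have hsq : θBB'.comp θAB = θA'B'.comp θAA' := by
    apply IsLocalization.ringHom_ext (Submonoid.powers e)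
    ext x
    have h1 := RingHom.congr_fun hθAB x
    have h2 := RingHom.congr_fun hθBB' (algebraMap A B x)
    have h3 := RingHom.congr_fun hθAA' x
    have h4 := RingHom.congr_fun hθA'B' (algebraMap A A' x)
    simp only [RingHom.comp_apply] at h1 h2 h3 h4 ⊢
    rw [h1, h2, h3, h4, ← IsScalarTower.algebraMap_apply A B B',
      ← IsScalarTower.algebraMap_apply A A' B']
  have h3AB : Ideal.map θAB aA = aB := by
    rw [Ideal.map_map, hθAB, ← Ideal.map_map]
  have h3AA' : Ideal.map θAA' aA = aA' := by
    rw [Ideal.map_map, hθAA', ← Ideal.map_map]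
  have h3BB' : Ideal.map θBB' aB = aB' := by
    rw [Ideal.map_map, hθBB', Ideal.map_map, RingHom.comp_assoc, ← IsScalarTower.algebraMap_eq,
      ← Ideal.map_map]
  have h3A'B' : Ideal.map θA'B' aA' = aB' := by
    rw [Ideal.map_map, hθA'B', Ideal.map_map, RingHom.comp_assoc, ← IsScalarTower.algebraMap_eq,
      ← Ideal.map_map]
  haveI : IsNoetherianRing Â := Groth.Agent.S0543.result RA aA
  haveI : IsNoetherianRing B̂ := Groth.Agent.S0543.result RB aB
  haveI : IsNoetherianRing Â' := Groth.Agent.S0543.result RA' aA'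
  haveI : IsNoetherianRing B̂' := Groth.Agent.S0543.result RB' aB'
  have hB'compl := Groth.Agent.Helper3.RigLoc.complete_map (R := RB') aB'
  have hA'compl := Groth.Agent.Helper3.RigLoc.complete_map (R := RA') aA'
  obtain ⟨α, hα⟩ : ∃ ψ : Â →+* Â', ψ.comp (algebraMap RA Â) = (algebraMap RA' Â').comp θAA' :=
    ⟨Groth.Agent.Helper3.ComplMap.lift aA aA' θAA' (le_of_eq h3AA'),
      Groth.Agent.Helper3.ComplMap.lift_comp _ _ _ _⟩
  obtain ⟨β, hβ⟩ : ∃ ψ : B̂ →+* B̂', ψ.comp (algebraMap RB B̂) = (algebraMap RB' B̂').comp θBB' :=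
    ⟨Groth.Agent.Helper3.ComplMap.lift aB aB' θBB' (le_of_eq h3BB'),
      Groth.Agent.Helper3.ComplMap.lift_comp _ _ _ _⟩
  obtain ⟨ψ', hψ'⟩ : ∃ ψ : Â' →+* B̂', ψ.comp (algebraMap RA' Â') =
      (algebraMap RB' B̂').comp θA'B' :=
    ⟨Groth.Agent.Helper3.ComplMap.lift aA' aB' θA'B' (le_of_eq h3A'B'),
      Groth.Agent.Helper3.ComplMap.lift_comp _ _ _ _⟩
  obtain ⟨ψe, hψe'⟩ : ∃ ψ : Â →+* B̂, ψ.comp (algebraMap RA Â) = (algebraMap RB B̂).comp θAB :=
    ⟨Groth.Agent.Helper3.ComplMap.lift aA aB θAB (le_of_eq h3AB),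
      Groth.Agent.Helper3.ComplMap.lift_comp _ _ _ _⟩
  have hψe : ψe.comp (algebraMap RA Â) =
      (algebraMap RB B̂).comp (Localization.awayMap (algebraMap A B) e) := by
    rw [hψe', hθABdef]
  have hcomm : β.comp ψe = ψ'.comp α := by
    haveI : IsHausdorff (Ideal.map (algebraMap RB' B̂') aB') B̂' := hB'compl.toIsHausdorff
    have e1 : (β.comp ψe).comp (algebraMap RA Â) = (algebraMap RB' B̂').comp (θBB'.comp θAB) := by
      rw [RingHom.comp_assoc, hψe, ← hθABdef, ← RingHom.comp_assoc, hβ, RingHom.comp_assoc]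
    have e2 : (ψ'.comp α).comp (algebraMap RA Â) = (algebraMap RB' B̂').comp (θBB'.comp θAB) := by
      rw [RingHom.comp_assoc, hα, ← RingHom.comp_assoc, hψ', RingHom.comp_assoc, hsq]
    apply Groth.Agent.Helper3.ComplMap.ringHom_ext aA (Ideal.map (algebraMap RB' B̂') aB')
    · rw [e1, e2]
    · rw [e1, ← Ideal.map_map (θBB'.comp θAB) (algebraMap RB' B̂'), ← Ideal.map_map θAB θBB',
        h3AB, h3BB']
  -- flatness of the localized maps
  have hθBB'flat : θBB'.Flat := by
    apply Groth.Agent.Helper3.RigFlat.flat_of_comp_localization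
      (Submonoid.powers (algebraMap A B e))
    rw [hθBB']
    exact RingHom.Flat.comp (RingHom.flat_algebraMap_iff.mpr inferInstance)
      (RingHom.flat_algebraMap_iff.mpr (IsLocalization.flat _
        (Submonoid.powers (algebraMap A B' e))))
  have hθAA'flat : θAA'.Flat := by
    apply Groth.Agent.Helper3.RigFlat.flat_of_comp_localization (Submonoid.powers e)
    rw [hθAA']
    exact RingHom.Flat.comp (RingHom.flat_algebraMap_iff.mpr inferInstance)
      (RingHom.flat_algebraMap_iff.mpr (IsLocalization.flat _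
        (Submonoid.powers (algebraMap A A' e))))
  have hKβ : Ideal.map β (Ideal.map (algebraMap RB B̂) aB) =
      Ideal.map (algebraMap RB' B̂') aB' := by
    rw [Ideal.map_map (algebraMap RB B̂) β, hβ, ← Ideal.map_map θBB' (algebraMap RB' B̂'), h3BB']
  have hKα : Ideal.map α (Ideal.map (algebraMap RA Â) aA) =
      Ideal.map (algebraMap RA' Â') aA' := by
    rw [Ideal.map_map (algebraMap RA Â) α, hα, ← Ideal.map_map θAA' (algebraMap RA' Â'), h3AA']
  have hβflat : β.Flat := by
    refine Groth.Agent.Helper3.RigDesc.dense_flat' (algebraMap RB B̂) β aB ?_ ?_ ?_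
    · rw [hKβ]
      exact IsAdicComplete.le_jacobson_bot _
    · intro k x
      obtain ⟨r, hr⟩ := Groth.Agent.Helper3.ComplMap.exists_sub_mem_pow aB k x
      refine ⟨r, ?_⟩
      rw [← Ideal.map_pow]
      exact hr
    · rw [hβ]
      exact RingHom.Flat.comp hθBB'flat (RingHom.flat_algebraMap_iff.mpr
        (AdicCompletion.flat_of_isNoetherian aB'))
  have hαflat : α.Flat := by
    refine Groth.Agent.Helper3.RigDesc.dense_flat' (algebraMap RA Â) α aA ?_ ?_ ?_
    · rw [hKα]
      exact IsAdicComplete.le_jacobson_bot _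
    · intro k x
      obtain ⟨r, hr⟩ := Groth.Agent.Helper3.ComplMap.exists_sub_mem_pow aA k x
      refine ⟨r, ?_⟩
      rw [← Ideal.map_pow]
      exact hr
    · rw [hα]
      exact RingHom.Flat.comp hθAA'flat (RingHom.flat_algebraMap_iff.mpr
        (AdicCompletion.flat_of_isNoetherian aA'))
  -- the composite Ψ : Â → B̂'
  have hAB' : θBB'.comp θAB = Localization.awayMap (algebraMap A B') e := by
    apply IsLocalization.ringHom_ext (Submonoid.powers e)
    have h1 : (Localization.awayMap (algebraMap A B') e).comp (algebraMap A RA) =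
        (algebraMap B' RB').comp (algebraMap A B') := by
      rw [Localization.awayMap, IsLocalization.Away.map, IsLocalization.map_comp]
    rw [h1]
    ext x
    have h1 := RingHom.congr_fun hθAB x
    have h2 := RingHom.congr_fun hθBB' (algebraMap A B x)
    simp only [RingHom.comp_apply] at h1 h2 ⊢
    rw [h1, h2, ← IsScalarTower.algebraMap_apply A B B']
  have hΨ : (β.comp ψe).comp (algebraMap RA Â) =
      (algebraMap RB' B̂').comp (Localization.awayMap (algebraMap A B') e) := by
    rw [RingHom.comp_assoc, hψe', ← RingHom.comp_assoc, hβ, RingHom.comp_assoc, hAB']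
  obtain ⟨hPprime, hIP, hPmax⟩ := hrig (β.comp ψe) hΨ
  obtain ⟨hq''prime, hq''bij⟩ := Groth.Agent.Helper3.RigLoc.complLoc_main' B'
    (I.map (algebraMap A B')) q'.asIdeal (algebraMap A B' e) hunit aB' rfl
  set q'' := q'.asIdeal.map (algebraMap B' B̂') with hq''
  set P'' := q''.comap (β.comp ψe) with hP''
  have hΨA : ∀ x : A, (β.comp ψe) (algebraMap A Â x) = algebraMap B' B̂' (algebraMap A B' x) := by
    intro x
    have h1 := RingHom.congr_fun hΨ (algebraMap A RA x)
    simp only [RingHom.comp_apply] at h1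
    rw [IsScalarTower.algebraMap_apply A RA Â, RingHom.comp_apply, h1,
      IsScalarTower.algebraMap_apply B' RB' B̂']
    congr 1
    have h2 : (Localization.awayMap (algebraMap A B') e).comp (algebraMap A RA) =
        (algebraMap B' RB').comp (algebraMap A B') := by
      rw [Localization.awayMap, IsLocalization.Away.map, IsLocalization.map_comp]
    exact RingHom.congr_fun h2 x
  have hK'q'' : ¬ Ideal.map (algebraMap RB' B̂') aB' ≤ q'' := by
    intro h
    apply hIP
    rw [Ideal.map_le_iff_le_comap]
    intro x hx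
    rw [Ideal.mem_comap, hP'', Ideal.mem_comap, hΨA x, IsScalarTower.algebraMap_apply B' RB' B̂']
    apply h
    apply Ideal.mem_map_of_mem
    apply Ideal.mem_map_of_mem
    exact Ideal.mem_map_of_mem _ hx
  -- (a) D is flat over Â
  obtain ⟨qB, hqB⟩ : ∃ qB : Ideal B̂, qB = q''.comap β := ⟨_, rfl⟩
  haveI : qB.IsPrime := hqB ▸ Ideal.comap_isPrime _ _
  have hKqB : ¬ Ideal.map (algebraMap RB B̂) aB ≤ qB := by
    intro h
    apply hK'q''
    rw [← hKβ, Ideal.map_le_iff_le_comap, ← hqB]
    exact h
  have h7 := Groth.Agent.Helper3.RigComp.flat_at_all ψe (Ideal.map (algebraMap RB B̂) aB)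
    (fun q hq => hAB θAB hθAB ψe hψe' q hq) qB hKqB
  have hL : (Localization.localRingHom qB q'' β hqB).Flat :=
    RingHom.Flat.localRingHom hβflat q'' qB hqB
  have h8 := RingHom.Flat.comp h7 hL
  have hcompD : (Localization.localRingHom qB q'' β hqB).comp
      ((algebraMap B̂ (Localization.AtPrime qB)).comp ψe) =
      (algebraMap B̂' (Localization.AtPrime q'')).comp (β.comp ψe) := by
    ext x
    simp only [RingHom.comp_apply]
    rw [Localization.localRingHom_to_map]
  rw [hcompD] at h8
  -- (b) the étale trick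
  have hαA : ∀ x : A, α (algebraMap A Â x) = algebraMap A Â' x := by
    intro x
    have h1 := RingHom.congr_fun hα (algebraMap A RA x)
    have h2 := RingHom.congr_fun hθAA' x
    simp only [RingHom.comp_apply] at h1 h2
    rw [IsScalarTower.algebraMap_apply A RA Â, h1, h2, IsScalarTower.algebraMap_apply A A' Â',
      IsScalarTower.algebraMap_apply A' RA' Â']
  have hDflat : ((algebraMap B̂' (Localization.AtPrime q'')).comp ψ').Flat := by
    letI : Algebra Â Â' := α.toAlgebra
    letI : Algebra Â' (Localization.AtPrime q'') :=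
      ((algebraMap B̂' (Localization.AtPrime q'')).comp ψ').toAlgebra
    letI : Algebra Â (Localization.AtPrime q'') :=
      ((algebraMap B̂' (Localization.AtPrime q'')).comp (β.comp ψe)).toAlgebra
    haveI : IsScalarTower Â Â' (Localization.AtPrime q'') :=
      IsScalarTower.of_algebraMap_eq (fun x => by
        show (algebraMap B̂' (Localization.AtPrime q'')) ((β.comp ψe) x) =
          (algebraMap B̂' (Localization.AtPrime q'')) (ψ' (α x))
        rw [hcomm]; rfl)
    haveI : Module.Flat Â (Localization.AtPrime q'') := h8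
    haveI hAcompl : IsAdicComplete (Ideal.map (algebraMap RA Â) aA) Â :=
      Groth.Agent.Helper3.RigLoc.complete_map (R := RA) aA
    haveI : IsAdicComplete ((Ideal.map (algebraMap RA Â) aA).map (algebraMap Â Â')) Â' := by
      have : (Ideal.map (algebraMap RA Â) aA).map (algebraMap Â Â') =
          Ideal.map (algebraMap RA' Â') aA' := hKα
      rw [this]; exact hA'compl
    have hT : ∀ K : Ideal Â', K = Ideal.map (algebraMap RA' Â') aA' →
        Algebra.FiniteType Â (Â' ⧸ K) ∧ Algebra.FormallyUnramified Â (Â' ⧸ K) := by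
      rintro K rfl
      obtain ⟨h1, h2⟩ := unram_completion_quotient A A' I hftA' (algebraMap A A' e) aA' rfl
      haveI : IsScalarTower A Â (Â' ⧸ Ideal.map (algebraMap RA' Â') aA') :=
        IsScalarTower.of_algebraMap_eq (fun x => by
          show Ideal.Quotient.mk _ (algebraMap A Â' x) = Ideal.Quotient.mk _ (α (algebraMap A Â x))
          rw [hαA])
      exact ⟨Algebra.FiniteType.of_restrictScalars_finiteType A Â _,
        Algebra.FormallyUnramified.of_restrictScalars A Â _⟩
    obtain ⟨hftT, hunrT⟩ := hT _ hKα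
    haveI := hunrT
    have hII : I.map (algebraMap A Â) = Ideal.map (algebraMap RA Â) aA := by
      rw [IsScalarTower.algebraMap_eq A RA Â, ← Ideal.map_map]
    haveI := hPprime
    have htfae := (Groth.Agent.Helper3.RigClosed.main Â (Ideal.map (algebraMap RA Â) aA)
      ⟨P'', hPprime⟩).out 0 1
    have hrc : (¬ Ideal.map (algebraMap RA Â) aA ≤ P'' ∧ ∀ y : PrimeSpectrum Â,
        (⟨P'', hPprime⟩ : PrimeSpectrum Â) ≤ y → ¬ Ideal.map (algebraMap RA Â) aA ≤ y.asIdeal →
          y = ⟨P'', hPprime⟩) :=
      ⟨by rw [← hII]; exact hIP, fun y hy hIy =>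
        PrimeSpectrum.ext (hPmax y hy (by rw [hII]; exact hIy))⟩
    obtain ⟨hdim, hIP'⟩ := htfae.mp hrc
    refine flat_of_unramified_rigClosed Â (Ideal.map (algebraMap RA Â) aA) Â' hftT P'' hdim hIP'
      (Localization.AtPrime q'') ?_
    rw [Ideal.map_map (algebraMap Â Â') (algebraMap Â' (Localization.AtPrime q'')),
      Ideal.map_le_iff_le_comap, IsLocalRing.jacobson_eq_maximalIdeal ⊥ bot_ne_top]
    intro x hx
    rw [Ideal.mem_comap]
    show (algebraMap B̂' (Localization.AtPrime q'')) (ψ' (α x)) ∈ _
    have : ψ' (α x) = (β.comp ψe) x := by rw [hcomm]; rfl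
    rw [this, IsLocalization.AtPrime.to_map_mem_maximal_iff (Localization.AtPrime q'') q'']
    exact hx
  -- descent to B'_{q'}
  have hlamflat : (algebraMap B' B̂').Flat := by
    rw [RingHom.flat_algebraMap_iff]
    haveI : Module.Flat RB' B̂' := AdicCompletion.flat_of_isNoetherian aB'
    haveI : Module.Flat B' RB' := IsLocalization.flat _ (Submonoid.powers (algebraMap A B' e))
    exact Module.Flat.trans B' RB' B̂'
  have hq''comap : q''.comap (algebraMap B' B̂') = q'.asIdeal := by
    apply le_antisymm
    · intro x hx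
      rw [Ideal.mem_comap] at hx
      have h1 : Ideal.quotientMap q'' (algebraMap B' B̂') Ideal.le_comap_map
          (Ideal.Quotient.mk q'.asIdeal x) = Ideal.quotientMap q'' (algebraMap B' B̂')
            Ideal.le_comap_map (Ideal.Quotient.mk q'.asIdeal 0) := by
        rw [Ideal.quotientMap_mk, Ideal.quotientMap_mk, map_zero, map_zero,
          Ideal.Quotient.eq_zero_iff_mem]
        exact hx
      have h2 := hq''bij.1 h1
      rw [map_zero, Ideal.Quotient.eq_zero_iff_mem] at h2
      exact h2
    · exact Ideal.le_comap_map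
  have hψ'A' : ∀ x : A', ψ' (algebraMap A' Â' x) = algebraMap B' B̂' (algebraMap A' B' x) := by
    intro x
    have h1 := RingHom.congr_fun hψ' (algebraMap A' RA' x)
    have h2 := RingHom.congr_fun hθA'B' x
    simp only [RingHom.comp_apply] at h1 h2
    rw [IsScalarTower.algebraMap_apply A' RA' Â', h1, h2,
      IsScalarTower.algebraMap_apply B' RB' B̂']
  have hA'flat : (algebraMap A' Â').Flat := by
    rw [RingHom.flat_algebraMap_iff]
    haveI : Module.Flat RA' Â' := AdicCompletion.flat_of_isNoetherian aA'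
    haveI : Module.Flat A' RA' := IsLocalization.flat _ (Submonoid.powers (algebraMap A A' e))
    exact Module.Flat.trans A' RA' Â'
  have h9 := RingHom.Flat.comp hA'flat hDflat
  have hL' : (Localization.localRingHom q'.asIdeal q'' (algebraMap B' B̂') hq''comap.symm).Flat :=
    RingHom.Flat.localRingHom hlamflat q'' q'.asIdeal hq''comap.symm
  have hcomp' : (Localization.localRingHom q'.asIdeal q'' (algebraMap B' B̂') hq''comap.symm).comp
      ((algebraMap B' (Localization.AtPrime q'.asIdeal)).comp (algebraMap A' B')) =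
      ((algebraMap B̂' (Localization.AtPrime q'')).comp ψ').comp (algebraMap A' Â') := by
    ext x
    simp only [RingHom.comp_apply]
    rw [Localization.localRingHom_to_map, hψ'A']
  rw [← hcomp'] at h9
  exact ringHom_flat_descent _ (Localization.localRingHom q'.asIdeal q'' (algebraMap B' B̂')
    hq''comap.symm) hL' h9

end Core


section CoreMain

variable (A : Type u) [CommRing A] [IsNoetherianRing A] (I : Ideal A) [IsAdicComplete I A]
  (B : Type u) [CommRing B] [Algebra A B] [IsNoetherianRing B]
  (A' : Type u) [CommRing A'] [Algebra A A'] [IsNoetherianRing A']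
  (B' : Type u) [CommRing B'] [Algebra A B'] [Algebra B B'] [Algebra A' B'] [IsScalarTower A B B']
  [IsScalarTower A A' B'] [IsNoetherianRing B'] [IsAdicComplete (I.map (algebraMap A B')) B']

theorem core
    (hftB' : Algebra.FiniteType A (B' ⧸ I.map (algebraMap A B')))
    (hftA' : Algebra.FiniteType A (A' ⧸ I.map (algebraMap A A')))
    [Algebra.FormallyUnramified A (A' ⧸ I.map (algebraMap A A'))]
    [Module.Flat A A'] [Module.Flat B B']
    (hAB : ∀ f : A, Groth.Agent.Helper3.RigComp.RigFlatAt A B I f (algebraMap A B f)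
      (I.map (algebraMap A B)))
    (Q : Ideal B') [Q.IsPrime] (hQ : ¬ I.map (algebraMap A B') ≤ Q) :
    ((algebraMap B' (Localization.AtPrime Q)).comp (algebraMap A' B')).Flat := by
  refine Groth.Agent.Helper3.RigComp.flat_at_all (algebraMap A' B') (I.map (algebraMap A B'))
    ?_ Q hQ
  intro q' hq'
  obtain ⟨f, hfunit, hf⟩ := Groth.Agent.Helper3.RigLoc.main A I B' hftB' q' hq'
  exact core_aux A I B A' B' f hftA' (hAB f) q' hfunit hf

end CoreMain

end Groth.Agent.Helper3.RigEt
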