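import Mathlib
import Groth.Agent.Helper3.RigEt
set_option linter.style.haveILetI false
set_option linter.unusedSectionVars false
set_option linter.unusedVariables false
set_option autoImplicit false

namespace Groth.Agent.Helper3.RigEt2

open TensorProduct

universe u

theorem ft_of_killed (A A' T : Type u) [CommRing A] [CommRing A'] [CommRing T]
    [Algebra A A'] [Algebra A' T] [Algebra A T] [IsScalarTower A A' T] (J : Ideal A')
    (hft : Algebra.FiniteType A (A' ⧸ J)) [Algebra.FiniteType A' T]
    (hkill : J ≤ RingHom.ker (algebraMap A' T)) : Algebra.FiniteType A T := by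
  letI : Algebra (A' ⧸ J) T :=
    (Ideal.Quotient.lift _ (algebraMap A' T) (fun x hx => hkill hx)).toAlgebra
  haveI : IsScalarTower A' (A' ⧸ J) T := IsScalarTower.of_algebraMap_eq (fun x => rfl)
  haveI : IsScalarTower A (A' ⧸ J) T :=
    IsScalarTower.of_algebraMap_eq (fun x => by
      rw [IsScalarTower.algebraMap_apply A A' T, IsScalarTower.algebraMap_apply A A' (A' ⧸ J),
        ← IsScalarTower.algebraMap_apply A' (A' ⧸ J) T])
  haveI : Algebra.FiniteType (A' ⧸ J) T := Algebra.FiniteType.of_restrictScalars_finiteType A' _ _
  exact Algebra.FiniteType.trans hft inferInstance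

section Wrap

variable (A : Type u) [CommRing A] [IsNoetherianRing A] (I : Ideal A) [IsAdicComplete I A]
  (B : Type u) [CommRing B] [Algebra A B] [IsNoetherianRing B]
  (A' : Type u) [CommRing A'] [Algebra A A'] [IsNoetherianRing A']
  (B' : Type u) [CommRing B'] [Algebra A B'] [Algebra B B'] [Algebra A' B'] [IsScalarTower A B B']
  [IsScalarTower A A' B'] [IsNoetherianRing B']
  (f' : A')

local notation "R'" => Localization.Away f'
local notation "S'" => Localization.Away (algebraMap A' B' f')
local notation "a'" => Ideal.map (algebraMap A' (Localization.Away f')) (Ideal.map (algebraMap A A') I)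
local notation "b'" => Ideal.map (algebraMap B' (Localization.Away (algebraMap A' B' f')))
  (Ideal.map (algebraMap A' B') (Ideal.map (algebraMap A A') I))
local notation "A''" => AdicCompletion (Ideal.map (algebraMap A' (Localization.Away f'))
  (Ideal.map (algebraMap A A') I)) (Localization.Away f')
local notation "B''" => AdicCompletion (Ideal.map (algebraMap B' (Localization.Away
  (algebraMap A' B' f'))) (Ideal.map (algebraMap A' B') (Ideal.map (algebraMap A A') I)))
  (Localization.Away (algebraMap A' B' f'))

theorem wrap
    (hftA' : Algebra.FiniteType A (A' ⧸ I.map (algebraMap A A')))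
    (hftB'A' : Algebra.FiniteType A' (B' ⧸ I.map (algebraMap A B')))
    [Module.Flat A A'] [Module.Flat B B']
    [Algebra.FormallyUnramified A (A' ⧸ I.map (algebraMap A A'))]
    (hAB : ∀ f : A, Groth.Agent.Helper3.RigComp.RigFlatAt A B I f (algebraMap A B f)
      (I.map (algebraMap A B)))
    (ψ : A'' →+* B'')
    (hψ : ψ.comp (algebraMap R' A'') =
      (algebraMap S' B'').comp (Localization.awayMap (algebraMap A' B') f'))
    (q : PrimeSpectrum B'') (hq : ¬ (Ideal.map (algebraMap S' B'') b') ≤ q.asIdeal) :
    ((algebraMap B'' (Localization.AtPrime q.asIdeal)).comp ψ).Flat := by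
  haveI : IsNoetherianRing A'' := Groth.Agent.S0543.result R' a'
  haveI : IsNoetherianRing B'' := Groth.Agent.S0543.result S' b'
  letI : Algebra A'' B'' := ψ.toAlgebra
  have hψA' : ∀ y : A', ψ (algebraMap A' A'' y) = algebraMap A' B'' y := by
    intro y
    have h1 := RingHom.congr_fun hψ (algebraMap A' R' y)
    have h2 : (Localization.awayMap (algebraMap A' B') f').comp (algebraMap A' R') =
        (algebraMap B' S').comp (algebraMap A' B') := by
      rw [Localization.awayMap, IsLocalization.Away.map, IsLocalization.map_comp]
    have h3 := RingHom.congr_fun h2 y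
    simp only [RingHom.comp_apply] at h1 h3
    rw [IsScalarTower.algebraMap_apply A' R' A'', h1, h3,
      IsScalarTower.algebraMap_apply A' B' B'', IsScalarTower.algebraMap_apply B' S' B'']
  haveI : IsScalarTower A A'' B'' := IsScalarTower.of_algebraMap_eq (fun x => by
    show algebraMap A B'' x = ψ (algebraMap A A'' x)
    rw [IsScalarTower.algebraMap_apply A A' A'', hψA', ← IsScalarTower.algebraMap_apply A A' B''])
  have hIA'' : I.map (algebraMap A A'') = Ideal.map (algebraMap R' A'') a' := by
    rw [IsScalarTower.algebraMap_eq A A' A'', ← Ideal.map_map,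
      IsScalarTower.algebraMap_eq A' R' A'', ← Ideal.map_map]
  have hIB' : I.map (algebraMap A B') = Ideal.map (algebraMap A' B') (Ideal.map (algebraMap A A') I) := by
    rw [IsScalarTower.algebraMap_eq A A' B', ← Ideal.map_map]
  have hIB'' : I.map (algebraMap A B'') = Ideal.map (algebraMap S' B'') b' := by
    rw [IsScalarTower.algebraMap_eq A A' B'', ← Ideal.map_map,
      IsScalarTower.algebraMap_eq A' B' B'', ← Ideal.map_map,
      IsScalarTower.algebraMap_eq B' S' B'', ← Ideal.map_map]
  haveI : IsAdicComplete (I.map (algebraMap A B'')) B'' := by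
    rw [hIB'']; exact Groth.Agent.Helper3.RigLoc.complete_map (R := S') b'
  -- finite type of the reduction of B''
  have keyB : ∀ K : Ideal B'', K = Ideal.map (algebraMap S' B'') b' →
      Algebra.FiniteType A (B'' ⧸ K) := by
    rintro K rfl
    set T := B'' ⧸ Ideal.map (algebraMap S' B'') b' with hT
    have hsurj : Function.Surjective (algebraMap S' T) := by
      intro t
      obtain ⟨x, rfl⟩ := Ideal.Quotient.mk_surjective t
      obtain ⟨r, hr⟩ := Groth.Agent.Helper3.RigLoc.exists_of_sub_mem b' x
      refine ⟨r, ?_⟩
      rw [IsScalarTower.algebraMap_apply S' B'' T, Ideal.Quotient.algebraMap_eq, eq_comm,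
        Ideal.Quotient.mk_eq_mk_iff_sub_mem]
      exact hr
    haveI : Algebra.FiniteType S' T :=
      Algebra.FiniteType.of_surjective (Algebra.ofId S' T) hsurj
    haveI : Algebra.FiniteType B' T :=
      Algebra.FiniteType.trans (inferInstance : Algebra.FiniteType B' S') inferInstance
    have hkill1 : I.map (algebraMap A B') ≤ RingHom.ker (algebraMap B' T) := by
      intro x hx
      rw [RingHom.mem_ker, IsScalarTower.algebraMap_apply B' S' T,
        IsScalarTower.algebraMap_apply S' B'' T, Ideal.Quotient.algebraMap_eq,
        Ideal.Quotient.eq_zero_iff_mem]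
      apply Ideal.mem_map_of_mem
      apply Ideal.mem_map_of_mem
      rw [← hIB']
      exact hx
    haveI : Algebra.FiniteType A' T :=
      ft_of_killed A' B' T (I.map (algebraMap A B')) hftB'A' hkill1
    refine ft_of_killed A A' T (I.map (algebraMap A A')) hftA' ?_
    intro y hy
    rw [RingHom.mem_ker, IsScalarTower.algebraMap_apply A' B' T, ← RingHom.mem_ker]
    apply hkill1
    rw [hIB']
    exact Ideal.mem_map_of_mem _ hy
  have hftB'' : Algebra.FiniteType A (B'' ⧸ I.map (algebraMap A B'')) := keyB _ hIB''
  have keyA : ∀ K : Ideal A'', K = Ideal.map (algebraMap R' A'') a' →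
      Algebra.FiniteType A (A'' ⧸ K) ∧ Algebra.FormallyUnramified A (A'' ⧸ K) := by
    rintro K rfl
    exact Groth.Agent.Helper3.RigEt.unram_completion_quotient A A' I hftA' f' a' rfl
  obtain ⟨hftA'', hunrA''⟩ := keyA _ hIA''
  haveI := hunrA''
  haveI : Module.Flat A A'' := by
    haveI : Module.Flat R' A'' := AdicCompletion.flat_of_isNoetherian a'
    haveI : Module.Flat A' R' := IsLocalization.flat _ (Submonoid.powers f')
    haveI : Module.Flat A' A'' := Module.Flat.trans A' R' A''
    exact Module.Flat.trans A A' A''
  haveI : Module.Flat B B'' := by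
    haveI : Module.Flat S' B'' := AdicCompletion.flat_of_isNoetherian b'
    haveI : Module.Flat B' S' := IsLocalization.flat _ (Submonoid.powers (algebraMap A' B' f'))
    haveI : Module.Flat B' B'' := Module.Flat.trans B' S' B''
    exact Module.Flat.trans B B' B''
  have := Groth.Agent.Helper3.RigEt.core A I B A'' B'' hftB'' hftA'' hAB q.asIdeal
    (by rw [hIB'']; exact hq)
  exact this

end Wrap

theorem main (A : Type u) [CommRing A] [IsNoetherianRing A] (I : Ideal A) [IsAdicComplete I A] (B : Type u) [CommRing B] [Algebra A B] [IsNoetherianRing B] [IsAdicComplete (I.map (algebraMap A B)) B] (hftB : Algebra.FiniteType A (B ⧸ (I.map (algebraMap A B)))) (A' : Type u) [CommRing A'] [Algebra A A'] [IsNoetherianRing A'] [IsAdicComplete (I.map (algebraMap A A')) A'] (hftA' : Algebra.FiniteType A (A' ⧸ (I.map (algebraMap A A')))) (B' : Type u) [CommRing B'] [Algebra A B'] [Algebra B B'] [Algebra A' B'] [IsScalarTower A B B'] [IsScalarTower A A' B'] [IsNoetherianRing B'] [IsAdicComplete (I.map (algebraMap A B')) B'] (hftB'B : Algebra.FiniteType B (B' ⧸ (I.map (algebraMap A B')))) (hftB'A'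 : Algebra.FiniteType A' (B' ⧸ (I.map (algebraMap A B')))) [Module.Flat A A'] [Module.Flat B B'] [Algebra.Etale (A ⧸ I) (A' ⧸ (I.map (algebraMap A A')))] (hAB : (∀ f : A, ∀ ψf : (AdicCompletion (I.map (algebraMap A (Localization.Away f))) (Localization.Away f)) →+* (AdicCompletion ((I.map (algebraMap A B)).map (algebraMap B (Localization.Away (algebraMap A B f)))) (Localization.Away (algebraMap A B f))), ψf.comp (algebraMap (Localization.Away f) (AdicCompletion (I.map (algebraMap A (Localization.Away f))) (Localization.Away f))) = (algebraMap (Localization.Away (algebraMap A B f)) (AdicCompletion ((I.map (algebraMap A B)).map (algebraMap B (Localization.Away (algebraMap A B f)))) (Localization.Away (algebraMap A B f)))).comp (Localization.awayMap (algebraMap A B) f) → ∀ qf : PrimeSpectrum (AdicCompletion ((I.map (algebraMap A B)).map (algebraMap B (Localization.Away (algebraMap A B f)))) (Localization.Away (algebraMap A B f))), (¬ (((I.map (algebraMap A B)).map (algebraMap B (Localization.Away (algebraMap A B f)))).map (algebraMap (Localization.Away (algebraMap A B f)) (AdicCompletion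 ((I.map (algebraMap A B)).map (algebraMap B (Localization.Away (algebraMap A B f)))) (Localization.Away (algebraMap A B f))))) ≤ qf.asIdeal ∧ ∀ y : PrimeSpectrum (AdicCompletion ((I.map (algebraMap A B)).map (algebraMap B (Localization.Away (algebraMap A B f)))) (Localization.Away (algebraMap A B f))), qf ≤ y → ¬ (((I.map (algebraMap A B)).map (algebraMap B (Localization.Away (algebraMap A B f)))).map (algebraMap (Localization.Away (algebraMap A B f)) (AdicCompletion ((I.map (algebraMap A B)).map (algebraMap B (Localization.Away (algebraMap A B f)))) (Localization.Away (algebraMap A B f))))) ≤ y.asIdeal → y = qf) → ((algebraMap (AdicCompletion ((I.map (algebraMap A B)).map (algebraMap B (Localization.Away (algebraMap A B f)))) (Localization.Away (algebraMap A B f))) (Localization.AtPrime qf.asIdeal)).comp ψf).Flat)) : (∀ f' : A', ∀ ψf' : (AdicCompletion ((I.map (algebraMap A A')).map (algebraMap A' (Localization.Away f'))) (Localization.Away f')) →+* (AdicCompletion (((I.map (algebraMap A A')).map (algebraMap A' B')).map (algebraMap B' (Localization.Away (algebraMap A' B' f')))) (Localization.Away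 (algebraMap A' B' f'))), ψf'.comp (algebraMap (Localization.Away f') (AdicCompletion ((I.map (algebraMap A A')).map (algebraMap A' (Localization.Away f'))) (Localization.Away f'))) = (algebraMap (Localization.Away (algebraMap A' B' f')) (AdicCompletion (((I.map (algebraMap A A')).map (algebraMap A' B')).map (algebraMap B' (Localization.Away (algebraMap A' B' f')))) (Localization.Away (algebraMap A' B' f')))).comp (Localization.awayMap (algebraMap A' B') f') → ∀ qf' : PrimeSpectrum (AdicCompletion (((I.map (algebraMap A A')).map (algebraMap A' B')).map (algebraMap B' (Localization.Away (algebraMap A' B' f')))) (Localization.Away (algebraMap A' B' f'))), (¬ ((((I.map (algebraMap A A')).map (algebraMap A' B')).map (algebraMap B' (Localization.Away (algebraMap A' B' f')))).map (algebraMap (Localization.Away (algebraMap A' B' f')) (AdicCompletion (((I.map (algebraMap A A')).map (algebraMap A' B')).map (algebraMap B' (Localization.Away (algebraMap A' B' f')))) (Localization.Away (algebraMap A' B' f'))))) ≤ qf'.asIdeal ∧ ∀ y : PrimeSpectrum (AdicCompletion (((I.map (algebraMap A A')).map (algebraMap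 A' B')).map (algebraMap B' (Localization.Away (algebraMap A' B' f')))) (Localization.Away (algebraMap A' B' f'))), qf' ≤ y → ¬ ((((I.map (algebraMap A A')).map (algebraMap A' B')).map (algebraMap B' (Localization.Away (algebraMap A' B' f')))).map (algebraMap (Localization.Away (algebraMap A' B' f')) (AdicCompletion (((I.map (algebraMap A A')).map (algebraMap A' B')).map (algebraMap B' (Localization.Away (algebraMap A' B' f')))) (Localization.Away (algebraMap A' B' f'))))) ≤ y.asIdeal → y = qf') → ((algebraMap (AdicCompletion (((I.map (algebraMap A A')).map (algebraMap A' B')).map (algebraMap B' (Localization.Away (algebraMap A' B' f')))) (Localization.Away (algebraMap A' B' f'))) (Localization.AtPrime qf'.asIdeal)).comp ψf').Flat) := by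
  intro f' ψf' hψf' qf' hqf'
  haveI : Algebra.FormallyUnramified A (A' ⧸ I.map (algebraMap A A')) :=
    Algebra.FormallyUnramified.comp A (A ⧸ I) _
  exact wrap A I B A' B' f' hftA' hftB'A'
    (fun f => Groth.Agent.Helper3.RigComp.rigFlatAt_of A B I f (hAB f)) ψf' hψf' qf' hqf'.1

end Groth.Agent.Helper3.RigEt2
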