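import Mathlib
import Groth.Prelude
import Groth.Agent.Helper3.RigMain

set_option autoImplicit false
set_option linter.style.haveILetI false
set_option linter.unusedSectionVars false
set_option linter.unusedVariables false
set_option linter.deprecated false
set_option linter.style.haveILetI false
set_option linter.unusedSectionVars false
set_option linter.unusedVariables false

universe u

open CategoryTheory CategoryTheory.Limits MonoidalCategory CartesianMonoidalCategory MonObj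
  AlgebraicGeometry

noncomputable section

namespace Groth.Agent.Helper3.RigMain

open Groth.Agent.Helper8.DSPts Groth.Agent.Helper3.RigGeo

variable {S : Scheme.{u}}

/-- pointwise action of `K` on `H` by group endomorphisms -/
structure PAct (K H : Over S) [GrpObj K] [GrpObj H] where
  Φ : ∀ T : Over S, (T ⟶ K) → (T ⟶ H) → (T ⟶ H)
  nat : ∀ (T T' : Over S) (p : T' ⟶ T) (k : T ⟶ K) (h : T ⟶ H),
      Φ T' (p ≫ k) (p ≫ h) = p ≫ Φ T k h
  mul : ∀ (T : Over S) (k : T ⟶ K) (h h' : T ⟶ H), Φ T k (h * h') = Φ T k h * Φ T k h'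
  unit : ∀ (T : Over S) (h : T ⟶ H), Φ T 1 h = h

variable {K H : Over S} [GrpObj K] [GrpObj H] (A : PAct K H)

/-- the induced data over a trivialising base -/
def datOf {U : Scheme.{u}} (g : U ⟶ S) (M : Type) [AddCommGroup M]
    (e : Grp.mk (Red.bc g H) ≅ Grp.mk (Red.DS U M)) : Dat U (Red.bc g K) M :=
  haveI : IsMonHom (e.inv.hom.hom : Red.DS U M ⟶ Red.bc g H) := e.inv.hom.isMonHom_hom
  haveI : IsMonHom (e.hom.hom.hom : Red.bc g H ⟶ Red.DS U M) := e.hom.hom.isMonHom_hom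
  { Ψ := fun T' k' t' =>
      adjInv g H (A.Φ ((Over.map g).obj T') (adjPt g K k') (adjPt g H (t' ≫ e.inv.hom.hom))) ≫
        e.hom.hom.hom
    nat := by
      intro T' T'' p k' t'
      rw [adjPt_comp, Category.assoc, adjPt_comp, A.nat, adjInv_comp, Category.assoc]
    mul := by
      intro T' k' t' t''
      rw [MonObj.mul_comp, adjPt_mul, A.mul, adjInv_mul, MonObj.mul_comp] }

theorem datOf_Ψ {U : Scheme.{u}} (g : U ⟶ S) (M : Type) [AddCommGroup M]
    (e : Grp.mk (Red.bc g H) ≅ Grp.mk (Red.DS U M)) (T' : Over U) (k' : T' ⟶ Red.bc g K)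
    (t' : T' ⟶ Red.DS U M) :
    (datOf A g M e).Ψ T' k' t' =
      adjInv g H (A.Φ ((Over.map g).obj T') (adjPt g K k') (adjPt g H (t' ≫ e.inv.hom.hom))) ≫
        e.hom.hom.hom := rfl

theorem datOf_unit {U : Scheme.{u}} (g : U ⟶ S) (M : Type) [AddCommGroup M]
    (e : Grp.mk (Red.bc g H) ≅ Grp.mk (Red.DS U M)) (T' : Over U) (t' : T' ⟶ Red.DS U M) :
    (datOf A g M e).Ψ T' (toUnit T' ≫ η[Red.bc g K]) t' = t' := by
  have hψφ : (e.inv.hom.hom : Red.DS U M ⟶ Red.bc g H) ≫ e.hom.hom.hom = 𝟙 _ :=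
    congrArg (fun z => z.hom.hom) e.inv_hom_id
  change adjInv g H (A.Φ ((Over.map g).obj T') (adjPt g K (1 : T' ⟶ Red.bc g K))
    (adjPt g H (t' ≫ e.inv.hom.hom))) ≫ e.hom.hom.hom = t'
  rw [Groth.Agent.Helper8.DHomK.adjPt_one, A.unit, adjInv_adjPt, Category.assoc, hψφ,
    Category.comp_id]

/-- rigidity, given that all the loci `Z` are everything -/
theorem rigid_of_Z (hH : SGA3x.IsMultTypeFT H)
    (hZ : ∀ (U : Scheme.{u}) (g : U ⟶ S) (_ : Flat g) (M : Type) (_ : AddCommGroup M)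
      (e : Grp.mk (Red.bc g H) ≅ Grp.mk (Red.DS U M)) (m : Multiplicative M),
      Z (datOf A g M e) m = Set.univ)
    (T : Over S) (k : T ⟶ K) (h : T ⟶ H) : A.Φ T k h = h := by
  obtain ⟨S', f, hflat, hsurj, -, hloc⟩ := hH
  haveI := hflat
  haveI := hsurj
  apply Over.OverMorphism.ext
  apply Groth.Agent.Helper8.MultGa.hom_ext_of_flat_local
  intro x
  obtain ⟨s', hs'⟩ := f.surjective (T.hom x)
  obtain ⟨U, hU, M, instM, -, ⟨e⟩⟩ := hloc s'
  let g : (U : Scheme.{u}) ⟶ S := U.ι ≫ f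
  refine ⟨pullback T.hom g, pullback.fst T.hom g, inferInstance, ?_, ?_⟩
  · obtain ⟨z, hz1, -⟩ := Scheme.Pullback.exists_preimage_pullback (f := T.hom) (g := g) x
      ⟨s', hU⟩ (by
        change T.hom x = f (U.ι ⟨s', hU⟩)
        rw [← hs']
        rfl)
    exact ⟨z, hz1⟩
  · let ψ : Red.DS (U : Scheme.{u}) M ⟶ Red.bc g H := e.inv.hom.hom
    let φ : Red.bc g H ⟶ Red.DS (U : Scheme.{u}) M := e.hom.hom.hom
    have hφψ : φ ≫ ψ = 𝟙 _ := congrArg (fun z => z.hom.hom) e.hom_inv_id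
    have key := main_of_Z (datOf A g M e) (hZ U g inferInstance M instM e)
    let TV : Over (U : Scheme.{u}) := Over.mk (pullback.snd T.hom g)
    let pT : (Over.map g).obj TV ⟶ T := Over.homMk (pullback.fst T.hom g) pullback.condition
    have h1 := key TV (adjInv g K (pT ≫ k)) (adjInv g H (pT ≫ h) ≫ φ)
    rw [datOf_Ψ] at h1
    change adjInv g H (A.Φ ((Over.map g).obj TV) (adjPt g K (adjInv g K (pT ≫ k)))
      (adjPt g H ((adjInv g H (pT ≫ h) ≫ φ) ≫ ψ))) ≫ φ = _ at h1
    rw [adjPt_adjInv, Category.assoc, hφψ, Category.comp_id, adjPt_adjInv, A.nat] at h1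
    have h2 : adjInv g H (pT ≫ A.Φ T k h) = adjInv g H (pT ≫ h) := by
      have := congrArg (fun z => z ≫ ψ) h1
      simpa only [Category.assoc, hφψ, Category.comp_id] using this
    have h3 : pT ≫ A.Φ T k h = pT ≫ h := by
      rw [← adjPt_adjInv g H (pT ≫ A.Φ T k h), h2, adjPt_adjInv]
    exact congrArg (fun z => z.left) h3

end Groth.Agent.Helper3.RigMain
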