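import Mathlib
import Groth.Prelude
import Groth.Agent.Helper3.RigMainB

set_option autoImplicit false
set_option linter.style.haveILetI false
set_option linter.unusedSectionVars false
set_option linter.unusedVariables false
set_option linter.deprecated false
set_option linter.style.haveILetI false
set_option linter.unusedSectionVars false
set_option linter.unusedVariables false

universe u

open CategoryTheory CategoryTheory.Limits MonoidalCategory CartesianMonoidalCategory MonObj
  AlgebraicGeometry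

noncomputable section

namespace Groth.Agent.Helper3.RigExt

open Groth.Agent.Helper8.DSPts Groth.Agent.Helper3.RigGeo Groth.Agent.Helper3.RigMain

/-- points of `D_V(M)` commute -/
theorem ds_comm {V : Scheme.{u}} (M : Type) [AddCommGroup M] (T' : Over V)
    (s t : T' ⟶ Red.DS V M) : s * t = t * s := by
  apply Over.OverMorphism.ext
  let 𝒰 := T'.left.affineOpenCover.openCover
  apply Scheme.Cover.hom_ext 𝒰
  intro i
  let R : Type u := T'.left.affineOpenCover.X i
  letI : Algebra (ULift.{u} ℤ) R := ULift.algebra' ℤ R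
  let c : Spec (CommRingCat.of R) ⟶ T'.left := 𝒰.f i
  let p : LieS.pt R (c ≫ T'.hom) ⟶ T' := Over.homMk c rfl
  have h : p ≫ (s * t) = p ≫ (t * s) := by
    rw [MonObj.comp_mul, MonObj.comp_mul]
    apply chr_injective
    rw [chr_mul, chr_mul, mul_comm]
  exact congrArg (fun z => z.left) h

variable {S : Scheme.{u}}

/-- points of a group of multiplicative type commute -/
theorem multType_comm {H : Over S} [GrpObj H] (hH : SGA3x.IsMultTypeFT H) (T : Over S)
    (a b : T ⟶ H) : a * b = b * a := by
  obtain ⟨S', f, hflat, hsurj, -, hloc⟩ := hH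
  haveI := hflat
  haveI := hsurj
  apply Over.OverMorphism.ext
  apply Groth.Agent.Helper8.MultGa.hom_ext_of_flat_local
  intro x
  obtain ⟨s', hs'⟩ := f.surjective (T.hom x)
  obtain ⟨U, hU, M, instM, -, ⟨e⟩⟩ := hloc s'
  let g : (U : Scheme.{u}) ⟶ S := U.ι ≫ f
  refine ⟨pullback T.hom g, pullback.fst T.hom g, inferInstance, ?_, ?_⟩
  · obtain ⟨z, hz1, -⟩ := Scheme.Pullback.exists_preimage_pullback (f := T.hom) (g := g) x
      ⟨s', hU⟩ (by
        change T.hom x = f (U.ι ⟨s', hU⟩)
        rw [← hs']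
        rfl)
    exact ⟨z, hz1⟩
  · let ψ : Red.DS (U : Scheme.{u}) M ⟶ Red.bc g H := e.inv.hom.hom
    haveI : IsMonHom ψ := e.inv.hom.isMonHom_hom
    let φ : Red.bc g H ⟶ Red.DS (U : Scheme.{u}) M := e.hom.hom.hom
    haveI : IsMonHom φ := e.hom.hom.isMonHom_hom
    have hφψ : φ ≫ ψ = 𝟙 _ := congrArg (fun z => z.hom.hom) e.hom_inv_id
    let TV : Over (U : Scheme.{u}) := Over.mk (pullback.snd T.hom g)
    let pT : (Over.map g).obj TV ⟶ T := Over.homMk (pullback.fst T.hom g) pullback.condition
    have hc : ∀ (a' b' : TV ⟶ Red.bc g H), a' * b' = b' * a' := by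
      intro a' b'
      have h1 : a' = (a' ≫ φ) ≫ ψ := by rw [Category.assoc, hφψ, Category.comp_id]
      have h2 : b' = (b' ≫ φ) ≫ ψ := by rw [Category.assoc, hφψ, Category.comp_id]
      have h3 := ds_comm M TV (a' ≫ φ) (b' ≫ φ)
      calc a' * b' = ((a' ≫ φ) * (b' ≫ φ)) ≫ ψ := by rw [MonObj.mul_comp, ← h1, ← h2]
        _ = ((b' ≫ φ) * (a' ≫ φ)) ≫ ψ := by rw [h3]
        _ = b' * a' := by rw [MonObj.mul_comp, ← h1, ← h2]
    have h3 : pT ≫ (a * b) = pT ≫ (b * a) := by
      rw [MonObj.comp_mul, MonObj.comp_mul, ← adjPt_adjInv g H (pT ≫ a),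
        ← adjPt_adjInv g H (pT ≫ b), ← adjPt_mul, ← adjPt_mul, hc]
    exact congrArg (fun z => z.left) h3

/-- `adjPt` is natural in the group -/
theorem adjPt_map {U : Scheme.{u}} (g : U ⟶ S) {D D' : Over S} [GrpObj D] [GrpObj D']
    (w : D ⟶ D') {T : Over U} (t : T ⟶ Red.bc g D) :
    adjPt g D' (t ≫ (Over.pullback g).map w) = adjPt g D t ≫ w := by
  apply Over.OverMorphism.ext
  change (t.left ≫ ((Over.pullback g).map w).left) ≫ pullback.fst D'.hom g =
    (t.left ≫ pullback.fst D.hom g) ≫ w.left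
  rw [Category.assoc, Category.assoc]
  congr 1
  simp only [Over.pullback_map_left]
  exact pullback.lift_fst _ _ _

/-- two points with the same image have a common field of definition -/
theorem exists_field_points {P Q : Scheme.{u}} (q : P ⟶ Q) (x y : P) (h : q x = q y) :
    ∃ (L : Type u) (_ : Field L) (zx zy : Spec (CommRingCat.of L) ⟶ P),
      zx (IsLocalRing.closedPoint L) = x ∧ zy (IsLocalRing.closedPoint L) = y ∧
        zx ≫ q = zy ≫ q := by
  obtain ⟨ξ, -, -⟩ := Scheme.Pullback.exists_preimage_pullback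
    (f := P.fromSpecResidueField x ≫ q) (g := P.fromSpecResidueField y ≫ q)
    (IsLocalRing.closedPoint (P.residueField x)) (IsLocalRing.closedPoint (P.residueField y)) (by
      rw [Scheme.Hom.comp_apply, Scheme.Hom.comp_apply, Scheme.fromSpecResidueField_apply,
        Scheme.fromSpecResidueField_apply, h])
  let Pb := pullback (P.fromSpecResidueField x ≫ q) (P.fromSpecResidueField y ≫ q)
  refine ⟨Pb.residueField ξ, inferInstance,
    Pb.fromSpecResidueField ξ ≫ pullback.fst _ _ ≫ P.fromSpecResidueField x,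
    Pb.fromSpecResidueField ξ ≫ pullback.snd _ _ ≫ P.fromSpecResidueField y, ?_, ?_, ?_⟩
  · rw [Scheme.Hom.comp_apply, Scheme.Hom.comp_apply, Scheme.fromSpecResidueField_apply]
  · rw [Scheme.Hom.comp_apply, Scheme.Hom.comp_apply, Scheme.fromSpecResidueField_apply]
  · simp only [Category.assoc]
    rw [pullback.condition]

/-- image of a saturated clopen set under a quotient map is clopen -/
theorem isClopen_image_of_saturated {X Y : Type*} [TopologicalSpace X] [TopologicalSpace Y]
    {q : X → Y} (hq : Topology.IsQuotientMap q) (Zs : Set X) (hZ : IsClopen Zs)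
    (hsat : ∀ x y, q x = q y → x ∈ Zs → y ∈ Zs) : IsClopen (q '' Zs) ∧ q ⁻¹' (q '' Zs) = Zs := by
  have hpre : q ⁻¹' (q '' Zs) = Zs := by
    ext y
    constructor
    · rintro ⟨x, hx, hxy⟩
      exact hsat x y hxy hx
    · intro hy
      exact ⟨y, hy, rfl⟩
  refine ⟨⟨?_, ?_⟩, hpre⟩
  · rw [← hq.isClosed_preimage, hpre]; exact hZ.1
  · rw [← hq.isOpen_preimage, hpre]; exact hZ.2

end Groth.Agent.Helper3.RigExt
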