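import Mathlib
import Groth.Prelude
import Groth.Agent.Helper3.RigExtA

set_option autoImplicit false
set_option linter.style.haveILetI false
set_option linter.unusedSectionVars false
set_option linter.unusedVariables false
set_option linter.deprecated false
set_option linter.style.haveILetI false
set_option linter.unusedSectionVars false
set_option linter.unusedVariables false

universe u

open CategoryTheory CategoryTheory.Limits MonoidalCategory CartesianMonoidalCategory MonObj
  AlgebraicGeometry

noncomputable section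

namespace Groth.Agent.Helper3.RigExt

open Groth.Agent.Helper8.DSPts Groth.Agent.Helper3.RigGeo Groth.Agent.Helper3.RigMain
  Groth.Agent.Helper3.RigFam

variable {S : Scheme.{u}} {E H U : Over S} [GrpObj E] [GrpObj H] [GrpObj U]

theorem c_congr (p : E ⟶ U) (A : PAct E H)
    (hfac : ∀ (T : Over S) (k₁ k₂ : T ⟶ E) (h : T ⟶ H), k₁ ≫ p = k₂ ≫ p →
      A.Φ T k₁ h = A.Φ T k₂ h)
    {V : Scheme.{u}} (g : V ⟶ S) (M : Type) [AddCommGroup M]
    (e : Grp.mk (Red.bc g H) ≅ Grp.mk (Red.DS V M))
    (C : Type u) [CommRing C] [Algebra (ULift.{u} ℤ) C] (f f' : Spec (CommRingCat.of C) ⟶ V)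
    (k : LieS.pt C f ⟶ Red.bc g E) (k' : LieS.pt C f' ⟶ Red.bc g E) (hf : f = f')
    (hk : k.left ≫ ((Over.pullback g).map p).left = k'.left ≫ ((Over.pullback g).map p).left)
    (m : Multiplicative M) :
    (fam (datOf A g M e) C f k).c m m = (fam (datOf A g M e) C f' k').c m m := by
  subst hf
  have hF : ∀ {C' : Type u} [CommRing C'] [Algebra (ULift.{u} ℤ) C'] (a : C →+* C')
      (ψ : Multiplicative M →* C'),
      (fam (datOf A g M e) C f k).F a ψ = (fam (datOf A g M e) C f k').F a ψ := by
    intro C' _ _ a ψ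
    rw [fam_F, fam_F]
    unfold RigGeo.E
    congr 1
    rw [datOf_Ψ, datOf_Ψ]
    congr 2
    apply hfac
    rw [← adjPt_map, ← adjPt_map]
    congr 1
    apply Over.OverMorphism.ext
    change Spec.map _ ≫ k.left ≫ ((Over.pullback g).map p).left =
      Spec.map _ ≫ k'.left ≫ ((Over.pullback g).map p).left
    rw [hk]
  unfold Fam.c Fam.univ
  rw [hF]

/-- **Rigidity, extension form**: if the action of `E` on the group of multiplicative type `H`
factors (pointwise) through a flat, surjective, quasi-compact homomorphism `p : E ⟶ U` onto a group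
with connected fibres, it is trivial. -/
theorem rigid_ext (p : E ⟶ U) [IsMonHom p] [Surjective p.left] [Flat p.left]
    [QuasiCompact p.left] (A : PAct E H)
    (hfac : ∀ (T : Over S) (k₁ k₂ : T ⟶ E) (h : T ⟶ H), k₁ ≫ p = k₂ ≫ p →
      A.Φ T k₁ h = A.Φ T k₂ h)
    (hH : SGA3x.IsMultTypeFT H)
    (hU : ∀ s : S, ConnectedSpace ↥(pullback U.hom (S.fromSpecResidueField s)))
    (T : Over S) (k : T ⟶ E) (h : T ⟶ H) : A.Φ T k h = h := by
  refine rigid_of_Z A hH ?_ T k h
  intro V g _ M _ e m
  set D := datOf A g M e with hD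
  let pV' : Red.bc g E ⟶ Red.bc g U := (Over.pullback g).map p
  haveI : IsMonHom pV' := inferInstance
  let q : (Red.bc g E).left ⟶ (Red.bc g U).left := pV'.left
  haveI : Flat q := MorphismProperty.overPullbackMap (P := @Flat) g p inferInstance
  haveI : Surjective q := MorphismProperty.overPullbackMap (P := @Surjective) g p inferInstance
  haveI : QuasiCompact q := MorphismProperty.overPullbackMap (P := @QuasiCompact) g p inferInstance
  have hq : Topology.IsQuotientMap q := Flat.isQuotientMap_of_surjective q
  have sat : ∀ x y, q x = q y → x ∈ Z D m → y ∈ Z D m := by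
    intro x y hxy hx
    obtain ⟨L, _, zx, zy, hzx, hzy, hzz⟩ := exists_field_points q x y hxy
    letI iL : Algebra (ULift.{u} ℤ) L := ULift.algebra' ℤ L
    rw [← hzy, ← field_point D L zy m]
    rw [← hzx, ← field_point D L zx m] at hx
    rw [← hx]
    symm
    have hw : q ≫ (Red.bc g U).hom = (Red.bc g E).hom := Over.w pV'
    refine c_congr p A hfac g M e L _ _ _ _ ?_ hzz m
    rw [← hw, ← Category.assoc, hzz, Category.assoc]
  obtain ⟨hW, hpre⟩ := isClopen_image_of_saturated hq (Z D m) (isClopen_Z D m) sat
  have hWuniv : q '' Z D m = Set.univ := by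
    refine clopen_univ_of_connected η[Red.bc g U] (connected_fibre_bc g U hU) _ hW ?_
    intro v
    refine ⟨η[Red.bc g E].left v, unit_mem_Z D η[Red.bc g E] (datOf_unit A g M e) v m, ?_⟩
    have h1 : η[Red.bc g E] ≫ pV' = η[Red.bc g U] := IsMonHom.one_hom pV'
    have h2 : η[Red.bc g E].left ≫ q = η[Red.bc g U].left := congrArg (fun z => z.left) h1
    rw [← h2]
    rfl
  rw [← hpre, hWuniv, Set.preimage_univ]

end Groth.Agent.Helper3.RigExt
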