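import Mathlib
import Groth.Agent.Helper3.SchDenseExt

set_option autoImplicit false
set_option linter.style.haveILetI false
set_option linter.unusedSectionVars false
set_option linter.unusedVariables false
set_option linter.deprecated false
set_option linter.style.haveILetI false
set_option linter.unusedSectionVars false
set_option linter.unusedVariables false

universe u

namespace Groth.Agent.Helper3.SchBirIso

open AlgebraicGeometry CategoryTheory CategoryTheory.Limits TopologicalSpace Opposite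

theorem s15993 {X S : Scheme.{u}} (f : X ⟶ S)
    [Flat f] [Surjective f] [QuasiCompact f] [IsSeparated f]
    (U : S.Opens) (V : X.Opens) [QuasiCompact V.ι]
    (hU : CInt.IsSchematicallyDense U) (hV : CInt.IsSchematicallyDense V)
    (hle : V ≤ f ⁻¹ᵁ U) (hiso : IsIso (f.resLE U V hle)) : IsIso f := by
  haveI hVd : IsSchemeTheoreticallyDominant V.ι := ⟨SchDenseExt.ker_ι_eq_bot V hV⟩
  let pr₁ : pullback f f ⟶ X := pullback.fst f f
  let pr₂ : pullback f f ⟶ X := pullback.snd f f
  let W₂ : (pullback f f).Opens := pr₂ ⁻¹ᵁ V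
  have H₂ := isPullback_morphismRestrict pr₂ V
  haveI : IsSchemeTheoreticallyDominant W₂.ι := .of_isPullback H₂
  haveI : QuasiCompact W₂.ι := MorphismProperty.of_isPullback H₂ ‹QuasiCompact V.ι›
  let g : (W₂ : Scheme.{u}) ⟶ X := W₂.ι ≫ pr₁
  let W₁ : (W₂ : Scheme.{u}).Opens := g ⁻¹ᵁ V
  have H₁ := isPullback_morphismRestrict g V
  haveI : IsSchemeTheoreticallyDominant W₁.ι := .of_isPullback H₁
  let j : (W₁ : Scheme.{u}) ⟶ pullback f f := W₁.ι ≫ W₂.ι
  have hj : j.ker = ⊥ := Scheme.Hom.ker_eq_bot j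
  -- the two projections agree on `W₁`
  have ha : Set.range (j ≫ pr₁) ⊆ Set.range V.ι := by
    rintro _ ⟨w, rfl⟩
    rw [Scheme.Opens.range_ι]
    exact w.2
  have hb : Set.range (j ≫ pr₂) ⊆ Set.range V.ι := by
    rintro _ ⟨w, rfl⟩
    rw [Scheme.Opens.range_ι]
    exact (W₁.ι w).2
  let a' := IsOpenImmersion.lift V.ι (j ≫ pr₁) ha
  let b' := IsOpenImmersion.lift V.ι (j ≫ pr₂) hb
  have ha' : a' ≫ V.ι = j ≫ pr₁ := IsOpenImmersion.lift_fac _ _ _
  have hb' : b' ≫ V.ι = j ≫ pr₂ := IsOpenImmersion.lift_fac _ _ _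
  have hab : a' = b' := by
    rw [← cancel_mono (f.resLE U V hle), ← cancel_mono U.ι, Category.assoc, Category.assoc,
      Scheme.Hom.resLE_comp_ι, ← Category.assoc, ← Category.assoc, ha', hb', Category.assoc,
      Category.assoc]
    show j ≫ pullback.fst f f ≫ f = j ≫ pullback.snd f f ≫ f
    rw [pullback.condition]
  have hpr : j ≫ pr₁ = j ≫ pr₂ := by rw [← ha', ← hb', hab]
  have hfac : j = (j ≫ pr₁) ≫ pullback.diagonal f := by
    apply pullback.hom_ext
    · rw [Category.assoc ((j ≫ pr₁)), pullback.diagonal_fst, Category.comp_id]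
    · rw [Category.assoc ((j ≫ pr₁)), pullback.diagonal_snd, Category.comp_id]
      exact hpr.symm
  have hker : (pullback.diagonal f).ker = ⊥ := by
    rw [eq_bot_iff, ← hj, hfac]
    exact Scheme.Hom.le_ker_comp _ _
  haveI : IsIso (pullback.diagonal f) := IsClosedImmersion.isIso_iff_ker_eq_bot.mpr hker
  haveI : Mono f := by
    rw [← pullback.isIso_diagonal_iff]
    infer_instance
  exact Flat.isIso_of_surjective_of_mono f

end Groth.Agent.Helper3.SchBirIso
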