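import Mathlib
import Groth.Agent.Helper3.SchDense

open AlgebraicGeometry CategoryTheory CategoryTheory.Limits TopologicalSpace Opposite

universe u

namespace Groth.Agent.Helper3.SchDenseAff

/-- an ideal with trivial annihilator contains a regular element (Noetherian, or reduced with
finitely many minimal primes) -/
theorem exists_nzd_mem {A : Type*} [CommRing A] (I : Ideal A)
    (hI : ∀ r : A, (∀ a ∈ I, a * r = 0) → r = 0)
    (hA : IsNoetherianRing A ∨ (IsReduced A ∧ (minimalPrimes A).Finite)) :
    ∃ t ∈ I, t ∈ nonZeroDivisors A := by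
  classical
  rcases hA with hA | ⟨hred, hfin⟩
  · by_contra hcon
    push_neg at hcon
    have hdisj : Disjoint (I : Set A) (nonZeroDivisors A) :=
      Set.disjoint_left.mpr fun t ht ht' => hcon t ht ht'
    have hlt := Ideal.bot_lt_annihilator_of_disjoint_nonZeroDivisors hdisj
    obtain ⟨r, hr, hr0⟩ := SetLike.exists_of_lt hlt
    apply hr0
    rw [Ideal.mem_bot]
    apply hI
    intro a ha
    have h1 := Module.mem_annihilator.mp hr ⟨a, ha⟩
    have h2 := congrArg Subtype.val h1
    rw [mul_comm]
    exact h2
  · have hnil : ∀ x : A, (∀ p ∈ minimalPrimes A, x ∈ p) → x = 0 := by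
      intro x hx
      have h1 : x ∈ sInf (minimalPrimes A) := by
        rw [Ideal.mem_sInf]
        intro p hp
        exact hx p hp
      have h2 : sInf (minimalPrimes A) = nilradical A := Ideal.sInf_minimalPrimes
      rw [h2, nilradical_eq_zero] at h1
      exact h1
    by_cases h : ∃ p ∈ minimalPrimes A, I ≤ p
    · obtain ⟨p, hp, hIp⟩ := h
      haveI : p.IsPrime := hp.1.1
      have hnot : ¬ ((hfin.toFinset.erase p).inf id ≤ p) := by
        rw [Ideal.IsPrime.inf_le' ‹p.IsPrime›]
        rintro ⟨q, hq, hqp⟩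
        rw [Finset.mem_erase, Set.Finite.mem_toFinset] at hq
        apply hq.1
        exact le_antisymm hqp (hp.2 ⟨hq.2.1.1, bot_le⟩ hqp)
      obtain ⟨r, hr, hrp⟩ := SetLike.not_le_iff_exists.mp hnot
      exfalso
      apply hrp
      have hr0 : r = 0 := by
        apply hI
        intro a ha
        apply hnil
        intro q hq
        by_cases hqp : q = p
        · rw [hqp]
          exact Ideal.mul_mem_right _ _ (hIp ha)
        · have h1 : (hfin.toFinset.erase p).inf id ≤ q :=
            Finset.inf_le (f := id) (Finset.mem_erase.mpr ⟨hqp, hfin.mem_toFinset.mpr hq⟩)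
          exact Ideal.mul_mem_left _ _ (h1 hr)
      rw [hr0]
      exact zero_mem _
    · push_neg at h
      have hnot : ¬ ((I : Set A) ⊆ ⋃ p ∈ minimalPrimes A, ((id p : Ideal A) : Set A)) := by
        intro hsub
        obtain ⟨p, hp, hIp⟩ := (Ideal.subset_union_prime_finite hfin (f := id) 0 0
          (fun p hp _ _ => hp.1.1)).mp hsub
        exact h p hp hIp
      obtain ⟨t, htI, ht⟩ := Set.not_subset.mp hnot
      refine ⟨t, htI, ?_⟩
      rw [mem_nonZeroDivisors_iff_right]
      intro x hx
      apply hnil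
      intro p hp
      haveI : p.IsPrime := hp.1.1
      have h1 : x * t ∈ p := by rw [hx]; exact zero_mem _
      rcases Ideal.IsPrime.mem_or_mem ‹p.IsPrime› h1 with h2 | h2
      · exact h2
      · exfalso
        apply ht
        simp only [Set.mem_iUnion]
        exact ⟨p, hp, h2⟩

/-- finiteness of minimal primes from finiteness of irreducible components -/
theorem finite_minimalPrimes_of_affine (X : Scheme.{u}) [IsAffine X]
    (hfin : (irreducibleComponents ↥X).Finite) : (minimalPrimes Γ(X, ⊤)).Finite := by
  have hemb : Topology.IsOpenEmbedding X.isoSpec.hom := X.isoSpec.hom.isOpenEmbedding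
  have hsurj : Function.Surjective X.isoSpec.hom := X.isoSpec.hom.homeomorph.surjective
  have h1 : (irreducibleComponents ↥(Spec Γ(X, ⊤))).Finite := by
    refine Set.Finite.of_finite_image (f := Set.preimage X.isoSpec.hom) (hfin.subset ?_) ?_
    · rintro _ ⟨t, ht, rfl⟩
      refine preimage_mem_irreducibleComponents ht hemb ?_
      obtain ⟨p, hp⟩ := ht.1.1
      obtain ⟨q, rfl⟩ := hsurj p
      exact ⟨_, hp, q, rfl⟩
    · intro t _ t' _ htt'
      exact (Set.preimage_injective.mpr hsurj) htt'
  have h2 : Finite ↥(irreducibleComponents (PrimeSpectrum Γ(X, ⊤))) := h1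
  have e := minimalPrimes.equivIrreducibleComponents Γ(X, ⊤)
  haveI : Finite (↥(irreducibleComponents (PrimeSpectrum Γ(X, ⊤))))ᵒᵈ := h2
  exact Set.finite_coe_iff.mp (Finite.of_equiv _ e.symm.toEquiv)

/-- S3834 -/
theorem s3834 (X : Scheme.{u}) [IsAffine X]
    (hX : IsNoetherian X ∨ (IsReduced X ∧ (irreducibleComponents ↥X).Finite)) (U : X.Opens) :
    CInt.IsSchematicallyDense U ↔
      ∃ t : Γ(X, ⊤), t ∈ nonZeroDivisors Γ(X, ⊤) ∧ X.basicOpen t ≤ U := by
  constructor
  · intro hU
    let I : Ideal Γ(X, ⊤) :=
      { carrier := {a | X.basicOpen a ≤ U}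
        zero_mem' := by
          show X.basicOpen (0 : Γ(X, ⊤)) ≤ U
          rw [Scheme.basicOpen_zero]; exact bot_le
        add_mem' := by
          intro a b ha hb x hx
          have hu : IsUnit (X.presheaf.germ ⊤ x trivial (a + b)) :=
            (Scheme.mem_basicOpen X (a + b) x trivial).mp hx
          rw [map_add] at hu
          rcases IsLocalRing.isUnit_or_isUnit_of_isUnit_add hu with h1 | h1
          · exact ha ((Scheme.mem_basicOpen X a x trivial).mpr h1)
          · exact hb ((Scheme.mem_basicOpen X b x trivial).mpr h1)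
        smul_mem' := by
          intro c a ha
          show X.basicOpen (c • a) ≤ U
          rw [smul_eq_mul, Scheme.basicOpen_mul]
          exact inf_le_right.trans ha }
    have hI : ∀ r : Γ(X, ⊤), (∀ a ∈ I, a * r = 0) → r = 0 := by
      intro r hr
      apply hU ⊤
      rw [map_zero]
      apply SchDense.eq_zero_of_germ
      intro x hx
      have hxU : x ∈ U := hx.2
      obtain ⟨a, haU, hxa⟩ := (isAffineOpen_top X).exists_basicOpen_le ⟨x, hxU⟩ trivial
      have e2 : X.presheaf.germ (⊤ ⊓ U) x hx
          (X.presheaf.map (homOfLE (inf_le_left : ⊤ ⊓ U ≤ ⊤)).op r) =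
          X.presheaf.germ ⊤ x trivial r :=
        TopCat.Presheaf.germ_res_apply _ _ _ _ _
      rw [e2]
      have hu : IsUnit (X.presheaf.germ ⊤ x trivial a) :=
        (Scheme.mem_basicOpen X a x trivial).mp hxa
      have h2 : X.presheaf.germ ⊤ x trivial (a * r) = 0 := by rw [hr a haU, map_zero]
      rw [map_mul] at h2
      exact hu.mul_right_eq_zero.mp h2
    have hA : IsNoetherianRing Γ(X, ⊤) ∨ (IsReduced Γ(X, ⊤) ∧ (minimalPrimes Γ(X, ⊤)).Finite) := by
      rcases hX with hX | ⟨hred, hfin⟩
      · left
        exact IsLocallyNoetherian.component_noetherian ⟨⊤, isAffineOpen_top X⟩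
      · right
        exact ⟨inferInstance, finite_minimalPrimes_of_affine X hfin⟩
    obtain ⟨t, htI, ht⟩ := exists_nzd_mem I hI hA
    exact ⟨t, ht, htI⟩
  · rintro ⟨t, ht, htU⟩
    refine SchDense.mono htU (SchDense.basicOpen_of_germ_regular X t ?_)
    intro x
    let x' : (⊤ : X.Opens) := ⟨x, trivial⟩
    letI := X.presheaf.algebra_section_stalk x'
    haveI := (isAffineOpen_top X).isLocalization_stalk x'
    have h1 := IsLocalization.map_nonZeroDivisors_le
      ((isAffineOpen_top X).primeIdealOf x').asIdeal.primeCompl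
      (X.presheaf.stalk x)
    exact h1 ⟨t, ht, rfl⟩

end Groth.Agent.Helper3.SchDenseAff
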