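import Mathlib
import Groth.Prelude.Def_CInt
import Groth.Agent.Helper8.SliceC

set_option autoImplicit false
set_option linter.style.haveILetI false
set_option linter.unusedSectionVars false
set_option linter.unusedVariables false
set_option linter.deprecated false
set_option linter.style.haveILetI false
set_option linter.unusedSectionVars false
set_option linter.unusedVariables false

universe u

namespace Groth.Agent.Helper3.SchDenseNoeth

open AlgebraicGeometry CategoryTheory IsLocalRing TopologicalSpace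

/-- in a noetherian local ring whose maximal ideal consists of zero divisors, some nonzero element
is killed by the maximal ideal -/
theorem exists_socle (O : Type u) [CommRing O] [IsLocalRing O] [IsNoetherianRing O]
    (h : ∀ t ∈ maximalIdeal O, ¬ IsSMulRegular O t) :
    ∃ h₀ : O, h₀ ≠ 0 ∧ ∀ a ∈ maximalIdeal O, a * h₀ = 0 := by
  have hsub : (maximalIdeal O : Set O) ⊆ ⋃ p ∈ associatedPrimes O O, (p : Set O) := by
    rw [biUnion_associatedPrimes_eq_zero_divisors]
    intro t ht
    have h1 := h t ht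
    by_contra hcon
    apply h1
    intro a b hab
    by_contra hne
    apply hcon
    refine ⟨a - b, sub_ne_zero.mpr hne, ?_⟩
    have : t • a = t • b := hab
    rw [smul_sub, this, sub_self]
  have hfin : (associatedPrimes O O).Finite := associatedPrimes.finite O O
  have hsub' : (maximalIdeal O : Set O) ⊆ ⋃ p ∈ ((hfin.toFinset : Finset (Ideal O)) : Set (Ideal O)),
      ((fun q : Ideal O => q) p : Set O) := by
    intro t ht
    have := hsub ht
    simp only [Set.mem_iUnion, SetLike.mem_coe, exists_prop] at this ⊢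
    obtain ⟨p, hp, htp⟩ := this
    exact ⟨p, by simpa using hp, htp⟩
  obtain ⟨p, hp, hle⟩ := (Ideal.subset_union_prime (R := O) (s := hfin.toFinset)
    (f := fun q : Ideal O => q) ⊥ ⊥ (fun q hq _ _ => by
      have : q ∈ associatedPrimes O O := by simpa using hq
      exact this.1)).mp hsub'
  have hp' : p ∈ associatedPrimes O O := by simpa using hp
  have hpm : p = maximalIdeal O := le_antisymm (le_maximalIdeal hp'.1.ne_top) hle
  obtain ⟨hprime, h₀, hh₀⟩ := (isAssociatedPrime_iff).mp hp'
  refine ⟨h₀, ?_, ?_⟩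
  · rintro rfl
    have : (1 : O) ∈ p := by
      rw [hh₀, Submodule.mem_colon_singleton]
      simp
    exact hprime.ne_top ((Ideal.eq_top_iff_one _).mpr this)
  · intro a ha
    rw [← hpm, hh₀, Submodule.mem_colon_singleton] at ha
    simpa using ha

end Groth.Agent.Helper3.SchDenseNoeth

namespace Groth.Agent.Helper3.SchDenseNoeth

open AlgebraicGeometry CategoryTheory IsLocalRing TopologicalSpace

/-- In a locally noetherian scheme, the local ring at a point outside a schematically dense open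
has a nonzerodivisor in its maximal ideal. -/
theorem exists_nzd_of_schDense {Z : Scheme.{u}} [IsLocallyNoetherian Z] (U : Z.Opens)
    (hU : CInt.IsSchematicallyDense U) (x : Z) (hx : x ∉ U) :
    ∃ t ∈ maximalIdeal (Z.presheaf.stalk x), IsSMulRegular (Z.presheaf.stalk x) t := by
  by_contra hcon
  push Not at hcon
  haveI : IsNoetherianRing (Z.presheaf.stalk x) := inferInstance
  obtain ⟨h₀, hh₀ne, hh₀⟩ := exists_socle _ hcon
  obtain ⟨_, ⟨W, hW, rfl⟩, hxW, -⟩ := Z.isBasis_affineOpens.exists_subset_of_mem_open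
    (Set.mem_univ x) isOpen_univ
  haveI : IsNoetherianRing Γ(Z, W) := IsLocallyNoetherian.component_noetherian ⟨W, hW⟩
  letI algx : Algebra Γ(Z, W) (Z.presheaf.stalk x) := Z.presheaf.algebra_section_stalk ⟨x, hxW⟩
  set p : Ideal Γ(Z, W) := (hW.primeIdealOf ⟨x, hxW⟩).asIdeal with hp
  haveI locx : IsLocalization.AtPrime (Z.presheaf.stalk x) p := hW.isLocalization_stalk ⟨x, hxW⟩
  obtain ⟨h, c, hhc⟩ := IsLocalization.exists_mk'_eq p.primeCompl h₀
  have hcu : IsUnit (algebraMap Γ(Z, W) (Z.presheaf.stalk x) (c : Γ(Z, W))) :=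
    IsLocalization.map_units _ c
  have h1 : algebraMap Γ(Z, W) (Z.presheaf.stalk x) h =
      h₀ * algebraMap Γ(Z, W) (Z.presheaf.stalk x) (c : Γ(Z, W)) := by
    rw [← hhc, IsLocalization.mk'_spec]
  have hkill : ∀ a ∈ p, algebraMap Γ(Z, W) (Z.presheaf.stalk x) (a * h) = 0 := by
    intro a ha
    have ham : algebraMap Γ(Z, W) (Z.presheaf.stalk x) a ∈ maximalIdeal (Z.presheaf.stalk x) :=
      (IsLocalization.AtPrime.to_map_mem_maximal_iff _ p a).mpr ha
    rw [map_mul, h1, ← mul_assoc, hh₀ _ ham, zero_mul]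
  let K : Submodule Γ(Z, W) Γ(Z, W) :=
    Submodule.map (LinearMap.toSpanSingleton Γ(Z, W) Γ(Z, W) h) p
  have hKfg : K.FG := Submodule.FG.map _ (IsNoetherian.noetherian p)
  obtain ⟨t, htp, htK⟩ := Groth.Agent.Helper8.SliceC.exists_smul_eq_zero_of_fg p K hKfg
    (fun m hm => by
      obtain ⟨a, ha, rfl⟩ := hm
      obtain ⟨⟨t, ht⟩, hta⟩ := (IsLocalization.map_eq_zero_iff p.primeCompl _ _).mp (hkill a ha)
      exact ⟨t, ht, by simpa [LinearMap.toSpanSingleton_apply] using hta⟩)
  set h' : Γ(Z, W) := t * h with hh'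
  have hh'ne : algebraMap Γ(Z, W) (Z.presheaf.stalk x) h' ≠ 0 := by
    have htu : IsUnit (algebraMap Γ(Z, W) (Z.presheaf.stalk x) t) :=
      IsLocalization.map_units _ (⟨t, htp⟩ : p.primeCompl)
    rw [hh', map_mul, h1]
    intro h0
    apply hh₀ne
    have h2 : h₀ * (algebraMap Γ(Z, W) (Z.presheaf.stalk x) t *
        algebraMap Γ(Z, W) (Z.presheaf.stalk x) (c : Γ(Z, W))) = 0 := by
      rw [← h0]; ring
    exact (htu.mul hcu).mul_left_eq_zero.mp h2
  have hh'kill : ∀ a ∈ p, a * h' = 0 := by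
    intro a ha
    have := htK (a * h) ⟨a, ha, by simp [LinearMap.toSpanSingleton_apply]⟩
    rw [hh']
    rw [smul_eq_mul] at this
    rw [← this]; ring
  -- the restriction of `h'` to `W ⊓ U` vanishes
  have hres : (Z.presheaf.map (homOfLE (inf_le_left : W ⊓ U ≤ W)).op).hom h' = 0 := by
    refine TopCat.Presheaf.section_ext Z.sheaf _ _ 0 (fun z hz => ?_)
    have hzW : z ∈ W := hz.1
    have hzU : z ∈ U := hz.2
    have e1 : Z.presheaf.germ (W ⊓ U) z hz
        ((Z.presheaf.map (homOfLE (inf_le_left : W ⊓ U ≤ W)).op).hom h') =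
        Z.presheaf.germ W z hzW h' :=
      TopCat.Presheaf.germ_res_apply Z.presheaf (homOfLE (inf_le_left : W ⊓ U ≤ W)) z hz h'
    change Z.presheaf.germ (W ⊓ U) z hz _ = Z.presheaf.germ (W ⊓ U) z hz 0
    rw [e1, map_zero]
    -- an element of `p` that is a unit at `z`
    have hnle : ¬ p ≤ (hW.primeIdealOf ⟨z, hzW⟩).asIdeal := by
      intro hle
      have h3 : hW.primeIdealOf ⟨x, hxW⟩ ⤳ hW.primeIdealOf ⟨z, hzW⟩ :=
        (PrimeSpectrum.le_iff_specializes _ _).mp hle
      have h4 := h3.map hW.fromSpec.continuous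
      rw [hW.fromSpec_primeIdealOf ⟨x, hxW⟩, hW.fromSpec_primeIdealOf ⟨z, hzW⟩] at h4
      exact hx (h4.mem_open U.isOpen hzU)
    obtain ⟨a, hap, haz⟩ := SetLike.not_le_iff_exists.mp hnle
    letI algz : Algebra Γ(Z, W) (Z.presheaf.stalk z) := Z.presheaf.algebra_section_stalk ⟨z, hzW⟩
    haveI locz : IsLocalization.AtPrime (Z.presheaf.stalk z) (hW.primeIdealOf ⟨z, hzW⟩).asIdeal :=
      hW.isLocalization_stalk ⟨z, hzW⟩
    have hau : IsUnit (algebraMap Γ(Z, W) (Z.presheaf.stalk z) a) :=
      IsLocalization.map_units _ (⟨a, haz⟩ : (hW.primeIdealOf ⟨z, hzW⟩).asIdeal.primeCompl)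
    have h5 : algebraMap Γ(Z, W) (Z.presheaf.stalk z) a *
        algebraMap Γ(Z, W) (Z.presheaf.stalk z) h' = 0 := by
      rw [← map_mul, hh'kill a hap, map_zero]
    exact hau.mul_right_eq_zero.mp h5
  have h6 := hU W (hres.trans (map_zero _).symm)
  apply hh'ne
  rw [h6, map_zero]

end Groth.Agent.Helper3.SchDenseNoeth
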