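import Mathlib
import Groth.Prelude.Def_CInt
import Groth.Agent.Helper3.FibDepth1
import Groth.Agent.Helper3.BigOpen2
import Groth.Agent.Helper3.SchDenseNoeth
import Groth.Agent.Helper2.StalkEssFP
import Groth.Agent.Helper5.CMFib1
import Groth.Agent.Helper5.BCMin13
import Groth.Agent.Helper5.RelDepth6

set_option autoImplicit false
set_option linter.style.haveILetI false
set_option linter.unusedSectionVars false
set_option linter.unusedVariables false
set_option linter.deprecated false
set_option linter.style.haveILetI false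
set_option linter.unusedSectionVars false
set_option linter.unusedVariables false

universe u

namespace Groth.Agent.Helper3.SchDenseFib

open AlgebraicGeometry CategoryTheory CategoryTheory.Limits IsLocalRing RingTheory.Sequence

/-- a nonzerodivisor in the maximal ideal gives depth at least one -/
theorem one_le_depth_of_nzd (O : Type u) [CommRing O] [IsLocalRing O] (t : O)
    (htm : t ∈ maximalIdeal O) (ht : IsSMulRegular O t) : (1 : ℕ∞) ≤ LocCoh.depth O O := by
  unfold LocCoh.depth LocCoh.idealDepth
  split_ifs with htop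
  · exact le_top
  · have hwr : IsWeaklyRegular O [t] := by
      rw [isWeaklyRegular_cons_iff]
      exact ⟨ht, IsWeaklyRegular.nil _ _⟩
    refine le_trans ?_ (le_iSup₂ (f := fun (rs : List O)
      (_ : IsWeaklyRegular O rs ∧ ∀ r ∈ rs, r ∈ maximalIdeal O) => (rs.length : ℕ∞)) [t]
      ⟨hwr, by simpa using htm⟩)
    simp

/-- depth of the local ring of a flat, locally finitely presented morphism is at least the depth of
the fibre local ring (no noetherian hypothesis) -/
theorem le_depth_of_flat_lfp {P S : Scheme.{u}} (π : P ⟶ S) [Flat π]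
    [LocallyOfFinitePresentation π] (x : P) (n : ℕ)
    (hF : (n : ℕ∞) ≤ LocCoh.depth ↑(CInt.fiberStalk π x) ↑(CInt.fiberStalk π x)) :
    (n : ℕ∞) ≤ LocCoh.depth ↑(P.presheaf.stalk x) ↑(P.presheaf.stalk x) := by
  letI alg : Algebra (S.presheaf.stalk (π x)) (P.presheaf.stalk x) := (π.stalkMap x).hom.toAlgebra
  haveI : IsLocalHom (algebraMap (S.presheaf.stalk (π x)) (P.presheaf.stalk x)) :=
    inferInstanceAs (IsLocalHom (π.stalkMap x).hom)
  haveI : Module.Flat (S.presheaf.stalk (π x)) (P.presheaf.stalk x) := Flat.stalkMap π x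
  have hess := Groth.Agent.Helper2.StalkEssFP.essFP_stalk π x
  obtain ⟨e⟩ := Groth.Agent.Helper5.CMFib.fibre_stalk_equiv' π x
  exact Groth.Agent.Helper3.FibDepth1.le_depth_of_fibre _ _ _ hess e n hF

/-- transport of a nonzerodivisor of the maximal ideal along a flat local homomorphism -/
theorem nzd_map_of_flat {A B : Type u} [CommRing A] [CommRing B] [IsLocalRing A] [IsLocalRing B]
    (φ : A →+* B) [IsLocalHom φ] (hφ : φ.Flat) (t : A) (htm : t ∈ maximalIdeal A)
    (ht : IsSMulRegular A t) : φ t ∈ maximalIdeal B ∧ IsSMulRegular B (φ t) := by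
  letI := φ.toAlgebra
  haveI : Module.Flat A B := hφ
  refine ⟨?_, IsSMulRegular.of_flat ht⟩
  rw [mem_maximalIdeal, mem_nonunits_iff]
  intro hu
  exact ((mem_maximalIdeal _).mp htm) (isUnit_of_map_unit φ t hu)

/-- transport along a ring isomorphism -/
theorem nzd_map_of_equiv {A B : Type u} [CommRing A] [CommRing B] [IsLocalRing A] [IsLocalRing B]
    (e : A ≃+* B) (t : A) (htm : t ∈ maximalIdeal A)
    (ht : IsSMulRegular A t) : e t ∈ maximalIdeal B ∧ IsSMulRegular B (e t) := by
  haveI : IsLocalHom e.toRingHom :=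
    ⟨fun a ha => by
      have := ha.map e.symm.toRingHom
      simpa using this⟩
  exact nzd_map_of_flat e.toRingHom (RingHom.Flat.of_bijective e.bijective) t htm ht

end Groth.Agent.Helper3.SchDenseFib

namespace Groth.Agent.Helper3.SchDenseFib

open AlgebraicGeometry CategoryTheory CategoryTheory.Limits IsLocalRing RingTheory.Sequence

/-- fibrewise schematic density implies schematic density after any base change -/
theorem of_fibrewise {X S X' S' : Scheme.{u}} (f : X ⟶ S) [Flat f] [LocallyOfFinitePresentation f]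
    (U : X.Opens) (h : ∀ s : S, CInt.IsSchematicallyDense ((f.fiberι s) ⁻¹ᵁ U))
    (g : S' ⟶ S) (p : X' ⟶ X) (f' : X' ⟶ S') (hsq : IsPullback p f' f g) :
    CInt.IsSchematicallyDense (p ⁻¹ᵁ U) := by
  haveI : Flat f' := MorphismProperty.of_isPullback hsq inferInstance
  haveI : LocallyOfFinitePresentation f' := MorphismProperty.of_isPullback hsq inferInstance
  refine Groth.Agent.Helper3.BigOpen1.schDense_of_nzd _ (fun x' hx' => ?_)
  have hpx : p x' ∉ U := hx'
  set s' : S' := f' x' with hs'
  let hfib := f.fiberToSpecResidueField (g s')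
  let ρ := g.residueFieldMap s'
  let π := pullback.fst hfib (Spec.map ρ)
  obtain ⟨e, he⟩ : ∃ e : f'.fiber s' ≅ pullback hfib (Spec.map ρ),
      e.hom ≫ π ≫ f.fiberι (g s') = f'.fiberι s' ≫ p :=
    Groth.Agent.Helper5.BCMin.fibre_iso_of_isPullback f g p f' hsq s'
  haveI : Flat (Spec.map ρ) :=
    Groth.Agent.Helper5.RelDepth.flat_SpecMap_field (Field.toIsField _) ρ
  haveI : Flat π := inferInstance
  let z' : ↥(f'.fiber s') := f'.asFiber x'
  let w := e.hom z'
  have hζ : f.fiberι (g s') (π w) = p x' := by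
    have h2 := congrArg (fun ψ : f'.fiber s' ⟶ X => ψ z') he
    simp only [Scheme.Hom.comp_apply] at h2
    rw [f'.fiberι_asFiber] at h2
    exact h2
  have hζU : π w ∉ (f.fiberι (g s')) ⁻¹ᵁ U := by
    intro hmem
    have : f.fiberι (g s') (π w) ∈ U := hmem
    rw [hζ] at this
    exact hpx this
  -- the fibre is locally noetherian
  haveI : LocallyOfFiniteType hfib := MorphismProperty.pullback_snd _ _ inferInstance
  haveI : IsLocallyNoetherian (Spec (S.residueField (g s'))) := inferInstance
  haveI : IsLocallyNoetherian (f.fiber (g s')) :=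
    LocallyOfFiniteType.isLocallyNoetherian hfib
  obtain ⟨t, htm, ht⟩ := Groth.Agent.Helper3.SchDenseNoeth.exists_nzd_of_schDense _
    (h (g s')) (π w) hζU
  -- transport along the flat map `π`
  obtain ⟨htm1, ht1⟩ := nzd_map_of_flat (π.stalkMap w).hom (Flat.stalkMap π w) t htm ht
  -- transport along the isomorphism `e`
  let eS : (pullback hfib (Spec.map ρ)).presheaf.stalk w ≃+* (f'.fiber s').presheaf.stalk z' :=
    (asIso (e.hom.stalkMap z')).commRingCatIsoToRingEquiv
  obtain ⟨htm2, ht2⟩ := nzd_map_of_equiv eS _ htm1 ht1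
  have hF : ((1 : ℕ) : ℕ∞) ≤ LocCoh.depth ↑(CInt.fiberStalk f' x') ↑(CInt.fiberStalk f' x') := by
    exact_mod_cast one_le_depth_of_nzd _ _ htm2 ht2
  have hT := le_depth_of_flat_lfp f' x' 1 hF
  exact Groth.Agent.Helper3.BigOpen2.exists_nzd_of_one_le_depth _ (by exact_mod_cast hT)

theorem s4871 {X S : Scheme.{u}} (f : X ⟶ S) [Flat f]
    [LocallyOfFinitePresentation f] (U : X.Opens) :
    (∀ (S' : Scheme.{u}) (g : S' ⟶ S), CInt.IsSchematicallyDense ((pullback.fst f g) ⁻¹ᵁ U)) ↔
      ∀ s : S, CInt.IsSchematicallyDense ((f.fiberι s) ⁻¹ᵁ U) := by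
  constructor
  · intro h s
    exact h (Spec (S.residueField s)) (S.fromSpecResidueField s)
  · intro h S' g
    exact of_fibrewise f U h g (pullback.fst f g) (pullback.snd f g) (IsPullback.of_hasPullback f g)

end Groth.Agent.Helper3.SchDenseFib
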