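import Mathlib
import Groth.Prelude.Def_CInt

open AlgebraicGeometry CategoryTheory CategoryTheory.Limits TopologicalSpace Opposite

universe u

namespace Groth.Agent.Helper3.SchDenseRed

/-- a schematically dense open contains the generic points of the irreducible components, if
these are locally finite -/
theorem genericPoint_mem_of_schDense {X : Scheme.{u}}
    (hfin : ∀ x : ↥X, ∃ W : X.Opens, x ∈ W ∧
      {Z ∈ irreducibleComponents ↥X | (Z ∩ (W : Set ↥X)).Nonempty}.Finite)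
    (V : X.Opens) (hV : CInt.IsSchematicallyDense V) (Z : Set X)
    (hZ : Z ∈ irreducibleComponents ↥X) (η : X) (hη : IsGenericPoint η Z) : η ∈ V := by
  by_contra hηV
  obtain ⟨W, hηW, hfinW⟩ := hfin η
  let bad : Set (Set X) := {Z₂ | (Z₂ ∈ irreducibleComponents ↥X ∧ (Z₂ ∩ (W : Set ↥X)).Nonempty) ∧
    Z₂ ≠ Z}
  have hbadfin : bad.Finite := hfinW.subset (fun Z₂ hZ₂ => hZ₂.1)
  have hclosed : IsClosed (⋃₀ bad) := by
    rw [Set.sUnion_eq_biUnion]
    refine hbadfin.isClosed_biUnion ?_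
    intro Z₂ hZ₂
    exact isClosed_of_mem_irreducibleComponents Z₂ hZ₂.1.1
  let N : X.Opens := W ⊓ ⟨(⋃₀ bad)ᶜ, hclosed.isOpen_compl⟩
  have hηN : η ∈ N := by
    refine ⟨hηW, ?_⟩
    rintro ⟨Z₂, hZ₂, hηZ₂⟩
    apply hZ₂.2
    have h1 : Z ⊆ Z₂ := by
      rw [← hη.def]
      exact closure_minimal (Set.singleton_subset_iff.mpr hηZ₂)
        (isClosed_of_mem_irreducibleComponents Z₂ hZ₂.1.1)
    exact (hZ.eq_of_subset hZ₂.1.1.1 h1).symm
  have hNZ : (N : Set X) ⊆ Z := by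
    rintro p ⟨hpW, hpbad⟩
    have hZp : irreducibleComponent p ∈ irreducibleComponents ↥X :=
      irreducibleComponent_mem_irreducibleComponents p
    have hpZp : p ∈ irreducibleComponent p := mem_irreducibleComponent
    by_contra hpZ
    apply hpbad
    refine ⟨irreducibleComponent p, ⟨⟨hZp, ⟨p, hpZp, hpW⟩⟩, ?_⟩, hpZp⟩
    intro e
    exact hpZ (e ▸ hpZp)
  have hNV : N ⊓ V = ⊥ := by
    rw [← Opens.not_nonempty_iff_eq_bot]
    rintro ⟨p, hpN, hpV⟩
    have h1 : η ⤳ p := hη.specializes (hNZ hpN)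
    exact hηV (h1.mem_open V.2 hpV)
  have hinj := hV N
  have h0 : (1 : Γ(X, N)) = 0 := by
    apply hinj
    haveI : Subsingleton Γ(X, N ⊓ V) := by
      rw [hNV]
      exact CommRingCat.subsingleton_of_isTerminal X.sheaf.isTerminalOfEmpty
    exact Subsingleton.elim _ _
  have h2 : X.basicOpen (1 : Γ(X, N)) = N := X.basicOpen_of_isUnit isUnit_one
  rw [h0, Scheme.basicOpen_zero] at h2
  rw [← h2] at hηN
  exact hηN

/-- S3842 -/
theorem s3842 {X X' : Scheme.{u}} (f : X' ⟶ X) [IsReduced X']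
    (hfin : ∀ x : ↥X, ∃ W : X.Opens, x ∈ W ∧
      {Z ∈ irreducibleComponents ↥X | (Z ∩ (W : Set ↥X)).Nonempty}.Finite)
    (hdom : ∀ Z' ∈ irreducibleComponents ↥X', closure (f '' Z') ∈ irreducibleComponents ↥X)
    (V : X.Opens) (hV : CInt.IsSchematicallyDense V) : CInt.IsSchematicallyDense (f ⁻¹ᵁ V) := by
  intro V'
  rw [injective_iff_map_eq_zero]
  intro s hs
  rw [← basicOpen_eq_bot_iff, ← Opens.not_nonempty_iff_eq_bot]
  rintro ⟨p, hp⟩
  have hZ' : irreducibleComponent p ∈ irreducibleComponents ↥X' :=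
    irreducibleComponent_mem_irreducibleComponents p
  obtain ⟨η', hη'⟩ := QuasiSober.sober (isIrreducible_irreducibleComponent (x := p))
    (isClosed_irreducibleComponent (x := p))
  have hη'p : η' ⤳ p := hη'.specializes mem_irreducibleComponent
  have hη'b : η' ∈ X'.basicOpen s := hη'p.mem_open (X'.basicOpen s).2 hp
  have hη'V' : η' ∈ V' := X'.basicOpen_le s hη'b
  have hfη' : IsGenericPoint (f η') (closure (f '' irreducibleComponent p)) :=
    hη'.image f.continuous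
  have hfη'V : f η' ∈ V :=
    genericPoint_mem_of_schDense hfin V hV _ (hdom _ hZ') (f η') hfη'
  have h1 : η' ∈ X'.basicOpen (X'.presheaf.map
      (homOfLE (inf_le_left : V' ⊓ f ⁻¹ᵁ V ≤ V')).op s) := by
    rw [Scheme.basicOpen_res]
    exact ⟨⟨hη'V', hfη'V⟩, hη'b⟩
  have h2 : (X'.presheaf.map (homOfLE (inf_le_left : V' ⊓ f ⁻¹ᵁ V ≤ V')).op).hom s = 0 := hs
  have h3 : X'.basicOpen (X'.presheaf.map
      (homOfLE (inf_le_left : V' ⊓ f ⁻¹ᵁ V ≤ V')).op s) = ⊥ := by
    have : (X'.presheaf.map (homOfLE (inf_le_left : V' ⊓ f ⁻¹ᵁ V ≤ V')).op) s = 0 := h2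
    rw [this, Scheme.basicOpen_zero]
  rw [h3] at h1
  exact h1

end Groth.Agent.Helper3.SchDenseRed
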