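import Mathlib
import Groth.Agent.Helper3.Schan
set_option autoImplicit false
set_option linter.style.haveILetI false
set_option linter.unusedSectionVars false
set_option linter.unusedVariables false
set_option linter.style.haveILetI false
set_option linter.unusedSectionVars false
set_option linter.unusedVariables false

universe u
open Algebra MvPolynomial TensorProduct

namespace Groth.Agent.Helper3.Schan2

open Groth.Agent.Helper3.Schan

section Step1
variable {S T : Type u} [CommRing S] [CommRing T] [Algebra S T] {ι : Type} [Fintype ι]

lemma cc_injective (Q : Generators S T ι) [Subsingleton (H1Cotangent S T)] :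
    Function.Injective Q.toExtension.cotangentComplex := by
  have : FormallySmooth S Q.toExtension.Ring :=
    inferInstanceAs (FormallySmooth S (MvPolynomial ι S))
  rw [Extension.cotangentComplex_injective_iff]
  infer_instance

lemma cc_surjective (Q : Generators S T ι) [Subsingleton Ω[T⁄S]] :
    Function.Surjective Q.toExtension.cotangentComplex := by
  intro y
  exact (Q.toExtension.exact_cotangentComplex_toKaehler y).mp (Subsingleton.elim _ _)

noncomputable def etCotEquiv (Q : Generators S T ι) [Subsingleton (H1Cotangent S T)]
    [Subsingleton Ω[T⁄S]] : Q.toExtension.Cotangent ≃ₗ[T] (ι → T) :=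
  (LinearEquiv.ofBijective Q.toExtension.cotangentComplex ⟨cc_injective Q, cc_surjective Q⟩).trans
    Q.cotangentSpaceBasis.equivFun

end Step1

section Step2
variable {R S T : Type u} [CommRing R] [CommRing S] [CommRing T] [Algebra R S] [Algebra R T]
  [Algebra S T] [IsScalarTower R S T] (g : S) [IsLocalization.Away g T]
variable {ι σ : Type} (Q : Generators S T ι) (P : Generators R S σ)

noncomputable def cmpHom :
    Generators.Hom (Q.comp P) ((Generators.localizationAway T g).comp P) where
  val := Sum.elim (fun j => ((Generators.localizationAway T g).comp P).σ (Q.val j))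
    (fun i => X (Sum.inr i))
  aeval_val i := by cases i <;> simp

lemma cmpHom_comp :
    (cmpHom g Q P).comp (Q.toComp P) = (Generators.localizationAway T g).toComp P := by
  ext i
  simp [cmpHom]

include g in
lemma lbc_injective : Function.Injective
    ((Extension.Cotangent.map (Q.toComp P).toExtensionHom).liftBaseChange T) := by
  have h := Generators.liftBaseChange_injective_of_isLocalizationAway (T := T) g P
  have h2 : LinearMap.liftBaseChange T (Extension.Cotangent.map
        ((Generators.localizationAway T g).toComp P).toExtensionHom) =
      Extension.Cotangent.map (cmpHom g Q P).toExtensionHom ∘ₗ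
        (Extension.Cotangent.map (Q.toComp P).toExtensionHom).liftBaseChange T := by
    rw [LinearMap.liftBaseChange_comp, ← Extension.Cotangent.map_comp,
      ← Generators.Hom.toExtensionHom_comp, cmpHom_comp]
  rw [h2] at h
  exact Function.Injective.of_comp h

include g in
lemma nonempty_split [Module.Projective T Q.toExtension.Cotangent] :
    Nonempty ((Q.comp P).toExtension.Cotangent ≃ₗ[T]
      (T ⊗[S] P.toExtension.Cotangent) × Q.toExtension.Cotangent) := by
  obtain ⟨l, hl⟩ := Module.projective_lifting_property
    (Extension.Cotangent.map (Q.ofComp P).toExtensionHom) LinearMap.id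
    (Generators.Cotangent.surjective_map_ofComp Q P)
  exact ⟨((Generators.Cotangent.exact Q P).splitSurjectiveEquiv (lbc_injective g Q P) ⟨l, hl⟩).1⟩

end Step2


theorem main (R S : Type u) [CommRing R] [CommRing S] [Algebra R S]
    (g : S) (n m : ℕ) (α : MvPolynomial (Fin n) R →ₐ[R] S) (hα : Function.Surjective α)
    (β : MvPolynomial (Fin m) R →ₐ[R] Localization.Away g) (hβ : Function.Surjective β) :
    Nonempty ((LocalizedModule (Submonoid.powers g) (Algebra.Extension.ofSurjective α hα).Cotangent ×
        (Fin m → Localization.Away g)) ≃ₗ[Localization.Away g]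
      ((Algebra.Extension.ofSurjective β hβ).Cotangent × (Fin n → Localization.Away g))) := by
  have hsurj : Function.Surjective
      (aeval (R := S) (fun j : Fin m => β (X j)) : MvPolynomial (Fin m) S →ₐ[S] Localization.Away g) := by
    intro t
    obtain ⟨p, rfl⟩ := hβ t
    refine ⟨MvPolynomial.map (algebraMap R S) p, ?_⟩
    rw [MvPolynomial.aeval_map_algebraMap]
    have : (aeval (R := R) (fun j : Fin m => β (X j)) : MvPolynomial (Fin m) R →ₐ[R] _) = β := by
      apply MvPolynomial.algHom_ext
      intro i
      simp
    rw [this]
  let P : Generators R S (Fin n) := Generators.ofAlgHom α hα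
  let P' : Generators R (Localization.Away g) (Fin m) := Generators.ofAlgHom β hβ
  let Q : Generators S (Localization.Away g) (Fin m) :=
    Generators.ofSurjective (fun j => β (X j)) hsurj
  let Q' : Generators (Localization.Away g) (Localization.Away g) (Fin n) :=
    selfGen (fun i => algebraMap S (Localization.Away g) (α (X i)))
  have : FormallyEtale S (Localization.Away g) :=
    FormallyEtale.of_isLocalization (Submonoid.powers g)
  have eQ := etCotEquiv Q
  have : Module.Projective (Localization.Away g) Q.toExtension.Cotangent :=
    Module.Projective.of_equiv eQ.symm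
  obtain ⟨e0⟩ := nonempty_split g Q P
  have e1 : (LocalizedModule (Submonoid.powers g) (Extension.ofSurjective α hα).Cotangent ×
      (Fin m → Localization.Away g)) ≃ₗ[Localization.Away g] (Q.comp P).toExtension.Cotangent :=
    (LinearEquiv.prodCongr ((LocalizedModule.equivTensorProduct (Submonoid.powers g) _).trans
      (AlgebraTensorModule.congr (LinearEquiv.refl _ _) (genEquiv α hα))) eQ.symm).trans e0.symm
  have e2 : ((Extension.ofSurjective β hβ).Cotangent × (Fin n → Localization.Away g))
      ≃ₗ[Localization.Away g] (Q'.comp P').toExtension.Cotangent :=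
    (LinearEquiv.prodCongr ((genEquiv β hβ).trans (TensorProduct.lid _ _).symm)
      (selfCotEquiv Q').symm).trans (splitEquiv Q' P').symm
  have e3 : (Q.comp P).toExtension.Cotangent ≃ₗ[Localization.Away g]
      (Q'.comp P').toExtension.Cotangent :=
    reEquiv (Q.comp P) (Q'.comp P') (Equiv.sumComm _ _) (by
      rintro (i | i) <;> simp [P, P', Q, Q', Generators.ofAlgHom])
  exact ⟨e1.trans (e3.trans e2.symm)⟩

end Groth.Agent.Helper3.Schan2
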