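import Mathlib
import Groth.Agent.Helper2.RegSmoothLoc
import Groth.Agent.Helper1.FieldSmooth7
import Groth.Agent.Lead.RegLocal

set_option linter.style.haveILetI false
set_option linter.unusedSectionVars false
set_option linter.unusedVariables false

namespace Groth.Agent.Helper3.SecSmooth
open IsLocalRing TensorProduct

universe u

section L1
variable {A B : Type u} [CommRing A] [IsLocalRing A] [CommRing B] [IsLocalRing B]
  [Algebra A B] (ρ : B →+* A) (hρ : ρ.comp (algebraMap A B) = RingHom.id A)

lemma ker_le : RingHom.ker ρ ≤ maximalIdeal B :=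
  IsLocalRing.le_maximalIdeal (RingHom.ker_ne_top ρ)

include hρ in
lemma ρ_algebraMap (a : A) : ρ (algebraMap A B a) = a := by
  rw [← RingHom.comp_apply, hρ]; rfl

include hρ in
lemma isLocalHom_algebraMap : IsLocalHom (algebraMap A B) :=
  ⟨fun a ha => by have := ha.map ρ; rwa [ρ_algebraMap ρ hρ] at this⟩

include hρ in
lemma sub_mem_max (b : B) : b - algebraMap A B (ρ b) ∈ maximalIdeal B := by
  apply ker_le ρ
  rw [RingHom.mem_ker, map_sub, ρ_algebraMap ρ hρ, sub_self]

include hρ in
lemma map_mem (b : B) (hb : b ∈ maximalIdeal B) : ρ b ∈ maximalIdeal A := by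
  by_contra h
  have hu : IsUnit (ρ b) := by
    rwa [mem_maximalIdeal, mem_nonunits_iff, not_not] at h
  have h1 := sub_mem_max ρ hρ b
  have h2 : algebraMap A B (ρ b) ∈ maximalIdeal B := by
    have := sub_mem hb h1
    simpa using this
  exact h2 (hu.map _)

include hρ in
lemma map_sq_le : (maximalIdeal B ^ 2).map ρ ≤ maximalIdeal A ^ 2 := by
  rw [Ideal.map_pow]
  apply Ideal.pow_right_mono
  rw [Ideal.map_le_iff_le_comap]
  intro b hb
  exact map_mem ρ hρ b hb

include hρ in
lemma pi_notMem_sq (π : A) (hπ : maximalIdeal A = Ideal.span {π}) (hπ0 : π ≠ 0) :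
    algebraMap A B π ∉ maximalIdeal B ^ 2 := by
  intro h
  have h1 : π ∈ maximalIdeal A ^ 2 := by
    have := map_sq_le ρ hρ (Ideal.mem_map_of_mem ρ h)
    rwa [ρ_algebraMap ρ hρ] at this
  rw [hπ, Ideal.span_singleton_pow, Ideal.mem_span_singleton'] at h1
  obtain ⟨a, ha⟩ := h1
  have hπm : π ∈ maximalIdeal A := by rw [hπ]; exact Ideal.mem_span_singleton_self π
  have hu : IsUnit (1 - a * π) := by
    have : a * π ∈ nonunits A := (maximalIdeal A).mul_mem_left a hπm
    exact IsLocalRing.isUnit_one_sub_self_of_mem_nonunits _ this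
  have : π * (1 - a * π) = 0 := by
    have h2 : π * (1 - a * π) = π - a * π ^ 2 := by ring
    rw [h2, ha, sub_self]
  exact hπ0 (hu.mul_left_eq_zero.mp this)

include hρ in
theorem fiber_formallySmooth [IsRegularLocalRing B] [Algebra.EssFiniteType A B]
    (π : A) (hπ : maximalIdeal A = Ideal.span {π}) :
    Algebra.FormallySmooth (ResidueField A) (ResidueField A ⊗[A] B) := by
  haveI := isLocalHom_algebraMap ρ hρ
  have hπm : π ∈ maximalIdeal A := by rw [hπ]; exact Ideal.mem_span_singleton_self π
  have hmap : (maximalIdeal A).map (algebraMap A B) = Ideal.span {algebraMap A B π} := by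
    rw [hπ, Ideal.map_span, Set.image_singleton]
  have key : ∀ I : Ideal B, I = Ideal.span {algebraMap A B π} → IsRegularLocalRing (B ⧸ I) := by
    rintro _ rfl
    by_cases hπ0 : π = 0
    · have h0 : Ideal.span {algebraMap A B π} = ⊥ := by rw [hπ0, map_zero]; simp
      rw [h0]
      exact IsRegularLocalRing.of_ringEquiv (RingEquiv.quotientBot B).symm
    · have hm : algebraMap A B π ∈ maximalIdeal B := by
        rw [mem_maximalIdeal, mem_nonunits_iff]
        intro hu
        exact hπm (isUnit_of_map_unit (algebraMap A B) π hu)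
      exact (Groth.Agent.Lead.RegLocal.quotient_isRegularLocalRing hm
        (pi_notMem_sq ρ hρ π hπ hπ0)).1
  haveI hreg : IsRegularLocalRing (B ⧸ (maximalIdeal A).map (algebraMap A B)) := key _ hmap
  let e : (B ⧸ (maximalIdeal A).map (algebraMap A B)) ≃+* (ResidueField A ⊗[A] B) :=
    (Algebra.TensorProduct.quotIdealMapEquivQuotTensor B (maximalIdeal A)).toRingEquiv
  haveI hregT : IsRegularLocalRing (ResidueField A ⊗[A] B) :=
    IsRegularLocalRing.of_ringEquiv e
  haveI : IsLocalRing (ResidueField A ⊗[A] B) := hregT.toIsLocalRing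
  -- elements of `m_B` die in the residue field of the fibre
  have hres0 : ∀ x ∈ maximalIdeal B,
      residue (ResidueField A ⊗[A] B) ((1 : ResidueField A) ⊗ₜ[A] x) = 0 := by
    intro x hx
    rw [IsLocalRing.residue_eq_zero_iff, mem_maximalIdeal, mem_nonunits_iff]
    intro hu
    have h1 : e (Ideal.Quotient.mk _ x) = (1 : ResidueField A) ⊗ₜ[A] x :=
      Algebra.TensorProduct.quotIdealMapEquivQuotTensor_mk B (maximalIdeal A) x
    rw [← h1] at hu
    have h2 : IsUnit (Ideal.Quotient.mk ((maximalIdeal A).map (algebraMap A B)) x) := by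
      have := hu.map e.symm
      simpa using this
    haveI : IsLocalHom (Ideal.Quotient.mk ((maximalIdeal A).map (algebraMap A B))) :=
      IsLocalHom.of_surjective _ Ideal.Quotient.mk_surjective
    exact hx (isUnit_of_map_unit _ x h2)
  have hres : ∀ b : B, residue (ResidueField A ⊗[A] B) ((1 : ResidueField A) ⊗ₜ[A] b) =
      algebraMap (ResidueField A) (ResidueField (ResidueField A ⊗[A] B)) (residue A (ρ b)) := by
    intro b
    have h1 : (1 : ResidueField A) ⊗ₜ[A] b =
        (1 : ResidueField A) ⊗ₜ[A] (b - algebraMap A B (ρ b)) +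
          algebraMap (ResidueField A) (ResidueField A ⊗[A] B) (residue A (ρ b)) := by
      rw [Algebra.TensorProduct.algebraMap_apply, TensorProduct.tmul_sub]
      have : (algebraMap (ResidueField A) (ResidueField A)) (residue A (ρ b)) ⊗ₜ[A] (1 : B) =
          (1 : ResidueField A) ⊗ₜ[A] (algebraMap A B (ρ b)) := by
        rw [Algebra.algebraMap_self_apply, Algebra.algebraMap_eq_smul_one (ρ b),
          TensorProduct.tmul_smul, TensorProduct.smul_tmul']
        congr 1
        rw [Algebra.smul_def, mul_one]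
        rfl
      rw [this]; abel
    conv_lhs => rw [h1]
    rw [map_add, hres0 _ (sub_mem_max ρ hρ b), zero_add]
    rfl
  have hsurj : Function.Surjective
      (algebraMap (ResidueField A) (ResidueField (ResidueField A ⊗[A] B))) := by
    intro y
    obtain ⟨t, rfl⟩ := IsLocalRing.residue_surjective y
    induction t using TensorProduct.induction_on with
    | zero => exact ⟨0, by simp⟩
    | add x y hx hy =>
      obtain ⟨a, ha⟩ := hx
      obtain ⟨b, hb⟩ := hy
      exact ⟨a + b, by rw [map_add, map_add, ha, hb]⟩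
    | tmul c b =>
      refine ⟨c * residue A (ρ b), ?_⟩
      have h2 : c ⊗ₜ[A] b = algebraMap (ResidueField A) (ResidueField A ⊗[A] B) c *
          ((1 : ResidueField A) ⊗ₜ[A] b) := by
        rw [Algebra.TensorProduct.algebraMap_apply, Algebra.TensorProduct.tmul_mul_tmul,
          one_mul, Algebra.algebraMap_self_apply, mul_one]
      rw [h2, map_mul, map_mul, hres b]
      rfl
  let E : ResidueField A ≃ₐ[ResidueField A] ResidueField (ResidueField A ⊗[A] B) :=
    AlgEquiv.ofBijective (Algebra.ofId _ _) ⟨RingHom.injective _, hsurj⟩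
  haveI : Algebra.FormallySmooth (ResidueField A)
      (ResidueField (ResidueField A ⊗[A] B)) := Algebra.FormallySmooth.of_equiv E
  haveI : Algebra.IsGeometricallyReduced (ResidueField A)
      (ResidueField (ResidueField A ⊗[A] B)) :=
    Groth.Agent.Helper1.FieldSmooth.formallySmooth_iff_isGeometricallyReduced.mp inferInstance
  exact (Groth.Agent.Helper2.RegSmoothLoc.formallySmooth_iff_isRegularLocalRing _ _).mpr hregT

end L1

section T1
open Algebra

local notation "𝓀[" R "]" => ResidueField R

/-- smoothness at `q` from flatness, regularity of `S_q`, principal maximal ideal of `R_p`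
and a retraction `S_q → R_p`. -/
theorem isSmoothAt_of_retraction {R S : Type u} [CommRing R] [CommRing S] [Algebra R S]
    [Algebra.FinitePresentation R S] (p : Ideal R) (q : Ideal S)
    [p.IsPrime] [q.IsPrime] [q.LiesOver p]
    (hflat : Module.Flat R (Localization.AtPrime q))
    [IsRegularLocalRing (Localization.AtPrime q)]
    (π : Localization.AtPrime p) (hπ : maximalIdeal (Localization.AtPrime p) = Ideal.span {π})
    (ρ : Localization.AtPrime q →+* Localization.AtPrime p)
    (hρ : ρ.comp (Localization.localRingHom p q (algebraMap R S) Ideal.LiesOver.over) =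
      RingHom.id _) :
    Algebra.IsSmoothAt R q := by
  let Rp := Localization.AtPrime p
  let Sp := Localization (algebraMapSubmonoid S p.primeCompl)
  let Sq := Localization.AtPrime q
  let := Localization.AtPrime.algebraOfLiesOver p q
  let f : Sp →ₐ[S] Sq := IsLocalization.liftAlgHom (M := algebraMapSubmonoid S p.primeCompl)
        (f := Algebra.ofId _ _) (by
      rintro ⟨_, x, hx, rfl⟩
      simpa using! IsLocalization.map_units (M := q.primeCompl) Sq ⟨algebraMap _ _ x,
        by simp_all [q.over_def p]⟩)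
  algebraize [f.toRingHom]
  have : IsScalarTower R Sp Sq := .to₁₃₄ _ S _ _
  have : IsScalarTower Rp Sp Sq := .of_algebraMap_eq' <| by
    apply IsLocalization.ringHom_ext p.primeCompl
    simp only [RingHom.comp_assoc, ← IsScalarTower.algebraMap_eq]
  have : IsLocalization (algebraMapSubmonoid Sp q.primeCompl) Sq :=
    .isLocalization_of_submonoid_le _ _ (algebraMapSubmonoid S p.primeCompl) _
    (by rintro _ ⟨x, hx, rfl⟩; simp_all [q.over_def p])
  have : FinitePresentation Rp Sp := by
    have : Algebra.IsPushout R Rp S Sp :=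
      .symm <| Algebra.isPushout_of_isLocalization p.primeCompl _ _ _
    exact .equiv (Algebra.IsPushout.equiv R Rp S Sp)
  haveI : Algebra.EssFiniteType Sp Sq :=
    Algebra.EssFiniteType.of_isLocalization Sq (algebraMapSubmonoid Sp q.primeCompl)
  haveI : Algebra.EssFiniteType Rp Sq := Algebra.EssFiniteType.comp Rp Sp Sq
  have : FormallySmooth 𝓀[Rp] (𝓀[Rp] ⊗[Rp] Sq) :=
    fiber_formallySmooth (A := Rp) (B := Sq) ρ hρ π hπ
  have : Module.Flat Rp Sq :=
    (Module.flat_iff_of_isLocalization (R := R) Rp p.primeCompl Sq).mpr hflat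
  haveI : IsLocalHom (algebraMap Rp Sq) := isLocalHom_algebraMap (A := Rp) (B := Sq) ρ hρ
  have := FormallySmooth.of_formallySmooth_residueField_tensor
    (R := Rp) (S := Sq) (P := Sp) (algebraMapSubmonoid _ q.primeCompl)
  exact .comp R Rp Sq

end T1

section Sch
open AlgebraicGeometry CategoryTheory

set_option backward.isDefEq.respectTransparency false in
theorem s11100 {R : Type u} [CommRing R] [IsDedekindDomain R]
    {X : Scheme.{u}} (p : X ⟶ Spec (CommRingCat.of R)) [Flat p] [LocallyOfFinitePresentation p]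
    (hreg : ∀ x : X, IsRegularLocalRing (X.presheaf.stalk x))
    (s : Spec (CommRingCat.of R) ⟶ X) (hs : s ≫ p = 𝟙 _) (t : Spec (CommRingCat.of R)) :
    s.base t ∈ p.smoothLocus := by
  set x := s.base t with hx
  rw [Scheme.Hom.mem_smoothLocus]
  have hU : IsAffineOpen (⊤ : (Spec (CommRingCat.of R)).Opens) := isAffineOpen_top _
  obtain ⟨_, ⟨V, hV, rfl⟩, hxV, hVU⟩ := X.isBasis_affineOpens.exists_subset_of_mem_open
    (show x ∈ ((p ⁻¹ᵁ ⊤ : X.Opens) : Set X) from trivial) (p ⁻¹ᵁ ⊤).2
  rw [formallySmooth_stalkMap_iff ⊤ hU V hV hVU hxV]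
  letI := (p.appLE ⊤ V hVU).hom.toAlgebra
  let P := (hU.primeIdealOf ⟨p x, hVU hxV⟩).asIdeal
  let Q := (hV.primeIdealOf ⟨x, hxV⟩).asIdeal
  haveI : Q.LiesOver P :=
    ⟨congr($(IsAffineOpen.comap_primeIdealOf_appLE ⊤ hU V hV hVU hxV).1).symm⟩
  change Algebra.IsSmoothAt _ Q
  haveI hfp : Algebra.FinitePresentation Γ(Spec (CommRingCat.of R), ⊤) Γ(X, V) :=
    p.finitePresentation_appLE hU hV hVU
  haveI hfl0 : Module.Flat Γ(Spec (CommRingCat.of R), ⊤) Γ(X, V) :=
    p.flat_appLE hU hV hVU
  have hflat : Module.Flat Γ(Spec (CommRingCat.of R), ⊤) (Localization.AtPrime Q) :=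
    Module.Flat.trans _ Γ(X, V) _
  let e := IsAffineOpen.arrowStalkMapIso p ⊤ hU V hV hVU hxV
  -- regularity
  haveI hregQ : IsRegularLocalRing (Localization.AtPrime Q) := by
    have h0 : IsRegularLocalRing (X.presheaf.stalk x) := hreg x
    let eR : X.presheaf.stalk x ≅ CommRingCat.of (Localization.AtPrime Q) :=
      Arrow.rightFunc.mapIso e
    exact @IsRegularLocalRing.of_ringEquiv _ _ h0 _ _ eR.commRingCatIsoToRingEquiv
  -- the maximal ideal of the localization of the base is principal
  obtain ⟨π, hπ⟩ : ∃ π : Localization.AtPrime P,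
      maximalIdeal (Localization.AtPrime P) = Ideal.span {π} := by
    let A' := (Spec.structureSheaf R).presheaf.stalk (p x)
    haveI : IsDomain A' := IsLocalization.isDomain_of_atPrime A' (p x).asIdeal
    haveI : IsLocalRing A' := inferInstanceAs
      (IsLocalRing ((Spec (CommRingCat.of R)).presheaf.stalk (p x)))
    haveI : IsDedekindDomain A' := IsLocalization.AtPrime.isDedekindDomain R (p x).asIdeal A'
    obtain ⟨π', hπ'⟩ := (maximalIdeal_isPrincipal_of_isDedekindDomain A').principal
    let eL : (Spec (CommRingCat.of R)).presheaf.stalk (p x) ≅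
        CommRingCat.of (Localization.AtPrime P) := Arrow.leftFunc.mapIso e
    let E : A' ≃+* Localization.AtPrime P := eL.commRingCatIsoToRingEquiv
    refine ⟨E π', ?_⟩
    rw [← IsLocalRing.map_ringEquiv_maximalIdeal E, hπ']
    change Ideal.map _ (Ideal.span {π'}) = _
    rw [Ideal.map_span, Set.image_singleton]
  -- the retraction on stalks
  have hpx : p x = t := by
    rw [hx, ← Scheme.Hom.comp_apply, hs]; rfl
  have hcomp : p.stalkMap x ≫ s.stalkMap t =
      ((Spec (CommRingCat.of R)).presheaf.stalkCongr (.of_eq hpx)).hom := by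
    rw [← Scheme.Hom.stalkMap_comp, Scheme.Hom.stalkMap_congr_hom _ _ hs, Scheme.Hom.stalkMap_id]
    exact Category.comp_id _
  let ρ' : X.presheaf.stalk x ⟶ (Spec (CommRingCat.of R)).presheaf.stalk (p x) :=
    s.stalkMap t ≫ ((Spec (CommRingCat.of R)).presheaf.stalkCongr (.of_eq hpx)).inv
  have hρ' : p.stalkMap x ≫ ρ' = 𝟙 _ := by
    rw [← Category.assoc, hcomp, Iso.hom_inv_id]
  let ρc : CommRingCat.of (Localization.AtPrime Q) ⟶ CommRingCat.of (Localization.AtPrime P) :=
    e.inv.right ≫ ρ' ≫ e.hom.left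
  have hρc : CommRingCat.ofHom (Localization.localRingHom P Q
      (algebraMap Γ(Spec (CommRingCat.of R), ⊤) Γ(X, V)) Ideal.LiesOver.over) ≫ ρc = 𝟙 _ := by
    have h1 := e.inv.w
    have h2 : e.inv.left ≫ e.hom.left = 𝟙 _ := by
      rw [← Arrow.comp_left, e.inv_hom_id]; rfl
    simp only [Arrow.mk_hom, Functor.id_obj, Functor.id_map] at h1
    change _ ≫ (e.inv.right ≫ ρ' ≫ e.hom.left) = _
    rw [← Category.assoc]
    erw [← h1]
    rw [Category.assoc, ← Category.assoc (p.stalkMap x), hρ', Category.id_comp, h2]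
    rfl
  exact isSmoothAt_of_retraction P Q hflat π hπ ρc.hom (by
    have := congrArg CommRingCat.Hom.hom hρc
    exact this)

end Sch

end Groth.Agent.Helper3.SecSmooth
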