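import Mathlib
set_option linter.style.haveILetI false
set_option linter.unusedSectionVars false
set_option linter.unusedVariables false

namespace Groth.Agent.Helper3.SemiFree
open TensorProduct

universe u

/-- For a maximal ideal, the dimension of `R/P ⊗ N` is the rank at the stalk. -/
lemma finrank_quotient_eq_rankAtStalk (R : Type u) [CommRing R] (N : Type u) [AddCommGroup N]
    [Module R N] [Module.Finite R N] [Module.Flat R N] (P : Ideal R) [hP : P.IsMaximal] :
    Module.finrank (R ⧸ P) ((R ⧸ P) ⊗[R] N) = Module.rankAtStalk N ⟨P, hP.isPrime⟩ := by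
  letI := Ideal.Quotient.field P
  rw [Module.rankAtStalk_eq]
  let e : P.ResidueField ⊗[R ⧸ P] ((R ⧸ P) ⊗[R] N) ≃ₗ[P.ResidueField] P.ResidueField ⊗[R] N :=
    AlgebraTensorModule.cancelBaseChange R (R ⧸ P) P.ResidueField P.ResidueField N
  show _ = Module.finrank P.ResidueField (P.ResidueField ⊗[R] N)
  rw [← e.finrank_eq]
  exact (Module.finrank_baseChange (R := P.ResidueField) (S := R ⧸ P)
    (M' := (R ⧸ P) ⊗[R] N)).symm

variable (A : Type u) [CommRing A]

/-- The submonoid of elements outside all primes of `Z`. -/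
def S (Z : Set (PrimeSpectrum A)) : Submonoid A := ⨅ p ∈ Z, p.asIdeal.primeCompl

variable {A}

lemma mem_S {Z : Set (PrimeSpectrum A)} {s : A} : s ∈ S A Z ↔ ∀ p ∈ Z, s ∉ p.asIdeal := by
  simp only [S, Submonoid.mem_iInf]
  rfl

lemma disjoint_S {Z : Set (PrimeSpectrum A)} {p : PrimeSpectrum A} (hp : p ∈ Z) :
    Disjoint (S A Z : Set A) (p.asIdeal : Set A) := by
  rw [Set.disjoint_left]
  intro x hx hxp
  exact (mem_S.mp hx) p hp hxp

lemma comap_mem (Z : Set (PrimeSpectrum A)) (hZ : Z.Finite)
    (P : Ideal (Localization (S A Z))) [hP : P.IsMaximal] :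
    (⟨P.under A, Ideal.IsPrime.under A P⟩ : PrimeSpectrum A) ∈ Z := by
  classical
  set q := P.under A with hq
  have hqprime : q.IsPrime := Ideal.IsPrime.under A P
  have hdisj : Disjoint (S A Z : Set A) (q : Set A) :=
    ((IsLocalization.isPrime_iff_isPrime_disjoint (S A Z) (Localization (S A Z)) P).mp
      hP.isPrime).2
  have hsub : (q : Set A) ⊆ ⋃ p ∈ (hZ.toFinset : Set (PrimeSpectrum A)), (p.asIdeal : Set A) := by
    intro x hx
    have hxS : x ∉ S A Z := fun h => Set.disjoint_left.mp hdisj h hx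
    rw [mem_S] at hxS
    push Not at hxS
    obtain ⟨p, hpZ, hxp⟩ := hxS
    simp only [Set.mem_iUnion]
    exact ⟨p, by simpa using hpZ, hxp⟩
  obtain ⟨p, hpZ, hqp⟩ := (Ideal.subset_union_prime (s := hZ.toFinset)
    (f := fun p : PrimeSpectrum A => p.asIdeal) ⟨q, hqprime⟩ ⟨q, hqprime⟩
    (fun i _ _ _ => i.isPrime)).mp hsub
  have hpZ' : p ∈ Z := by simpa using hpZ
  have hmap : P = p.asIdeal.map (algebraMap A (Localization (S A Z))) := by
    have h1 : P ≤ p.asIdeal.map (algebraMap A (Localization (S A Z))) := by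
      rw [← IsLocalization.map_under (S A Z) (Localization (S A Z)) P]
      exact Ideal.map_mono hqp
    have h2 : p.asIdeal.map (algebraMap A (Localization (S A Z))) ≠ ⊤ :=
      (IsLocalization.map_algebraMap_ne_top_iff_disjoint (S A Z) _ _).mpr (disjoint_S hpZ')
    exact (hP.eq_of_le h2 h1)
  have hqp' : q = p.asIdeal := by
    rw [hq, hmap]
    exact IsLocalization.under_map_of_isPrime_disjoint (S A Z) _ p.isPrime (disjoint_S hpZ')
  have : (⟨q, hqprime⟩ : PrimeSpectrum A) = p := PrimeSpectrum.ext hqp'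
  rw [this]; exact hpZ'

lemma finite_maximalSpectrum (Z : Set (PrimeSpectrum A)) (hZ : Z.Finite) :
    Finite (MaximalSpectrum (Localization (S A Z))) := by
  haveI : Finite Z := hZ.to_subtype
  let g : MaximalSpectrum (Localization (S A Z)) → Z := fun P =>
    ⟨⟨P.asIdeal.under A, Ideal.IsPrime.under A P.asIdeal⟩, by
      haveI := P.isMaximal
      exact comap_mem Z hZ P.asIdeal⟩
  apply Finite.of_injective g
  intro P Q hPQ
  have h1 : P.asIdeal.under A = Q.asIdeal.under A := by
    have := congrArg (fun z : Z => z.1.asIdeal) hPQ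
    exact this
  have h2 : P.asIdeal = Q.asIdeal := by
    rw [← IsLocalization.map_under (S A Z) (Localization (S A Z)) P.asIdeal,
      ← IsLocalization.map_under (S A Z) (Localization (S A Z)) Q.asIdeal, h1]
  exact MaximalSpectrum.ext h2

theorem main (A : Type u) [CommRing A]
    (M : Type u) [AddCommGroup M] [Module A M] [Module.Finite A M] [Module.Projective A M] (r : ℕ)
    (hr : ∀ p : PrimeSpectrum A, Module.rankAtStalk M p = r)
    (Z : Set (PrimeSpectrum A)) (hZ : Z.Finite) :
    ∃ s : A, (∀ p ∈ Z, s ∉ p.asIdeal) ∧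
      Nonempty (Module.Basis (Fin r) (Localization.Away s)
        (LocalizedModule (Submonoid.powers s) M)) := by
  haveI := finite_maximalSpectrum Z hZ
  set AS := Localization (S A Z)
  set MS := LocalizedModule (S A Z) M
  have hbc : IsBaseChange AS (LocalizedModule.mkLinearMap (S A Z) M) :=
    IsLocalizedModule.isBaseChange (S A Z) AS _
  haveI : Module.Flat AS MS := Module.Flat.isBaseChange A AS M MS hbc
  have hrk : ∀ P : MaximalSpectrum AS,
      Module.finrank (AS ⧸ P.1) ((AS ⧸ P.1) ⊗[AS] MS) = r := by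
    intro P
    haveI := P.isMaximal
    rw [finrank_quotient_eq_rankAtStalk AS MS P.1, Module.rankAtStalk_isBaseChange hbc, hr]
  obtain ⟨b⟩ := Module.nonempty_basis_of_flat_of_finrank_eq AS MS r hrk
  haveI : Module.FinitePresentation A M := Module.finitePresentation_of_projective A M
  obtain ⟨s, hs, b', -⟩ := Module.FinitePresentation.exists_basis_localizedModule_powers (S A Z)
    (LocalizedModule.mkLinearMap (S A Z) M) AS b
  exact ⟨s, mem_S.mp hs, ⟨b'⟩⟩

end Groth.Agent.Helper3.SemiFree
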