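import Mathlib
import Groth.Agent.Helper4.PullSec
import Groth.Agent.Helper4.QAffSec
import Groth.Agent.Lead.ParaFLib2

set_option autoImplicit false
set_option linter.style.haveILetI false
set_option linter.unusedSectionVars false
set_option linter.unusedVariables false
set_option linter.deprecated false
set_option linter.style.haveILetI false
set_option linter.unusedSectionVars false
set_option linter.unusedVariables false

open CategoryTheory Limits AlgebraicGeometry TopologicalSpace Opposite
universe u

namespace Groth.Agent.Helper3.SemiLocTriv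

/-- an invertible module on a scheme finite over the spectrum of a local ring is trivial -/
theorem main {Z : Scheme.{u}} {R : Type u} [CommRing R] [IsLocalRing R]
    (g : Z ⟶ Spec (CommRingCat.of R)) [IsFinite g] (L : Z.Modules) (hL : PicF.IsInvertible L) :
    Nonempty (L ≅ Coh.structureModule Z) := by
  haveI : IsAffine Z := isAffine_of_isAffineHom g
  let c : (Spec (CommRingCat.of R) : Scheme.{u}) := IsLocalRing.closedPoint R
  let E : Set Z := g ⁻¹' {c}
  have hE : E.Finite := g.finite_preimage_singleton c
  obtain ⟨f, -, hEf, -, ⟨i⟩⟩ := Groth.Agent.Helper4.QAffSec.exists_basicOpen_triv L hL ⊤ E hE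
    (fun _ _ => trivial)
  have htop : Z.basicOpen f = ⊤ := by
    by_contra hne
    have hC : IsClosed ((Z.basicOpen f : Set Z)ᶜ) := (Z.basicOpen f).2.isClosed_compl
    have hne' : ((Z.basicOpen f : Set Z)ᶜ).Nonempty := by
      by_contra h0
      rw [Set.not_nonempty_iff_eq_empty, Set.compl_empty_iff] at h0
      exact hne (Opens.ext h0)
    have hcl : IsClosed (g '' ((Z.basicOpen f : Set Z)ᶜ)) := g.isClosedMap _ hC
    have hne2 : (g '' ((Z.basicOpen f : Set Z)ᶜ)).Nonempty := hne'.image _
    obtain ⟨y, hy⟩ := hne2
    have hc : c ∈ g '' ((Z.basicOpen f : Set Z)ᶜ) := by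
      have hsp : y ⤳ c := IsLocalRing.specializes_closedPoint y
      exact hsp.mem_closed hcl hy
    obtain ⟨z, hz, hzc⟩ := hc
    exact hz (hEf (show z ∈ E from hzc))
  have key : ∀ (W : Z.Opens), W = ⊤ →
      Nonempty (L.restrict W.ι ≅ Coh.structureModule (W : Scheme.{u})) →
      Nonempty (L ≅ Coh.structureModule Z) := by
    rintro W rfl ⟨e⟩
    exact Groth.Agent.Lead.ParaFLib2.iso_unit_of_restrict_top L e
  exact key _ htop ⟨i⟩

end Groth.Agent.Helper3.SemiLocTriv
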