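import Mathlib

set_option autoImplicit false
set_option linter.style.haveILetI false
set_option linter.unusedSectionVars false
set_option linter.unusedVariables false
set_option linter.style.haveILetI false
set_option linter.unusedSectionVars false
set_option linter.unusedVariables false

universe u

namespace Groth.Agent.Helper3.SemiLocalSOP

variable {A : Type u} [CommRing A]

/-- a prime containing the Jacobson radical of a semi-local ring is maximal -/
theorem isMaximal_of_jacobson_le [Finite (MaximalSpectrum A)] (q : Ideal A) [hq' : q.IsPrime]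
    (hq : Ring.jacobson A ≤ q) : q.IsMaximal := by
  classical
  haveI := Fintype.ofFinite (MaximalSpectrum A)
  have h1 : (Finset.univ : Finset (MaximalSpectrum A)).inf (fun m => m.asIdeal) ≤ q := by
    refine le_trans ?_ hq
    rw [Ring.jacobson_eq_sInf_isMaximal]
    refine le_sInf (fun I hI => ?_)
    exact Finset.inf_le (f := fun m : MaximalSpectrum A => m.asIdeal) (Finset.mem_univ ⟨I, hI⟩)
  obtain ⟨m, -, hm⟩ := (Ideal.IsPrime.inf_le' hq').1 h1
  have := m.isMaximal.eq_of_le hq'.ne_top hm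
  rw [← this]
  exact m.isMaximal

/-- prime avoidance in the form we use -/
theorem exists_mem_notMem (J : Ideal A) (S : Set (Ideal A)) (hS : S.Finite)
    (hprime : ∀ p ∈ S, p.IsPrime) (hJ : ∀ p ∈ S, ¬ J ≤ p) : ∃ x ∈ J, ∀ p ∈ S, x ∉ p := by
  have : ¬ (J : Set A) ⊆ ⋃ K ∈ hS.toFinset, (K : Set A) := by
    refine (Ideal.subset_union_prime ⊥ ⊥ ?_).not.mpr ?_
    · rintro K hK - -
      rw [Set.Finite.mem_toFinset] at hK
      exact hprime K hK
    · push Not
      intro K hK
      rw [Set.Finite.mem_toFinset] at hK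
      exact hJ K hK
  simp_rw [Set.not_subset, Set.mem_iUnion, not_exists, Set.Finite.mem_toFinset] at this
  obtain ⟨x, hx₁, hx₂⟩ := this
  exact ⟨x, hx₁, fun p hp hxp => hx₂ p hp hxp⟩

variable [IsNoetherianRing A]

/-- the inductive step: adding an element avoiding the relevant minimal primes raises heights -/
theorem step (I : Ideal A) (G : Ideal A → Prop) (hG : ∀ q₀ q : Ideal A, q.IsPrime → q₀ ≤ q → G q → G q₀)
    (i : ℕ) (hI : ∀ q ∈ I.minimalPrimes, G q → (i : ℕ∞) ≤ q.height)
    (y : A) (hy : ∀ q ∈ I.minimalPrimes, G q → y ∉ q) :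
    ∀ q ∈ (I ⊔ Ideal.span {y}).minimalPrimes, G q → ((i + 1 : ℕ) : ℕ∞) ≤ q.height := by
  intro q hq hGq
  haveI := hq.1.1
  have hIq : I ≤ q := le_sup_left.trans hq.1.2
  obtain ⟨q₀, hq₀, hq₀q⟩ := Ideal.exists_minimalPrimes_le hIq
  haveI := hq₀.1.1
  have hG₀ := hG q₀ q hq.1.1 hq₀q hGq
  have h1 := hI q₀ hq₀ hG₀
  have h2 : y ∉ q₀ := hy q₀ hq₀ hG₀
  have h3 : y ∈ q := hq.1.2 (Ideal.mem_sup_right (Ideal.mem_span_singleton_self y))
  have hlt : q₀ < q := lt_of_le_of_ne hq₀q (fun h => h2 (h ▸ h3))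
  have h4 := Ideal.height_add_one_le_of_lt_of_isPrime hlt
  push_cast
  exact (add_le_add_left h1 1).trans h4

/-- stage 1: `i` elements of `J` such that minimal primes over them not containing `J` have
height `≥ i` -/
theorem stage1 (J : Ideal A) (i : ℕ) :
    ∃ x : Fin i → A, (∀ j, x j ∈ J) ∧
      ∀ q ∈ (Ideal.span (Set.range x)).minimalPrimes, ¬ J ≤ q → (i : ℕ∞) ≤ q.height := by
  induction i with
  | zero => exact ⟨Fin.elim0, fun j => j.elim0, fun q _ _ => by simp⟩
  | succ i ih =>
    obtain ⟨x, hx, hP⟩ := ih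
    set I := Ideal.span (Set.range x) with hIdef
    obtain ⟨y, hyJ, hy⟩ := exists_mem_notMem J {q | q ∈ I.minimalPrimes ∧ ¬ J ≤ q}
      (I.finite_minimalPrimes_of_isNoetherianRing.subset (fun _ h => h.1))
      (fun p hp => hp.1.1.1) (fun p hp => hp.2)
    refine ⟨Fin.snoc x y, ?_, ?_⟩
    · intro j
      refine Fin.lastCases ?_ (fun j => ?_) j
      · rw [Fin.snoc_last]; exact hyJ
      · rw [Fin.snoc_castSucc]; exact hx j
    · have hspan : Ideal.span (Set.range (Fin.snoc x y : Fin (i + 1) → A)) =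
          I ⊔ Ideal.span {y} := by
        rw [hIdef, ← Ideal.span_union]
        congr 1
        ext z
        simp only [Set.mem_range, Set.union_singleton, Set.mem_insert_iff]
        constructor
        · rintro ⟨j, rfl⟩
          refine Fin.lastCases ?_ (fun j => ?_) j
          · left; rw [Fin.snoc_last]
          · right; exact ⟨j, by rw [Fin.snoc_castSucc]⟩
        · rintro (rfl | ⟨j, rfl⟩)
          · exact ⟨Fin.last i, by rw [Fin.snoc_last]⟩
          · exact ⟨j.castSucc, by rw [Fin.snoc_castSucc]⟩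
      rw [hspan]
      exact step I (fun q => ¬ J ≤ q) (fun q₀ q _ h hq h' => hq (h'.trans h)) i hP y
        (fun q hq hG => hy q ⟨hq, hG⟩)

/-- stage 2: further elements of the radical -/
theorem stage2 [Finite (MaximalSpectrum A)] (I : Ideal A) (i : ℕ)
    (hI : ∀ q ∈ I.minimalPrimes, ¬ q.IsMaximal → (i : ℕ∞) ≤ q.height) (j : ℕ) :
    ∃ ys : List A, ys.length = j ∧ (∀ y ∈ ys, y ∈ Ring.jacobson A) ∧
      ∀ q ∈ (I ⊔ Ideal.ofList ys).minimalPrimes, ¬ q.IsMaximal → ((i + j : ℕ) : ℕ∞) ≤ q.height := by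
  induction j with
  | zero =>
    refine ⟨[], rfl, by simp, ?_⟩
    rw [Ideal.ofList_nil, sup_bot_eq]
    simpa using hI
  | succ j ih =>
    obtain ⟨ys, hlen, hys, hP⟩ := ih
    set I' := I ⊔ Ideal.ofList ys with hI'
    obtain ⟨y, hyJ, hy⟩ := exists_mem_notMem (Ring.jacobson A)
      {q | q ∈ I'.minimalPrimes ∧ ¬ q.IsMaximal}
      (I'.finite_minimalPrimes_of_isNoetherianRing.subset (fun _ h => h.1))
      (fun p hp => hp.1.1.1)
      (fun p hp hle => hp.2 (by haveI := hp.1.1.1; exact isMaximal_of_jacobson_le p hle))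
    refine ⟨ys ++ [y], by simp [hlen], ?_, ?_⟩
    · intro z hz
      rcases List.mem_append.1 hz with hz | hz
      · exact hys z hz
      · rw [List.mem_singleton] at hz; rw [hz]; exact hyJ
    · rw [Ideal.ofList_append, Ideal.ofList_singleton, ← sup_assoc, ← add_assoc]
      refine step I' (fun q => ¬ q.IsMaximal) ?_ (i + j) hP y (fun q hq hG => hy q ⟨hq, hG⟩)
      intro q₀ q hqp hle hq hq₀
      apply hq
      rw [← hq₀.eq_of_le hqp.ne_top hle]; exact hq₀

theorem finite_dim [Finite (MaximalSpectrum A)] [Nontrivial A] : ∃ d : ℕ, ringKrullDim A = d := by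
  classical
  haveI := Fintype.ofFinite (MaximalSpectrum A)
  set D := (Finset.univ : Finset (MaximalSpectrum A)).sup (fun m => m.asIdeal.height) with hD
  have hDlt : D < ⊤ := by
    rw [hD, Finset.sup_lt_iff (by exact bot_lt_top)]
    intro m _
    exact Ideal.height_lt_top m.isMaximal.ne_top
  have hle : (⨆ (I : Ideal A) (_ : I.IsMaximal), I.height) ≤ D := by
    refine iSup₂_le (fun I hI => ?_)
    exact Finset.le_sup (f := fun m : MaximalSpectrum A => m.asIdeal.height)
      (Finset.mem_univ ⟨I, hI⟩)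
  obtain ⟨d, hd⟩ := ENat.ne_top_iff_exists.1 (lt_of_le_of_lt hle hDlt).ne
  refine ⟨d, ?_⟩
  rw [← Ideal.sup_isMaximal_height_eq_ringKrullDim, ← hd]
  rfl

theorem main (A : Type u) [CommRing A] [IsNoetherianRing A]
    [Finite (MaximalSpectrum A)] (a : Ideal A) (ha : a ≠ ⊤) (h : ℕ) (hh : a.height = h)
    (hpos : 0 < h) :
    ∃ x : Fin h → A, (∀ i, x i ∈ a) ∧ (∀ i, x i ∈ Ring.jacobson A) ∧
      (∃ ys : List A, (∀ y ∈ ys, y ∈ Ring.jacobson A) ∧
        (((h + ys.length : ℕ) : ℕ∞) : WithBot ℕ∞) = ringKrullDim A ∧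
        IsFiniteLength A (A ⧸ (Ideal.span (Set.range x) ⊔ Ideal.ofList ys))) ∧
      (a.map (Ideal.Quotient.mk (Ideal.span (Set.range x)))).height = 0 := by
  haveI : Nontrivial A := by
    by_contra hc
    rw [not_nontrivial_iff_subsingleton] at hc
    exact ha (Subsingleton.elim _ _)
  obtain ⟨d, hd⟩ := finite_dim (A := A)
  obtain ⟨x, hx, hP⟩ := stage1 (a ⊓ Ring.jacobson A) h
  set I := Ideal.span (Set.range x) with hIdef
  have hIa : I ≤ a := Ideal.span_le.2 (by rintro _ ⟨j, rfl⟩; exact (hx j).1)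
  have hhd : h ≤ d := by
    have := Ideal.height_le_ringKrullDim_of_ne_top ha
    rw [hh, hd] at this
    exact_mod_cast this
  have hsplit : ∀ q : Ideal A, q.IsPrime → a ⊓ Ring.jacobson A ≤ q → a ≤ q ∨ q.IsMaximal := by
    intro q hq hle
    have h1 : a * Ring.jacobson A ≤ q := Ideal.mul_le_inf.trans hle
    rcases (Ideal.IsPrime.mul_le hq).1 h1 with h2 | h2
    · exact Or.inl h2
    · exact Or.inr (isMaximal_of_jacobson_le q h2)
  have hPh : ∀ q ∈ I.minimalPrimes, ¬ q.IsMaximal → (h : ℕ∞) ≤ q.height := by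
    intro q hq hqm
    by_cases hle : a ⊓ Ring.jacobson A ≤ q
    · rcases hsplit q hq.1.1 hle with h1 | h1
      · rw [← hh]; exact Ideal.height_mono h1
      · exact absurd h1 hqm
    · exact hP q hq hle
  obtain ⟨ys, hlen, hys, hQ⟩ := stage2 I h hPh (d - h)
  rw [Nat.add_sub_cancel' hhd] at hQ
  refine ⟨x, fun i => (hx i).1, fun i => (hx i).2, ⟨ys, hys, ?_, ?_⟩, ?_⟩
  · rw [hlen, hd, Nat.add_sub_cancel' hhd]
    rfl
  · set J := I ⊔ Ideal.ofList ys with hJ
    have hmax : ∀ q ∈ J.minimalPrimes, q.IsMaximal := by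
      intro q hq
      by_contra hqm
      have h1 := hQ q hq hqm
      haveI := hq.1.1
      obtain ⟨m, hm, hqm'⟩ := Ideal.exists_le_maximal q hq.1.1.ne_top
      have hlt : q < m := lt_of_le_of_ne hqm' (fun e => hqm (e ▸ hm))
      haveI := hm.isPrime
      have h2 := Ideal.height_add_one_le_of_lt_of_isPrime hlt
      have h3 := Ideal.height_le_ringKrullDim_of_ne_top hm.ne_top
      rw [hd] at h3
      have h4 : m.height ≤ (d : ℕ∞) := by exact_mod_cast h3
      have h5 : (d : ℕ∞) + 1 ≤ d := (add_le_add_left h1 1).trans (h2.trans h4)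
      have h6 : ((d + 1 : ℕ) : ℕ∞) ≤ (d : ℕ) := by push_cast; exact h5
      rw [Nat.cast_le] at h6
      omega
    haveI : Ring.KrullDimLE 0 (A ⧸ J) := by
      rw [Ring.krullDimLE_zero_iff_forall_minimalPrimes_isMaximal]
      intro P hP'
      haveI := hP'.1.1
      have h1 : P.comap (Ideal.Quotient.mk J) ∈ J.minimalPrimes := by
        rw [Ideal.minimalPrimes_eq_comap]
        exact ⟨P, hP', rfl⟩
      have h2 := hmax _ h1
      have h3 := Ideal.map_eq_top_or_isMaximal_of_surjective (Ideal.Quotient.mk J)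
        Ideal.Quotient.mk_surjective h2
      rw [Ideal.map_comap_of_surjective _ Ideal.Quotient.mk_surjective] at h3
      rcases h3 with h3 | h3
      · exact absurd h3 hP'.1.1.ne_top
      · exact h3
    haveI : IsArtinianRing (A ⧸ J) := isArtinianRing_iff_krullDimLE_zero.2 inferInstance
    rw [isFiniteLength_iff_isNoetherian_isArtinian]
    exact ⟨inferInstance, isArtinian_of_surjective_algebraMap (S := A) (R := A ⧸ J) (M := A ⧸ J)
      Ideal.Quotient.mk_surjective⟩
  · obtain ⟨p, hp, hap, hph⟩ := Ideal.exists_isPrime_height_eq hh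
    obtain ⟨p', hp', hp'p⟩ := Ideal.exists_minimalPrimes_le (hIa.trans hap)
    haveI := hp'.1.1
    have hpmin : p ∈ a.minimalPrimes :=
      Ideal.mem_minimalPrimes_of_height_le hap (by rw [hph, hh])
    have heq : p' = p := by
      by_cases hle : a ⊓ Ring.jacobson A ≤ p'
      · rcases hsplit p' hp'.1.1 hle with h1 | h1
        · exact le_antisymm hp'p (hpmin.2 ⟨hp'.1.1, h1⟩ hp'p)
        · exact h1.eq_of_le hp.ne_top hp'p
      · have h1 := hP p' hp' hle
        by_contra hne
        have hlt : p' < p := lt_of_le_of_ne hp'p hne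
        have h2 := Ideal.height_add_one_le_of_lt_of_isPrime hlt
        rw [hph] at h2
        have h5 : (h : ℕ∞) + 1 ≤ h := (add_le_add_left h1 1).trans h2
        have h6 : ((h + 1 : ℕ) : ℕ∞) ≤ (h : ℕ) := by push_cast; exact h5
        rw [Nat.cast_le] at h6
        omega
    rw [heq] at hp'
    rw [Ideal.minimalPrimes_eq_comap] at hp'
    obtain ⟨P, hP', hPp⟩ := hp'
    haveI := hP'.1.1
    have h1 : a.map (Ideal.Quotient.mk I) ≤ P :=
      Ideal.map_le_iff_le_comap.2 (hap.trans_eq hPp.symm)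
    have h2 : P.height = 0 := Ideal.height_eq_zero_iff.2 hP'
    exact le_antisymm ((Ideal.height_mono h1).trans_eq h2) bot_le

end Groth.Agent.Helper3.SemiLocalSOP
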