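import Mathlib
set_option autoImplicit false
set_option linter.style.haveILetI false
set_option linter.unusedSectionVars false
set_option linter.unusedVariables false
set_option linter.style.haveILetI false
set_option linter.unusedSectionVars false
set_option linter.unusedVariables false

universe u v
open CategoryTheory CategoryTheory.Limits AlgebraicGeometry TopologicalSpace

namespace Groth.Agent.Helper3.SepCrit

/-- ring-level lemma B -/
lemma ringB {R₁ R₂ S T : Type*} [CommRing R₁] [CommRing R₂] [CommRing S] [CommRing T]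
    (r₁ : R₁ →+* S) (r₂ : R₂ →+* S) (g : S →+* T)
    (h : Subring.closure (Set.range r₁ ∪ Set.range r₂) = ⊤) :
    Function.Surjective g ↔
      Subring.closure (Set.range (g.comp r₁) ∪ Set.range (g.comp r₂)) = ⊤ := by
  have : Subring.closure (Set.range (g.comp r₁) ∪ Set.range (g.comp r₂)) = g.range := by
    rw [RingHom.coe_comp, RingHom.coe_comp, Set.range_comp, Set.range_comp, ← Set.image_union,
      ← RingHom.map_closure, h, ← RingHom.range_eq_map]
  rw [this, RingHom.range_eq_top]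

variable {X Z : Scheme.{u}}

lemma surj_appTop_iff (Δ : X ⟶ Z) (P : Z.Opens) (V : X.Opens) (hV : Δ ⁻¹ᵁ P = V) :
    Function.Surjective (Δ ∣_ P).appTop ↔ Function.Surjective (Δ.appLE P V hV.ge) := by
  subst hV
  have h1 : (Δ ∣_ P).appTop = (Δ ∣_ P).appLE ⊤ ⊤ le_top := by
    rw [Scheme.Hom.appTop, Scheme.Hom.app_eq_appLE]
    rfl
  rw [h1, morphismRestrict_appLE]
  exact Scheme.Hom.appLE_congr Δ _ P.ι_image_top (Δ ⁻¹ᵁ P).ι_image_top
    (fun f => Function.Surjective f)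


variable {Y : Scheme.{u}} (f : X ⟶ Y) (U₁ U₂ : X.Opens)

/-- the open immersion `U₁ ×_Y U₂ → X ×_Y X`. -/
noncomputable def m : pullback (U₁.ι ≫ f) (U₂.ι ≫ f) ⟶ pullback f f :=
  pullback.map (U₁.ι ≫ f) (U₂.ι ≫ f) f f U₁.ι U₂.ι (𝟙 Y) (by simp) (by simp)

instance : IsOpenImmersion (m f U₁ U₂) := by unfold m; infer_instance

lemma m_fst : m f U₁ U₂ ≫ pullback.fst f f = pullback.fst _ _ ≫ U₁.ι := by
  unfold m; exact pullback.lift_fst _ _ _
lemma m_snd : m f U₁ U₂ ≫ pullback.snd f f = pullback.snd _ _ ≫ U₂.ι := by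
  unfold m; exact pullback.lift_snd _ _ _

/-- the open `U₁ ×_Y U₂` of `X ×_Y X`. -/
noncomputable abbrev P : (pullback f f).Opens := (m f U₁ U₂) ''ᵁ ⊤

lemma P_eq : P f U₁ U₂ = pullback.fst f f ⁻¹ᵁ U₁ ⊓ pullback.snd f f ⁻¹ᵁ U₂ := by
  apply Opens.ext
  simp [P, m, Scheme.Pullback.range_map]

lemma diag_preimage_P : pullback.diagonal f ⁻¹ᵁ P f U₁ U₂ = U₁ ⊓ U₂ := by
  rw [P_eq, Scheme.Hom.preimage_inf, ← Scheme.Hom.comp_preimage, ← Scheme.Hom.comp_preimage]
  simp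

lemma isAffineOpen_P [IsAffine Y] (h₁ : IsAffineOpen U₁) (h₂ : IsAffineOpen U₂) :
    IsAffineOpen (P f U₁ U₂) := by
  have : IsAffine U₁.toScheme := h₁
  have : IsAffine U₂.toScheme := h₂
  exact (isAffineOpen_top _).image_of_isOpenImmersion (m f U₁ U₂)


lemma le_fst : P f U₁ U₂ ≤ pullback.fst f f ⁻¹ᵁ U₁ := by rw [P_eq]; exact inf_le_left
lemma le_snd : P f U₁ U₂ ≤ pullback.snd f f ⁻¹ᵁ U₂ := by rw [P_eq]; exact inf_le_right

lemma range_comp_topIso {W : Scheme.{u}} (U : X.Opens) (g : W ⟶ U.toScheme) (e) :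
    Set.range ((g ≫ U.ι).appLE U ⊤ e).hom = Set.range g.appTop.hom := by
  have h1 : (g ≫ U.ι).appLE U ⊤ e = U.topIso.inv ≫ g.appTop := by
    rw [← Scheme.Hom.appLE_comp_appLE (f := g) (g := U.ι) (V := ⊤) (e₁ := by simp) (e₂ := by simp)]
    congr 1
    · rw [Scheme.Opens.ι_appLE]
      rfl
    · rw [Scheme.Hom.appTop, Scheme.Hom.app_eq_appLE]
      rfl
  rw [h1, CommRingCat.hom_comp, RingHom.coe_comp, Set.range_comp]
  have : Function.Surjective U.topIso.inv.hom :=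
    (ConcreteCategory.bijective_of_isIso U.topIso.inv).2
  rw [this.range_eq, Set.image_univ]


lemma appLE_of_eq {W : Scheme.{u}} {g g' : W ⟶ X} (h : g = g') (U : X.Opens) (V : W.Opens) (e) :
    g.appLE U V e = g'.appLE U V (h ▸ e) := by
  subst h; rfl

lemma closure_P [IsAffine Y] (h₁ : IsAffineOpen U₁) (h₂ : IsAffineOpen U₂) :
    Subring.closure
      (Set.range ((pullback.fst f f).appLE U₁ (P f U₁ U₂) (le_fst f U₁ U₂)).hom ∪
       Set.range ((pullback.snd f f).appLE U₂ (P f U₁ U₂) (le_snd f U₁ U₂)).hom) = ⊤ := by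
  have : IsAffine U₁.toScheme := h₁
  have : IsAffine U₂.toScheme := h₂
  have H := isPushout_appTop_of_isPullback (IsPullback.of_hasPullback (U₁.ι ≫ f) (U₂.ι ≫ f))
  have hc := CommRingCat.closure_range_union_range_eq_top_of_isPushout H
  let φ := (m f U₁ U₂).appIso ⊤
  have hφ : Function.Injective φ.hom.hom := (ConcreteCategory.bijective_of_isIso φ.hom).1
  have e₁ : Set.range (((pullback.fst f f).appLE U₁ (P f U₁ U₂) (le_fst f U₁ U₂)) ≫ φ.hom).hom =
      Set.range (pullback.fst (U₁.ι ≫ f) (U₂.ι ≫ f)).appTop.hom := by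
    rw [Scheme.Hom.appIso_hom', Scheme.Hom.appLE_comp_appLE, appLE_of_eq (m_fst f U₁ U₂)]
    exact range_comp_topIso _ _ _
  have e₂ : Set.range (((pullback.snd f f).appLE U₂ (P f U₁ U₂) (le_snd f U₁ U₂)) ≫ φ.hom).hom =
      Set.range (pullback.snd (U₁.ι ≫ f) (U₂.ι ≫ f)).appTop.hom := by
    rw [Scheme.Hom.appIso_hom', Scheme.Hom.appLE_comp_appLE, appLE_of_eq (m_snd f U₁ U₂)]
    exact range_comp_topIso _ _ _
  rw [eq_top_iff]
  intro x _
  have hx : φ.hom.hom x ∈ Subring.closure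
      (Set.range (pullback.fst (U₁.ι ≫ f) (U₂.ι ≫ f)).appTop.hom ∪
        Set.range (pullback.snd (U₁.ι ≫ f) (U₂.ι ≫ f)).appTop.hom) := by
    rw [hc]; trivial
  rw [← e₁, ← e₂, CommRingCat.hom_comp, CommRingCat.hom_comp, RingHom.coe_comp, RingHom.coe_comp,
    Set.range_comp, Set.range_comp, ← Set.image_union, ← RingHom.map_closure] at hx
  obtain ⟨y, hy, hyx⟩ := hx
  rwa [← hφ hyx]


lemma id_appLE' (U V : X.Opens) (e : V ≤ (𝟙 X) ⁻¹ᵁ U) (e' : V ≤ U) :
    (𝟙 X : X ⟶ X).appLE U V e = X.presheaf.map (homOfLE e').op := by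
  simp only [Scheme.Hom.appLE, Scheme.Hom.id_app]
  rfl

lemma local_iff [IsAffine Y] (h₁ : IsAffineOpen U₁) (h₂ : IsAffineOpen U₂) :
    (IsAffine (pullback.diagonal f ⁻¹ᵁ P f U₁ U₂).toScheme ∧
      Function.Surjective (pullback.diagonal f ∣_ P f U₁ U₂).appTop) ↔
    (IsAffineOpen (U₁ ⊓ U₂) ∧
      Subring.closure (Set.range (X.presheaf.map (homOfLE (inf_le_left : U₁ ⊓ U₂ ≤ U₁)).op).hom ∪
        Set.range (X.presheaf.map (homOfLE (inf_le_right : U₁ ⊓ U₂ ≤ U₂)).op).hom) = ⊤) := by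
  refine and_congr ?_ ?_
  · rw [diag_preimage_P]
    exact Iff.rfl
  · rw [surj_appTop_iff _ _ _ (diag_preimage_P f U₁ U₂),
      ringB _ _ _ (closure_P f U₁ U₂ h₁ h₂)]
    rw [← CommRingCat.hom_comp, ← CommRingCat.hom_comp, Scheme.Hom.appLE_comp_appLE,
      Scheme.Hom.appLE_comp_appLE, appLE_of_eq (pullback.diagonal_fst f),
      appLE_of_eq (pullback.diagonal_snd f), id_appLE' _ _ _ inf_le_left,
      id_appLE' _ _ _ inf_le_right]

theorem main {X Y : Scheme.{u}} [IsAffine Y] (f : X ⟶ Y) {ι : Type v} (U : ι → X.Opens)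
    (hU : ∀ i, IsAffineOpen (U i)) (hcov : ⨆ i, U i = ⊤) :
    IsSeparated f ↔ ∀ i j, IsAffineOpen (U i ⊓ U j) ∧
      Subring.closure (Set.range (X.presheaf.map (homOfLE (inf_le_left : U i ⊓ U j ≤ U i)).op).hom ∪
        Set.range (X.presheaf.map (homOfLE (inf_le_right : U i ⊓ U j ≤ U j)).op).hom) = ⊤ := by
  have hsep : IsSeparated f ↔ IsClosedImmersion (pullback.diagonal f) :=
    ⟨fun h => h.1, fun h => ⟨h⟩⟩
  let A : ι × ι → (pullback f f).affineOpens := fun ij =>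
    ⟨P f (U ij.1) (U ij.2), isAffineOpen_P f _ _ (hU _) (hU _)⟩
  have hA : ⨆ ij, (A ij : (pullback f f).Opens) = ⊤ := by
    rw [eq_top_iff]
    intro z _
    have h1 : pullback.fst f f z ∈ (⊤ : X.Opens) := trivial
    have h2 : pullback.snd f f z ∈ (⊤ : X.Opens) := trivial
    rw [← hcov, Opens.mem_iSup] at h1 h2
    obtain ⟨i, hi⟩ := h1
    obtain ⟨j, hj⟩ := h2
    rw [Opens.mem_iSup]
    refine ⟨(i, j), ?_⟩
    change z ∈ P f (U i) (U j)
    rw [P_eq]
    exact ⟨hi, hj⟩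
  rw [hsep, HasAffineProperty.iff_of_iSup_eq_top (P := @IsClosedImmersion) A hA]
  constructor
  · intro h i j
    exact (local_iff f (U i) (U j) (hU i) (hU j)).mp (h (i, j))
  · intro h ij
    exact (local_iff f (U ij.1) (U ij.2) (hU _) (hU _)).mpr (h ij.1 ij.2)

end Groth.Agent.Helper3.SepCrit
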