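import Mathlib

set_option autoImplicit false
set_option linter.style.haveILetI false
set_option linter.unusedSectionVars false
set_option linter.unusedVariables false
set_option linter.style.haveILetI false
set_option linter.unusedSectionVars false
set_option linter.unusedVariables false

universe u

open TensorProduct

namespace Groth.Agent.Helper3.SepDegSum

section Q
variable {k B Ω : Type*} [Field k] [CommRing B] [Algebra k B] [Field Ω] [Algebra k Ω]

/-- algebra maps out of the quotient by a maximal ideal are the algebra maps with that kernel -/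
noncomputable def quotEquiv (m : Ideal B) [hm : m.IsMaximal] :
    (B ⧸ m →ₐ[k] Ω) ≃ {φ : B →ₐ[k] Ω // RingHom.ker φ = m} where
  toFun ψ := ⟨ψ.comp (Ideal.Quotient.mkₐ k m), by
    refine (hm.eq_of_le (RingHom.ker_ne_top _) ?_).symm
    intro x hx
    rw [RingHom.mem_ker]
    change ψ (Ideal.Quotient.mk m x) = 0
    rw [Ideal.Quotient.eq_zero_iff_mem.2 hx, map_zero]⟩
  invFun φ := Ideal.Quotient.liftₐ m φ.1 (fun a ha => by
    have := φ.2
    rw [← this] at ha
    exact ha)
  left_inv ψ := by
    apply AlgHom.ext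
    intro x
    obtain ⟨x, rfl⟩ := Ideal.Quotient.mk_surjective x
    rfl
  right_inv φ := by
    apply Subtype.ext
    apply AlgHom.ext
    intro x
    rfl

end Q

section P
variable (k' : Type u) [Field k'] (B : Type u) [CommRing B] [Algebra k' B] [Module.Finite k' B]
  (Ω : Type u) [Field Ω] [Algebra k' Ω] [IsAlgClosed Ω]

theorem card_algHom :
    Nat.card (B →ₐ[k'] Ω) = ∑ᶠ m : MaximalSpectrum B,
      Field.finSepDegree k' (IsLocalRing.ResidueField (Localization.AtPrime m.asIdeal)) := by
  classical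
  haveI : IsArtinianRing B := IsArtinianRing.of_finite k' B
  haveI : Finite (MaximalSpectrum B) := inferInstance
  haveI : Fintype (MaximalSpectrum B) := Fintype.ofFinite _
  let F : (B →ₐ[k'] Ω) → MaximalSpectrum B := fun φ =>
    ⟨RingHom.ker φ,
      haveI : (RingHom.ker φ).IsPrime := RingHom.ker_isPrime φ
      IsArtinianRing.isMaximal_of_isPrime _⟩
  have key : ∀ m : MaximalSpectrum B, Nonempty ({φ : B →ₐ[k'] Ω // F φ = m} ≃
      (B ⧸ m.asIdeal →ₐ[k'] Ω)) := by
    intro m
    haveI := m.isMaximal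
    refine ⟨(Equiv.subtypeEquivRight ?_).trans (quotEquiv (k := k') (Ω := Ω) m.asIdeal).symm⟩
    intro φ
    exact MaximalSpectrum.ext_iff
  have hcard : ∀ m : MaximalSpectrum B, Nat.card {φ : B →ₐ[k'] Ω // F φ = m} =
      Field.finSepDegree k' (IsLocalRing.ResidueField (Localization.AtPrime m.asIdeal)) := by
    intro m
    haveI := m.isMaximal
    letI : Field (B ⧸ m.asIdeal) := Ideal.Quotient.field m.asIdeal
    obtain ⟨e⟩ := key m
    rw [Nat.card_congr e]
    haveI : Algebra.IsAlgebraic k' (B ⧸ m.asIdeal) := Algebra.IsAlgebraic.of_finite _ _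
    rw [← Field.finSepDegree_eq_of_isAlgClosed k' (B ⧸ m.asIdeal) Ω]
    let e2 : (B ⧸ m.asIdeal) ≃ₐ[k'] m.asIdeal.ResidueField :=
      AlgEquiv.ofBijective (IsScalarTower.toAlgHom k' (B ⧸ m.asIdeal) m.asIdeal.ResidueField)
        (Ideal.bijective_algebraMap_quotient_residueField m.asIdeal)
    exact Field.finSepDegree_eq_of_equiv k' _ _ e2
  haveI : ∀ m : MaximalSpectrum B, Finite {φ : B →ₐ[k'] Ω // F φ = m} := by
    intro m
    haveI := m.isMaximal
    letI : Field (B ⧸ m.asIdeal) := Ideal.Quotient.field m.asIdeal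
    obtain ⟨e⟩ := key m
    haveI : Finite (B ⧸ m.asIdeal →ₐ[k'] Ω) := inferInstance
    exact Finite.of_equiv _ e.symm
  rw [← Nat.card_congr (Equiv.sigmaFiberEquiv F), Nat.card_sigma, finsum_eq_sum_of_fintype]
  exact Finset.sum_congr rfl fun m _ => hcard m

end P

section Main

theorem main (k A k' : Type u) [Field k] [CommRing A] [Algebra k A]
    [Module.Finite k A] [IsLocalRing A] [Field k'] [Algebra k k'] :
    Field.finSepDegree k (IsLocalRing.ResidueField A) =
      ∑ᶠ m : MaximalSpectrum (k' ⊗[k] A),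
        Field.finSepDegree k' (IsLocalRing.ResidueField (Localization.AtPrime m.asIdeal)) := by
  let Ω := AlgebraicClosure k'
  rw [← card_algHom k' (k' ⊗[k] A) Ω]
  rw [← Nat.card_congr (Algebra.TensorProduct.liftEquivRight k k' A Ω)]
  haveI : IsArtinianRing A := IsArtinianRing.of_finite k A
  haveI : Algebra.IsAlgebraic k (IsLocalRing.ResidueField A) := Algebra.IsAlgebraic.of_finite _ _
  rw [Field.finSepDegree_eq_of_isAlgClosed k (IsLocalRing.ResidueField A) Ω]
  haveI : (IsLocalRing.maximalIdeal A).IsMaximal := IsLocalRing.maximalIdeal.isMaximal A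
  have e1 : (IsLocalRing.ResidueField A →ₐ[k] Ω) ≃
      {φ : A →ₐ[k] Ω // RingHom.ker φ = IsLocalRing.maximalIdeal A} :=
    quotEquiv (k := k) (Ω := Ω) (IsLocalRing.maximalIdeal A)
  have e2 : {φ : A →ₐ[k] Ω // RingHom.ker φ = IsLocalRing.maximalIdeal A} ≃ (A →ₐ[k] Ω) :=
    Equiv.subtypeUnivEquiv (fun φ => by
      haveI : (RingHom.ker φ).IsPrime := RingHom.ker_isPrime φ
      haveI : (RingHom.ker φ).IsMaximal := IsArtinianRing.isMaximal_of_isPrime _
      exact IsLocalRing.eq_maximalIdeal ‹_›)
  exact Nat.card_congr (e1.trans e2)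

end Main

end Groth.Agent.Helper3.SepDegSum
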