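import Mathlib

set_option autoImplicit false
set_option linter.style.haveILetI false
set_option linter.unusedSectionVars false
set_option linter.unusedVariables false
set_option linter.style.haveILetI false
set_option linter.unusedSectionVars false
set_option linter.unusedVariables false

universe u v

namespace Groth.Agent.Helper3.SerFin

variable {Γ : Type u} {Γ' : Type v} [Group Γ] [Group Γ']

/-- the derived series of a subgroup, computed in the ambient group -/
def D (S : Subgroup Γ) : ℕ → Subgroup Γ
  | 0 => S
  | n + 1 => ⁅D S n, D S n⁆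

@[simp] lemma D_zero (S : Subgroup Γ) : D S 0 = S := rfl
@[simp] lemma D_succ (S : Subgroup Γ) (n : ℕ) : D S (n + 1) = ⁅D S n, D S n⁆ := rfl

lemma D_top (n : ℕ) : D (⊤ : Subgroup Γ) n = derivedSeries Γ n := by
  induction n with
  | zero => rfl
  | succ n ih => rw [D_succ, ih, derivedSeries_succ]

lemma D_mono {S S' : Subgroup Γ} (h : S ≤ S') (n : ℕ) : D S n ≤ D S' n := by
  induction n with
  | zero => exact h
  | succ n ih => exact Subgroup.commutator_mono ih ih

lemma D_map (f : Γ →* Γ') (S : Subgroup Γ) (n : ℕ) : (D S n).map f = D (S.map f) n := by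
  induction n with
  | zero => rfl
  | succ n ih => rw [D_succ, Subgroup.map_commutator, ih, D_succ]

open Classical in
lemma D_fin (S : Subgroup Γ) (n : ℕ) (x : Γ) (hx : x ∈ D S n) :
    ∃ F : Finset Γ, (↑F : Set Γ) ⊆ S ∧ x ∈ D (Subgroup.closure (↑F : Set Γ)) n := by
  induction n generalizing x with
  | zero =>
    refine ⟨{x}, ?_, ?_⟩
    · simpa using hx
    · rw [D_zero]
      exact Subgroup.subset_closure (by simp)
  | succ n ih =>
    rw [D_succ, Subgroup.commutator_def] at hx
    induction hx using Subgroup.closure_induction with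
    | mem y hy =>
      obtain ⟨p, hp, q, hq, rfl⟩ := hy
      obtain ⟨Fp, hFp, hp'⟩ := ih p hp
      obtain ⟨Fq, hFq, hq'⟩ := ih q hq
      refine ⟨Fp ∪ Fq, ?_, ?_⟩
      · rw [Finset.coe_union]
        exact Set.union_subset hFp hFq
      · rw [D_succ]
        refine Subgroup.commutator_mem_commutator ?_ ?_
        · exact D_mono (Subgroup.closure_mono (by rw [Finset.coe_union]; exact Set.subset_union_left)) n hp'
        · exact D_mono (Subgroup.closure_mono (by rw [Finset.coe_union]; exact Set.subset_union_right)) n hq'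
    | one => exact ⟨∅, by simp, Subgroup.one_mem _⟩
    | mul y z _ _ hy hz =>
      obtain ⟨Fy, hFy, hy'⟩ := hy
      obtain ⟨Fz, hFz, hz'⟩ := hz
      refine ⟨Fy ∪ Fz, ?_, ?_⟩
      · rw [Finset.coe_union]
        exact Set.union_subset hFy hFz
      · refine Subgroup.mul_mem _ ?_ ?_
        · exact D_mono (Subgroup.closure_mono (by rw [Finset.coe_union]; exact Set.subset_union_left)) _ hy'
        · exact D_mono (Subgroup.closure_mono (by rw [Finset.coe_union]; exact Set.subset_union_right)) _ hz'
    | inv y _ hy =>
      obtain ⟨Fy, hFy, hy'⟩ := hy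
      exact ⟨Fy, hFy, Subgroup.inv_mem _ hy'⟩

lemma L_mono {S S' : Subgroup Γ} (h : S ≤ S') (n : ℕ) :
    S.lowerCentralSeries n ≤ S'.lowerCentralSeries n := by
  induction n with
  | zero => exact h
  | succ n ih => exact Subgroup.commutator_mono ih h

lemma L_map (f : Γ →* Γ') (S : Subgroup Γ) (n : ℕ) :
    (S.lowerCentralSeries n).map f = (S.map f).lowerCentralSeries n := by
  induction n with
  | zero => rfl
  | succ n ih =>
    rw [Subgroup.lowerCentralSeries_succ, Subgroup.map_commutator, ih,
      Subgroup.lowerCentralSeries_succ]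

open Classical in
lemma L_fin (S : Subgroup Γ) (n : ℕ) (x : Γ) (hx : x ∈ S.lowerCentralSeries n) :
    ∃ F : Finset Γ, (↑F : Set Γ) ⊆ S ∧
      x ∈ (Subgroup.closure (↑F : Set Γ)).lowerCentralSeries n := by
  induction n generalizing x with
  | zero =>
    refine ⟨{x}, ?_, ?_⟩
    · simpa using hx
    · rw [Subgroup.lowerCentralSeries_zero]
      exact Subgroup.subset_closure (by simp)
  | succ n ih =>
    rw [Subgroup.lowerCentralSeries_succ, Subgroup.commutator_def] at hx
    induction hx using Subgroup.closure_induction with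
    | mem y hy =>
      obtain ⟨p, hp, q, hq, rfl⟩ := hy
      obtain ⟨Fp, hFp, hp'⟩ := ih p hp
      refine ⟨Fp ∪ {q}, ?_, ?_⟩
      · rw [Finset.coe_union]
        exact Set.union_subset hFp (by simpa using hq)
      · rw [Subgroup.lowerCentralSeries_succ]
        refine Subgroup.commutator_mem_commutator ?_ ?_
        · exact L_mono (Subgroup.closure_mono (by rw [Finset.coe_union]; exact Set.subset_union_left)) n hp'
        · exact Subgroup.subset_closure (by simp)
    | one => exact ⟨∅, by simp, Subgroup.one_mem _⟩
    | mul y z _ _ hy hz =>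
      obtain ⟨Fy, hFy, hy'⟩ := hy
      obtain ⟨Fz, hFz, hz'⟩ := hz
      refine ⟨Fy ∪ Fz, ?_, ?_⟩
      · rw [Finset.coe_union]
        exact Set.union_subset hFy hFz
      · refine Subgroup.mul_mem _ ?_ ?_
        · exact L_mono (Subgroup.closure_mono (by rw [Finset.coe_union]; exact Set.subset_union_left)) _ hy'
        · exact L_mono (Subgroup.closure_mono (by rw [Finset.coe_union]; exact Set.subset_union_right)) _ hz'
    | inv y _ hy =>
      obtain ⟨Fy, hFy, hy'⟩ := hy
      exact ⟨Fy, hFy, Subgroup.inv_mem _ hy'⟩

end Groth.Agent.Helper3.SerFin
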