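import Mathlib

set_option autoImplicit false
set_option linter.style.haveILetI false
set_option linter.unusedSectionVars false
set_option linter.unusedVariables false
set_option linter.style.haveILetI false
set_option linter.unusedSectionVars false
set_option linter.unusedVariables false

universe u

open Polynomial Finset Nat

namespace Groth.Agent.Helper3.SliceThm

section
variable {A : Type u} [CommRing A] [Algebra ℚ A] (D : Derivation ℚ A A)

/-- iterates -/
noncomputable def it (n : ℕ) (x : A) : A := ((D : A →ₗ[ℚ] A) ^ n) x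

theorem it_zero (x : A) : it D 0 x = x := by
  unfold it; rw [pow_zero]; rfl

theorem it_succ (n : ℕ) (x : A) : it D (n + 1) x = it D n (D x) := by
  unfold it; rw [_root_.pow_succ]; rfl

theorem it_succ' (n : ℕ) (x : A) : it D (n + 1) x = D (it D n x) := by
  unfold it; rw [_root_.pow_succ']; rfl

theorem it_add (n m : ℕ) (x : A) : it D (n + m) x = it D n (it D m x) := by
  unfold it; rw [_root_.pow_add]; rfl

theorem it_map_zero (n : ℕ) : it D n 0 = 0 := by unfold it; rw [map_zero]

theorem it_map_add (n : ℕ) (x y : A) : it D n (x + y) = it D n x + it D n y := by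
  unfold it; rw [map_add]

theorem it_map_smul (n : ℕ) (q : ℚ) (x : A) : it D n (q • x) = q • it D n x := by
  unfold it; rw [map_smul]

theorem it_eq_zero_of_le {x : A} {N n : ℕ} (h : it D N x = 0) (hn : N ≤ n) : it D n x = 0 := by
  obtain ⟨k, rfl⟩ := Nat.exists_eq_add_of_le hn
  rw [add_comm, it_add, h, it_map_zero]

theorem it_one (n : ℕ) (hn : 0 < n) : it D n (1 : A) = 0 := by
  obtain ⟨k, rfl⟩ := Nat.exists_eq_succ_of_ne_zero hn.ne'
  rw [it_succ, Derivation.map_one_eq_zero, it_map_zero]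

/-- general Leibniz rule -/
theorem it_mul (n : ℕ) (x y : A) :
    it D n (x * y) = ∑ ij ∈ antidiagonal n, n.choose ij.1 • (it D ij.1 x * it D ij.2 y) := by
  induction n with
  | zero => simp [it_zero]
  | succ n ih =>
    rw [sum_antidiagonal_choose_succ_nsmul (M := A) (fun i j => it D i x * it D j y) n]
    rw [it_succ', ih, map_sum]
    simp only [map_nsmul, Derivation.leibniz, smul_eq_mul, ← it_succ', smul_add, sum_add_distrib]
    congr 1
    refine sum_congr rfl fun ⟨i, j⟩ hij => ?_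
    rw [n.choose_symm_of_eq_add (mem_antidiagonal.1 hij).symm, mul_comm]

/-- divided powers -/
noncomputable def dp (n : ℕ) (x : A) : A := ((n ! : ℚ)⁻¹) • it D n x

theorem dp_zero (x : A) : dp D 0 x = x := by
  unfold dp; rw [it_zero]; simp

theorem dp_map_zero (n : ℕ) : dp D n 0 = 0 := by unfold dp; rw [it_map_zero, smul_zero]

theorem dp_map_add (n : ℕ) (x y : A) : dp D n (x + y) = dp D n x + dp D n y := by
  unfold dp; rw [it_map_add, smul_add]

theorem dp_one (n : ℕ) : dp D n (1 : A) = if n = 0 then 1 else 0 := by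
  split_ifs with h
  · subst h; exact dp_zero D 1
  · unfold dp; rw [it_one D n (Nat.pos_of_ne_zero h), smul_zero]

theorem dp_eq_zero_of_le {x : A} {N n : ℕ} (h : it D N x = 0) (hn : N ≤ n) : dp D n x = 0 := by
  unfold dp; rw [it_eq_zero_of_le D h hn, smul_zero]

theorem dp_mul (n : ℕ) (x y : A) :
    dp D n (x * y) = ∑ ij ∈ antidiagonal n, dp D ij.1 x * dp D ij.2 y := by
  unfold dp
  rw [it_mul, Finset.smul_sum]
  refine sum_congr rfl fun ⟨i, j⟩ hij => ?_
  have hn : i + j = n := mem_antidiagonal.1 hij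
  subst hn
  rw [smul_mul_smul_comm, ← Nat.cast_smul_eq_nsmul ℚ, smul_smul]
  congr 1
  have h1 : (((i + j).choose i : ℕ) : ℚ) * (i ! : ℚ) * (j ! : ℚ) = ((i + j)! : ℚ) := by
    have := Nat.add_choose_mul_factorial_mul_factorial i j
    rw [← Nat.choose_symm_add] at this
    exact_mod_cast this
  have hi : (i ! : ℚ) ≠ 0 := by exact_mod_cast (Nat.factorial_pos i).ne'
  have hj : (j ! : ℚ) ≠ 0 := by exact_mod_cast (Nat.factorial_pos j).ne'
  have hij' : ((i + j)! : ℚ) ≠ 0 := by exact_mod_cast (Nat.factorial_pos (i + j)).ne'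
  field_simp
  rw [← h1]

variable (hnil : ∀ x : A, ∃ n : ℕ, it D n x = 0)

/-- the exponential map, as a function -/
noncomputable def Efun (x : A) : A[X] :=
  ∑ n ∈ range (Classical.choose (hnil x)), monomial n (dp D n x)

theorem coeff_Efun (x : A) (n : ℕ) : (Efun D hnil x).coeff n = dp D n x := by
  classical
  unfold Efun
  rw [finset_sum_coeff]
  simp only [coeff_monomial]
  rw [Finset.sum_ite_eq']
  split_ifs with h
  · rfl
  · rw [Finset.mem_range, not_lt] at h
    exact (dp_eq_zero_of_le D (Classical.choose_spec (hnil x)) h).symm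

/-- the exponential map `exp(Y D)` -/
noncomputable def E : A →+* A[X] where
  toFun := Efun D hnil
  map_one' := by
    ext n
    rw [coeff_Efun, coeff_one, dp_one]
  map_mul' x y := by
    ext n
    rw [coeff_Efun, coeff_mul, dp_mul]
    simp only [coeff_Efun]
  map_zero' := by
    ext n
    rw [coeff_Efun, dp_map_zero, coeff_zero]
  map_add' x y := by
    ext n
    rw [coeff_add, coeff_Efun, coeff_Efun, coeff_Efun, dp_map_add]

theorem coeff_E (x : A) (n : ℕ) : (E D hnil x).coeff n = dp D n x := coeff_Efun D hnil x n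

theorem E_eq_sum (x : A) (N : ℕ) (h : it D N x = 0) :
    E D hnil x = ∑ n ∈ range N, monomial n (dp D n x) := by
  classical
  ext n
  rw [coeff_E, finset_sum_coeff]
  simp only [coeff_monomial]
  rw [Finset.sum_ite_eq']
  split_ifs with h'
  · rfl
  · rw [Finset.mem_range, not_lt] at h'
    exact dp_eq_zero_of_le D h h'

theorem eval_E (x : A) (N : ℕ) (h : it D N x = 0) (b : A) :
    eval b (E D hnil x) = ∑ n ∈ range N, dp D n x * b ^ n := by
  rw [E_eq_sum D hnil x N h, eval_finset_sum]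
  simp only [eval_monomial]

theorem D_dp (n : ℕ) (x : A) : D (dp D n x) = ((n + 1 : ℕ) : A) * dp D (n + 1) x := by
  unfold dp
  rw [Derivation.map_smul, ← it_succ', ← nsmul_eq_mul, ← Nat.cast_smul_eq_nsmul ℚ, smul_smul]
  congr 1
  rw [Nat.factorial_succ]
  have hn : ((n + 1 : ℕ) : ℚ) ≠ 0 := by exact_mod_cast Nat.succ_ne_zero n
  have hf : (n ! : ℚ) ≠ 0 := by exact_mod_cast (Nat.factorial_pos n).ne'
  push_cast
  field_simp

theorem hasseDeriv_E (i : ℕ) (x : A) :
    hasseDeriv i (E D hnil x) = E D hnil (dp D i x) := by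
  ext n
  rw [hasseDeriv_coeff, coeff_E, coeff_E]
  unfold dp
  rw [it_map_smul, ← it_add, smul_smul, ← nsmul_eq_mul, ← Nat.cast_smul_eq_nsmul ℚ, smul_smul]
  congr 1
  have h1 : (((n + i).choose i : ℕ) : ℚ) * (i ! : ℚ) * (n ! : ℚ) = ((n + i)! : ℚ) := by
    have := Nat.add_choose_mul_factorial_mul_factorial n i
    rw [mul_assoc, mul_comm (n !), ← mul_assoc] at this
    exact_mod_cast this
  have hi : (i ! : ℚ) ≠ 0 := by exact_mod_cast (Nat.factorial_pos i).ne'
  have hj : (n ! : ℚ) ≠ 0 := by exact_mod_cast (Nat.factorial_pos n).ne'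
  have hij' : ((n + i)! : ℚ) ≠ 0 := by exact_mod_cast (Nat.factorial_pos (n + i)).ne'
  field_simp
  rw [← h1]; ring

variable (a : A) (ha : D a = 1)

include ha in
theorem E_a : E D hnil a = C a + X := by
  ext n
  rw [coeff_E, coeff_add, coeff_C, coeff_X]
  rcases n with _ | _ | n
  · simp [dp_zero]
  · unfold dp; rw [it_succ, it_zero, ha]; simp
  · unfold dp
    rw [it_succ, ha, it_one D (n + 1) (Nat.succ_pos n), smul_zero]
    simp

/-- the Dixmier map -/
noncomputable def π : A →+* A := (evalRingHom (-a)).comp (E D hnil)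

theorem π_apply (x : A) : π D hnil a x = eval (-a) (E D hnil x) := rfl

include ha in
theorem π_a : π D hnil a a = 0 := by
  rw [π_apply, E_a D hnil a ha]; simp

theorem π_eq_sum (x : A) (N : ℕ) (h : it D N x = 0) :
    π D hnil a x = ∑ n ∈ range N, dp D n x * (-a) ^ n := eval_E D hnil x N h (-a)

/-- Taylor's identity -/
theorem taylor_id (x : A) :
    ∑ i ∈ range ((E D hnil x).natDegree + 1), π D hnil a ((E D hnil x).coeff i) * a ^ i = x := by
  have h1 : eval a (taylor (-a) (E D hnil x)) = x := by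
    rw [taylor_eval, add_neg_cancel, ← coeff_zero_eq_eval_zero, coeff_E, dp_zero]
  rw [eval_eq_sum_range, natDegree_taylor] at h1
  refine Eq.trans ?_ h1
  refine sum_congr rfl fun i _ => ?_
  rw [taylor_coeff, hasseDeriv_E, coeff_E, π_apply]

include ha in
theorem D_π (x : A) : D (π D hnil a x) = 0 := by
  obtain ⟨N, hN⟩ := hnil x
  rw [π_eq_sum D hnil a x N hN, map_sum]
  let f : ℕ → A := fun n => (n : A) * dp D n x * (-a) ^ (n - 1)
  have key : ∀ n : ℕ, D (dp D n x * (-a) ^ n) = f (n + 1) - f n := by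
    intro n
    change _ = ((n + 1 : ℕ) : A) * dp D (n + 1) x * (-a) ^ (n + 1 - 1) -
      (n : A) * dp D n x * (-a) ^ (n - 1)
    rw [Derivation.leibniz, Derivation.leibniz_pow, D_dp, map_neg, ha, Nat.add_sub_cancel]
    simp only [smul_eq_mul, nsmul_eq_mul]
    ring
  simp only [key]
  rw [Finset.sum_range_sub f]
  change (N : A) * dp D N x * (-a) ^ (N - 1) - ((0 : ℕ) : A) * dp D 0 x * (-a) ^ (0 - 1) = 0
  rw [dp_eq_zero_of_le D hN le_rfl]
  simp

theorem mk_π (x : A) :
    Ideal.Quotient.mk (Ideal.span ({a} : Set A)) (π D hnil a x) =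
      Ideal.Quotient.mk (Ideal.span ({a} : Set A)) x := by
  rw [π_apply, eval, hom_eval₂, RingHom.comp_id, ← eval_map, map_neg]
  have : Ideal.Quotient.mk (Ideal.span ({a} : Set A)) a = 0 :=
    Ideal.Quotient.eq_zero_iff_mem.2 (Ideal.mem_span_singleton_self a)
  rw [this, neg_zero, ← coeff_zero_eq_eval_zero, coeff_map, coeff_E, dp_zero]

end

section Main
variable {A : Type u} [CommRing A] [Algebra ℚ A] (D : Derivation ℚ A A)
  (hnil : ∀ x : A, ∃ n : ℕ, it D n x = 0) (a : A) (ha : D a = 1)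

/-- the Dixmier map on the quotient -/
noncomputable def πbar : A ⧸ Ideal.span ({a} : Set A) →+* A :=
  Ideal.Quotient.lift (Ideal.span {a}) (π D hnil a) (fun y hy => by
    obtain ⟨z, rfl⟩ := Ideal.mem_span_singleton'.1 hy
    rw [map_mul, π_a D hnil a ha, mul_zero])

theorem πbar_mk (x : A) : πbar D hnil a ha (Ideal.Quotient.mk _ x) = π D hnil a x := rfl

/-- the inverse map -/
noncomputable def ψ : (A ⧸ Ideal.span ({a} : Set A))[X] →+* A := eval₂RingHom (πbar D hnil a ha) a

/-- the slice map -/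
noncomputable def χ : A →+* (A ⧸ Ideal.span ({a} : Set A))[X] :=
  (mapRingHom (Ideal.Quotient.mk (Ideal.span ({a} : Set A)))).comp (E D hnil)

theorem coeff_χ (x : A) (n : ℕ) :
    (χ D hnil a x).coeff n = Ideal.Quotient.mk (Ideal.span ({a} : Set A)) (dp D n x) := by
  change (map _ (E D hnil x)).coeff n = _
  rw [coeff_map, coeff_E]

theorem ψ_χ (x : A) : ψ D hnil a ha (χ D hnil a x) = x := by
  change eval₂ (πbar D hnil a ha) a (map _ (E D hnil x)) = x
  rw [eval₂_map]
  have : (πbar D hnil a ha).comp (Ideal.Quotient.mk (Ideal.span ({a} : Set A))) = π D hnil a := by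
    ext y; rfl
  rw [this, eval₂_eq_sum_range]
  exact taylor_id D hnil a x

include ha in
theorem χ_a : χ D hnil a a = X := by
  change map _ (E D hnil a) = X
  rw [E_a D hnil a ha, Polynomial.map_add, map_C, map_X,
    Ideal.Quotient.eq_zero_iff_mem.2 (Ideal.mem_span_singleton_self a), C_0, zero_add]

include ha in
theorem χ_π (x : A) : χ D hnil a (π D hnil a x) = C (Ideal.Quotient.mk _ x) := by
  ext n
  rw [coeff_χ, coeff_C]
  rcases n with _ | n
  · rw [dp_zero, mk_π, if_pos rfl]
  · rw [if_neg (Nat.succ_ne_zero n)]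
    unfold dp
    rw [it_succ, D_π D hnil a ha, it_map_zero, smul_zero, map_zero]

theorem χ_ψ (p : (A ⧸ Ideal.span ({a} : Set A))[X]) : χ D hnil a (ψ D hnil a ha p) = p := by
  have : (χ D hnil a).comp (ψ D hnil a ha) = RingHom.id _ := by
    apply Polynomial.ringHom_ext
    · intro c
      obtain ⟨x, rfl⟩ := Ideal.Quotient.mk_surjective c
      change χ D hnil a (eval₂ (πbar D hnil a ha) a (C (Ideal.Quotient.mk _ x))) = _
      rw [eval₂_C, πbar_mk, χ_π D hnil a ha]
      rfl
    · change χ D hnil a (eval₂ (πbar D hnil a ha) a X) = _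
      rw [eval₂_X, χ_a D hnil a ha]
      rfl
  exact RingHom.congr_fun this p

/-- the slice isomorphism -/
noncomputable def χe : A ≃+* (A ⧸ Ideal.span ({a} : Set A))[X] :=
  RingEquiv.ofRingHom (χ D hnil a) (ψ D hnil a ha)
    (RingHom.ext (χ_ψ D hnil a ha)) (RingHom.ext (ψ_χ D hnil a ha))

theorem dp_D (n : ℕ) (y : A) : dp D n (D y) = ((n + 1 : ℕ) : A) * dp D (n + 1) y := by
  rw [← D_dp]
  unfold dp
  rw [Derivation.map_smul, ← it_succ, it_succ']

theorem χ_D (y : A) : χ D hnil a (D y) = derivative (χ D hnil a y) := by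
  ext n
  rw [coeff_χ, coeff_derivative, coeff_χ, dp_D, map_mul, mul_comm]
  congr 1
  simp

theorem main
    (A : Type u) [CommRing A] [Algebra ℚ A] (D : Derivation ℚ A A)
    (hnil : ∀ x : A, ∃ n : ℕ, ((D : A →ₗ[ℚ] A) ^ n) x = 0) (a : A) (ha : D a = 1) :
    ∃ χ : A ≃+* Polynomial (A ⧸ Ideal.span ({a} : Set A)),
      (∀ (x : A) (N : ℕ), ((D : A →ₗ[ℚ] A) ^ N) x = 0 →
        χ x = ∑ n ∈ Finset.range N,
          ((n.factorial : ℚ)⁻¹ • Polynomial.C (Ideal.Quotient.mk (Ideal.span ({a} : Set A)) (((D : A →ₗ[ℚ] A) ^ n) x))) *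
            Polynomial.X ^ n) ∧
      χ.symm Polynomial.X = a ∧
      (∀ (x : A) (N : ℕ), ((D : A →ₗ[ℚ] A) ^ N) x = 0 →
        χ.symm (Polynomial.C (Ideal.Quotient.mk (Ideal.span ({a} : Set A)) x)) =
          ∑ n ∈ Finset.range N, (((-1 : ℚ) ^ n * (n.factorial : ℚ)⁻¹) • ((((D : A →ₗ[ℚ] A) ^ n) x) * a ^ n))) ∧
      ∀ p : Polynomial (A ⧸ Ideal.span ({a} : Set A)), χ (D (χ.symm p)) = Polynomial.derivative p := by
  have hnil' : ∀ x : A, ∃ n : ℕ, it D n x = 0 := hnil
  refine ⟨χe D hnil' a ha, ?_, ?_, ?_, ?_⟩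
  · intro x N hN
    change χ D hnil' a x = _
    change (map _ (E D hnil' x)) = _
    rw [E_eq_sum D hnil' x N hN, Polynomial.map_sum]
    refine sum_congr rfl fun n _ => ?_
    rw [map_monomial, ← C_mul_X_pow_eq_monomial, smul_C]
    rfl
  · rw [RingEquiv.symm_apply_eq]
    exact (χ_a D hnil' a ha).symm
  · intro x N hN
    rw [RingEquiv.symm_apply_eq]
    change _ = χ D hnil' a _
    have : ∑ n ∈ Finset.range N, (((-1 : ℚ) ^ n * (n.factorial : ℚ)⁻¹) •
        ((((D : A →ₗ[ℚ] A) ^ n) x) * a ^ n)) = π D hnil' a x := by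
      rw [π_eq_sum D hnil' a x N hN]
      refine sum_congr rfl fun n _ => ?_
      unfold dp
      change _ = (_ • ((D : A →ₗ[ℚ] A) ^ n) x) * (-a) ^ n
      rw [smul_mul_assoc, mul_comm ((-1 : ℚ) ^ n), mul_smul]
      congr 1
      rw [neg_pow a n, Algebra.smul_def, map_pow, map_neg, map_one]
      ring
    rw [this, χ_π D hnil' a ha]
  · intro p
    change χ D hnil' a (D (ψ D hnil' a ha p)) = _
    rw [χ_D, χ_ψ]

end Main

end Groth.Agent.Helper3.SliceThm
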