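import Mathlib
import Groth.Prelude
import Groth.Agent.Helper3.NormInfC
import Groth.Agent.Helper3.GenSmReg
import Groth.Agent.Helper2.SmoothRegSch
import Groth.Agent.Helper5.DimIneq2

set_option autoImplicit false
set_option linter.style.haveILetI false
set_option linter.unusedSectionVars false
set_option linter.unusedVariables false
set_option linter.deprecated false
set_option linter.style.haveILetI false
set_option linter.unusedSectionVars false
set_option linter.unusedVariables false

universe u

open CategoryTheory CategoryTheory.Limits AlgebraicGeometry TopologicalSpace Opposite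

namespace Groth.Agent.Helper3.SmCompl

/-- **S19463**: a smooth curve over an algebraically closed field is an open subscheme of a smooth
projective curve -/
theorem main (k : Type u) [Field k] [IsAlgClosed k]
    (X : Scheme.{u}) [X.Over (Spec (CommRingCat.of k))] [IsIntegral X]
    [IsSeparated (X ↘ (Spec (CommRingCat.of k)))]
    [LocallyOfFiniteType (X ↘ (Spec (CommRingCat.of k)))]
    [QuasiCompact (X ↘ (Spec (CommRingCat.of k)))] [Smooth (X ↘ (Spec (CommRingCat.of k)))]
    (hdimX : topologicalKrullDim X = 1) :
    ∃ (Y : Scheme.{u}) (_ : Y.Over (Spec (CommRingCat.of k))) (j : X ⟶ Y), IsOpenImmersion j ∧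
      j ≫ (Y ↘ (Spec (CommRingCat.of k))) = X ↘ (Spec (CommRingCat.of k)) ∧ IsIntegral Y ∧
      Smooth (Y ↘ (Spec (CommRingCat.of k))) ∧ topologicalKrullDim Y = 1 ∧
      ∃ (n : ℕ) (i : Y ⟶ CohB1.ProjSpace n k), IsClosedImmersion i ∧
        i ≫ CohB1.ProjSpace.toSpec n k = Y ↘ (Spec (CommRingCat.of k)) := by
  obtain ⟨d, Y, c, j, hc, hj, hcomp, hdense, hstd, -, hinf⟩ :=
    Groth.Agent.Helper3.NormInfA.main k X hdimX.le
  haveI := Groth.Agent.Helper6.HProj.isProper_toSpec d k
  let s : Y ⟶ Spec (CommRingCat.of k) := c ≫ CohB1.ProjSpace.toSpec d k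
  haveI : IsProper s := inferInstance
  haveI : IsLocallyNoetherian Y := LocallyOfFiniteType.isLocallyNoetherian s
  haveI : CompactSpace Y := QuasiCompact.compactSpace_of_compactSpace s
  haveI : IsNoetherian Y := {}
  haveI : QuasiCompact j := inferInstance
  haveI : IsReduced Y := IsSchemeTheoreticallyDominant.isReduced j
  haveI : IrreducibleSpace Y := by
    have h1 : IsIrreducible (Set.range j.base) := by
      rw [← Set.image_univ]
      exact (IrreducibleSpace.isIrreducible_univ X).image _ j.base.hom.continuous.continuousOn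
    have h2 := h1.closure
    rw [hdense.closure_eq] at h2
    exact (irreducibleSpace_def Y).mpr h2
  haveI : IsIntegral Y := isIntegral_of_irreducibleSpace_of_isReduced Y
  -- stalks are regular
  have hreg : ∀ y : Y, IsRegularLocalRing (Y.presheaf.stalk y) := by
    intro y
    by_cases hy : y ∈ Set.range j.base
    · obtain ⟨x, rfl⟩ := hy
      have e : Y.presheaf.stalk (j.base x) ≅ X.presheaf.stalk x := asIso (j.stalkMap x)
      haveI := Groth.Agent.Helper2.SmoothRegSch.stalk_regular_of_smooth k X
        (X ↘ (Spec (CommRingCat.of k))) x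
      exact IsRegularLocalRing.of_ringEquiv e.symm.commRingCatIsoToRingEquiv
    · obtain ⟨-, hd, hdvr⟩ := hinf y hy
      haveI := hd
      haveI := hdvr
      infer_instance
  haveI : Smooth s := Groth.Agent.Helper3.GenSmReg.smooth_of_regular_of_perfect k s hreg
  haveI : JacobsonSpace Y := LocallyOfFiniteType.jacobsonSpace s
  have hdimY : topologicalKrullDim Y = 1 := by
    apply le_antisymm
    · apply Groth.Agent.Helper3.NormInfC.dim_le_of_closedPoints Y 1
      intro y hycl
      by_cases hy : y ∈ Set.range j.base
      · obtain ⟨x, rfl⟩ := hy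
        have e : Y.presheaf.stalk (j.base x) ≅ X.presheaf.stalk x := asIso (j.stalkMap x)
        rw [ringKrullDim_eq_of_ringEquiv e.commRingCatIsoToRingEquiv, ← hdimX]
        exact Groth.Agent.Helper5.DimIneq.ringKrullDim_stalk_le_dim X x
      · obtain ⟨-, hd, hdvr⟩ := hinf y hy
        haveI := hd
        haveI := hdvr
        exact (IsDiscreteValuationRing.ringKrullDim_eq_one _).le
    · rw [← hdimX]
      exact j.isOpenEmbedding.isInducing.topologicalKrullDim_le
  exact ⟨Y, ⟨s⟩, j, hj, hcomp, inferInstance, (inferInstance : Smooth s), hdimY, d, c, hc, rfl⟩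

end Groth.Agent.Helper3.SmCompl
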