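import Mathlib
import Groth.Agent.Helper5.SmNorm6
import Groth.Agent.Helper1.EtRed
import Groth.Agent.Helper2.FiberSmooth2

set_option linter.style.haveILetI false
set_option linter.unusedSectionVars false
set_option linter.unusedVariables false

namespace Groth.Agent.Helper3.SmRedStalk
open AlgebraicGeometry CategoryTheory TensorProduct

universe u

attribute [local instance] Algebra.TensorProduct.rightAlgebra in
/-- smooth maps preserve reducedness of local rings. -/
theorem reduced_atPrime_of_smooth (A B : Type u) [CommRing A] [CommRing B] [Algebra A B]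
    [Algebra.Smooth A B] (q : Ideal B) [q.IsPrime]
    (hA : IsReduced (Localization.AtPrime (q.comap (algebraMap A B)))) :
    IsReduced (Localization.AtPrime q) := by
  set p := q.comap (algebraMap A B) with hp
  haveI : IsLocalization (Algebra.algebraMapSubmonoid B p.primeCompl)
      (Localization.AtPrime p ⊗[A] B) := IsLocalization.tensorRight _ p.primeCompl
  haveI : IsReduced (Localization.AtPrime p ⊗[A] B) :=
    Groth.Agent.Helper1.EtRed.isReduced_of_smooth (Localization.AtPrime p) _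
  constructor
  intro z hz
  obtain ⟨n, hn⟩ := hz
  obtain ⟨b, s, rfl⟩ := IsLocalization.exists_mk'_eq q.primeCompl z
  rw [← IsLocalization.mk'_pow, IsLocalization.mk'_eq_zero_iff] at hn
  obtain ⟨t, ht⟩ := hn
  have h1 : IsNilpotent (algebraMap B (Localization.AtPrime p ⊗[A] B) ((t : B) * b)) := by
    refine ⟨n + 1, ?_⟩
    have h0 : ((t : B) * b) ^ (n + 1) = (t : B) ^ n * b * ((t : B) * b ^ n) := by ring
    rw [← map_pow, h0, ht, mul_zero, map_zero]
  have h2 := h1.eq_zero
  rw [IsLocalization.map_eq_zero_iff (Algebra.algebraMapSubmonoid B p.primeCompl)] at h2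
  obtain ⟨⟨m, a, ha, rfl⟩, hm⟩ := h2
  rw [IsLocalization.mk'_eq_zero_iff]
  refine ⟨⟨algebraMap A B a * t, ?_⟩, ?_⟩
  · exact q.primeCompl.mul_mem (fun h => ha h) t.2
  · simpa [mul_assoc] using hm

/-- smooth morphisms preserve reducedness of stalks -/
theorem stalk_reduced_of_smooth {X Y : Scheme.{u}} (f : X ⟶ Y) [Smooth f] (x : X)
    (h : IsReduced (Y.presheaf.stalk (f x))) : IsReduced (X.presheaf.stalk x) := by
  obtain ⟨_, ⟨U, hU, rfl⟩, hxU, -⟩ :=
    Y.isBasis_affineOpens.exists_subset_of_mem_open (Set.mem_univ (f x)) isOpen_univ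
  obtain ⟨_, ⟨V, hV, rfl⟩, hxV, hVU⟩ :=
    X.isBasis_affineOpens.exists_subset_of_mem_open hxU (U.2.preimage f.continuous)
  have hsm : (f.appLE U V hVU).hom.Smooth :=
    HasRingHomProperty.appLE (P := @Smooth) f inferInstance ⟨U, hU⟩ ⟨V, hV⟩ hVU
  algebraize [(f.appLE U V hVU).hom]
  letI := Y.presheaf.algebra_section_stalk ⟨f x, hVU hxV⟩
  haveI := hU.isLocalization_stalk ⟨f x, hVU hxV⟩
  letI := X.presheaf.algebra_section_stalk ⟨x, hxV⟩
  haveI := hV.isLocalization_stalk ⟨x, hxV⟩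
  have hpq : (hV.primeIdealOf ⟨x, hxV⟩).asIdeal.comap (algebraMap Γ(Y, U) Γ(X, V)) =
      (hU.primeIdealOf ⟨f x, hVU hxV⟩).asIdeal :=
    congr($(IsAffineOpen.comap_primeIdealOf_appLE U hU V hV hVU hxV).1)
  let e1 := (IsLocalization.algEquiv (hU.primeIdealOf ⟨f x, hVU hxV⟩).asIdeal.primeCompl
      (Y.presheaf.stalk (f x))
      (Localization.AtPrime (hU.primeIdealOf ⟨f x, hVU hxV⟩).asIdeal))
  let e2 := (IsLocalization.algEquiv (hV.primeIdealOf ⟨x, hxV⟩).asIdeal.primeCompl
      (X.presheaf.stalk x)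
      (Localization.AtPrime (hV.primeIdealOf ⟨x, hxV⟩).asIdeal))
  have h1 : IsReduced (Localization.AtPrime (hU.primeIdealOf ⟨f x, hVU hxV⟩).asIdeal) :=
    isReduced_of_injective e1.symm.toRingEquiv.toRingHom e1.symm.injective
  have key : ∀ (P : Ideal Γ(Y, U)) [P.IsPrime]
      (hP : P = (hU.primeIdealOf ⟨f x, hVU hxV⟩).asIdeal),
      IsReduced (Localization.AtPrime P) := by
    intro P _ hP
    subst hP
    exact h1
  haveI h2 : IsReduced (Localization.AtPrime (hV.primeIdealOf ⟨x, hxV⟩).asIdeal) :=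
    reduced_atPrime_of_smooth Γ(Y, U) Γ(X, V) (hV.primeIdealOf ⟨x, hxV⟩).asIdeal (key _ hpq)
  exact isReduced_of_injective e2.toRingEquiv.toRingHom e2.injective

theorem s4989 {X Y : Scheme.{u}} (f : X ⟶ Y)
    [LocallyOfFinitePresentation f] (x : ↥X) (hx : x ∈ f.smoothLocus) :
    (IsReduced ↑(X.presheaf.stalk x) ↔ IsReduced ↑(Y.presheaf.stalk (f.base x))) ∧
    ((IsDomain ↑(X.presheaf.stalk x) ∧ IsIntegrallyClosed ↑(X.presheaf.stalk x)) ↔
      (IsDomain ↑(Y.presheaf.stalk (f.base x)) ∧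
        IsIntegrallyClosed ↑(Y.presheaf.stalk (f.base x)))) := by
  haveI hsm : Smooth (f.smoothLocus.ι ≫ f) := by
    rw [← Scheme.Hom.smoothLocus_eq_top_iff, ← Scheme.Hom.preimage_smoothLocus_eq]
    ext y
    simp only [Scheme.Hom.coe_preimage, Set.mem_preimage, TopologicalSpace.Opens.coe_top,
      Set.mem_univ, iff_true]
    exact y.2
  let x' : f.smoothLocus := ⟨x, hx⟩
  let E : X.presheaf.stalk x ≃+* (f.smoothLocus : Scheme.{u}).presheaf.stalk x' :=
    (asIso (f.smoothLocus.ι.stalkMap x')).commRingCatIsoToRingEquiv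
  have hflat : (f.stalkMap x).hom.Flat :=
    Groth.Agent.Helper2.FiberSmooth2.flat_stalk_of_smooth_nbhd f x ⟨f.smoothLocus, hx, hsm⟩
  refine ⟨⟨fun h => ?_, fun h => ?_⟩, ⟨fun h => ?_, fun h => ?_⟩⟩
  · algebraize [(f.stalkMap x).hom]
    haveI : Module.FaithfullyFlat (Y.presheaf.stalk (f x)) (X.presheaf.stalk x) :=
      @Module.FaithfullyFlat.of_flat_of_isLocalHom _ _ _ _ _ _ _ hflat (f.toLRSHom.prop x)
    exact isReduced_of_injective (algebraMap (Y.presheaf.stalk (f x)) (X.presheaf.stalk x))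
      (FaithfulSMul.algebraMap_injective _ _)
  · have h1 : IsReduced ((f.smoothLocus : Scheme.{u}).presheaf.stalk x') :=
      stalk_reduced_of_smooth (f.smoothLocus.ι ≫ f) x' h
    exact isReduced_of_injective E.toRingHom E.injective
  · have h1 := Groth.Agent.Helper5.SmNorm.normal_of_ringEquiv E h
    exact Groth.Agent.Helper5.SmNorm.stalk_normal_descent (f.smoothLocus.ι ≫ f) x' h1
  · have h1 := Groth.Agent.Helper5.SmNorm.stalk_normal_of_smooth (f.smoothLocus.ι ≫ f) x' h
    exact Groth.Agent.Helper5.SmNorm.normal_of_ringEquiv E.symm h1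

end Groth.Agent.Helper3.SmRedStalk
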