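import Mathlib
import Groth.Agent.Helper3.SepGrp
import Groth.Agent.Helper3.SepMax
import Groth.Agent.Helper3.GeomRedProd

set_option linter.style.haveILetI false
set_option linter.unusedSectionVars false
set_option linter.unusedVariables false
set_option linter.style.haveILetI false
set_option linter.unusedSectionVars false
set_option linter.unusedVariables false

open AlgebraicGeometry CategoryTheory CategoryTheory.Limits TensorProduct Function
open MonoidalCategory CartesianMonoidalCategory MonObj GrpObj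

namespace Groth.Agent.Helper3.SmallestSub

universe u

open Groth.Agent.Helper3.SepPts Groth.Agent.Helper3.SepGrp

/-- the closed subscheme of separable points of a group scheme over a field is a subgroup
(no finiteness hypotheses) -/
theorem grp_of_sepPoints {k : Type u} [Field k] (G : Over (Spec (CommRingCat.of k))) [GrpObj G]
    (Z : Over (Spec (CommRingCat.of k))) (z : Z ⟶ G) [IsClosedImmersion z.left]
    [GeometricallyReduced Z.hom]
    (hpts : ∀ (k' : Type u) [Field k'] [Algebra k k'] [Algebra.IsGeometricallyReduced k k']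
      (x : Spec (CommRingCat.of k') ⟶ G.left),
      x ≫ G.hom = Spec.map (CommRingCat.ofHom (algebraMap k k')) →
      ∃ y : Spec (CommRingCat.of k') ⟶ Z.left, y ≫ z.left = x) :
    ∃ inst : GrpObj Z, IsMonHom z := by
  haveI : Mono z := Over.mono_of_mono_left z
  haveI : Algebra.IsGeometricallyReduced k k := by
    rw [Algebra.isGeometricallyReduced_field_iff]
    exact isReduced_of_injective (Algebra.TensorProduct.rid k k (AlgebraicClosure k)).toRingHom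
      (Algebra.TensorProduct.rid k k (AlgebraicClosure k)).injective
  obtain ⟨e₀, he₀⟩ := hpts k η[G].left (by
    rw [Over.w η[G], Algebra.algebraMap_self]
    exact (Spec.map_id _).symm)
  let e : 𝟙_ (Over (Spec (CommRingCat.of k))) ⟶ Z :=
    Over.homMk e₀ (by
      rw [← Over.w z, ← Category.assoc, he₀, Over.w η[G]])
  have he : e ≫ z = η[G] := by ext; exact he₀
  haveI : GeometricallyReduced (Z ⊗ Z).hom := by
    rw [Over.tensorObj_hom]
    exact Groth.Agent.Helper3.GeomRedProd.geometricallyReduced_prod k _ _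
  obtain ⟨m, hm⟩ := key G Z z hpts (Z ⊗ Z) ((z ⊗ₘ z) ≫ μ[G])
  obtain ⟨i', hi'⟩ := key G Z z hpts Z (z ≫ ι[G])
  exact ⟨Groth.Agent.Helper9.SubGrpObj.grpObjOfMono z e m i' he hm hi',
    Groth.Agent.Helper9.SubGrpObj.isMonHom_of_grpObjOfMono z e m i' he hm hi'⟩

/-- the smallest closed subgroup scheme through which a morphism factors -/
theorem exists_smallest {S : Scheme.{u}} (G X : Over S) [GrpObj G] (f : X ⟶ G) :
    ∃ (Γ₀ : Over S) (_ : GrpObj Γ₀) (i₀ : Γ₀ ⟶ G), IsMonHom i₀ ∧ IsClosedImmersion i₀.left ∧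
      (∃ f' : X ⟶ Γ₀, f' ≫ i₀ = f) ∧
      ∀ (Γ' : Over S) (_ : GrpObj Γ') (i' : Γ' ⟶ G), IsMonHom i' → IsClosedImmersion i'.left →
        (∃ f'' : X ⟶ Γ', f'' ≫ i' = f) → ∃ j : Γ₀ ⟶ Γ', j ≫ i' = i₀ := by
  let 𝒮 : Set G.left.IdealSheafData := {I | ∃ (Γ' : Over S) (_ : GrpObj Γ') (i' : Γ' ⟶ G),
    IsMonHom i' ∧ IsClosedImmersion i'.left ∧ (∃ f'' : X ⟶ Γ', f'' ≫ i' = f) ∧ i'.left.ker = I}
  let I₀ : G.left.IdealSheafData := sSup 𝒮
  let Γ₀ : Over S := Over.mk (I₀.subschemeι ≫ G.hom)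
  let i₀ : Γ₀ ⟶ G := Over.homMk I₀.subschemeι rfl
  haveI : IsClosedImmersion i₀.left := by
    show IsClosedImmersion I₀.subschemeι
    infer_instance
  haveI : Mono i₀ := Over.mono_of_mono_left i₀
  have hker₀ : i₀.left.ker = I₀ := Scheme.IdealSheafData.ker_subschemeι I₀
  -- factorization through Γ₀
  have FL : ∀ (T : Over S) (φ : T ⟶ G), (∀ I ∈ 𝒮, I ≤ φ.left.ker) → ∃ ψ : T ⟶ Γ₀, ψ ≫ i₀ = φ := by
    intro T φ h
    have hle : i₀.left.ker ≤ φ.left.ker := by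
      rw [hker₀]; exact sSup_le h
    refine ⟨Over.homMk (IsClosedImmersion.lift i₀.left φ.left hle) ?_, ?_⟩
    · show _ ≫ I₀.subschemeι ≫ G.hom = T.hom
      have := IsClosedImmersion.lift_fac i₀.left φ.left hle
      rw [← Category.assoc]
      erw [this]
      exact Over.w φ
    · ext
      exact IsClosedImmersion.lift_fac i₀.left φ.left hle
  -- maps to members
  have ML : ∀ (Γ' : Over S) (i' : Γ' ⟶ G), IsClosedImmersion i'.left → i'.left.ker ≤ I₀ →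
      ∃ j : Γ₀ ⟶ Γ', j ≫ i' = i₀ := by
    intro Γ' i' hi' hle
    haveI := hi'
    have hle' : i'.left.ker ≤ i₀.left.ker := by rw [hker₀]; exact hle
    refine ⟨Over.homMk (IsClosedImmersion.lift i'.left i₀.left hle') ?_, ?_⟩
    · rw [← Over.w i', ← Category.assoc, IsClosedImmersion.lift_fac]
      exact Over.w i₀
    · ext
      exact IsClosedImmersion.lift_fac i'.left i₀.left hle'
  have hfac : ∀ (T : Over S) (φ : T ⟶ G) (Γ' : Over S) (i' : Γ' ⟶ G) (ψ : T ⟶ Γ'),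
      ψ ≫ i' = φ → i'.left.ker ≤ φ.left.ker := by
    intro T φ Γ' i' ψ h
    rw [← h]
    exact Scheme.Hom.le_ker_comp ψ.left i'.left
  -- unit
  obtain ⟨e₀, he₀⟩ := FL (𝟙_ (Over S)) η[G] (by
    rintro I ⟨Γ', _, i', hmon, hcl, _, rfl⟩
    exact hfac _ _ Γ' i' η[Γ'] (IsMonHom.one_hom i'))
  -- multiplication
  obtain ⟨m₀, hm₀⟩ := FL (Γ₀ ⊗ Γ₀) ((i₀ ⊗ₘ i₀) ≫ μ[G]) (by
    rintro I ⟨Γ', _, i', hmon, hcl, _, rfl⟩
    obtain ⟨j, hj⟩ := ML Γ' i' hcl (le_sSup ⟨Γ', ‹_›, i', hmon, hcl, ‹_›, rfl⟩)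
    refine hfac _ _ Γ' i' ((j ⊗ₘ j) ≫ μ[Γ']) ?_
    rw [Category.assoc, IsMonHom.mul_hom i', ← Category.assoc, tensorHom_comp_tensorHom, hj])
  -- inverse
  obtain ⟨v₀, hv₀⟩ := FL Γ₀ (i₀ ≫ ι[G]) (by
    rintro I ⟨Γ', _, i', hmon, hcl, _, rfl⟩
    obtain ⟨j, hj⟩ := ML Γ' i' hcl (le_sSup ⟨Γ', ‹_›, i', hmon, hcl, ‹_›, rfl⟩)
    refine hfac _ _ Γ' i' (j ≫ ι[Γ']) ?_
    rw [Category.assoc, GrpObj.inv_hom, ← Category.assoc, hj])
  -- f
  obtain ⟨f', hf'⟩ := FL X f (by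
    rintro I ⟨Γ', _, i', hmon, hcl, ⟨f'', hf''⟩, rfl⟩
    exact hfac _ _ Γ' i' f'' hf'')
  refine ⟨Γ₀, Groth.Agent.Helper9.SubGrpObj.grpObjOfMono i₀ e₀ m₀ v₀ he₀ hm₀ hv₀, i₀,
    Groth.Agent.Helper9.SubGrpObj.isMonHom_of_grpObjOfMono i₀ e₀ m₀ v₀ he₀ hm₀ hv₀, inferInstance,
    ⟨f', hf'⟩, ?_⟩
  intro Γ' inst' i' hmon hcl hf''
  exact ML Γ' i' hcl (le_sSup ⟨Γ', inst', i', hmon, hcl, hf'', rfl⟩)

theorem main (k : Type u) [Field k] (G X : Over (Spec (CommRingCat.of k))) [GrpObj G]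
    [GeometricallyReduced X.hom] (f : X ⟶ G) :
    ∃ (Γ : Over (Spec (CommRingCat.of k))) (_ : GrpObj Γ) (i : Γ ⟶ G), IsMonHom i ∧
      IsClosedImmersion i.left ∧
      (∃ f' : X ⟶ Γ, f' ≫ i = f) ∧ GeometricallyReduced Γ.hom ∧
      ∀ (Γ' : Over (Spec (CommRingCat.of k))) (_ : GrpObj Γ') (i' : Γ' ⟶ G), IsMonHom i' →
        IsClosedImmersion i'.left →
        (∃ f'' : X ⟶ Γ', f'' ≫ i' = f) → ∃ j : Γ ⟶ Γ', j ≫ i' = i := by
  obtain ⟨Γ₀, inst₀, i₀, hmon₀, hcl₀, ⟨f₀, hf₀⟩, hmin₀⟩ := exists_smallest G X f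
  obtain ⟨Z, z, hz, hgr, hpts, -⟩ := Groth.Agent.Helper3.SepMax.main k Γ₀.left Γ₀.hom
  let Γ : Over (Spec (CommRingCat.of k)) := Over.mk (z ≫ Γ₀.hom)
  let zz : Γ ⟶ Γ₀ := Over.homMk z rfl
  haveI : IsClosedImmersion zz.left := hz
  haveI : GeometricallyReduced Γ.hom := hgr
  obtain ⟨inst, hmon⟩ := grp_of_sepPoints Γ₀ Γ zz hpts
  obtain ⟨ψ, hψ⟩ := key Γ₀ Γ zz hpts X f₀
  haveI := hcl₀
  refine ⟨Γ, inst, zz ≫ i₀, inferInstance, ?_, ⟨ψ, by rw [← Category.assoc, hψ, hf₀]⟩, hgr, ?_⟩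
  · show IsClosedImmersion (zz.left ≫ i₀.left)
    infer_instance
  · intro Γ' inst' i' hmon' hcl' hf'
    obtain ⟨j, hj⟩ := hmin₀ Γ' inst' i' hmon' hcl' hf'
    exact ⟨zz ≫ j, by rw [Category.assoc, hj]⟩

end Groth.Agent.Helper3.SmallestSub
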