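import Mathlib
import Groth.Agent.Helper2.RegSmooth2
import Groth.Agent.Helper2.JacobianLI
import Groth.Agent.Helper2.SmoothQuotLoc
import Groth.Agent.Helper2.FieldFiber
import Groth.Agent.Helper2.CotGen
import Groth.Agent.S0558
import Groth.Agent.Helper1.FieldSmooth7

set_option linter.style.haveILetI false
set_option linter.unusedSectionVars false
set_option linter.unusedVariables false

namespace Groth.Agent.Helper3.SmoothOmega
open TensorProduct KaehlerDifferential

universe u

section
variable {k : Type u} [Field k] {n : ℕ} {A : Type u} [CommRing A] [Algebra k A]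
  [Algebra (MvPolynomial (Fin n) k) A] [IsScalarTower k (MvPolynomial (Fin n) k) A]

local notation "P" => MvPolynomial (Fin n) k

theorem local_main (hsurj : Function.Surjective (algebraMap P A)) (q : Ideal A) [q.IsPrime]
    (hsplit : ∃ s : P, s ∉ q.comap (algebraMap P A) ∧ ∃ σ : Ω[A⁄k] →ₗ[A] A ⊗[P] Ω[P⁄k],
      (KaehlerDifferential.mapBaseChange k P A) ∘ₗ σ = (algebraMap P A s) • LinearMap.id)
    (hgen : ∃ p : Ideal A, ∃ _ : p.IsPrime, p ≤ q ∧
      Algebra.FormallySmooth k (Localization.AtPrime p)) :
    Algebra.FormallySmooth k (Localization.AtPrime q) := by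
  classical
  obtain ⟨s, hsQ, σ, hσ⟩ := hsplit
  obtain ⟨p, hp, hpq, hpsm⟩ := hgen
  set I := RingHom.ker (algebraMap P A) with hI
  set Q := q.comap (algebraMap P A) with hQ
  have hIQ : I ≤ Q := fun x hx => by
    rw [hQ, Ideal.mem_comap, RingHom.mem_ker.mp hx]; exact q.zero_mem
  have hK : RingHom.ker (algebraMap P Q.ResidueField) = Q := Ideal.ker_algebraMap_residueField Q
  have hex : Function.Exact (kerCotangentToTensor k P A) (KaehlerDifferential.mapBaseChange k P A) :=
    exact_kerCotangentToTensor_mapBaseChange k P A hsurj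
  haveI : Module.Finite P I := Module.Finite.of_fg (IsNoetherian.noetherian I)
  haveI : Module.Finite P I.Cotangent :=
    Module.Finite.of_surjective I.toCotangent I.toCotangent_surjective
  haveI : Module.Finite P A := Module.Finite.of_surjective (Algebra.linearMap P A) hsurj
  haveI : Module.Finite P (A ⊗[P] Ω[P⁄k]) := inferInstance
  -- Step 1: choose f
  let v : I → Q.ResidueField ⊗[P] (A ⊗[P] Ω[P⁄k]) := fun x =>
    (1 : Q.ResidueField) ⊗ₜ[P] kerCotangentToTensor k P A (I.toCotangent x)
  obtain ⟨κ, a, ha, hsp, hli⟩ := exists_linearIndependent' Q.ResidueField v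
  haveI : Finite κ := hli.finite
  obtain ⟨m, ⟨e⟩⟩ := Finite.exists_equiv_fin κ
  let f : Fin m → P := fun i => (a (e.symm i) : P)
  have hfI : ∀ i, f i ∈ I := fun i => (a (e.symm i)).2
  have hli2 : LinearIndependent Q.ResidueField (fun i : Fin m =>
      (1 : Q.ResidueField) ⊗ₜ[P] kerCotangentToTensor k P A (I.toCotangent ⟨f i, hfI i⟩)) :=
    hli.comp e.symm e.symm.injective
  let θ : Q.ResidueField ⊗[P] Ω[P⁄k] →ₗ[Q.ResidueField] Q.ResidueField ⊗[P] (A ⊗[P] Ω[P⁄k]) :=
    (TensorProduct.mk P A Ω[P⁄k] 1).baseChange Q.ResidueField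
  have hli3 : LinearIndependent Q.ResidueField
      (fun i : Fin m => (1 : Q.ResidueField) ⊗ₜ[P] D k P (f i)) := by
    apply LinearIndependent.of_comp θ
    exact hli2
  obtain ⟨Dv, hdet⟩ := (Groth.Agent.Helper2.JacobianLI.exists_derivations_iff_linearIndependent
    (A := k) Q f).mpr hli3
  -- Step 2: local generation of the range
  let d := kerCotangentToTensor k P A
  let π := KaehlerDifferential.mapBaseChange k P A
  let M : Submodule P (A ⊗[P] Ω[P⁄k]) := LinearMap.range d
  have hMker : ∀ z : A ⊗[P] Ω[P⁄k], z ∈ M ↔ π z = 0 := fun z => (hex z).symm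
  let ρ' : (A ⊗[P] Ω[P⁄k]) →ₗ[P] (A ⊗[P] Ω[P⁄k]) :=
    s • LinearMap.id - (σ.restrictScalars P) ∘ₗ (π.restrictScalars P)
  have hρ' : ∀ z, ρ' z = s • z - σ (π z) := fun z => rfl
  have hπσ : ∀ w, π (σ w) = s • w := by
    intro w
    have := LinearMap.congr_fun hσ w
    simpa using this
  have hρmem : ∀ z, ρ' z ∈ M := by
    intro z
    rw [hMker, hρ', map_sub, hπσ]
    rw [← algebraMap_smul A s z, map_smul, algebraMap_smul, sub_self]
  let ρ : (A ⊗[P] Ω[P⁄k]) →ₗ[P] M := ρ'.codRestrict M hρmem
  have hρι : ∀ z : M, ρ z.1 = s • z := by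
    intro z
    apply Subtype.ext
    change ρ' z.1 = s • z.1
    rw [hρ', (hMker z.1).mp z.2, map_zero, sub_zero]
  have hs0 : algebraMap P Q.ResidueField s ≠ 0 := by
    rw [Ne, ← RingHom.mem_ker, hK]; exact hsQ
  have hιinj : Function.Injective (M.subtype.baseChange Q.ResidueField) := by
    have h1 : ∀ w, (ρ.baseChange Q.ResidueField) ((M.subtype.baseChange Q.ResidueField) w) =
        (algebraMap P Q.ResidueField s) • w := by
      intro w
      induction w using TensorProduct.induction_on with
      | zero => simp
      | add w1 w2 h1 h2 => simp only [map_add, h1, h2, smul_add]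
      | tmul c z =>
        simp only [LinearMap.baseChange_tmul, Submodule.subtype_apply]
        rw [hρι, TensorProduct.tmul_smul, algebraMap_smul]
    intro x y hxy
    have h2 := congrArg (ρ.baseChange Q.ResidueField) hxy
    rw [h1, h1] at h2
    exact smul_right_injective _ hs0 h2
  haveI : Module.Finite P M := inferInstance
  let d' : I.Cotangent →ₗ[P] M := d.rangeRestrict
  let xM : Fin m → M := fun i => d' (I.toCotangent ⟨f i, hfI i⟩)
  have hspanM : Submodule.span Q.ResidueField
      (Set.range fun i => (1 : Q.ResidueField) ⊗ₜ[P] xM i) = ⊤ := by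
    rw [eq_top_iff]
    rintro w -
    have h1 : M.subtype.baseChange Q.ResidueField w ∈
        Submodule.span Q.ResidueField (Set.range (v ∘ a)) := by
      rw [hsp]
      induction w using TensorProduct.induction_on with
      | zero => simp
      | add w1 w2 h1 h2 => rw [map_add]; exact Submodule.add_mem _ h1 h2
      | tmul c z =>
        obtain ⟨nn, hn⟩ := z.2
        obtain ⟨x, rfl⟩ := I.toCotangent_surjective nn
        have : M.subtype.baseChange Q.ResidueField (c ⊗ₜ z) = c • v x := by
          simp only [LinearMap.baseChange_tmul, Submodule.subtype_apply, v]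
          rw [TensorProduct.smul_tmul', smul_eq_mul, mul_one]
          rw [← hn]
        rw [this]
        exact Submodule.smul_mem _ _ (Submodule.subset_span ⟨x, rfl⟩)
    have h2 : Submodule.span Q.ResidueField (Set.range (v ∘ a)) =
        (Submodule.span Q.ResidueField
          (Set.range fun i => (1 : Q.ResidueField) ⊗ₜ[P] xM i)).map
          (M.subtype.baseChange Q.ResidueField) := by
      rw [Submodule.map_span, ← Set.range_comp]
      congr 1
      ext y
      constructor
      · rintro ⟨j, rfl⟩
        refine ⟨e j, ?_⟩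
        simp only [Function.comp_apply, LinearMap.baseChange_tmul, Submodule.subtype_apply, xM, f,
          v, Equiv.symm_apply_apply]
        rfl
      · rintro ⟨i, rfl⟩
        refine ⟨e.symm i, ?_⟩
        simp only [Function.comp_apply, LinearMap.baseChange_tmul, Submodule.subtype_apply, xM, f,
          v]
        rfl
    rw [h2] at h1
    obtain ⟨w', hw', hww'⟩ := h1
    rw [← hιinj hww']
    exact hw'
  have hlocM : ∀ z : M, ∃ r ∉ Q, r • z ∈ Submodule.span P (Set.range xM) :=
    fun z => Groth.Agent.Helper2.FieldFiber.exists_smul_mem_span_of_span_tmul hK xM hspanM z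
  -- Step 3: the smooth ring B'
  set J : Ideal P := Ideal.span (Set.range f) with hJ
  have hJI : J ≤ I := Ideal.span_le.mpr (by rintro _ ⟨i, rfl⟩; exact hfI i)
  have hJQ : J ≤ Q := hJI.trans hIQ
  let Q' : Ideal (P ⧸ J) := Q.map (Ideal.Quotient.mk J)
  haveI hQ'prime : Q'.IsPrime :=
    Ideal.map_isPrime_of_surjective Ideal.Quotient.mk_surjective (by rwa [Ideal.mk_ker])
  have hQ'comap : Q'.comap (algebraMap P (P ⧸ J)) = Q := by
    rw [Ideal.Quotient.algebraMap_eq]
    rw [Ideal.comap_map_of_surjective _ Ideal.Quotient.mk_surjective, ← RingHom.ker_eq_comap_bot,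
      Ideal.mk_ker, sup_eq_left.mpr hJQ]
  have hsurjJ : Function.Surjective (algebraMap P (P ⧸ J)) := Ideal.Quotient.mk_surjective
  have hkerJ : RingHom.ker (algebraMap P (P ⧸ J)) = J := by
    rw [Ideal.Quotient.algebraMap_eq, Ideal.mk_ker]
  have hsmB : Algebra.FormallySmooth k (Localization.AtPrime Q') := by
    rw [Groth.Agent.Helper2.JacobianDer.formallySmooth_iff_exists_derivations (A := k)
      hsurjJ Q Q' hQ'comap]
    refine ⟨m, f, Dv, ?_, ?_, hdet⟩
    · intro i; rw [hkerJ]; exact Ideal.subset_span ⟨i, rfl⟩
    · rw [hkerJ, hJ, Ideal.map_span, ← Set.range_comp]; rfl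
  have hregB : IsRegularLocalRing (Localization.AtPrime Q') :=
    Groth.Agent.Helper2.RegSmooth2.isRegularLocalRing_of_isSmoothAt k (P ⧸ J) Q' hsmB
  have hdomB := Groth.Agent.S0558.result (Localization.AtPrime Q')
  have hnzd : ∀ a b : Localization.AtPrime Q', a * b = 0 → a = 0 ∨ b = 0 := fun a b h =>
    mul_eq_zero.mp h
  -- Step 4: at the generization p
  set pP := p.comap (algebraMap P A) with hpP
  have hpPQ : pP ≤ Q := Ideal.comap_mono hpq
  have hIpP : I ≤ pP := fun x hx => by
    rw [hpP, Ideal.mem_comap, RingHom.mem_ker.mp hx]; exact p.zero_mem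
  have hK' : RingHom.ker (algebraMap P p.ResidueField) = pP := by
    rw [IsScalarTower.algebraMap_eq P A p.ResidueField, ← RingHom.comap_ker,
      Ideal.ker_algebraMap_residueField]
  have hinj : Function.Injective (d.lTensor p.ResidueField) :=
    ((Groth.Agent.Helper2.SmoothQuotLoc.tfae (A := k) hsurj p).out 0 1).mp hpsm
  let xN : Fin m → I.Cotangent := fun i => I.toCotangent ⟨f i, hfI i⟩
  have hspanN : Submodule.span p.ResidueField
      (Set.range fun i => (1 : p.ResidueField) ⊗ₜ[P] xN i) = ⊤ := by
    have key : ∀ nn : I.Cotangent, (1 : p.ResidueField) ⊗ₜ[P] nn ∈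
        Submodule.span p.ResidueField (Set.range fun i => (1 : p.ResidueField) ⊗ₜ[P] xN i) := by
      intro nn
      obtain ⟨r, hrQ, hr⟩ := hlocM (d' nn)
      rw [Submodule.mem_span_range_iff_exists_fun] at hr
      obtain ⟨c, hc⟩ := hr
      have hy : d (r • nn - ∑ i, c i • xN i) = 0 := by
        have h1 : ∑ i, c i • d (xN i) = r • d nn := by
          have h := congrArg M.subtype hc
          rw [map_sum, map_smul] at h
          simp only [map_smul] at h
          exact h
        rw [map_sub, map_smul, map_sum]
        simp only [map_smul]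
        rw [h1, sub_self]
      have h0 : (1 : p.ResidueField) ⊗ₜ[P] (r • nn - ∑ i, c i • xN i) = 0 := by
        apply hinj
        rw [LinearMap.lTensor_tmul, hy, tmul_zero, map_zero]
      have hr0 : algebraMap P p.ResidueField r ≠ 0 := by
        rw [Ne, ← RingHom.mem_ker, hK']; exact fun h => hrQ (hpPQ h)
      have h1 : (algebraMap P p.ResidueField r) • ((1 : p.ResidueField) ⊗ₜ[P] nn) =
          ∑ i, (algebraMap P p.ResidueField (c i)) • ((1 : p.ResidueField) ⊗ₜ[P] xN i) := by
        rw [tmul_sub, sub_eq_zero, tmul_sum] at h0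
        simp only [tmul_smul] at h0
        simp only [algebraMap_smul]
        exact h0
      have h2 : (1 : p.ResidueField) ⊗ₜ[P] nn = (algebraMap P p.ResidueField r)⁻¹ •
          ∑ i, (algebraMap P p.ResidueField (c i)) • ((1 : p.ResidueField) ⊗ₜ[P] xN i) := by
        rw [← h1, smul_smul, inv_mul_cancel₀ hr0, one_smul]
      rw [h2]
      exact Submodule.smul_mem _ _ (Submodule.sum_mem _ fun i _ =>
        Submodule.smul_mem _ _ (Submodule.subset_span ⟨i, rfl⟩))
    rw [eq_top_iff]
    rintro w -
    induction w using TensorProduct.induction_on with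
    | zero => exact Submodule.zero_mem _
    | add w1 w2 h1 h2 => exact Submodule.add_mem _ h1 h2
    | tmul c nn =>
      have : c ⊗ₜ[P] nn = c • ((1 : p.ResidueField) ⊗ₜ[P] nn) := by
        rw [TensorProduct.smul_tmul', smul_eq_mul, mul_one]
      rw [this]
      exact Submodule.smul_mem _ _ (key nn)
  have hlocN : ∀ nn : I.Cotangent, ∃ t ∉ pP, t • nn ∈ Submodule.span P (Set.range xN) :=
    fun nn => Groth.Agent.Helper2.FieldFiber.exists_smul_mem_span_of_span_tmul hK' xN hspanN nn
  have hIp : I.map (algebraMap P (Localization.AtPrime pP)) =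
      Ideal.span (Set.range fun i => algebraMap P (Localization.AtPrime pP) (f i)) :=
    Groth.Agent.Helper2.CotGen.map_eq_span_of_forall_exists_smul I pP f hfI
      (IsNoetherian.noetherian I) hIpP (fun g => hlocN (I.toCotangent g))
  -- Steps 5-6
  have hIJQ : I.map (algebraMap P (Localization.AtPrime Q)) =
      Ideal.span (Set.range fun i => algebraMap P (Localization.AtPrime Q) (f i)) := by
    apply le_antisymm
    · rw [Ideal.map_le_iff_le_comap]
      intro x hx
      rw [Ideal.mem_comap]
      have h1 : algebraMap P (Localization.AtPrime pP) x ∈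
          J.map (algebraMap P (Localization.AtPrime pP)) := by
        rw [hJ, Ideal.map_span, ← Set.range_comp]
        have := Ideal.mem_map_of_mem (algebraMap P (Localization.AtPrime pP)) hx
        rw [hIp] at this
        exact this
      rw [IsLocalization.mem_map_algebraMap_iff pP.primeCompl] at h1
      obtain ⟨⟨j, u⟩, hju⟩ := h1
      rw [← map_mul, IsLocalization.eq_iff_exists pP.primeCompl] at hju
      obtain ⟨c, hc⟩ := hju
      have hux : ((c : P) * (u : P)) * x ∈ J := by
        have : ((c : P) * (u : P)) * x = c * j := by rw [← hc]; ring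
        rw [this]; exact Ideal.mul_mem_left _ _ j.2
      have hcu : (c : P) * (u : P) ∉ pP := (c * u).2
      let φ : P →+* Localization.AtPrime Q' :=
        (algebraMap (P ⧸ J) (Localization.AtPrime Q')).comp (Ideal.Quotient.mk J)
      have hφJ : ∀ y ∈ J, φ y = 0 := fun y hy => by
        simp only [φ, RingHom.comp_apply, Ideal.Quotient.eq_zero_iff_mem.mpr hy, map_zero]
      have hφ0 : ∀ y, φ y = 0 → ∃ w ∉ Q, w * y ∈ J := by
        intro y hy
        obtain ⟨⟨w, hw⟩, hwy⟩ := (IsLocalization.map_eq_zero_iff Q'.primeCompl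
          (Localization.AtPrime Q') (Ideal.Quotient.mk J y)).mp hy
        obtain ⟨w', rfl⟩ := Ideal.Quotient.mk_surjective w
        refine ⟨w', fun hw' => hw (Ideal.mem_map_of_mem _ hw'), ?_⟩
        rw [← Ideal.Quotient.eq_zero_iff_mem, map_mul]
        exact hwy
      have hφcu : φ ((c : P) * (u : P)) ≠ 0 := by
        intro h0
        obtain ⟨w, hwQ, hwJ⟩ := hφ0 _ h0
        have hmem : w * ((c : P) * (u : P)) ∈ pP := hIpP (hJI hwJ)
        rcases (Ideal.IsPrime.mem_or_mem inferInstance hmem) with h | h
        · exact hwQ (hpPQ h)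
        · exact hcu h
      have hφx : φ x = 0 := by
        have h2 : φ (((c : P) * (u : P)) * x) = 0 := hφJ _ hux
        rw [map_mul] at h2
        exact (hnzd _ _ h2).resolve_left hφcu
      obtain ⟨w, hwQ, hwJ⟩ := hφ0 x hφx
      have hu : IsUnit (algebraMap P (Localization.AtPrime Q) w) :=
        IsLocalization.map_units _ (⟨w, hwQ⟩ : Q.primeCompl)
      have h3 : algebraMap P (Localization.AtPrime Q) (w * x) ∈
          Ideal.span (Set.range fun i => algebraMap P (Localization.AtPrime Q) (f i)) := by
        have h4 := Ideal.mem_map_of_mem (algebraMap P (Localization.AtPrime Q)) hwJ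
        rw [hJ, Ideal.map_span, ← Set.range_comp] at h4
        exact h4
      rw [map_mul] at h3
      exact (Ideal.unit_mul_mem_iff_mem _ hu).mp h3
    · rw [Ideal.span_le]
      rintro _ ⟨i, rfl⟩
      exact Ideal.mem_map_of_mem _ (hfI i)
  rw [Groth.Agent.Helper2.JacobianDer.formallySmooth_iff_exists_derivations (A := k) hsurj Q q rfl]
  exact ⟨m, f, Dv, hfI, hIJQ, hdet⟩

end

section
variable {k A : Type u} [Field k] [CommRing A] [Algebra k A]

theorem formallySmooth_of_geomReduced_minimal (p : Ideal A) [p.IsPrime] (hp : p ∈ minimalPrimes A)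
    [Algebra.IsGeometricallyReduced k (Localization.AtPrime p)] :
    Algebra.FormallySmooth k (Localization.AtPrime p) := by
  haveI : IsReduced (Localization.AtPrime p) := Algebra.isReduced_of_isGeometricallyReduced k
  haveI : Ring.KrullDimLE 0 (Localization.AtPrime p) := .of_isLocalization _ hp _
  letI : Field (Localization.AtPrime p) := Ring.KrullDimLE.isField_of_isReduced.toField
  exact Groth.Agent.Helper1.FieldSmooth.formallySmooth_iff_isGeometricallyReduced.2 inferInstance

theorem geomReduced_of_smooth_minimal [Algebra.FiniteType k A] (p : Ideal A) [p.IsPrime]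
    (hp : p ∈ minimalPrimes A) (h : Algebra.FormallySmooth k (Localization.AtPrime p)) :
    Algebra.IsGeometricallyReduced k (Localization.AtPrime p) := by
  have hreg : IsRegularLocalRing (Localization.AtPrime p) :=
    Groth.Agent.Helper2.RegSmooth2.isRegularLocalRing_of_isSmoothAt k A p h
  have hdom := Groth.Agent.S0558.result (Localization.AtPrime p)
  haveI : IsDomain (Localization.AtPrime p) := hdom
  haveI : Ring.KrullDimLE 0 (Localization.AtPrime p) := .of_isLocalization _ hp _
  letI : Field (Localization.AtPrime p) := Ring.KrullDimLE.isField_of_isReduced.toField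
  exact Groth.Agent.Helper1.FieldSmooth.formallySmooth_iff_isGeometricallyReduced.1 h

/-- main criterion -/
theorem smooth_of_projective_of_generic [Algebra.FiniteType k A]
    [Module.Projective A Ω[A⁄k]]
    (hgen : ∀ (p : Ideal A) [p.IsPrime], p ∈ minimalPrimes A →
      Algebra.FormallySmooth k (Localization.AtPrime p)) :
    Algebra.Smooth k A := by
  obtain ⟨n, φ, hφ⟩ := Algebra.FiniteType.iff_quotient_mvPolynomial''.1
    (inferInstance : Algebra.FiniteType k A)
  letI : Algebra (MvPolynomial (Fin n) k) A := φ.toRingHom.toAlgebra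
  haveI : IsScalarTower k (MvPolynomial (Fin n) k) A :=
    IsScalarTower.of_algebraMap_eq' φ.comp_algebraMap.symm
  have hsurj : Function.Surjective (algebraMap (MvPolynomial (Fin n) k) A) := hφ
  haveI : Module.Finite (MvPolynomial (Fin n) k) (RingHom.ker (algebraMap (MvPolynomial (Fin n) k) A)) :=
    Module.Finite.of_fg (IsNoetherian.noetherian _)
  haveI : Module.Finite (MvPolynomial (Fin n) k)
      (RingHom.ker (algebraMap (MvPolynomial (Fin n) k) A)).Cotangent :=
    Module.Finite.of_surjective (Ideal.toCotangent _) (Ideal.toCotangent_surjective _)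
  have hfs : Algebra.FormallySmooth k A := by
    rw [Groth.Agent.Helper2.SmoothQuotLoc.iff_forall_maximal (A := k) hsurj]
    intro q hq
    apply local_main hsurj q
    · obtain ⟨σ, hσ⟩ := Module.projective_lifting_property
        (KaehlerDifferential.mapBaseChange k (MvPolynomial (Fin n) k) A) LinearMap.id
        (KaehlerDifferential.mapBaseChange_surjective k _ A hsurj)
      refine ⟨1, ?_, σ, ?_⟩
      · intro h1
        exact (Ideal.IsPrime.ne_top inferInstance) ((Ideal.eq_top_iff_one _).mpr h1)
      · rw [hσ, map_one, one_smul]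
    · obtain ⟨p, hp, hpq⟩ := Ideal.exists_minimalPrimes_le (bot_le : (⊥ : Ideal A) ≤ q)
      haveI := hp.1.1
      exact ⟨p, hp.1.1, hpq, hgen p hp⟩
  exact ⟨hfs, Algebra.FinitePresentation.of_finiteType.mp inferInstance⟩

theorem s4999 [Algebra.FiniteType k A] :
    Algebra.Smooth k A ↔
      Module.Projective A (KaehlerDifferential k A) ∧
        ∀ (p : Ideal A) [p.IsPrime], p ∈ minimalPrimes A →
          Algebra.IsGeometricallyReduced k (Localization.AtPrime p) := by
  constructor
  · intro h
    haveI := h.formallySmooth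
    refine ⟨inferInstance, fun p _ hp => ?_⟩
    apply geomReduced_of_smooth_minimal p hp
    haveI : Algebra.FormallySmooth A (Localization.AtPrime p) :=
      Algebra.FormallySmooth.of_isLocalization p.primeCompl
    exact Algebra.FormallySmooth.comp k A (Localization.AtPrime p)
  · rintro ⟨hproj, hgen⟩
    exact smooth_of_projective_of_generic fun p _ hp =>
      haveI := hgen p hp
      formallySmooth_of_geomReduced_minimal p hp

theorem s7623 [PerfectField k] [Algebra.FiniteType k A] [IsReduced A]
    [Module.Projective A Ω[A⁄k]] : Algebra.Smooth k A := by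
  apply smooth_of_projective_of_generic
  intro p _ hp
  haveI : IsReduced (Localization.AtPrime p) :=
    inferInstanceAs (IsReduced (Localization p.primeCompl))
  haveI : Ring.KrullDimLE 0 (Localization.AtPrime p) := .of_isLocalization _ hp _
  letI : Field (Localization.AtPrime p) := Ring.KrullDimLE.isField_of_isReduced.toField
  haveI : Algebra.IsGeometricallyReduced k (Localization.AtPrime p) :=
    Groth.Agent.Helper1.FieldSmooth.isGeometricallyReduced_of_perfectField
  exact Groth.Agent.Helper1.FieldSmooth.formallySmooth_iff_isGeometricallyReduced.2 inferInstance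

end

end Groth.Agent.Helper3.SmoothOmega
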