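import Mathlib
import Groth.Agent.Helper3.SmoothOmega

set_option linter.style.haveILetI false
set_option linter.unusedSectionVars false
set_option linter.unusedVariables false

namespace Groth.Agent.Helper3.SmoothDenseMin
open Groth.Agent.Helper3.SmoothOmega

universe u

theorem main (k A : Type u) [Field k] [CommRing A] [Algebra k A]
    [Algebra.FiniteType k A] :
    (∃ U : TopologicalSpace.Opens (PrimeSpectrum A), Dense (U : Set (PrimeSpectrum A)) ∧
        ∀ p ∈ U, Algebra.IsSmoothAt k p.asIdeal) ↔
      ∀ (p : Ideal A) [p.IsPrime], p ∈ minimalPrimes A →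
        Algebra.IsGeometricallyReduced k (Localization.AtPrime p) := by
  haveI : IsNoetherianRing A := Algebra.FiniteType.isNoetherianRing k A
  haveI : Algebra.FinitePresentation k A := Algebra.FinitePresentation.of_finiteType.mp inferInstance
  constructor
  · rintro ⟨U, hUd, hU⟩ p _ hp
    apply geomReduced_of_smooth_minimal p hp
    have hcomp : PrimeSpectrum.zeroLocus (p : Set A) ∈ irreducibleComponents (PrimeSpectrum A) := by
      rw [PrimeSpectrum.zeroLocus_ideal_mem_irreducibleComponents, Ideal.IsPrime.radical inferInstance]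
      exact hp
    obtain ⟨o, ho, hon, hoZ⟩ :=
      TopologicalSpace.NoetherianSpace.exists_isOpen_nonempty_subset_irreducibleComponent _ hcomp
    have hgen : IsGenericPoint (⟨p, inferInstance⟩ : PrimeSpectrum A)
        (PrimeSpectrum.zeroLocus (p : Set A)) := by
      rw [IsGenericPoint, PrimeSpectrum.closure_singleton]
    have hmem : (⟨p, inferInstance⟩ : PrimeSpectrum A) ∈ (U : Set (PrimeSpectrum A)) := by
      refine (hgen.mem_open_set_iff U.2).2 ?_
      obtain ⟨z, hzo, hzU⟩ := hUd.inter_open_nonempty o ho hon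
      exact ⟨z, hoZ hzo, hzU⟩
    exact hU _ hmem
  · intro h
    refine ⟨⟨Algebra.smoothLocus k A, Algebra.isOpen_smoothLocus⟩, ?_, fun p hp => hp⟩
    rw [dense_iff_inter_open]
    rintro V hV ⟨q, hq⟩
    obtain ⟨p, hp, hpq⟩ := Ideal.exists_minimalPrimes_le (bot_le : (⊥ : Ideal A) ≤ q.asIdeal)
    haveI := hp.1.1
    have hspec : (⟨p, hp.1.1⟩ : PrimeSpectrum A) ⤳ q := by
      rw [← PrimeSpectrum.le_iff_specializes]
      exact hpq
    refine ⟨⟨p, hp.1.1⟩, hspec.mem_open hV hq, ?_⟩
    haveI := h p hp
    exact formallySmooth_of_geomReduced_minimal p hp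

end Groth.Agent.Helper3.SmoothDenseMin
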