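import Mathlib
import Groth.Agent.Helper3.LocFlatCrit
set_option linter.style.haveILetI false
set_option linter.unusedSectionVars false
set_option linter.unusedVariables false

namespace Groth.Agent.Helper3.SmoothThick
open TensorProduct IsLocalRing Algebra

universe u

local notation "𝓀[" R "]" => ResidueField R

/-- Smoothness at `q` from flatness of `S_q` and smoothness of the fibre (local version of
Mathlib's `Algebra.IsSmoothAt.of_formallySmooth_fiber`). -/
theorem isSmoothAt_of_flat_of_fiber {R S : Type u} [CommRing R] [CommRing S] [Algebra R S]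
    [Algebra.FinitePresentation R S] (p : Ideal R) (q : Ideal S)
    [p.IsPrime] [q.IsPrime] [q.LiesOver p] [FormallySmooth p.ResidueField (p.Fiber S)]
    (hflat : Module.Flat R (Localization.AtPrime q)) :
    Algebra.IsSmoothAt R q := by
  let Rp := Localization.AtPrime p
  let Sp := Localization (algebraMapSubmonoid S p.primeCompl)
  let Sq := Localization.AtPrime q
  let := Localization.AtPrime.algebraOfLiesOver p q
  let f : Sp →ₐ[S] Sq := IsLocalization.liftAlgHom (M := algebraMapSubmonoid S p.primeCompl)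
        (f := Algebra.ofId _ _) (by
      rintro ⟨_, x, hx, rfl⟩
      simpa using! IsLocalization.map_units (M := q.primeCompl) Sq ⟨algebraMap _ _ x,
        by simp_all [q.over_def p]⟩)
  algebraize [f.toRingHom]
  have : IsScalarTower R Sp Sq := .to₁₃₄ _ S _ _
  have : IsScalarTower Rp Sp Sq := .of_algebraMap_eq' <| by
    apply IsLocalization.ringHom_ext p.primeCompl
    simp only [RingHom.comp_assoc, ← IsScalarTower.algebraMap_eq]
  have : IsLocalization (algebraMapSubmonoid Sp q.primeCompl) Sq :=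
    .isLocalization_of_submonoid_le _ _ (algebraMapSubmonoid S p.primeCompl) _
    (by rintro _ ⟨x, hx, rfl⟩; simp_all [q.over_def p])
  have : FinitePresentation Rp Sp := by
    have : Algebra.IsPushout R Rp S Sp :=
      .symm <| Algebra.isPushout_of_isLocalization p.primeCompl _ _ _
    exact .equiv (Algebra.IsPushout.equiv R Rp S Sp)
  have : FormallySmooth 𝓀[Rp] (𝓀[Rp] ⊗[Rp] Sq) := by
    let : Algebra S (𝓀[Rp] ⊗[R] S) := TensorProduct.rightAlgebra
    have : FormallySmooth 𝓀[Rp] ((𝓀[Rp] ⊗[R] S) ⊗[S] Sq) :=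
      .comp _ (𝓀[Rp] ⊗[R] S) _
    let e : 𝓀[Rp] ⊗[R] S ≃ₐ[S] S ⊗[R] 𝓀[Rp] :=
      { __ := Algebra.TensorProduct.comm _ _ _, commutes' _ := rfl }
    let e' : (𝓀[Rp] ⊗[R] S) ⊗[S] Sq ≃ₐ[R] 𝓀[Rp] ⊗[Rp] Sq :=
      ((Algebra.TensorProduct.comm _ _ _).restrictScalars R).trans <|
      ((Algebra.TensorProduct.congr (.refl (R := S)) e).restrictScalars R).trans <|
      ((Algebra.TensorProduct.cancelBaseChange _ _ S _ _).restrictScalars R).trans <|
      (Algebra.TensorProduct.comm _ _ _).trans (Algebra.TensorProduct.equivOfCompatibleSMul ..)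
    have : e'.toAlgHom.comp (IsScalarTower.toAlgHom R p.ResidueField _) =
        IsScalarTower.toAlgHom _ _ _ := by ext
    let e'' : (𝓀[Rp] ⊗[R] S) ⊗[S] Sq ≃ₐ[𝓀[Rp]] 𝓀[Rp] ⊗[Rp] Sq :=
      { __ := e', commutes' r := congr($this r) }
    exact .of_equiv e''
  have : Module.Flat Rp Sq :=
    (Module.flat_iff_of_isLocalization (R := R) Rp p.primeCompl Sq).mpr hflat
  have := FormallySmooth.of_formallySmooth_residueField_tensor
    (R := Rp) (S := Sq) (P := Sp) (algebraMapSubmonoid _ q.primeCompl)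
  exact .comp R Rp Sq

/-- the fibre over `p ⊇ J` of `S` is a base change of `(R/J) ⊗ S`. -/
theorem fiber_formallySmooth {R S : Type u} [CommRing R] [CommRing S] [Algebra R S]
    (J : Ideal R) (p : Ideal R) [p.IsPrime] (hJ : J ≤ p)
    [FormallySmooth (R ⧸ J) ((R ⧸ J) ⊗[R] S)] :
    FormallySmooth p.ResidueField (p.Fiber S) := by
  letI : Algebra (R ⧸ J) p.ResidueField :=
    (Ideal.Quotient.lift J (algebraMap R p.ResidueField) (fun a ha => by
      rw [Ideal.algebraMap_residueField_eq_zero]; exact hJ ha)).toAlgebra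
  haveI : IsScalarTower R (R ⧸ J) p.ResidueField := IsScalarTower.of_algebraMap_eq (fun a => rfl)
  have : FormallySmooth p.ResidueField (p.ResidueField ⊗[R ⧸ J] ((R ⧸ J) ⊗[R] S)) :=
    inferInstance
  exact .of_equiv
    (Algebra.TensorProduct.cancelBaseChange R (R ⧸ J) p.ResidueField p.ResidueField S)

theorem isSmoothAt_of_thickenings (A T : Type u) [CommRing A] [CommRing T] [Algebra A T]
    [IsNoetherianRing A] [Algebra.FinitePresentation A T] (I : Ideal A)
    (h : ∀ n : ℕ, Algebra.Smooth (A ⧸ I ^ (n + 1)) ((A ⧸ I ^ (n + 1)) ⊗[A] T))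
    (q : Ideal T) [q.IsPrime] (hq : I.map (algebraMap A T) ≤ q) : Algebra.IsSmoothAt A q := by
  haveI : IsNoetherianRing T := Algebra.FiniteType.isNoetherianRing A T
  have hflat : Module.Flat A (Localization.AtPrime q) := by
    refine LocFlatCrit.flat_localization A T I ?_ q hq
    intro k
    rcases k with _ | n
    · haveI : Subsingleton (A ⧸ I ^ 0) := by
        rw [pow_zero, Ideal.one_eq_top]
        exact Ideal.Quotient.subsingleton_iff.mpr rfl
      haveI : Subsingleton ((A ⧸ I ^ 0) ⊗[A] T) := Module.subsingleton (A ⧸ I ^ 0) _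
      infer_instance
    · haveI := h n
      infer_instance
  set p := q.under A with hp
  haveI : q.LiesOver p := ⟨rfl⟩
  have hIp : I ^ (0 + 1) ≤ p := by
    rw [zero_add, pow_one]
    intro a ha
    exact hq (Ideal.mem_map_of_mem _ ha)
  haveI := h 0
  haveI := fiber_formallySmooth (I ^ (0 + 1)) p hIp (S := T)
  exact isSmoothAt_of_flat_of_fiber p q hflat

attribute [local instance] Algebra.TensorProduct.rightAlgebra in
/-- unramified at `q ⊇ J T` as soon as `(A/J) ⊗ T` is formally unramified over `A/J`. -/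
theorem isUnramifiedAt_of_quotient {A T : Type u} [CommRing A] [CommRing T] [Algebra A T]
    [Module.Finite T Ω[T⁄A]] (J : Ideal A) (q : Ideal T) [q.IsPrime]
    (hJ : J.map (algebraMap A T) ≤ q)
    [FormallyUnramified (A ⧸ J) ((A ⧸ J) ⊗[A] T)] : Algebra.IsUnramifiedAt A q := by
  have h1 : Subsingleton ((A ⧸ J) ⊗[A] Ω[T⁄A]) :=
    (KaehlerDifferential.tensorKaehlerEquivBase A (A ⧸ J) T ((A ⧸ J) ⊗[A] T)).toEquiv.subsingleton
  have h2 : Subsingleton (Ω[T⁄A] ⧸ (J • (⊤ : Submodule A Ω[T⁄A]))) :=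
    (TensorProduct.quotTensorEquivQuotSMul Ω[T⁄A] J).symm.toEquiv.subsingleton
  have h3 : J • (⊤ : Submodule A Ω[T⁄A]) = ⊤ := Submodule.Quotient.subsingleton_iff.mp h2
  have h4 : (⊤ : Submodule T Ω[T⁄A]) ≤ (J.map (algebraMap A T)) • (⊤ : Submodule T Ω[T⁄A]) := by
    intro ω _
    have hω : ω ∈ J • (⊤ : Submodule A Ω[T⁄A]) := by rw [h3]; trivial
    refine Submodule.smul_induction_on hω ?_ ?_
    · intro a ha m _
      rw [← algebraMap_smul T a m]
      exact Submodule.smul_mem_smul (Ideal.mem_map_of_mem _ ha) trivial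
    · intro x y hx hy
      exact add_mem hx hy
  obtain ⟨r, hr1, hr2⟩ := Submodule.exists_sub_one_mem_and_smul_eq_zero_of_fg_of_le_smul
    (J.map (algebraMap A T)) ⊤ Module.Finite.fg_top h4
  have hrq : r ∉ q := by
    intro hr
    have : (1 : T) ∈ q := by
      have := q.sub_mem hr (hJ hr1)
      simpa using this
    exact (Ideal.IsPrime.ne_top ‹_›) ((Ideal.eq_top_iff_one q).mpr this)
  show (⟨q, ‹_›⟩ : PrimeSpectrum T) ∈ Algebra.unramifiedLocus A T
  rw [Algebra.unramifiedLocus_eq_compl_support, Set.mem_compl_iff, Module.notMem_support_iff']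
  intro m
  exact ⟨r, hrq, hr2 m trivial⟩

theorem isEtaleAt_of_thickenings (A T : Type u) [CommRing A] [CommRing T] [Algebra A T]
    [IsNoetherianRing A] [Algebra.FinitePresentation A T] (I : Ideal A)
    (h : ∀ n : ℕ, Algebra.Etale (A ⧸ I ^ (n + 1)) ((A ⧸ I ^ (n + 1)) ⊗[A] T))
    (q : Ideal T) [q.IsPrime] (hq : I.map (algebraMap A T) ≤ q) : Algebra.IsEtaleAt A q := by
  have hs : Algebra.IsSmoothAt A q :=
    isSmoothAt_of_thickenings A T I (fun n => by haveI := h n; infer_instance) q hq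
  have hu : Algebra.IsUnramifiedAt A q := by
    haveI := h 0
    haveI : FormallyUnramified (A ⧸ I ^ (0 + 1)) ((A ⧸ I ^ (0 + 1)) ⊗[A] T) :=
      (Algebra.FormallyEtale.iff_formallyUnramified_and_formallySmooth.mp inferInstance).1
    have hu' : FormallyUnramified (A ⧸ I ^ (0 + 1)) ((A ⧸ I ^ (0 + 1)) ⊗[A] T) :=
      (Algebra.FormallyEtale.iff_formallyUnramified_and_formallySmooth.mp inferInstance).1
    have hq' : (I ^ (0 + 1)).map (algebraMap A T) ≤ q := by
      rw [zero_add, pow_one]; exact hq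
    exact @isUnramifiedAt_of_quotient A T _ _ _ _ (I ^ (0 + 1)) q _ hq' hu'
  exact Algebra.FormallyEtale.iff_formallyUnramified_and_formallySmooth.mpr ⟨hu, hs⟩

end Groth.Agent.Helper3.SmoothThick
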