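import Mathlib
import Groth.Agent.Helper3.SmoothThick
import Groth.Agent.Helper3.LocFlatSch
set_option linter.style.haveILetI false
set_option linter.unusedSectionVars false
set_option linter.unusedVariables false

namespace Groth.Agent.Helper3.SmoothThickSch
open TensorProduct AlgebraicGeometry CategoryTheory CategoryTheory.Limits

universe u

/-- Affine-chart version of a property of `pullback.snd f J.subschemeι`. -/
theorem chart {P : MorphismProperty Scheme.{u}} [P.IsStableUnderBaseChange]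
    [P.IsStableUnderComposition]
    (hP : ∀ {X Y : Scheme.{u}} (j : X ⟶ Y) [IsOpenImmersion j], P j)
    {X S : Scheme.{u}} (f : X ⟶ S) (J : S.IdealSheafData)
    (h : P (pullback.snd f J.subschemeι)) {U : S.Opens} (hU : IsAffineOpen U)
    {V : X.Opens} (hV : IsAffineOpen V) (e : V ≤ f ⁻¹ᵁ U) :
    letI := (f.appLE U V e).hom.toAlgebra
    P (pullback.snd (Spec.map (CommRingCat.ofHom (algebraMap Γ(S, U) Γ(X, V))))
      (Spec.map (CommRingCat.ofHom (Ideal.Quotient.mk (J.ideal ⟨U, hU⟩))))) := by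
  letI := (f.appLE U V e).hom.toAlgebra
  set a := Spec.map (CommRingCat.ofHom (algebraMap Γ(S, U) Γ(X, V))) with ha
  set b := Spec.map (CommRingCat.ofHom (Ideal.Quotient.mk (J.ideal ⟨U, hU⟩))) with hb
  have ha' : a ≫ hU.fromSpec = hV.fromSpec ≫ f :=
    IsAffineOpen.SpecMap_appLE_fromSpec f hU hV e
  have hb' : b ≫ hU.fromSpec = J.subschemeCover.f ⟨U, hU⟩ ≫ J.subschemeι := by
    rw [Scheme.IdealSheafData.subschemeCover_map_subschemeι, Scheme.IdealSheafData.glueDataObjι_ι]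
  have sq : IsPullback (pullback.fst a b) (pullback.snd a b) (a ≫ hU.fromSpec)
      (b ≫ hU.fromSpec) :=
    IsPullback.of_isLimit (pullbackIsPullbackOfCompMono a b hU.fromSpec)
  rw [ha', hb'] at sq
  set c := J.subschemeCover.f ⟨U, hU⟩ with hc
  have h1 : P (pullback.snd f (c ≫ J.subschemeι)) := by
    rw [← pullbackLeftPullbackSndIso_inv_snd_snd f J.subschemeι c]
    exact (P.cancel_left_of_respectsIso _ _).mpr (P.pullback_snd _ _ h)
  have h3 : P (pullback.snd (hV.fromSpec ≫ f) (c ≫ J.subschemeι)) := by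
    rw [← pullbackRightPullbackFstIso_inv_snd_snd f (c ≫ J.subschemeι) hV.fromSpec]
    refine (P.cancel_left_of_respectsIso _ _).mpr ?_
    exact P.comp_mem _ _ (P.pullback_snd _ _ (hP hV.fromSpec)) h1
  rw [← sq.isoPullback_hom_snd]
  exact (P.cancel_left_of_respectsIso _ _).mpr h3

section ring
variable (A T : Type u) [CommRing A] [CommRing T] [Algebra A T] (J : Ideal A)

attribute [local instance] Algebra.TensorProduct.rightAlgebra

/-- the swap `T ⊗ (A/J) ≃ (A/J) ⊗ T` as an `A/J`-algebra isomorphism. -/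
noncomputable def swapEquiv : T ⊗[A] (A ⧸ J) ≃ₐ[A ⧸ J] (A ⧸ J) ⊗[A] T :=
  { __ := Algebra.TensorProduct.comm A T (A ⧸ J), commutes' := fun _ => rfl }

theorem smooth_tensor_of_snd
    (h : Smooth (pullback.snd (Spec.map (CommRingCat.ofHom (algebraMap A T)))
      (Spec.map (CommRingCat.ofHom (Ideal.Quotient.mk J))))) :
    Algebra.Smooth (A ⧸ J) ((A ⧸ J) ⊗[A] T) := by
  have h1 : Smooth ((pullbackSpecIso A T (A ⧸ J)).inv ≫ pullback.snd
      (Spec.map (CommRingCat.ofHom (algebraMap A T)))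
      (Spec.map (CommRingCat.ofHom (algebraMap A (A ⧸ J))))) :=
    MorphismProperty.comp_mem _ _ _ inferInstance h
  rw [pullbackSpecIso_inv_snd, HasRingHomProperty.Spec_iff (P := @Smooth)] at h1
  have h2 : Algebra.Smooth (A ⧸ J) (T ⊗[A] (A ⧸ J)) := h1
  exact Algebra.Smooth.of_equiv (swapEquiv A T J)

theorem etale_tensor_of_snd
    (h : Etale (pullback.snd (Spec.map (CommRingCat.ofHom (algebraMap A T)))
      (Spec.map (CommRingCat.ofHom (Ideal.Quotient.mk J))))) :
    Algebra.Etale (A ⧸ J) ((A ⧸ J) ⊗[A] T) := by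
  have h1 : Etale ((pullbackSpecIso A T (A ⧸ J)).inv ≫ pullback.snd
      (Spec.map (CommRingCat.ofHom (algebraMap A T)))
      (Spec.map (CommRingCat.ofHom (algebraMap A (A ⧸ J))))) :=
    MorphismProperty.comp_mem _ _ _ inferInstance h
  rw [pullbackSpecIso_inv_snd, HasRingHomProperty.Spec_iff (P := @Etale)] at h1
  have h2 : Algebra.Etale (A ⧸ J) (T ⊗[A] (A ⧸ J)) := h1
  exact Algebra.Etale.of_equiv (swapEquiv A T J)

end ring

/-- `I.ideal U ≤ p_{f x}` and hence `I Γ(X,V) ≤ q_x` when `f x ∈ Supp I`. -/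
theorem map_le_primeIdealOf {X S : Scheme.{u}} (f : X ⟶ S) (I : S.IdealSheafData)
    {U : S.Opens} (hU : IsAffineOpen U) {V : X.Opens} (hV : IsAffineOpen V) (e : V ≤ f ⁻¹ᵁ U)
    (x : X) (hxV : x ∈ V) (hx : f x ∈ I.support) :
    letI := (f.appLE U V e).hom.toAlgebra
    (I.ideal ⟨U, hU⟩).map (algebraMap Γ(S, U) Γ(X, V)) ≤ (hV.primeIdealOf ⟨x, hxV⟩).asIdeal := by
  letI := (f.appLE U V e).hom.toAlgebra
  have hfxU : f x ∈ U := e hxV
  have h1 : f x ∈ S.zeroLocus (U := U) (I.ideal ⟨U, hU⟩) :=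
    (Scheme.IdealSheafData.mem_support_iff_of_mem (U := ⟨U, hU⟩) hfxU).mp hx
  have h2 : hU.primeIdealOf ⟨f x, hfxU⟩ ∈
      hU.fromSpec ⁻¹' S.zeroLocus (U := U) (I.ideal ⟨U, hU⟩) := by
    show hU.fromSpec (hU.primeIdealOf ⟨f x, hfxU⟩) ∈
      S.zeroLocus (U := U) (I.ideal ⟨U, hU⟩)
    rw [hU.fromSpec_primeIdealOf ⟨f x, hfxU⟩]
    exact h1
  rw [hU.fromSpec_preimage_zeroLocus] at h2
  have hI : I.ideal ⟨U, hU⟩ ≤ (hU.primeIdealOf ⟨f x, hfxU⟩).asIdeal := h2
  rw [Ideal.map_le_iff_le_comap]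
  have := congr($(IsAffineOpen.comap_primeIdealOf_appLE U hU V hV e hxV).1)
  intro a ha
  have h3 := hI ha
  rw [← this] at h3
  exact h3

theorem smooth_main {X S : Scheme.{u}} (f : X ⟶ S) [IsLocallyNoetherian S]
    [LocallyOfFinitePresentation f] (I : S.IdealSheafData)
    (h : ∀ n : ℕ, Smooth (pullback.snd f (I ^ (n + 1)).subschemeι)) (x : X)
    (hx : f x ∈ I.support) : x ∈ f.smoothLocus := by
  obtain ⟨U, hU, hfxU, -⟩ := exists_isAffineOpen_mem_and_subset (x := f x) (U := ⊤) trivial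
  obtain ⟨V, hV, hxV, hVU⟩ := exists_isAffineOpen_mem_and_subset (x := x) (U := f ⁻¹ᵁ U) hfxU
  haveI : IsNoetherianRing Γ(S, U) := IsLocallyNoetherian.component_noetherian ⟨U, hU⟩
  rw [Scheme.Hom.mem_smoothLocus, formallySmooth_stalkMap_iff U hU V hV hVU hxV]
  have hfp := f.finitePresentation_appLE hU hV hVU
  letI := (f.appLE U V hVU).hom.toAlgebra
  haveI : Algebra.FinitePresentation Γ(S, U) Γ(X, V) := hfp
  show Algebra.IsSmoothAt Γ(S, U) (hV.primeIdealOf ⟨x, hxV⟩).asIdeal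
  refine SmoothThick.isSmoothAt_of_thickenings _ _ (I.ideal ⟨U, hU⟩) ?_ _
    (map_le_primeIdealOf f I hU hV hVU x hxV hx)
  intro n
  exact smooth_tensor_of_snd _ _ _
    (chart (P := @Smooth) (fun j _ => inferInstance) f (I ^ (n + 1)) (h n) hU hV hVU)

theorem etale_main {X S : Scheme.{u}} (f : X ⟶ S) [IsLocallyNoetherian S]
    [LocallyOfFinitePresentation f] (I : S.IdealSheafData)
    (h : ∀ n : ℕ, Etale (pullback.snd f (I ^ (n + 1)).subschemeι)) (x : X)
    (hx : f x ∈ I.support) : ∃ U : X.Opens, x ∈ U ∧ Etale (U.ι ≫ f) := by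
  obtain ⟨U, hU, hfxU, -⟩ := exists_isAffineOpen_mem_and_subset (x := f x) (U := ⊤) trivial
  obtain ⟨V, hV, hxV, hVU⟩ := exists_isAffineOpen_mem_and_subset (x := x) (U := f ⁻¹ᵁ U) hfxU
  haveI : IsNoetherianRing Γ(S, U) := IsLocallyNoetherian.component_noetherian ⟨U, hU⟩
  have hfp := f.finitePresentation_appLE hU hV hVU
  letI := (f.appLE U V hVU).hom.toAlgebra
  haveI : Algebra.FinitePresentation Γ(S, U) Γ(X, V) := hfp
  have hE : Algebra.IsEtaleAt Γ(S, U) (hV.primeIdealOf ⟨x, hxV⟩).asIdeal := by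
    refine SmoothThick.isEtaleAt_of_thickenings _ _ (I.ideal ⟨U, hU⟩) ?_ _
      (map_le_primeIdealOf f I hU hV hVU x hxV hx)
    intro n
    exact etale_tensor_of_snd _ _ _
      (chart (P := @Etale) (fun j _ => inferInstance) f (I ^ (n + 1)) (h n) hU hV hVU)
  obtain ⟨r, hrx, hr⟩ := Algebra.exists_etale_of_isEtaleAt (R := Γ(S, U))
    (hV.primeIdealOf ⟨x, hxV⟩).asIdeal
  have e' : X.basicOpen r ≤ f ⁻¹ᵁ U := (X.basicOpen_le r).trans hVU
  refine ⟨X.basicOpen r, ?_, ?_⟩
  · have h1 : hV.primeIdealOf ⟨x, hxV⟩ ∈ hV.fromSpec ⁻¹ᵁ X.basicOpen r := by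
      rw [hV.fromSpec_preimage_basicOpen]; exact hrx
    have h2 : hV.fromSpec (hV.primeIdealOf ⟨x, hxV⟩) ∈ X.basicOpen r := h1
    rwa [hV.fromSpec_primeIdealOf ⟨x, hxV⟩] at h2
  · have H : (f.appLE U (X.basicOpen r) e').hom.Etale := by
      have := hV.isLocalization_basicOpen r
      rw [← RingHom.etale_algebraMap] at hr
      convert!
        RingHom.Etale.propertyIsLocal.respectsIso.1 _
          (IsLocalization.algEquiv (.powers r) _ Γ(X, X.basicOpen r)).toRingEquiv hr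
      ext a
      dsimp
      simp only [IsScalarTower.algebraMap_apply Γ(S, U) Γ(X, V) (Localization _)]
      simp only [RingHom.algebraMap_toAlgebra]
      rw [AlgEquiv.commutes]
      show _ = (X.presheaf.map (homOfLE (X.basicOpen_le r)).op).hom ((f.appLE U V hVU).hom a)
      rw [← CommRingCat.comp_apply, Scheme.Hom.appLE_map]
    rw [← Scheme.Hom.resLE_comp_ι f e']
    haveI : Etale (f.resLE U (X.basicOpen r) e') := by
      have : IsAffine _ := hU
      have : IsAffine _ := hV.basicOpen r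
      rw [HasRingHomProperty.iff_of_isAffine (P := @Etale)]
      exact (RingHom.Etale.propertyIsLocal.respectsIso.arrow_mk_iso_iff
        (arrowResLEAppIso f U _ e')).mpr H
    infer_instance

end Groth.Agent.Helper3.SmoothThickSch
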