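import Mathlib
import Groth.Agent.Helper3.SerFin
import Groth.Agent.Helper3.EqOnPts

set_option autoImplicit false
set_option linter.style.haveILetI false
set_option linter.unusedSectionVars false
set_option linter.unusedVariables false
set_option linter.style.haveILetI false
set_option linter.unusedSectionVars false
set_option linter.unusedVariables false

universe u
open CategoryTheory CategoryTheory.Limits MonoidalCategory CartesianMonoidalCategory MonObj GrpObj
  AlgebraicGeometry

namespace Groth.Agent.Helper3.SolvPts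

open Groth.Agent.Helper3.SerFin

/-- a functorial finitary series of subgroups -/
structure Ser where
  σ : ∀ {Γ : Type u} [Group Γ], Subgroup Γ → ℕ → Subgroup Γ
  mono : ∀ {Γ : Type u} [Group Γ] {S S' : Subgroup Γ}, S ≤ S' → ∀ n, σ S n ≤ σ S' n
  map : ∀ {Γ Γ' : Type u} [Group Γ] [Group Γ'] (f : Γ →* Γ') (S : Subgroup Γ) (n : ℕ),
    (σ S n).map f = σ (S.map f) n
  fin : ∀ {Γ : Type u} [Group Γ] (S : Subgroup Γ) (n : ℕ) (x : Γ), x ∈ σ S n →
    ∃ F : Finset Γ, (↑F : Set Γ) ⊆ S ∧ x ∈ σ (Subgroup.closure (↑F : Set Γ)) n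

/-- the derived series -/
def serD : Ser.{u} where
  σ := fun S n => D S n
  mono := fun h n => D_mono h n
  map := fun f S n => D_map f S n
  fin := fun S n x hx => D_fin S n x hx

/-- the lower central series -/
def serL : Ser.{u} where
  σ := fun S n => S.lowerCentralSeries n
  mono := fun h n => L_mono h n
  map := fun f S n => L_map f S n
  fin := fun S n x hx => L_fin S n x hx

variable {k : Type u} [Field k] (G : Over (Spec (CommRingCat.of k))) [GrpObj G]

/-- precomposition as a group homomorphism -/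
noncomputable def pre {T T' : Over (Spec (CommRingCat.of k))} (a : T ⟶ T') : (T' ⟶ G) →* (T ⟶ G) where
  toFun x := a ≫ x
  map_one' := MonObj.comp_one a
  map_mul' := MonObj.comp_mul a

@[simp] lemma pre_apply {T T' : Over (Spec (CommRingCat.of k))} (a : T ⟶ T') (x : T' ⟶ G) :
    pre G a x = a ≫ x := rfl

/-- the class of test objects -/
structure Good (T' : Over (Spec (CommRingCat.of k))) : Prop where
  lft : LocallyOfFiniteType T'.hom
  red : GeometricallyReduced T'.hom

lemma good_unit : Good (𝟙_ (Over (Spec (CommRingCat.of k)))) where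
  lft := inferInstanceAs (LocallyOfFiniteType (𝟙 (Spec (CommRingCat.of k))))
  red := by
    haveI : Smooth (𝟙_ (Over (Spec (CommRingCat.of k)))).hom :=
      inferInstanceAs (Smooth (𝟙 (Spec (CommRingCat.of k))))
    exact Groth.Agent.Helper2.SmoothRegSch.geometricallyReduced_of_smooth k _ _

lemma good_tensor [Smooth G.hom] (T' : Over (Spec (CommRingCat.of k))) (h : Good T') :
    Good (G ⊗ T') := by
  haveI := h.lft
  haveI := h.red
  haveI : GeometricallyReduced G.hom :=
    Groth.Agent.Helper2.SmoothRegSch.geometricallyReduced_of_smooth k _ _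
  haveI : LocallyOfFiniteType G.hom := inferInstance
  constructor
  · rw [Over.tensorObj_hom]
    infer_instance
  · rw [Over.tensorObj_hom]
    exact Groth.Agent.Helper3.GeomRedProd.geometricallyReduced_prod k G.hom T'.hom

open Classical in
lemma exists_good [Smooth G.hom] (T : Over (Spec (CommRingCat.of k))) (F : Finset (T ⟶ G)) :
    ∃ (T' : Over (Spec (CommRingCat.of k))) (a : T ⟶ T'), Good T' ∧
      ∀ x ∈ F, x ∈ (pre G a).range := by
  induction F using Finset.induction_on with
  | empty => exact ⟨𝟙_ _, toUnit T, good_unit, by simp⟩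
  | insert g F _ ih =>
    obtain ⟨T', a, hT', ha⟩ := ih
    refine ⟨G ⊗ T', lift g a, good_tensor G T' hT', ?_⟩
    intro x hx
    rw [Finset.mem_insert] at hx
    rcases hx with rfl | hx
    · exact ⟨fst G T', by simp⟩
    · obtain ⟨x', rfl⟩ := ha x hx
      exact ⟨snd G T' ≫ x', by simp⟩

variable (Ω : Type u) [Field Ω] [Algebra k Ω]

/-- the `Ω`-point object -/
noncomputable abbrev PtΩ : Over (Spec (CommRingCat.of k)) :=
  Over.mk (Spec.map (CommRingCat.ofHom (algebraMap k Ω)))

theorem transfer (s : Ser.{u}) [Smooth G.hom] [IsSepClosed Ω] (n : ℕ)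
    (hΩ : s.σ (⊤ : Subgroup (PtΩ (k := k) Ω ⟶ G)) n = ⊥) (T : Over (Spec (CommRingCat.of k))) :
    s.σ (⊤ : Subgroup (T ⟶ G)) n = ⊥ := by
  haveI : IsSeparated G.hom := Groth.Agent.Helper2.HS6.isSeparated_grp G
  -- good objects
  have hgood : ∀ T' : Over (Spec (CommRingCat.of k)), Good T' →
      s.σ (⊤ : Subgroup (T' ⟶ G)) n = ⊥ := by
    intro T' hT'
    haveI := hT'.lft
    haveI := hT'.red
    rw [eq_bot_iff]
    intro x hx
    rw [Subgroup.mem_bot]
    apply Groth.Agent.Helper3.EqOnPts.eq_of_eq_on_points k Ω T' G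
    intro w
    have h1 : pre G w x ∈ (s.σ (⊤ : Subgroup (T' ⟶ G)) n).map (pre G w) :=
      Subgroup.mem_map_of_mem _ hx
    rw [s.map] at h1
    have h2 := s.mono (le_top : (⊤ : Subgroup (T' ⟶ G)).map (pre G w) ≤ ⊤) n h1
    rw [hΩ, Subgroup.mem_bot] at h2
    rw [MonObj.comp_one]
    exact h2
  rw [eq_bot_iff]
  intro x hx
  obtain ⟨F, -, hxF⟩ := s.fin _ n x hx
  obtain ⟨T', a, hT', ha⟩ := exists_good G T F
  have hle : Subgroup.closure (↑F : Set (T ⟶ G)) ≤ (⊤ : Subgroup (T' ⟶ G)).map (pre G a) := by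
    rw [Subgroup.closure_le]
    intro y hy
    obtain ⟨y', rfl⟩ := ha y hy
    exact Subgroup.mem_map_of_mem _ (Subgroup.mem_top _)
  have h3 := s.mono hle n hxF
  rw [← s.map, hgood T' hT', Subgroup.map_bot] at h3
  exact h3

theorem main [Smooth G.hom] [IsAlgClosed Ω] (n : ℕ) :
    ((∀ T : Over (Spec (CommRingCat.of k)), derivedSeries (T ⟶ G) n = ⊥) ↔
      derivedSeries (PtΩ (k := k) Ω ⟶ G) n = ⊥) ∧
    ((∀ T : Over (Spec (CommRingCat.of k)),
        Subgroup.lowerCentralSeries (⊤ : Subgroup (T ⟶ G)) n = ⊥) ↔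
      Subgroup.lowerCentralSeries (⊤ : Subgroup (PtΩ (k := k) Ω ⟶ G)) n = ⊥) := by
  haveI : IsSepClosed Ω := inferInstance
  constructor
  · refine ⟨fun h => h _, fun h T => ?_⟩
    have := transfer G Ω serD n (by change D _ n = ⊥; rw [D_top]; exact h) T
    change D _ n = ⊥ at this
    rwa [D_top] at this
  · refine ⟨fun h => h _, fun h T => ?_⟩
    exact transfer G Ω serL n h T

end Groth.Agent.Helper3.SolvPts
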