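import Mathlib
import Groth.Prelude
import Groth.Agent.Helper3.SpFunC
import Groth.Agent.Helper3.PullDivH
import Groth.Agent.Helper3.ZeroSecA

set_option autoImplicit false
set_option linter.style.haveILetI false
set_option linter.unusedSectionVars false
set_option linter.unusedVariables false
set_option linter.deprecated false
set_option linter.style.haveILetI false
set_option linter.unusedSectionVars false
set_option linter.unusedVariables false

universe u

open CategoryTheory CategoryTheory.Limits AlgebraicGeometry TopologicalSpace Opposite IsLocalRing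
open scoped Pointwise

namespace Groth.Agent.Helper3.SpPush

open Groth.Agent.Helper3.DvrBase Groth.Agent.Helper3.ModLoc Groth.Agent.Helper5.StalkDict
  Groth.Agent.Helper3.SpFun

section base

variable (R : Type u) [CommRing R] [IsDomain R] [IsDiscreteValuationRing R]

/-- a uniformizer -/
noncomputable def unif : R := Classical.choose (IsDiscreteValuationRing.exists_irreducible R)

theorem unif_irreducible : Irreducible (unif R) :=
  Classical.choose_spec (IsDiscreteValuationRing.exists_irreducible R)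

theorem maximalIdeal_eq_span_unif : maximalIdeal R = Ideal.span {unif R} :=
  (unif_irreducible R).maximalIdeal_eq

theorem unif_ne_zero : unif R ≠ 0 := (unif_irreducible R).ne_zero

/-- the germ of the uniformizer at a point of `Spec R` -/
noncomputable def tS (p : ↥(Spec (CommRingCat.of R))) :
    (Spec (CommRingCat.of R)).presheaf.stalk p :=
  (StructureSheaf.toStalk R p).hom (unif R)

theorem stalkSpecializes_tS {p q : ↥(Spec (CommRingCat.of R))} (h : p ⤳ q) :
    ((Spec (CommRingCat.of R)).presheaf.stalkSpecializes h).hom (tS R q) = tS R p := by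
  unfold tS
  have := StructureSheaf.toStalk_stalkSpecializes (R := R) h
  exact congrArg (fun φ => φ.hom (unif R)) this

/-- at the closed point the germ of the uniformizer generates the maximal ideal -/
theorem maximalIdeal_stalk_eq_span_tS (p : ↥(Spec (CommRingCat.of R)))
    (hp : p.asIdeal = maximalIdeal R) :
    maximalIdeal ((Spec (CommRingCat.of R)).presheaf.stalk p) = Ideal.span {tS R p} := by
  letI : Algebra R ((Spec (CommRingCat.of R)).presheaf.stalk p) :=
    StructureSheaf.stalkAlgebra R p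
  haveI : IsLocalization.AtPrime ((Spec (CommRingCat.of R)).presheaf.stalk p) p.asIdeal :=
    StructureSheaf.IsLocalization.to_stalk R p
  rw [← IsLocalization.AtPrime.map_eq_maximalIdeal p.asIdeal, hp, maximalIdeal_eq_span_unif,
    Ideal.map_span, Set.image_singleton]
  rfl

/-- at the generic point the germ of the uniformizer is a unit -/
theorem isUnit_tS (p : ↥(Spec (CommRingCat.of R))) (hp : p.asIdeal = ⊥) : IsUnit (tS R p) := by
  letI : Algebra R ((Spec (CommRingCat.of R)).presheaf.stalk p) :=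
    StructureSheaf.stalkAlgebra R p
  haveI : IsLocalization.AtPrime ((Spec (CommRingCat.of R)).presheaf.stalk p) p.asIdeal :=
    StructureSheaf.IsLocalization.to_stalk R p
  have hmem : unif R ∈ p.asIdeal.primeCompl := by
    show unif R ∉ p.asIdeal
    rw [hp]
    exact unif_ne_zero R
  exact IsLocalization.map_units ((Spec (CommRingCat.of R)).presheaf.stalk p)
    (⟨unif R, hmem⟩ : p.asIdeal.primeCompl)

end base

section total

variable {R : Type u} [CommRing R] [IsDomain R] [IsDiscreteValuationRing R] {X : Scheme.{u}}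
  (a : X ⟶ Spec (CommRingCat.of R))

/-- the germ at `x` of the pullback of the uniformizer -/
noncomputable def bX (x : X) : X.presheaf.stalk x := (a.stalkMap x).hom (tS R (a x))

/-- the value at `ξ` of the pullback of the uniformizer -/
noncomputable def gX (ξ : X) : X.residueField ξ := (X.residue ξ).hom (bX a ξ)

theorem stalkSpecializes_bX {ξ x : X} (h : ξ ⤳ x) :
    (X.presheaf.stalkSpecializes h).hom (bX a x) = bX a ξ := by
  unfold bX
  rw [← Scheme.Hom.stalkSpecializes_stalkMap_apply a ξ x h, stalkSpecializes_tS]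

theorem specMap_bX {ξ x : X} (h : ξ ⤳ x) : Cyc.specMap x ξ h (bX a x) = gX a ξ := by
  unfold Cyc.specMap gX
  rw [← stalkSpecializes_bX a h]
  rfl

theorem gX_eq_of_eq {ξ ξ' : X} (e : ξ = ξ') (δ : X → ℤ) :
    Cyc.divFun δ ξ (gX a ξ) = Cyc.divFun δ ξ' (gX a ξ') := by
  subst e; rfl

theorem map_maximalIdeal_eq_span_bX (x : X) (hx : (a x).asIdeal = maximalIdeal R) :
    (maximalIdeal ((Spec (CommRingCat.of R)).presheaf.stalk (a x))).map (a.stalkMap x).hom =
      Ideal.span {bX a x} := by
  rw [maximalIdeal_stalk_eq_span_tS R (a x) hx, Ideal.map_span, Set.image_singleton]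
  rfl

theorem isUnit_bX (x : X) (hx : (a x).asIdeal = ⊥) : IsUnit (bX a x) :=
  (isUnit_tS R (a x) hx).map (a.stalkMap x).hom

theorem gX_ne_zero (x : X) (hx : (a x).asIdeal = ⊥) : gX a x ≠ 0 := by
  have := (isUnit_bX a x hx).map (X.residue x).hom
  exact this.ne_zero

/-- compatibility with a morphism over `Spec R` -/
theorem residueFieldMap_gX {Y : Scheme.{u}} (f : X ⟶ Y) (b : Y ⟶ Spec (CommRingCat.of R)) (ξ : X) :
    (f.residueFieldMap ξ).hom (gX b (f ξ)) = gX (f ≫ b) ξ := by
  unfold gX bX
  have h1 := Scheme.residue_residueFieldMap f ξ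
  have h2 := congrArg (fun φ => φ.hom ((b.stalkMap (f ξ)).hom (tS R (b (f ξ))))) h1
  simp only [CommRingCat.hom_comp, RingHom.comp_apply] at h2
  rw [h2, Scheme.Hom.stalkMap_comp]
  rfl

end total

section lemmaA

variable {R : Type u} [CommRing R] [IsDomain R] [IsDiscreteValuationRing R] {X : Scheme.{u}}
  (a : X ⟶ Spec (CommRingCat.of R)) [LocallyOfFiniteType a]
  (δη : ↥(a.fiber (genericPoint ↥(Spec (CommRingCat.of R)))) → ℤ)
  (δs : ↥(a.fiber (IsLocalRing.closedPoint R)) → ℤ)
  (hδη : Cyc.DeltaCompat (a.fiberToSpecResidueField (genericPoint ↥(Spec (CommRingCat.of R))))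
    δη (fun _ => 0))
  (hδs : Cyc.DeltaCompat (a.fiberToSpecResidueField (IsLocalRing.closedPoint R)) δs (fun _ => 0))
  (r : ℤ)

/-- the kernel of the specialization map: the order of the uniformizer along the closure of `ζ`
at the point `x₀` of the closed fibre -/
noncomputable def DX (ζ : ↥(a.fiber (genericPoint ↥(Spec (CommRingCat.of R)))))
    (x₀ : ↥(a.fiber (IsLocalRing.closedPoint R))) : ℤ :=
  Cyc.divFun (δT a) (a.fiberι _ ζ) (gX a (a.fiberι _ ζ)) (a.fiberι _ x₀)

theorem asIdeal_generic (ζ : ↥(a.fiber (genericPoint ↥(Spec (CommRingCat.of R))))) :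
    (a (a.fiberι _ ζ)).asIdeal = ⊥ := by
  rw [Groth.Agent.Helper5.FibStalk.fiberι_apply a _ ζ]
  exact genericPoint_asIdeal R

theorem asIdeal_closed (x₀ : ↥(a.fiber (IsLocalRing.closedPoint R))) :
    (a (a.fiberι _ x₀)).asIdeal = maximalIdeal R := by
  rw [Groth.Agent.Helper5.FibStalk.fiberι_apply a _ x₀]
  rfl

include hδη hδs in
/-- the specialization map as a sum of orders of the uniformizer -/
theorem spFun_eq_finsum (α : ↥(a.fiber (genericPoint ↥(Spec (CommRingCat.of R)))) → ℤ)
    (hα : ∀ ζ, δη ζ ≠ r → α ζ = 0) (x₀ : ↥(a.fiber (IsLocalRing.closedPoint R))) :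
    Cyc.spFun a (genericPoint ↥(Spec (CommRingCat.of R))) (IsLocalRing.closedPoint R) δη δs r α x₀ =
      ∑ᶠ ζ, α ζ * DX a ζ x₀ := by
  haveI : IsLocallyNoetherian X := (isSetup_δT a).1
  unfold Cyc.spFun
  simp only
  by_cases hx : δs x₀ = r
  · rw [if_pos hx]
    set F : ↥(a.fiber (genericPoint ↥(Spec (CommRingCat.of R)))) → ℤ :=
      fun ζ => α ζ * DX a ζ x₀ with hF
    have hrange : ∀ ζ, F ζ ≠ 0 → ζ ∈ Set.range (Subtype.val :
        {ζ : ↥(a.fiber (genericPoint ↥(Spec (CommRingCat.of R)))) //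
          δη ζ = r ∧ (a.fiberι _ ζ) ⤳ (a.fiberι _ x₀)} → _) := by
      intro ζ hne
      have h1 : α ζ ≠ 0 := left_ne_zero_of_mul hne
      have h2 : DX a ζ x₀ ≠ 0 := right_ne_zero_of_mul hne
      have h3 : δη ζ = r := by
        by_contra h
        exact h1 (hα ζ h)
      obtain ⟨hsp, -⟩ := Groth.Agent.Helper3.DivTrE.divFun_cond _ _ _ _ h2
      exact ⟨⟨ζ, h3, hsp⟩, rfl⟩
    rw [Groth.Agent.Helper3.Gysin.finsum_eq_finsum_comp Subtype.val Subtype.val_injective F hrange]
    apply finsum_congr
    rintro ⟨ζ, hζ1, hζ2⟩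
    show α ζ * _ = α ζ * DX a ζ x₀
    congr 1
    unfold DX Cyc.divFun
    have hcond : a.fiberι _ ζ ⤳ a.fiberι _ x₀ ∧
        δT a (a.fiberι _ x₀) + 1 = δT a (a.fiberι _ ζ) :=
      ⟨hζ2, by rw [δT_closed a δs hδs, δT_generic a δη hδη, hx, hζ1]; ring⟩
    rw [dif_pos hcond]
    rw [length_mult a (a.fiberι _ x₀) (a.fiberι _ ζ) hζ2 (bX a (a.fiberι _ x₀))
      (map_maximalIdeal_eq_span_bX a _ (asIdeal_closed a x₀))]
    unfold Cyc.ordAt
    rw [← specMap_bX a hζ2]
    have hdim' : ringKrullDim (Cyc.LocQuot (a.fiberι _ x₀) (a.fiberι _ ζ) hζ2) ≤ 1 := by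
      rw [Groth.Agent.Helper5.CycDim.ringKrullDim_locQuot (δT a) (isSetup_δT a).2.2 _ _ hζ2]
      have : (δT a (a.fiberι _ ζ) - δT a (a.fiberι _ x₀)).toNat = 1 := by
        have := hcond.2
        omega
      rw [this]
      rfl
    have hb0 : Cyc.specMap _ _ hζ2 (bX a (a.fiberι _ x₀)) ≠ 0 := by
      rw [specMap_bX]
      exact gX_ne_zero a _ (asIdeal_generic a ζ)
    have h10 : Cyc.specMap (a.fiberι _ x₀) (a.fiberι _ ζ) hζ2 1 ≠ 0 := by
      rw [map_one]
      exact one_ne_zero
    have hdiv := Groth.Agent.Helper3.PullDivH.ordAt_div' (a.fiberι _ x₀) (a.fiberι _ ζ) hζ2 hdim'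
      (bX a (a.fiberι _ x₀)) 1 hb0 h10
    rw [map_one, div_one, Groth.Agent.Helper3.ZeroSec.length_quot_sup_span_unit _ isUnit_one]
      at hdiv
    simp only [ENat.toNat_zero, Nat.cast_zero, sub_zero] at hdiv
    exact hdiv.symm
  · rw [if_neg hx]
    symm
    apply finsum_eq_zero_of_forall_eq_zero
    intro ζ
    by_cases hζ : δη ζ = r
    · have : DX a ζ x₀ = 0 := by
        unfold DX Cyc.divFun
        rw [dif_neg]
        rintro ⟨-, h⟩
        rw [δT_closed a δs hδs, δT_generic a δη hδη, hζ] at h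
        exact hx (by omega)
      rw [this, mul_zero]
    · rw [hα ζ hζ, zero_mul]

end lemmaA

end Groth.Agent.Helper3.SpPush
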