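import Mathlib
import Groth.Prelude
import Groth.Agent.Helper3.SpPushA
import Groth.Agent.Helper3.PushRatG
import Groth.Agent.Helper3.PBCa

set_option autoImplicit false
set_option linter.style.haveILetI false
set_option linter.unusedSectionVars false
set_option linter.unusedVariables false
set_option linter.deprecated false
set_option linter.style.haveILetI false
set_option linter.unusedSectionVars false
set_option linter.unusedVariables false

universe u

open CategoryTheory CategoryTheory.Limits AlgebraicGeometry TopologicalSpace Opposite IsLocalRing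
open scoped Pointwise

namespace Groth.Agent.Helper3.SpPush

open Groth.Agent.Helper3.DvrBase Groth.Agent.Helper3.ModLoc Groth.Agent.Helper5.StalkDict
  Groth.Agent.Helper3.SpFun

section cancel

/-- cancellation for induced dimension functions -/
theorem deltaCompat_cancel {X Y S : Scheme.{u}} (f : X ⟶ Y) (b : Y ⟶ S) (δX : X → ℤ) (δY : Y → ℤ)
    (δS : S → ℤ) (h1 : Cyc.DeltaCompat (f ≫ b) δX δS) (h2 : Cyc.DeltaCompat b δY δS) :
    Cyc.DeltaCompat f δX δY := by
  intro x
  obtain ⟨n, hn, hd⟩ := h1 x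
  obtain ⟨m, hm, hd'⟩ := h2 (f x)
  letI a1 : Algebra (S.residueField (b (f x))) (Y.residueField (f x)) :=
    (b.residueFieldMap (f x)).hom.toAlgebra
  letI a2 : Algebra (Y.residueField (f x)) (X.residueField x) :=
    (f.residueFieldMap x).hom.toAlgebra
  letI a3 : Algebra (S.residueField (b (f x))) (X.residueField x) :=
    ((f ≫ b).residueFieldMap x).hom.toAlgebra
  haveI : IsScalarTower (S.residueField (b (f x))) (Y.residueField (f x)) (X.residueField x) :=
    IsScalarTower.of_algebraMap_eq' (by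
      rw [RingHom.algebraMap_toAlgebra, RingHom.algebraMap_toAlgebra]
      show ((f ≫ b).residueFieldMap x).hom = _
      rw [Scheme.residueFieldMap_comp]
      rfl)
  haveI : FaithfulSMul (S.residueField (b (f x))) (Y.residueField (f x)) :=
    (faithfulSMul_iff_algebraMap_injective _ _).mpr (RingHom.injective _)
  haveI : FaithfulSMul (Y.residueField (f x)) (X.residueField x) :=
    (faithfulSMul_iff_algebraMap_injective _ _).mpr (RingHom.injective _)
  have hadd := trdeg_add_eq (S.residueField (b (f x))) (Y.residueField (f x))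
    (A := X.residueField x)
  have hn' : Algebra.trdeg (S.residueField (b (f x))) (X.residueField x) = n := hn
  have hm' : Algebra.trdeg (S.residueField (b (f x))) (Y.residueField (f x)) = m := hm
  rw [hn', hm'] at hadd
  have hlt : Algebra.trdeg (Y.residueField (f x)) (X.residueField x) < Cardinal.aleph0 := by
    refine lt_of_le_of_lt ?_ (Cardinal.natCast_lt_aleph0 (n := n))
    rw [← hadd]
    exact le_add_self
  obtain ⟨k, hk⟩ := Cardinal.lt_aleph0.mp hlt
  refine ⟨k, hk, ?_⟩
  rw [hk] at hadd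
  have hmk : m + k = n := by exact_mod_cast hadd
  simp only at hd hd'
  have hd'' : δY (f x) = δS (b (f x)) + m := hd'
  have hd3 : δX x = δS (b (f x)) + n := hd
  rw [hd3, hd'', ← hmk]
  push_cast
  ring

end cancel

section fibres

variable {R : Type u} [CommRing R] [IsDomain R] [IsDiscreteValuationRing R] {X Y : Scheme.{u}}
  (b : Y ⟶ Spec (CommRingCat.of R)) (f : X ⟶ Y)

/-- the map of fibres induced by `f` -/
noncomputable abbrev fibMap (y : ↥(Spec (CommRingCat.of R))) :
    (f ≫ b).fiber y ⟶ b.fiber y :=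
  pullback.map (f ≫ b) ((Spec (CommRingCat.of R)).fromSpecResidueField y) b
    ((Spec (CommRingCat.of R)).fromSpecResidueField y) f (𝟙 _) (𝟙 _) (Category.comp_id _)
    ((Category.comp_id _).trans (Category.id_comp _).symm)

theorem fibMap_fiberι (y : ↥(Spec (CommRingCat.of R))) :
    fibMap b f y ≫ b.fiberι y = (f ≫ b).fiberι y ≫ f :=
  pullback.lift_fst _ _ _

theorem fibMap_fiberι_apply (y : ↥(Spec (CommRingCat.of R))) (z : ↥((f ≫ b).fiber y)) :
    b.fiberι y (fibMap b f y z) = f ((f ≫ b).fiberι y z) :=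
  congrArg (fun φ : (f ≫ b).fiber y ⟶ Y => φ z) (fibMap_fiberι b f y)

theorem residueDegree_congr {X Y : Scheme.{u}} {g h : X ⟶ Y} (e : g = h) (x : X) :
    g.residueDegree x = h.residueDegree x := by
  subst e; rfl

theorem residueDegree_fibMap (y : ↥(Spec (CommRingCat.of R))) (z : ↥((f ≫ b).fiber y)) :
    (fibMap b f y).residueDegree z = f.residueDegree ((f ≫ b).fiberι y z) := by
  have h1 := residueDegree_congr (fibMap_fiberι b f y) z
  rw [CycPush.residueDegree_comp, CycPush.residueDegree_comp, PBC.residueDegree_fiberι,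
    PBC.residueDegree_fiberι, mul_one, one_mul] at h1
  exact h1

end fibres

section pow

variable {X : Scheme.{u}}

theorem divFun_one (δ : X → ℤ) (ξ : X) (x : X) : Cyc.divFun δ ξ (1 : X.residueField ξ) x = 0 := by
  have := Groth.Agent.Helper3.SecOrd.divFun_mul δ ξ 1 1 one_ne_zero one_ne_zero x
  rw [one_mul] at this
  linarith

theorem divFun_pow (δ : X → ℤ) (ξ : X) (g : X.residueField ξ) (hg : g ≠ 0) (d : ℕ) (x : X) :
    Cyc.divFun δ ξ (g ^ d) x = (d : ℤ) * Cyc.divFun δ ξ g x := by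
  induction d with
  | zero => rw [pow_zero, divFun_one]; simp
  | succ d ih =>
    rw [pow_succ, Groth.Agent.Helper3.SecOrd.divFun_mul δ ξ _ _ (pow_ne_zero _ hg) hg, ih]
    push_cast
    ring

end pow

section lemmaB

variable {R : Type u} [CommRing R] [IsDomain R] [IsDiscreteValuationRing R] {X Y : Scheme.{u}}
  (b : Y ⟶ Spec (CommRingCat.of R)) [LocallyOfFiniteType b] (f : X ⟶ Y) [IsProper f]
  (δXη : ↥((f ≫ b).fiber (genericPoint ↥(Spec (CommRingCat.of R)))) → ℤ)
  (δXs : ↥((f ≫ b).fiber (IsLocalRing.closedPoint R)) → ℤ)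
  (δYη : ↥(b.fiber (genericPoint ↥(Spec (CommRingCat.of R)))) → ℤ)
  (δYs : ↥(b.fiber (IsLocalRing.closedPoint R)) → ℤ)
  (hXη : Cyc.DeltaCompat ((f ≫ b).fiberToSpecResidueField
    (genericPoint ↥(Spec (CommRingCat.of R)))) δXη (fun _ => 0))
  (hXs : Cyc.DeltaCompat ((f ≫ b).fiberToSpecResidueField (IsLocalRing.closedPoint R)) δXs
    (fun _ => 0))
  (hYη : Cyc.DeltaCompat (b.fiberToSpecResidueField (genericPoint ↥(Spec (CommRingCat.of R))))
    δYη (fun _ => 0))
  (hYs : Cyc.DeltaCompat (b.fiberToSpecResidueField (IsLocalRing.closedPoint R)) δYs (fun _ => 0))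

theorem deltaCompat_total : Cyc.DeltaCompat f (δT (f ≫ b)) (δT b) :=
  deltaCompat_cancel f b _ _ _ (deltaCompat_δT (f ≫ b)) (deltaCompat_δT b)

include hXs hYs in
theorem mapCoeff_closed (x₀ : ↥((f ≫ b).fiber (IsLocalRing.closedPoint R))) :
    AlgebraicCycle.mapCoeff f (δT (f ≫ b)) (δT b) ((f ≫ b).fiberι _ x₀) =
      AlgebraicCycle.mapCoeff (fibMap b f (IsLocalRing.closedPoint R)) δXs δYs x₀ := by
  unfold AlgebraicCycle.mapCoeff
  have e1 : δT b (f.base ((f ≫ b).fiberι _ x₀)) =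
      δYs ((fibMap b f (IsLocalRing.closedPoint R)).base x₀) := by
    have := fibMap_fiberι_apply b f (IsLocalRing.closedPoint R) x₀
    rw [show f.base ((f ≫ b).fiberι _ x₀) = f ((f ≫ b).fiberι _ x₀) from rfl, ← this]
    exact δT_closed b δYs hYs _
  rw [e1, δT_closed (f ≫ b) δXs hXs, residueDegree_fibMap]

include hXη hYη in
theorem mapCoeff_generic (ζ : ↥((f ≫ b).fiber (genericPoint ↥(Spec (CommRingCat.of R))))) :
    AlgebraicCycle.mapCoeff f (δT (f ≫ b)) (δT b) ((f ≫ b).fiberι _ ζ) =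
      AlgebraicCycle.mapCoeff (fibMap b f (genericPoint ↥(Spec (CommRingCat.of R)))) δXη δYη ζ := by
  unfold AlgebraicCycle.mapCoeff
  have e1 : δT b (f.base ((f ≫ b).fiberι _ ζ)) =
      1 + δYη ((fibMap b f (genericPoint ↥(Spec (CommRingCat.of R)))).base ζ) := by
    have := fibMap_fiberι_apply b f (genericPoint ↥(Spec (CommRingCat.of R))) ζ
    rw [show f.base ((f ≫ b).fiberι _ ζ) = f ((f ≫ b).fiberι _ ζ) from rfl, ← this]
    exact δT_generic b δYη hYη _
  rw [e1, δT_generic (f ≫ b) δXη hXη, residueDegree_fibMap]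
  by_cases h : δXη ζ = δYη ((fibMap b f (genericPoint ↥(Spec (CommRingCat.of R)))).base ζ)
  · rw [if_pos h, if_pos (by rw [h])]
  · rw [if_neg h, if_neg (fun h' => h (by linarith))]

include hXη hXs hYη hYs in
/-- the pushforward of the specialization kernel -/
theorem push_DX (ζ : ↥((f ≫ b).fiber (genericPoint ↥(Spec (CommRingCat.of R)))))
    (y₀ : ↥(b.fiber (IsLocalRing.closedPoint R))) :
    ∑ᶠ x₀ ∈ (fibMap b f (IsLocalRing.closedPoint R) : _ → _) ⁻¹' {y₀}, DX (f ≫ b) ζ x₀ *
        ((AlgebraicCycle.mapCoeff (fibMap b f (IsLocalRing.closedPoint R)) δXs δYs x₀ : ℕ) : ℤ) =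
      ((AlgebraicCycle.mapCoeff (fibMap b f (genericPoint ↥(Spec (CommRingCat.of R)))) δXη δYη ζ :
        ℕ) : ℤ) * DX b (fibMap b f (genericPoint ↥(Spec (CommRingCat.of R))) ζ) y₀ := by
  have hg : gX (f ≫ b) ((f ≫ b).fiberι _ ζ) ≠ 0 := gX_ne_zero _ _ (asIdeal_generic (f ≫ b) ζ)
  have key := PushRat.push_div_point (δT (f ≫ b)) (δT b) (isSetup_δT (f ≫ b)) (isSetup_δT b) f
    (deltaCompat_total b f) ((f ≫ b).fiberι _ ζ) (gX (f ≫ b) ((f ≫ b).fiberι _ ζ)) hg
    (b.fiberι _ y₀)
  have hL : ∑ᶠ x₀ ∈ (fibMap b f (IsLocalRing.closedPoint R) : _ → _) ⁻¹' {y₀}, DX (f ≫ b) ζ x₀ *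
        ((AlgebraicCycle.mapCoeff (fibMap b f (IsLocalRing.closedPoint R)) δXs δYs x₀ : ℕ) : ℤ) =
      ∑ᶠ x ∈ (f : X → Y) ⁻¹' {b.fiberι _ y₀},
        Cyc.divFun (δT (f ≫ b)) ((f ≫ b).fiberι _ ζ) (gX (f ≫ b) ((f ≫ b).fiberι _ ζ)) x *
        ((AlgebraicCycle.mapCoeff f (δT (f ≫ b)) (δT b) x : ℕ) : ℤ) := by
    apply finsum_mem_eq_of_bijOn ((f ≫ b).fiberι (IsLocalRing.closedPoint R))
    · refine ⟨?_, ?_, ?_⟩
      · intro x₀ hx₀
        have hx₀' : fibMap b f (IsLocalRing.closedPoint R) x₀ = y₀ := hx₀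
        show f ((f ≫ b).fiberι _ x₀) = b.fiberι _ y₀
        rw [← fibMap_fiberι_apply, hx₀']
      · exact ((f ≫ b).fiberι (IsLocalRing.closedPoint R)).isEmbedding.injective.injOn
      · intro x hx
        have hx' : f x = b.fiberι _ y₀ := hx
        have hcl : (f ≫ b) x = IsLocalRing.closedPoint R := by
          show b (f x) = _
          rw [hx', Groth.Agent.Helper5.FibStalk.fiberι_apply]
        have hmem : x ∈ Set.range ((f ≫ b).fiberι (IsLocalRing.closedPoint R)) := by
          rw [Scheme.Hom.range_fiberι]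
          exact hcl
        obtain ⟨x₀, rfl⟩ := hmem
        refine ⟨x₀, ?_, rfl⟩
        apply (b.fiberι (IsLocalRing.closedPoint R)).isEmbedding.injective
        rw [fibMap_fiberι_apply]
        exact hx'
    · intro x₀ hx₀
      rw [mapCoeff_closed b f δXs δYs hXs hYs x₀]
      rfl
  rw [hL, key, ← mapCoeff_generic b f δXη δYη hXη hYη ζ]
  unfold AlgebraicCycle.mapCoeff
  by_cases hc : δT (f ≫ b) ((f ≫ b).fiberι _ ζ) = δT b (f.base ((f ≫ b).fiberι _ ζ))
  · rw [if_pos hc, if_pos hc]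
    have h1 : gX (f ≫ b) ((f ≫ b).fiberι _ ζ) =
        (f.residueFieldMap ((f ≫ b).fiberι _ ζ)) (gX b (f ((f ≫ b).fiberι _ ζ))) :=
      (residueFieldMap_gX f b _).symm
    rw [h1, PushRat.normGen_map]
    have hg' : gX b (f ((f ≫ b).fiberι _ ζ)) ≠ 0 := by
      apply gX_ne_zero
      exact asIdeal_generic (f ≫ b) ζ
    rw [divFun_pow _ _ _ hg']
    congr 1
    unfold DX
    have e := fibMap_fiberι_apply b f (genericPoint ↥(Spec (CommRingCat.of R))) ζ
    rw [gX_eq_of_eq b e.symm]
  · rw [if_neg hc, if_neg hc]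
    simp

end lemmaB

end Groth.Agent.Helper3.SpPush
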