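import Mathlib
import Groth.Prelude
import Groth.Agent.Helper3.SpPushB
import Groth.Agent.Helper3.PullDivL
import Groth.Agent.Lead.PushLen

set_option autoImplicit false
set_option linter.style.haveILetI false
set_option linter.unusedSectionVars false
set_option linter.unusedVariables false
set_option linter.deprecated false
set_option linter.style.haveILetI false
set_option linter.unusedSectionVars false
set_option linter.unusedVariables false

universe u

open CategoryTheory CategoryTheory.Limits AlgebraicGeometry TopologicalSpace Opposite IsLocalRing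
open scoped Pointwise

namespace Groth.Agent.Helper3.SpPull

open Groth.Agent.Helper3.DvrBase Groth.Agent.Helper3.ModLoc Groth.Agent.Helper5.StalkDict
  Groth.Agent.Helper3.SpFun Groth.Agent.Helper3.SpPush
open Groth.Agent.Helper3.CycPBE (Lfun)

section alg

/-- length of a quotient through a surjection whose kernel lies in the ideal -/
theorem length_quot_map_of_surjective {B B' : Type u} [CommRing B] [CommRing B'] (φ : B →+* B')
    (hφ : Function.Surjective φ) (J : Ideal B) (hJ : RingHom.ker φ ≤ J) :
    Module.length B' (B' ⧸ J.map φ) = Module.length B (B ⧸ J) := by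
  have hcomap : (J.map φ).comap φ = J := by
    rw [Ideal.comap_map_of_surjective φ hφ]
    apply le_antisymm
    · apply sup_le le_rfl
      intro x hx
      exact hJ (by rwa [Ideal.mem_comap, Submodule.mem_bot] at hx)
    · exact le_sup_left
  let ψ : B ⧸ J →+* B' ⧸ J.map φ := Ideal.quotientMap (J.map φ) φ Ideal.le_comap_map
  have hψinj : Function.Injective ψ := by
    apply Ideal.quotientMap_injective'
    rw [hcomap]
  have hψsurj : Function.Surjective ψ := Ideal.quotientMap_surjective hφ
  symm
  refine Groth.Agent.Lead.PushLen.length_eq_of_semilinear B B' φ hφ (B ⧸ J) (B' ⧸ J.map φ)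
    (RingEquiv.ofBijective ψ ⟨hψinj, hψsurj⟩).toAddEquiv ?_
  intro r n
  obtain ⟨n, rfl⟩ := Ideal.Quotient.mk_surjective n
  show ψ (r • Ideal.Quotient.mk J n) = φ r • ψ (Ideal.Quotient.mk J n)
  rw [show r • Ideal.Quotient.mk J n = Ideal.Quotient.mk J (r * n) from rfl]
  simp only [ψ, Ideal.quotientMap_mk, map_mul]
  rfl

end alg

section lfun

theorem Lfun_congr {W X : Scheme.{u}} {g h : W ⟶ X} (e : g = h) (w : W) : Lfun g w = Lfun h w := by
  subst e; rfl

/-- composing with a morphism surjective on stalks does not change the fibre length -/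
theorem Lfun_comp_right {W' W X : Scheme.{u}} (g : W' ⟶ W) (j : W ⟶ X) (z : W')
    (hj : Function.Surjective (j.stalkMap (g z)).hom) : Lfun (g ≫ j) z = Lfun g z := by
  unfold Lfun
  have h1 : Ideal.map ((g ≫ j).stalkMap z).hom (maximalIdeal (X.presheaf.stalk ((g ≫ j) z))) =
      Ideal.map (g.stalkMap z).hom (maximalIdeal (W.presheaf.stalk (g z))) := by
    have hc : ((g ≫ j).stalkMap z).hom = (g.stalkMap z).hom.comp (j.stalkMap (g z)).hom := by
      rw [Scheme.Hom.stalkMap_comp]
      rfl
    rw [hc]
    show Ideal.map ((g.stalkMap z).hom.comp (j.stalkMap (g z)).hom)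
      (maximalIdeal (X.presheaf.stalk (j (g z)))) = _
    rw [← Ideal.map_map,
      IsLocalRing.map_maximalIdeal_of_surjective (j.stalkMap (g z)).hom hj]
  rw [h1]

/-- precomposing with a morphism surjective on stalks whose kernel lies in the fibre ideal does
not change the fibre length -/
theorem Lfun_comp_left {W' X' X : Scheme.{u}} (j' : W' ⟶ X') (f : X' ⟶ X) (z : W')
    (hj : Function.Surjective (j'.stalkMap z).hom)
    (hker : RingHom.ker (j'.stalkMap z).hom ≤
      Ideal.map (f.stalkMap (j' z)).hom (maximalIdeal (X.presheaf.stalk (f (j' z))))) :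
    Lfun (j' ≫ f) z = Lfun f (j' z) := by
  unfold Lfun
  have h1 : Ideal.map ((j' ≫ f).stalkMap z).hom (maximalIdeal (X.presheaf.stalk ((j' ≫ f) z))) =
      (Ideal.map (f.stalkMap (j' z)).hom (maximalIdeal (X.presheaf.stalk (f (j' z))))).map
        (j'.stalkMap z).hom := by
    have hc : ((j' ≫ f).stalkMap z).hom = (j'.stalkMap z).hom.comp (f.stalkMap (j' z)).hom := by
      rw [Scheme.Hom.stalkMap_comp]
      rfl
    rw [hc]
    show Ideal.map ((j'.stalkMap z).hom.comp (f.stalkMap (j' z)).hom)
      (maximalIdeal (X.presheaf.stalk (f (j' z)))) = _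
    rw [← Ideal.map_map]
  rw [h1]
  exact length_quot_map_of_surjective (j'.stalkMap z).hom hj _ hker

end lfun

section fibres

variable {R : Type u} [CommRing R] [IsDomain R] [IsDiscreteValuationRing R] {X' X : Scheme.{u}}
  (b : X ⟶ Spec (CommRingCat.of R)) (f : X' ⟶ X)

/-- the fibre lengths of the map of fibres are those of `f` -/
theorem Lfun_fibMap (y : ↥(Spec (CommRingCat.of R))) (z : ↥((f ≫ b).fiber y)) :
    Lfun (fibMap b f y) z = Lfun f ((f ≫ b).fiberι y z) := by
  rw [← Lfun_comp_right (fibMap b f y) (b.fiberι y) z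
    (Groth.Agent.Helper5.FibStalk.s9501 b y _).1, Lfun_congr (fibMap_fiberι b f y) z]
  apply Lfun_comp_left _ f z (Groth.Agent.Helper5.FibStalk.s9501 (f ≫ b) y z).1
  rw [(Groth.Agent.Helper5.FibStalk.s9501 (f ≫ b) y z).2]
  have hc : ((f ≫ b).stalkMap ((f ≫ b).fiberι y z)).hom =
      (f.stalkMap ((f ≫ b).fiberι y z)).hom.comp (b.stalkMap (f ((f ≫ b).fiberι y z))).hom := by
    rw [Scheme.Hom.stalkMap_comp]
    rfl
  rw [hc]
  show Ideal.map ((f.stalkMap ((f ≫ b).fiberι y z)).hom.comp
    (b.stalkMap (f ((f ≫ b).fiberι y z))).hom)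
    (maximalIdeal ((Spec (CommRingCat.of R)).presheaf.stalk (b (f ((f ≫ b).fiberι y z))))) ≤ _
  rw [← Ideal.map_map]
  apply Ideal.map_mono
  rw [Ideal.map_le_iff_le_comap]
  intro a ha
  exact map_nonunit (b.stalkMap (f ((f ≫ b).fiberι y z))).hom a ha

theorem residueFieldCongr_gX {y y' : X} (h : y = y') :
    (X.residueFieldCongr h).hom (gX b y) = gX b y' := by
  subst h
  simp [Scheme.residueFieldCongr_refl]

end fibres

end Groth.Agent.Helper3.SpPull
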