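import Mathlib
import Groth.Prelude
import Groth.Agent.Helper3.SpPullA

set_option autoImplicit false
set_option linter.style.haveILetI false
set_option linter.unusedSectionVars false
set_option linter.unusedVariables false
set_option linter.deprecated false
set_option linter.style.haveILetI false
set_option linter.unusedSectionVars false
set_option linter.unusedVariables false

universe u

open CategoryTheory CategoryTheory.Limits AlgebraicGeometry TopologicalSpace Opposite IsLocalRing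
open scoped Pointwise

namespace Groth.Agent.Helper3.SpPull

open Groth.Agent.Helper3.DvrBase Groth.Agent.Helper3.ModLoc Groth.Agent.Helper5.StalkDict
  Groth.Agent.Helper3.SpFun Groth.Agent.Helper3.SpPush
open Groth.Agent.Helper3.CycPBE (Lfun)

section perpoint

variable {R : Type u} [CommRing R] [IsDomain R] [IsDiscreteValuationRing R] {X' X : Scheme.{u}}
  (b : X ⟶ Spec (CommRingCat.of R)) [LocallyOfFiniteType b] (f : X' ⟶ X) [Flat f]
  [LocallyOfFiniteType f] (e : ℕ) (he : Cyc.HasRelDim f e)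
  (δX'η : ↥((f ≫ b).fiber (genericPoint ↥(Spec (CommRingCat.of R)))) → ℤ)
  (δX's : ↥((f ≫ b).fiber (IsLocalRing.closedPoint R)) → ℤ)
  (δXη : ↥(b.fiber (genericPoint ↥(Spec (CommRingCat.of R)))) → ℤ)
  (δXs : ↥(b.fiber (IsLocalRing.closedPoint R)) → ℤ)
  (h1 : Cyc.DeltaCompat ((f ≫ b).fiberToSpecResidueField
    (genericPoint ↥(Spec (CommRingCat.of R)))) δX'η (fun _ => 0))
  (h2 : Cyc.DeltaCompat ((f ≫ b).fiberToSpecResidueField (IsLocalRing.closedPoint R)) δX's
    (fun _ => 0))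
  (h3 : Cyc.DeltaCompat (b.fiberToSpecResidueField (genericPoint ↥(Spec (CommRingCat.of R))))
    δXη (fun _ => 0))
  (h4 : Cyc.DeltaCompat (b.fiberToSpecResidueField (IsLocalRing.closedPoint R)) δXs (fun _ => 0))

include he in
theorem hyp_total : PullDivI.Hyp f (δT (f ≫ b)) (δT b) e :=
  PullDivL.hyp_of_hc f (isSetup_δT b) (isSetup_δT (f ≫ b)) (fun x' hmax =>
    PullDivC.delta_of_max f e he (δT (f ≫ b)) (δT b)
      (deltaCompat_cancel f b _ _ _ (deltaCompat_δT (f ≫ b)) (deltaCompat_δT b)) x' hmax)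

include he h1 h3 in
open Classical in
/-- the flat pullback of the divisor of the uniformizer on the closure of a point of the generic
fibre -/
theorem pull_DX (ζ : ↥(b.fiber (genericPoint ↥(Spec (CommRingCat.of R))))) (x' : X') :
    ∑ᶠ ζ' : ↥((f ≫ b).fiber (genericPoint ↥(Spec (CommRingCat.of R)))),
      (if fibMap b f (genericPoint ↥(Spec (CommRingCat.of R))) ζ' = ζ ∧ δX'η ζ' = δXη ζ + e then
        (((Lfun (fibMap b f (genericPoint ↥(Spec (CommRingCat.of R)))) ζ').toNat : ℕ) : ℤ) *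
          Cyc.divFun (δT (f ≫ b)) ((f ≫ b).fiberι _ ζ') (gX (f ≫ b) ((f ≫ b).fiberι _ ζ')) x'
        else 0) =
      Cyc.pullFun f (δT (f ≫ b)) (δT b) e
        (Cyc.divFun (δT b) (b.fiberι _ ζ) (gX b (b.fiberι _ ζ))) x' := by
  have H := hyp_total b f e he
  have hg : gX b (b.fiberι _ ζ) ≠ 0 := gX_ne_zero b _ (asIdeal_generic b ζ)
  rw [PullDivK.core f H (b.fiberι _ ζ) (gX b (b.fiberι _ ζ)) hg x']
  -- the left hand side as a sum over a subtype
  have hLHS : ∑ᶠ ζ' : ↥((f ≫ b).fiber (genericPoint ↥(Spec (CommRingCat.of R)))),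
      (if fibMap b f (genericPoint ↥(Spec (CommRingCat.of R))) ζ' = ζ ∧ δX'η ζ' = δXη ζ + e then
        (((Lfun (fibMap b f (genericPoint ↥(Spec (CommRingCat.of R)))) ζ').toNat : ℕ) : ℤ) *
          Cyc.divFun (δT (f ≫ b)) ((f ≫ b).fiberι _ ζ') (gX (f ≫ b) ((f ≫ b).fiberι _ ζ')) x'
        else 0) =
      ∑ᶠ a : {ζ' : ↥((f ≫ b).fiber (genericPoint ↥(Spec (CommRingCat.of R)))) //
          fibMap b f (genericPoint ↥(Spec (CommRingCat.of R))) ζ' = ζ ∧ δX'η ζ' = δXη ζ + e},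
        (((Lfun (fibMap b f (genericPoint ↥(Spec (CommRingCat.of R)))) a.1).toNat : ℕ) : ℤ) *
          Cyc.divFun (δT (f ≫ b)) ((f ≫ b).fiberι _ a.1) (gX (f ≫ b) ((f ≫ b).fiberι _ a.1))
            x' := by
    rw [Groth.Agent.Helper3.Gysin.finsum_eq_finsum_comp
      (Subtype.val : {ζ' : ↥((f ≫ b).fiber (genericPoint ↥(Spec (CommRingCat.of R)))) //
          fibMap b f (genericPoint ↥(Spec (CommRingCat.of R))) ζ' = ζ ∧ δX'η ζ' = δXη ζ + e} → _)
      Subtype.val_injective]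
    · apply finsum_congr
      intro a
      rw [if_pos a.2]
    · intro ζ' hne
      by_contra hc
      apply hne
      rw [if_neg]
      intro hcond
      exact hc ⟨⟨ζ', hcond⟩, rfl⟩
  rw [hLHS]
  have hfa : ∀ a : {ζ' : ↥((f ≫ b).fiber (genericPoint ↥(Spec (CommRingCat.of R)))) //
      fibMap b f (genericPoint ↥(Spec (CommRingCat.of R))) ζ' = ζ ∧ δX'η ζ' = δXη ζ + e},
      f ((f ≫ b).fiberι _ a.1) = b.fiberι _ ζ := by
    intro a
    rw [← fibMap_fiberι_apply, a.2.1]
  let i : {ζ' : ↥((f ≫ b).fiber (genericPoint ↥(Spec (CommRingCat.of R)))) //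
      fibMap b f (genericPoint ↥(Spec (CommRingCat.of R))) ζ' = ζ ∧ δX'η ζ' = δXη ζ + e} →
      {ξ : X' // f ξ = b.fiberι _ ζ ∧ ∀ w : X', f w = f ξ → w ⤳ ξ → w = ξ} := fun a =>
    ⟨(f ≫ b).fiberι _ a.1, hfa a, H.h3 _ (by
      rw [hfa a, δT_generic (f ≫ b) δX'η h1, δT_generic b δXη h3, a.2.2]
      ring)⟩
  have hi : Function.Injective i := by
    intro a a' h
    have h' : (f ≫ b).fiberι _ a.1 = (f ≫ b).fiberι _ a'.1 := congrArg Subtype.val h
    exact Subtype.ext (((f ≫ b).fiberι _).isEmbedding.injective h')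
  have hsurj : Function.Surjective i := by
    rintro ⟨ξ, hξ1, hξ2⟩
    have hgen : (f ≫ b) ξ = genericPoint ↥(Spec (CommRingCat.of R)) := by
      show b (f ξ) = _
      rw [hξ1, Groth.Agent.Helper5.FibStalk.fiberι_apply]
    have hmem : ξ ∈ Set.range ((f ≫ b).fiberι (genericPoint ↥(Spec (CommRingCat.of R)))) := by
      rw [Scheme.Hom.range_fiberι]
      exact hgen
    obtain ⟨ζ', rfl⟩ := hmem
    have hζ' : fibMap b f (genericPoint ↥(Spec (CommRingCat.of R))) ζ' = ζ := by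
      apply (b.fiberι _).isEmbedding.injective
      rw [fibMap_fiberι_apply]
      exact hξ1
    have hδ := H.h2 _ hξ2
    rw [hξ1, δT_generic (f ≫ b) δX'η h1, δT_generic b δXη h3] at hδ
    exact ⟨⟨ζ', hζ', by linarith⟩, rfl⟩
  rw [Groth.Agent.Helper3.Gysin.finsum_eq_finsum_comp i hi _ (fun ξ _ => hsurj ξ)]
  apply finsum_congr
  intro a
  show _ = PullDivK.G2 f (δT (f ≫ b)) (b.fiberι _ ζ) (gX b (b.fiberι _ ζ)) x'
    ((f ≫ b).fiberι _ a.1)
  unfold PullDivK.G2
  rw [dif_pos (hfa a)]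
  have hm : PullDivK.mult f ((f ≫ b).fiberι _ a.1) =
      (((Lfun (fibMap b f (genericPoint ↥(Spec (CommRingCat.of R)))) a.1).toNat : ℕ) : ℤ) := by
    rw [Lfun_fibMap]
    rfl
  have hgg : (f.residueFieldMap ((f ≫ b).fiberι _ a.1))
      ((X.residueFieldCongr (hfa a).symm).hom (gX b (b.fiberι _ ζ))) =
      gX (f ≫ b) ((f ≫ b).fiberι _ a.1) := by
    rw [residueFieldCongr_gX b (hfa a).symm]
    exact residueFieldMap_gX f b _
  rw [hm, hgg]

end perpoint

end Groth.Agent.Helper3.SpPull
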