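import Mathlib
import Groth.Prelude
import Groth.Agent.Helper3.SpPullB

set_option autoImplicit false
set_option linter.style.haveILetI false
set_option linter.unusedSectionVars false
set_option linter.unusedVariables false
set_option linter.deprecated false
set_option linter.style.haveILetI false
set_option linter.unusedSectionVars false
set_option linter.unusedVariables false

universe u

open CategoryTheory CategoryTheory.Limits AlgebraicGeometry TopologicalSpace Opposite IsLocalRing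
open scoped Pointwise

namespace Groth.Agent.Helper3.SpPull

open Groth.Agent.Helper3.DvrBase Groth.Agent.Helper3.ModLoc Groth.Agent.Helper5.StalkDict
  Groth.Agent.Helper3.SpFun Groth.Agent.Helper3.SpPush
open Groth.Agent.Helper3.CycPBE (Lfun)

section fin

variable {R : Type u} [CommRing R] [IsDomain R] [IsDiscreteValuationRing R] {X : Scheme.{u}}
  (a : X ⟶ Spec (CommRingCat.of R))

/-- the closures in the total space of the points of the support of a cycle on a fibre form a
locally finite family -/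
theorem locFin_fibre (y : ↥(Spec (CommRingCat.of R))) (α : AlgebraicCycle (a.fiber y) ℤ) (x : X) :
    ∃ U : Set X, IsOpen U ∧ x ∈ U ∧
      {i : {ζ : ↥(a.fiber y) // α ζ ≠ 0} | (closure {a.fiberι y i.1} ∩ U).Nonempty}.Finite := by
  obtain ⟨_, ⟨U, hU : IsAffineOpen U, rfl⟩, hxU, -⟩ :=
    X.isBasis_affineOpens.exists_subset_of_mem_open (Set.mem_univ x) isOpen_univ
  refine ⟨U, U.isOpen, hxU, ?_⟩
  haveI : QuasiCompact (a.fiberι y) := by
    unfold Scheme.Hom.fiberι
    haveI : IsAffineHom ((Spec (CommRingCat.of R)).fromSpecResidueField y) := inferInstance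
    haveI hq : QuasiCompact ((Spec (CommRingCat.of R)).fromSpecResidueField y) := inferInstance
    exact MorphismProperty.pullback_fst (P := @QuasiCompact) _ _ hq
  have hc : IsCompact ((a.fiberι y) ⁻¹' (U : Set X)) :=
    QuasiCompact.isCompact_preimage (f := a.fiberι y) _ U.2 hU.isCompact
  have hfin := α.locallyFiniteSupport.finite_inter_support_of_isCompact hc
  refine (hfin.preimage Subtype.val_injective.injOn).subset ?_
  rintro i ⟨z, hz1, hz2⟩
  have hsp : a.fiberι y i.1 ⤳ z := specializes_iff_mem_closure.mpr hz1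
  exact ⟨hsp.mem_open U.isOpen hz2, i.2⟩

end fin

section main

variable {R : Type u} [CommRing R] [IsDomain R] [IsDiscreteValuationRing R] {X' X : Scheme.{u}}
  (b : X ⟶ Spec (CommRingCat.of R)) [LocallyOfFiniteType b] (f : X' ⟶ X) [Flat f]
  [LocallyOfFiniteType f] (e : ℕ) (he : Cyc.HasRelDim f e)
  (δX'η : ↥((f ≫ b).fiber (genericPoint ↥(Spec (CommRingCat.of R)))) → ℤ)
  (δX's : ↥((f ≫ b).fiber (IsLocalRing.closedPoint R)) → ℤ)
  (δXη : ↥(b.fiber (genericPoint ↥(Spec (CommRingCat.of R)))) → ℤ)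
  (δXs : ↥(b.fiber (IsLocalRing.closedPoint R)) → ℤ)
  (h1 : Cyc.DeltaCompat ((f ≫ b).fiberToSpecResidueField
    (genericPoint ↥(Spec (CommRingCat.of R)))) δX'η (fun _ => 0))
  (h2 : Cyc.DeltaCompat ((f ≫ b).fiberToSpecResidueField (IsLocalRing.closedPoint R)) δX's
    (fun _ => 0))
  (h3 : Cyc.DeltaCompat (b.fiberToSpecResidueField (genericPoint ↥(Spec (CommRingCat.of R))))
    δXη (fun _ => 0))
  (h4 : Cyc.DeltaCompat (b.fiberToSpecResidueField (IsLocalRing.closedPoint R)) δXs (fun _ => 0))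
  (r : ℤ)

include he h1 h2 h3 h4 in
open Classical in
/-- specialization commutes with flat pullback -/
theorem spFun_pullFun (α : AlgebraicCycle (b.fiber (genericPoint ↥(Spec (CommRingCat.of R)))) ℤ)
    (hα : α ∈ Cyc.Zk (b.fiber (genericPoint ↥(Spec (CommRingCat.of R)))) δXη r) :
    Cyc.spFun (f ≫ b) (genericPoint ↥(Spec (CommRingCat.of R))) (IsLocalRing.closedPoint R)
      δX'η δX's (r + e)
      (Cyc.pullFun (fibMap b f (genericPoint ↥(Spec (CommRingCat.of R)))) δX'η δXη e ⇑α) =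
    Cyc.pullFun (fibMap b f (IsLocalRing.closedPoint R)) δX's δXs e
      (Cyc.spFun b (genericPoint ↥(Spec (CommRingCat.of R))) (IsLocalRing.closedPoint R)
        δXη δXs r ⇑α) := by
  funext x'₀
  have H := hyp_total b f e he
  have hαZ : ∀ ζ, δXη ζ ≠ r → α ζ = 0 := hα
  have hpZ : ∀ ζ', δX'η ζ' ≠ r + e →
      Cyc.pullFun (fibMap b f (genericPoint ↥(Spec (CommRingCat.of R)))) δX'η δXη e ⇑α ζ' = 0 := by
    intro ζ' hne
    rw [CycPBE.pullFun_eq]
    split_ifs with hc
    · have : δXη (fibMap b f (genericPoint ↥(Spec (CommRingCat.of R))) ζ') ≠ r :=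
        fun h => hne (by rw [hc, h])
      rw [hαZ _ this, zero_mul]
    · rfl
  rw [spFun_eq_finsum (f ≫ b) δX'η δX's h1 h2 (r + e) _ hpZ x'₀]
  rw [CycPBE.pullFun_eq (fibMap b f (IsLocalRing.closedPoint R)) δX's δXs e _ x'₀]
  rw [spFun_eq_finsum b δXη δXs h3 h4 r _ hαZ (fibMap b f (IsLocalRing.closedPoint R) x'₀)]
  set G : ↥((f ≫ b).fiber (genericPoint ↥(Spec (CommRingCat.of R)))) → ℤ := fun ζ' =>
    Cyc.pullFun (fibMap b f (genericPoint ↥(Spec (CommRingCat.of R)))) δX'η δXη e ⇑α ζ' *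
      DX (f ≫ b) ζ' x'₀ with hG
  -- finiteness of the support
  have hGfin : (Function.support G).Finite := by
    haveI : IsLocallyNoetherian X' := (isSetup_δT (f ≫ b)).1
    obtain ⟨U, hUo, hxU, hUfin⟩ := PullDivL.locFin f
      (fun i : {ζ : ↥(b.fiber (genericPoint ↥(Spec (CommRingCat.of R)))) // α ζ ≠ 0} =>
        b.fiberι _ i.1) (locFin_fibre b _ α) ((f ≫ b).fiberι _ x'₀)
    have hfin2 := (hUfin.image (fun j => (j.2.1 : X'))).preimage
      (((f ≫ b).fiberι (genericPoint ↥(Spec (CommRingCat.of R)))).isEmbedding.injective.injOn)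
    refine hfin2.subset ?_
    intro ζ' hζ'
    rw [Function.mem_support] at hζ'
    have hp : Cyc.pullFun (fibMap b f (genericPoint ↥(Spec (CommRingCat.of R)))) δX'η δXη e ⇑α ζ'
        ≠ 0 := left_ne_zero_of_mul hζ'
    have hD : DX (f ≫ b) ζ' x'₀ ≠ 0 := right_ne_zero_of_mul hζ'
    rw [CycPBE.pullFun_eq] at hp
    have hcond : δX'η ζ' = δXη (fibMap b f (genericPoint ↥(Spec (CommRingCat.of R))) ζ') + e := by
      by_contra hc
      rw [if_neg hc] at hp
      exact hp rfl
    rw [if_pos hcond] at hp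
    have hαne : α (fibMap b f (genericPoint ↥(Spec (CommRingCat.of R))) ζ') ≠ 0 :=
      left_ne_zero_of_mul hp
    obtain ⟨hsp, -⟩ := Groth.Agent.Helper3.DivTrE.divFun_cond _ _ _ _ hD
    have hfz : f ((f ≫ b).fiberι _ ζ') =
        b.fiberι _ (fibMap b f (genericPoint ↥(Spec (CommRingCat.of R))) ζ') :=
      (fibMap_fiberι_apply b f _ ζ').symm
    have hmax : ∀ w : X', f w = f ((f ≫ b).fiberι _ ζ') → w ⤳ (f ≫ b).fiberι _ ζ' →
        w = (f ≫ b).fiberι _ ζ' := H.h3 _ (by
      rw [hfz, δT_generic (f ≫ b) δX'η h1, δT_generic b δXη h3, hcond]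
      ring)
    exact ⟨⟨⟨fibMap b f (genericPoint ↥(Spec (CommRingCat.of R))) ζ', hαne⟩,
      ⟨(f ≫ b).fiberι _ ζ', hfz, hmax⟩⟩,
      ⟨(f ≫ b).fiberι _ x'₀, specializes_iff_mem_closure.1 hsp, hxU⟩, rfl⟩
  -- fibrewise regrouping
  let FF : ↥(b.fiber (genericPoint ↥(Spec (CommRingCat.of R)))) →
      ↥((f ≫ b).fiber (genericPoint ↥(Spec (CommRingCat.of R)))) → ℤ := fun ζ ζ' =>
    if fibMap b f (genericPoint ↥(Spec (CommRingCat.of R))) ζ' = ζ then G ζ' else 0
  have hFF : (Function.support (Function.uncurry FF)).Finite := by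
    refine (hGfin.image (fun ζ' => (fibMap b f (genericPoint ↥(Spec (CommRingCat.of R))) ζ',
      ζ'))).subset ?_
    rintro ⟨ζ, ζ'⟩ hne
    rw [Function.mem_support, Function.uncurry_apply_pair] at hne
    simp only [FF] at hne
    split_ifs at hne with hcond
    · subst hcond
      exact ⟨ζ', hne, rfl⟩
    · exact absurd rfl hne
  have e1 : ∑ᶠ ζ', G ζ' = ∑ᶠ ζ, ∑ᶠ ζ', FF ζ ζ' := by
    rw [PullGen.finsum_comm' FF hFF]
    refine finsum_congr fun ζ' => ?_
    rw [finsum_eq_single _ (fibMap b f (genericPoint ↥(Spec (CommRingCat.of R))) ζ')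
      (fun ζ hζ => if_neg (fun h => hζ h.symm))]
    simp only [FF, if_true]
  rw [e1]
  have e2 : ∀ ζ, ∑ᶠ ζ', FF ζ ζ' = α ζ * Cyc.pullFun f (δT (f ≫ b)) (δT b) e
      (Cyc.divFun (δT b) (b.fiberι _ ζ) (gX b (b.fiberι _ ζ))) ((f ≫ b).fiberι _ x'₀) := by
    intro ζ
    rw [← pull_DX b f e he δX'η δXη h1 h3 ζ ((f ≫ b).fiberι _ x'₀), mul_finsum]
    refine finsum_congr fun ζ' => ?_
    simp only [FF, hG]
    rw [CycPBE.pullFun_eq]
    by_cases hz : fibMap b f (genericPoint ↥(Spec (CommRingCat.of R))) ζ' = ζ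
    · by_cases hd : δX'η ζ' = δXη ζ + e
      · have hd' : δX'η ζ' =
            δXη (fibMap b f (genericPoint ↥(Spec (CommRingCat.of R))) ζ') + e := by
          rw [hz]; exact hd
        rw [if_pos hz, if_pos hd', if_pos (And.intro hz hd), hz]
        unfold DX
        ring
      · have hd' : ¬ δX'η ζ' =
            δXη (fibMap b f (genericPoint ↥(Spec (CommRingCat.of R))) ζ') + e := by
          rw [hz]; exact hd
        rw [if_pos hz, if_neg hd', if_neg (fun h => hd h.2)]
        simp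
    · rw [if_neg hz, if_neg (fun h => hz h.1), mul_zero]
  rw [finsum_congr e2]
  have e3 : ∀ ζ, Cyc.pullFun f (δT (f ≫ b)) (δT b) e
      (Cyc.divFun (δT b) (b.fiberι _ ζ) (gX b (b.fiberι _ ζ))) ((f ≫ b).fiberι _ x'₀) =
      if δX's x'₀ = δXs (fibMap b f (IsLocalRing.closedPoint R) x'₀) + e then
        DX b ζ (fibMap b f (IsLocalRing.closedPoint R) x'₀) *
          (((Lfun (fibMap b f (IsLocalRing.closedPoint R)) x'₀).toNat : ℕ) : ℤ)
      else 0 := by
    intro ζ
    rw [CycPBE.pullFun_eq, δT_closed (f ≫ b) δX's h2, ← fibMap_fiberι_apply,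
      δT_closed b δXs h4, ← Lfun_fibMap]
    rfl
  rw [finsum_congr (fun ζ => by rw [e3 ζ])]
  by_cases hc : δX's x'₀ = δXs (fibMap b f (IsLocalRing.closedPoint R) x'₀) + e
  · simp only [if_pos hc]
    rw [finsum_mul]
    refine finsum_congr fun ζ => by ring
  · simp only [if_neg hc, mul_zero]
    exact finsum_zero

end main

end Groth.Agent.Helper3.SpPull
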