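import Mathlib
import Groth.Prelude
import Groth.Agent.Helper3.SpPushB

set_option autoImplicit false
set_option linter.style.haveILetI false
set_option linter.unusedSectionVars false
set_option linter.unusedVariables false
set_option linter.deprecated false
set_option linter.style.haveILetI false
set_option linter.unusedSectionVars false
set_option linter.unusedVariables false

universe u

open CategoryTheory CategoryTheory.Limits AlgebraicGeometry TopologicalSpace Opposite IsLocalRing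
open scoped Pointwise

namespace Groth.Agent.Helper3.SpPush

open Groth.Agent.Helper3.DvrBase Groth.Agent.Helper3.ModLoc Groth.Agent.Helper5.StalkDict
  Groth.Agent.Helper3.SpFun

section fin

variable {R : Type u} [CommRing R] [IsDomain R] [IsDiscreteValuationRing R] {X Y : Scheme.{u}}
  (b : Y ⟶ Spec (CommRingCat.of R)) [LocallyOfFiniteType b] (f : X ⟶ Y) [IsProper f]

/-- finitely many points of the support of a cycle on a fibre have image specializing to a given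
point of the target -/
theorem finite_fibre_specializes (y : ↥(Spec (CommRingCat.of R)))
    (α : AlgebraicCycle ((f ≫ b).fiber y) ℤ) (z : Y) :
    {ζ : ↥((f ≫ b).fiber y) | α ζ ≠ 0 ∧ f ((f ≫ b).fiberι y ζ) ⤳ z}.Finite := by
  have hlf : ∀ x : X, ∃ U : Set X, IsOpen U ∧ x ∈ U ∧
      {i : {ζ : ↥((f ≫ b).fiber y) // α ζ ≠ 0} |
        (closure {(f ≫ b).fiberι y i.1} ∩ U).Nonempty}.Finite := by
    intro x
    obtain ⟨_, ⟨U, hU : IsAffineOpen U, rfl⟩, hxU, -⟩ :=
      X.isBasis_affineOpens.exists_subset_of_mem_open (Set.mem_univ x) isOpen_univ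
    refine ⟨U, U.isOpen, hxU, ?_⟩
    haveI : QuasiCompact ((f ≫ b).fiberι y) := by
      unfold Scheme.Hom.fiberι
      haveI : IsAffineHom ((Spec (CommRingCat.of R)).fromSpecResidueField y) := inferInstance
      haveI hq : QuasiCompact ((Spec (CommRingCat.of R)).fromSpecResidueField y) := inferInstance
      exact MorphismProperty.pullback_fst (P := @QuasiCompact) _ _ hq
    have hc : IsCompact (((f ≫ b).fiberι y) ⁻¹' (U : Set X)) :=
      QuasiCompact.isCompact_preimage (f := (f ≫ b).fiberι y) _ U.2 hU.isCompact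
    have hfin := α.locallyFiniteSupport.finite_inter_support_of_isCompact hc
    refine (hfin.preimage Subtype.val_injective.injOn).subset ?_
    rintro i ⟨z, hz1, hz2⟩
    have hsp : (f ≫ b).fiberι y i.1 ⤳ z := specializes_iff_mem_closure.mpr hz1
    exact ⟨hsp.mem_open U.isOpen hz2, i.2⟩
  have hKc : IsCompact ((f : X → Y) ⁻¹' {z}) := f.isCompact_preimage_singleton z
  have hI := PushRat.finite_index_of_isCompact
    (fun i : {ζ : ↥((f ≫ b).fiber y) // α ζ ≠ 0} => (f ≫ b).fiberι y i.1) hlf _ hKc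
  refine (hI.image Subtype.val).subset ?_
  rintro ζ ⟨hζ, hsp⟩
  have hcl : z ∈ closure ((f : X → Y) '' {(f ≫ b).fiberι y ζ}) := by
    rw [Set.image_singleton]
    exact specializes_iff_mem_closure.mp hsp
  rw [f.isClosedMap.closure_image_eq_of_continuous f.continuous] at hcl
  obtain ⟨x, hx1, hx2⟩ := hcl
  exact ⟨⟨ζ, hζ⟩, ⟨x, hx1, hx2⟩, rfl⟩

/-- the kernel of the specialization map has finite support on the fibres of `f` -/
theorem finite_fibre_DX (ζ : ↥((f ≫ b).fiber (genericPoint ↥(Spec (CommRingCat.of R)))))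
    (y₀ : ↥(b.fiber (IsLocalRing.closedPoint R))) :
    {x₀ : ↥((f ≫ b).fiber (IsLocalRing.closedPoint R)) |
      fibMap b f (IsLocalRing.closedPoint R) x₀ = y₀ ∧ DX (f ≫ b) ζ x₀ ≠ 0}.Finite := by
  haveI : IsLocallyNoetherian X := (isSetup_δT (f ≫ b)).1
  have hg : gX (f ≫ b) ((f ≫ b).fiberι _ ζ) ≠ 0 := gX_ne_zero _ _ (asIdeal_generic (f ≫ b) ζ)
  have hK : IsCompact ((f : X → Y) ⁻¹' {b.fiberι _ y₀}) := f.isCompact_preimage_singleton _
  have h := PushRat.finite_inter_support_divFun_of_isCompact (δT (f ≫ b)) (isSetup_δT (f ≫ b)).2.2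
    ((f ≫ b).fiberι _ ζ) (gX (f ≫ b) ((f ≫ b).fiberι _ ζ)) hg _ hK
  refine (h.preimage
    ((f ≫ b).fiberι (IsLocalRing.closedPoint R)).isEmbedding.injective.injOn).subset ?_
  rintro x₀ ⟨h1, h2⟩
  refine ⟨?_, h2⟩
  show f ((f ≫ b).fiberι _ x₀) = b.fiberι _ y₀
  rw [← fibMap_fiberι_apply, h1]

end fin

section main

variable {R : Type u} [CommRing R] [IsDomain R] [IsDiscreteValuationRing R] {X Y : Scheme.{u}}
  (b : Y ⟶ Spec (CommRingCat.of R)) [LocallyOfFiniteType b] (f : X ⟶ Y) [IsProper f]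
  (δXη : ↥((f ≫ b).fiber (genericPoint ↥(Spec (CommRingCat.of R)))) → ℤ)
  (δXs : ↥((f ≫ b).fiber (IsLocalRing.closedPoint R)) → ℤ)
  (δYη : ↥(b.fiber (genericPoint ↥(Spec (CommRingCat.of R)))) → ℤ)
  (δYs : ↥(b.fiber (IsLocalRing.closedPoint R)) → ℤ)
  (hXη : Cyc.DeltaCompat ((f ≫ b).fiberToSpecResidueField
    (genericPoint ↥(Spec (CommRingCat.of R)))) δXη (fun _ => 0))
  (hXs : Cyc.DeltaCompat ((f ≫ b).fiberToSpecResidueField (IsLocalRing.closedPoint R)) δXs
    (fun _ => 0))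
  (hYη : Cyc.DeltaCompat (b.fiberToSpecResidueField (genericPoint ↥(Spec (CommRingCat.of R))))
    δYη (fun _ => 0))
  (hYs : Cyc.DeltaCompat (b.fiberToSpecResidueField (IsLocalRing.closedPoint R)) δYs (fun _ => 0))
  [QuasiCompact (fibMap b f (genericPoint ↥(Spec (CommRingCat.of R))))]
  [QuasiCompact (fibMap b f (IsLocalRing.closedPoint R))]
  (r : ℤ)

include hXη hXs hYη hYs in
open Classical in
/-- specialization commutes with proper pushforward -/
theorem spFun_map (α : AlgebraicCycle ((f ≫ b).fiber (genericPoint ↥(Spec (CommRingCat.of R)))) ℤ)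
    (hα : α ∈ Cyc.Zk ((f ≫ b).fiber (genericPoint ↥(Spec (CommRingCat.of R)))) δXη r)
    (β : AlgebraicCycle ((f ≫ b).fiber (IsLocalRing.closedPoint R)) ℤ)
    (hβ : ⇑β = Cyc.spFun (f ≫ b) (genericPoint ↥(Spec (CommRingCat.of R)))
      (IsLocalRing.closedPoint R) δXη δXs r ⇑α) :
    Cyc.spFun b (genericPoint ↥(Spec (CommRingCat.of R))) (IsLocalRing.closedPoint R) δYη δYs r
      ⇑(AlgebraicCycle.map (fibMap b f (genericPoint ↥(Spec (CommRingCat.of R)))) δXη δYη α) =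
    ⇑(AlgebraicCycle.map (fibMap b f (IsLocalRing.closedPoint R)) δXs δYs β) := by
  funext y₀
  have hαZ : ∀ ζ, δXη ζ ≠ r → α ζ = 0 := hα
  have hγZ : ∀ ζ', δYη ζ' ≠ r →
      (AlgebraicCycle.map (fibMap b f (genericPoint ↥(Spec (CommRingCat.of R)))) δXη δYη α) ζ'
        = 0 := Bivar.cycMap_mem_Zk _ δXη δYη r hα
  rw [spFun_eq_finsum b δYη δYs hYη hYs r _ hγZ y₀]
  have hS₁ := finite_fibre_specializes b f (genericPoint ↥(Spec (CommRingCat.of R))) α
    (b.fiberι _ y₀)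
  have hfin1 : {ζ : ↥((f ≫ b).fiber (genericPoint ↥(Spec (CommRingCat.of R)))) | α ζ ≠ 0 ∧
      DX b (fibMap b f (genericPoint ↥(Spec (CommRingCat.of R))) ζ) y₀ ≠ 0}.Finite := by
    refine hS₁.subset ?_
    rintro ζ ⟨h1, h2⟩
    refine ⟨h1, ?_⟩
    obtain ⟨hsp, -⟩ := Groth.Agent.Helper3.DivTrE.divFun_cond _ _ _ _ h2
    rw [fibMap_fiberι_apply] at hsp
    exact hsp
  rw [PushRat.finsum_map_mul (fibMap b f (genericPoint ↥(Spec (CommRingCat.of R)))) δXη δYη α
    (fun ζ' => DX b ζ' y₀) hfin1]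
  have hβx : ∀ x₀, β x₀ = ∑ᶠ ζ, α ζ * DX (f ≫ b) ζ x₀ := by
    intro x₀
    rw [hβ, spFun_eq_finsum (f ≫ b) δXη δXs hXη hXs r _ hαZ x₀]
  have hmap : (AlgebraicCycle.map (fibMap b f (IsLocalRing.closedPoint R)) δXs δYs β) y₀ =
      ∑ᶠ x₀ ∈ (fibMap b f (IsLocalRing.closedPoint R) : _ → _) ⁻¹' {y₀}, β x₀ *
        ((AlgebraicCycle.mapCoeff (fibMap b f (IsLocalRing.closedPoint R)) δXs δYs x₀ : ℕ) : ℤ) := by
    simp only [AlgebraicCycle.map, Function.locallyFinsupp.map_apply]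
  rw [hmap]
  let FF : ↥((f ≫ b).fiber (IsLocalRing.closedPoint R)) →
      ↥((f ≫ b).fiber (genericPoint ↥(Spec (CommRingCat.of R)))) → ℤ := fun x₀ ζ =>
    if fibMap b f (IsLocalRing.closedPoint R) x₀ = y₀ then
      α ζ * (DX (f ≫ b) ζ x₀ *
        ((AlgebraicCycle.mapCoeff (fibMap b f (IsLocalRing.closedPoint R)) δXs δYs x₀ : ℕ) : ℤ))
    else 0
  have hL : ∀ ζ, α ζ * ((AlgebraicCycle.mapCoeff
      (fibMap b f (genericPoint ↥(Spec (CommRingCat.of R)))) δXη δYη ζ : ℕ) : ℤ) *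
      DX b (fibMap b f (genericPoint ↥(Spec (CommRingCat.of R))) ζ) y₀ = ∑ᶠ x₀, FF x₀ ζ := by
    intro ζ
    rw [mul_assoc, ← push_DX b f δXη δXs δYη δYs hXη hXs hYη hYs ζ y₀, mul_finsum]
    refine finsum_congr fun x₀ => ?_
    rw [finsum_eq_if, mul_ite, mul_zero]
    rfl
  have hR : ∀ x₀, (∑ᶠ (_ : x₀ ∈ (fibMap b f (IsLocalRing.closedPoint R) : _ → _) ⁻¹' {y₀}),
      β x₀ * ((AlgebraicCycle.mapCoeff (fibMap b f (IsLocalRing.closedPoint R)) δXs δYs x₀ : ℕ) : ℤ))
      = ∑ᶠ ζ, FF x₀ ζ := by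
    intro x₀
    rw [finsum_eq_if]
    by_cases hx : fibMap b f (IsLocalRing.closedPoint R) x₀ = y₀
    · rw [if_pos (show x₀ ∈ (fibMap b f (IsLocalRing.closedPoint R) : _ → _) ⁻¹' {y₀} from hx),
        hβx x₀, finsum_mul]
      refine finsum_congr fun ζ => ?_
      simp only [FF]
      rw [if_pos hx, mul_assoc]
    · rw [if_neg (show ¬ x₀ ∈ (fibMap b f (IsLocalRing.closedPoint R) : _ → _) ⁻¹' {y₀} from hx)]
      symm
      apply finsum_eq_zero_of_forall_eq_zero
      intro ζ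
      simp only [FF]
      rw [if_neg hx]
  simp_rw [hL]
  rw [finsum_congr hR]
  have hfin' : (Function.support (Function.uncurry FF)).Finite := by
    have hU : (⋃ ζ ∈ {ζ : ↥((f ≫ b).fiber (genericPoint ↥(Spec (CommRingCat.of R)))) |
        α ζ ≠ 0 ∧ f ((f ≫ b).fiberι _ ζ) ⤳ b.fiberι _ y₀},
        ({x₀ : ↥((f ≫ b).fiber (IsLocalRing.closedPoint R)) |
          fibMap b f (IsLocalRing.closedPoint R) x₀ = y₀ ∧ DX (f ≫ b) ζ x₀ ≠ 0} ×ˢ
          ({ζ} : Set ↥((f ≫ b).fiber (genericPoint ↥(Spec (CommRingCat.of R))))))).Finite :=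
      hS₁.biUnion (fun ζ _ => (finite_fibre_DX b f ζ y₀).prod (Set.finite_singleton ζ))
    refine hU.subset ?_
    rintro ⟨x₀, ζ⟩ hne
    rw [Function.mem_support, Function.uncurry_apply_pair] at hne
    simp only [FF] at hne
    split_ifs at hne with hcond
    · have h1 : α ζ ≠ 0 := left_ne_zero_of_mul hne
      have h2 : DX (f ≫ b) ζ x₀ ≠ 0 := left_ne_zero_of_mul (right_ne_zero_of_mul hne)
      obtain ⟨hsp, -⟩ := Groth.Agent.Helper3.DivTrE.divFun_cond _ _ _ _ h2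
      have hsp' : f ((f ≫ b).fiberι _ ζ) ⤳ b.fiberι _ y₀ := by
        have := hsp.map f.continuous
        rw [← fibMap_fiberι_apply b f _ x₀, hcond] at this
        exact this
      exact Set.mem_iUnion₂.2 ⟨ζ, ⟨h1, hsp'⟩, ⟨hcond, h2⟩, rfl⟩
    · exact absurd rfl hne
  exact (PullGen.finsum_comm' FF hfin').symm

end main

end Groth.Agent.Helper3.SpPush
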