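import Mathlib
import Groth.Agent.Lead.Spectral3

/-! # Spectral spaces: helper lemmas about the constructible topology -/

set_option autoImplicit false
universe u

namespace Groth.Agent.Helper3.SpecSp

open Topology Groth.Agent.Lead.Spectral

variable {X Y : Type u} [TopologicalSpace X] [TopologicalSpace Y]

theorem constructible_le (Z : Type u) [tZ : TopologicalSpace Z] [PrespectralSpace Z] :
    constructibleTopology Z ≤ tZ := by
  rw [TopologicalSpace.le_def]
  intro s hs
  have hb := PrespectralSpace.isTopologicalBasis (X := Z)
  obtain ⟨S, hS, rfl⟩ := hb.open_eq_sUnion hs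
  apply @isOpen_sUnion _ (constructibleTopology Z)
  intro t ht
  exact (hS ht).2.isOpen_constructibleTopology_of_isOpen (hS ht).1

theorem copen_of_isOpen [PrespectralSpace X] {s : Set X} (hs : IsOpen s) :
    @IsOpen X (constructibleTopology X) s :=
  (TopologicalSpace.le_def.mp (constructible_le X)) s hs

theorem copen_of_qc {s : Set X} (hs : IsOpen s) (hc : IsCompact s) :
    @IsOpen X (constructibleTopology X) s :=
  hc.isOpen_constructibleTopology_of_isOpen hs

theorem t2_constructible [SpectralSpace X] : @T2Space X (constructibleTopology X) := by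
  have hb := PrespectralSpace.isTopologicalBasis (X := X)
  refine @T2Space.mk X (constructibleTopology X) ?_
  intro x y hxy
  obtain ⟨U, hU, hxor⟩ := exists_isOpen_xor_mem hxy
  rcases hxor with ⟨hxU, hyU⟩ | ⟨hyU, hxU⟩
  · obtain ⟨V, hV, hxV, hVU⟩ := hb.exists_subset_of_mem_open hxU hU
    refine ⟨V, Vᶜ, copen_of_qc hV.1 hV.2, ?_, hxV, fun hyV => hyU (hVU hyV), disjoint_compl_right⟩
    exact (@isOpen_compl_iff X V (constructibleTopology X)).mpr
      (cclosed_of_isCompact_isOpen hV.2 hV.1)
  · obtain ⟨V, hV, hyV, hVU⟩ := hb.exists_subset_of_mem_open hyU hU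
    refine ⟨Vᶜ, V, ?_, copen_of_qc hV.1 hV.2, fun hxV => hxU (hVU hxV), hyV, disjoint_compl_left⟩
    exact (@isOpen_compl_iff X V (constructibleTopology X)).mpr
      (cclosed_of_isCompact_isOpen hV.2 hV.1)

theorem isCompact_of_cclosed [SpectralSpace X] {s : Set X} (hs : CClosed s) :
    @IsCompact X (constructibleTopology X) s :=
  @IsClosed.isCompact X (constructibleTopology X) _ compactSpace_constructible hs

/-- A constructible-closed set is compact in the original topology. -/
theorem isCompact_of_cclosed' [SpectralSpace X] {s : Set X} (hs : CClosed s) : IsCompact s := by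
  have h4 := @IsCompact.image X X (constructibleTopology X) _ s id (isCompact_of_cclosed hs)
    (continuous_id_of_le (constructible_le X))
  simpa using h4

theorem continuous_constr_of_isSpectralMap {f : X → Y} (hsp : IsSpectralMap f) :
    @Continuous X Y (constructibleTopology X) (constructibleTopology Y) f := by
  apply continuous_generateFrom_iff.mpr
  rintro s (⟨hso, hsc⟩ | ⟨hscl, hsc⟩)
  · exact (hsp.isCompact_preimage_of_isOpen hso hsc).isOpen_constructibleTopology_of_isOpen
      (hso.preimage hsp.continuous)
  · apply IsCompact.isOpen_constructibleTopology_of_isClosed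
    · rw [← Set.preimage_compl]
      exact hsp.isCompact_preimage_of_isOpen hscl.isOpen_compl hsc
    · exact hscl.preimage hsp.continuous

theorem cclosed_image [SpectralSpace X] [SpectralSpace Y] {f : X → Y} (hsp : IsSpectralMap f)
    {K : Set X} (hK : CClosed K) : CClosed (f '' K) := by
  have h1 := @IsCompact.image X Y (constructibleTopology X) (constructibleTopology Y) K f
    (isCompact_of_cclosed hK) (continuous_constr_of_isSpectralMap hsp)
  exact @IsCompact.isClosed Y (constructibleTopology Y) t2_constructible _ h1

theorem cclosed_preimage {f : X → Y} (hsp : IsSpectralMap f)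
    {K : Set Y} (hK : CClosed K) : CClosed (f ⁻¹' K) :=
  @IsClosed.preimage X Y (constructibleTopology X) (constructibleTopology Y) f
    (continuous_constr_of_isSpectralMap hsp) K hK

/-- Points of the closure of a constructible-closed set are specializations of its points. -/
theorem exists_specializes_of_mem_closure [SpectralSpace X] {E : Set X} (hE : CClosed E)
    {x : X} (hx : x ∈ closure E) : ∃ e ∈ E, e ⤳ x := by
  by_contra hcon
  push Not at hcon
  obtain ⟨O, hO, hxO, hOE⟩ := exists_open_nhds_disjoint
    (y := x) (C := E) hE (fun w hw hxw => hcon w hw (specializes_iff_mem_closure.mpr hxw))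
  obtain ⟨y, hyO, hyE⟩ := mem_closure_iff.mp hx O hO hxO
  exact Set.disjoint_left.mp hOE hyO hyE

theorem isClosed_of_cclosed_of_stable [SpectralSpace X] {E : Set X} (hE : CClosed E)
    (hs : StableUnderSpecialization E) : IsClosed E := by
  rw [← closure_subset_iff_isClosed]
  intro x hx
  obtain ⟨e, he, hex⟩ := exists_specializes_of_mem_closure hE hx
  exact hs hex he

theorem isOpen_of_copen_of_stable [SpectralSpace X] {E : Set X}
    (hE : @IsOpen X (constructibleTopology X) E)
    (hs : StableUnderGeneralization E) : IsOpen E := by
  rw [← isClosed_compl_iff]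
  apply isClosed_of_cclosed_of_stable
  · exact (@isClosed_compl_iff X (constructibleTopology X) E).mpr hE
  · exact stableUnderSpecialization_compl_iff.mpr hs

theorem cclopen_of_isConstructible [SpectralSpace X] {s : Set X}
    (hs : Topology.IsConstructible s) : @IsClopen X (constructibleTopology X) s := by
  induction hs using Topology.IsConstructible.empty_union_induction with
  | open_retrocompact U hUo hUc =>
    exact ⟨cclosed_of_isCompact_isOpen hUc.isCompact hUo, copen_of_qc hUo hUc.isCompact⟩
  | union s _ t _ hs ht => exact @IsClopen.union X (constructibleTopology X) s t hs ht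
  | compl s _ hs => exact @IsClopen.compl X (constructibleTopology X) s hs

/-- The set of generalizations of points of a compact set is an intersection of quasi-compact
opens, hence constructible-closed. -/
theorem generalizations_eq_sInter [SpectralSpace X] {E : Set X} (hE : IsCompact E) :
    {x : X | ∃ e ∈ E, x ⤳ e} = ⋂₀ {U : Set X | IsOpen U ∧ IsCompact U ∧ E ⊆ U} := by
  ext x
  simp only [Set.mem_ofPred_eq, Set.mem_sInter]
  constructor
  · rintro ⟨e, he, hxe⟩ U ⟨hUo, -, hEU⟩
    exact hxe.mem_open hUo (hEU he)
  · intro h
    by_contra hcon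
    push Not at hcon
    have hsub : E ⊆ (closure ({x} : Set X))ᶜ := by
      intro e he hec
      exact hcon e he (specializes_iff_mem_closure.mpr hec)
    obtain ⟨U, hU1, hU2, hU3, hU4⟩ := exists_compact_open_between hE
      isClosed_closure.isOpen_compl hsub
    exact hU4 (h U ⟨hU1, hU2, hU3⟩) (subset_closure rfl)

theorem cclosed_sInter {S : Set (Set X)} (hS : ∀ s ∈ S, CClosed s) : CClosed (⋂₀ S) :=
  @isClosed_sInter X (constructibleTopology X) S hS

theorem cclosed_generalizations [SpectralSpace X] {E : Set X} (hE : IsCompact E) :
    CClosed {x : X | ∃ e ∈ E, x ⤳ e} := by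
  rw [generalizations_eq_sInter hE]
  exact cclosed_sInter fun U hU => cclosed_of_isCompact_isOpen hU.2.1 hU.1

end Groth.Agent.Helper3.SpecSp
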