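import Mathlib
import Groth.Agent.Helper3.SpecSp
import Groth.Agent.Helper3.Hochster

/-! # Limits of spectral spaces along spectral maps -/

set_option autoImplicit false
universe u

namespace Groth.Agent.Helper3.SpecLim

open CategoryTheory CategoryTheory.Limits Topology TopologicalSpace
open Groth.Agent.Lead.Spectral Groth.Agent.Helper3.SpecSp

section WithCT
variable {X Y : Type u} [TopologicalSpace X] [TopologicalSpace Y]

theorem t2Space_withConstr [SpectralSpace X] : T2Space (WithConstructibleTopology X) :=
  @Topology.IsEmbedding.t2Space (WithConstructibleTopology X) X _ (constructibleTopology X)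
    t2_constructible WithTopology.ofTopology
    (@Topology.IsEmbedding.mk _ _ _ (constructibleTopology X) _
      (@Topology.IsInducing.mk _ _ _ (constructibleTopology X) _
        (WithTopology.topology_eq_induced _)) (WithTopology.ofTopology_injective _))

theorem continuous_withConstr {f : X → Y} (hf : IsSpectralMap f) :
    Continuous (fun x : WithConstructibleTopology X =>
      (WithTopology.toTopology (constructibleTopology Y) (f (WithTopology.ofTopology x)))) := by
  rw [WithTopology.topology_eq_induced (constructibleTopology Y), continuous_induced_rng]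
  have h1 : @Continuous (WithConstructibleTopology X) X _ (constructibleTopology X)
      WithTopology.ofTopology := WithTopology.continuous_ofTopology _
  have h2 := continuous_constr_of_isSpectralMap hf
  exact @Continuous.comp (WithConstructibleTopology X) X Y _ (constructibleTopology X)
    (constructibleTopology Y) WithTopology.ofTopology f h2 h1

end WithCT

variable {J : Type u} [SmallCategory J] (F : J ⥤ TopCat.{u}) (c : Cone F)

/-- The patch topology on the cone point. -/
@[instance_reducible]
def patch : TopologicalSpace c.pt :=
  ⨅ j, (constructibleTopology (F.obj j)).induced (c.π.app j)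

theorem continuous_patch (j : J) :
    @Continuous c.pt (F.obj j) (patch F c) (constructibleTopology (F.obj j)) (c.π.app j) :=
  continuous_iInf_dom (i := j) continuous_induced_dom

theorem patch_closed_preimage (j : J) {C : Set (F.obj j)} (hC : CClosed C) :
    @IsClosed c.pt (patch F c) (c.π.app j ⁻¹' C) :=
  @IsClosed.preimage c.pt (F.obj j) (patch F c) (constructibleTopology (F.obj j)) _
    (continuous_patch F c j) C hC

theorem patch_open_preimage (j : J) {C : Set (F.obj j)}
    (hC : @IsOpen (F.obj j) (constructibleTopology (F.obj j)) C) :
    @IsOpen c.pt (patch F c) (c.π.app j ⁻¹' C) :=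
  @IsOpen.preimage c.pt (F.obj j) (patch F c) (constructibleTopology (F.obj j)) _
    (continuous_patch F c j) C hC

variable (hc : IsLimit c)
include hc

theorem patch_le [∀ j, PrespectralSpace (F.obj j)] : patch F c ≤ c.pt.str := by
  rw [TopCat.induced_of_isLimit c hc]
  exact iInf_mono fun j => induced_mono (constructible_le _)

theorem exists_of_compatible (y : ∀ j, F.obj j)
    (hy : ∀ {i j : J} (a : i ⟶ j), F.map a (y i) = y j) : ∃ x : c.pt, ∀ j, c.π.app j x = y j := by
  let e := hc.conePointUniqueUpToIso (TopCat.limitConeIsLimit F)
  let y' : (TopCat.limitCone F).pt := ⟨y, fun {i j} a => hy a⟩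
  refine ⟨e.inv y', fun j => ?_⟩
  have h := ConcreteCategory.congr_hom
    (IsLimit.conePointUniqueUpToIso_inv_comp hc (TopCat.limitConeIsLimit F) j) y'
  rw [ConcreteCategory.comp_apply] at h
  exact h

theorem ext_of_π {x y : c.pt} (h : ∀ j, c.π.app j x = c.π.app j y) : x = y :=
  Concrete.isLimit_ext F hc x y h

theorem compactSpace_patch (hF : ∀ j, SpectralSpace (F.obj j))
    (hFm : ∀ {i j : J} (a : i ⟶ j), IsSpectralMap (F.map a : F.obj i → F.obj j)) :
    @CompactSpace c.pt (patch F c) := by
  have := hF
  have : ∀ j, T2Space (WithConstructibleTopology (F.obj j)) := fun j => t2Space_withConstr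
  let φc : c.pt → (∀ j, WithConstructibleTopology (F.obj j)) :=
    fun x j => WithTopology.toTopology _ (c.π.app j x)
  have hτ : patch F c = induced φc inferInstance := by
    simp only [patch, Pi.topologicalSpace, induced_iInf, induced_compose,
      WithTopology.topology_eq_induced]
    rfl
  rw [hτ]
  have hrange : Set.range φc = ⋂ (i : J) (j : J) (a : i ⟶ j),
      {u | (WithTopology.toTopology (constructibleTopology (F.obj j))
        (F.map a (WithTopology.ofTopology (u i)))) = u j} := by
    ext u
    simp only [Set.mem_range, Set.mem_iInter, Set.mem_ofPred_eq]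
    constructor
    · rintro ⟨x, rfl⟩ i j a
      have := ConcreteCategory.congr_hom (c.w a) x
      rw [ConcreteCategory.comp_apply] at this
      simp only [φc]
      rw [this]
    · intro hu
      obtain ⟨x, hx⟩ := exists_of_compatible F c hc (fun j => WithTopology.ofTopology (u j))
        (fun {i j} a => by
          have := hu i j a
          exact congrArg WithTopology.ofTopology this)
      refine ⟨x, funext fun j => ?_⟩
      simp only [φc, hx]
  have hclosed : IsClosed (Set.range φc) := by
    rw [hrange]
    refine isClosed_iInter fun i => isClosed_iInter fun j => isClosed_iInter fun a => ?_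
    exact isClosed_eq ((continuous_withConstr (hFm a)).comp (continuous_apply i))
      (continuous_apply j)
  have hcomp : IsCompact (Set.range φc) := hclosed.isCompact
  rw [← Set.image_univ] at hcomp
  exact (@isCompact_univ_iff c.pt (induced φc inferInstance)).mp
    ((@Topology.IsInducing.isCompact_iff c.pt (∀ j, WithConstructibleTopology (F.obj j))
      (induced φc inferInstance) inferInstance Set.univ φc (IsInducing.induced φc)).mpr hcomp)

theorem isCompact_of_patch_closed (hF : ∀ j, SpectralSpace (F.obj j))
    (hFm : ∀ {i j : J} (a : i ⟶ j), IsSpectralMap (F.map a : F.obj i → F.obj j))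
    {s : Set c.pt} (hs : @IsClosed c.pt (patch F c) s) : IsCompact s := by
  have := hF
  exact Hochster.isCompact_of_le (patch_le F c hc)
    (@IsClosed.isCompact c.pt (patch F c) _ (compactSpace_patch F c hc hF hFm) hs)

theorem spectralSpace_pt (hF : ∀ j, SpectralSpace (F.obj j))
    (hFm : ∀ {i j : J} (a : i ⟶ j), IsSpectralMap (F.map a : F.obj i → F.obj j)) :
    SpectralSpace c.pt := by
  have := hF
  have : T0Space c.pt := by
    rw [t0Space_iff_inseparable]
    intro x y hxy
    apply ext_of_π F c hc
    intro j
    exact (hxy.map (c.π.app j).hom.continuous).eq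
  have hbasis := IsTopologicalBasis.iInf_induced
    (fun j => PrespectralSpace.isTopologicalBasis (X := F.obj j)) (fun j => fun x : c.pt => c.π.app j x)
  rw [← TopCat.induced_of_isLimit c hc] at hbasis
  refine Hochster.spectralSpace_of_patch (patch F c) (compactSpace_patch F c hc hF hFm) _ hbasis ?_ ?_
  · rintro b ⟨U, Fs, hU, rfl⟩
    refine @isOpen_biInter_finset _ _ (patch F c) Fs _ fun j hj => ?_
    exact patch_open_preimage F c j (copen_of_qc (hU j hj).1 (hU j hj).2)
  · rintro b ⟨U, Fs, hU, rfl⟩
    refine @isClosed_biInter _ _ (patch F c) _ _ fun j hj => ?_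
    exact patch_closed_preimage F c j (cclosed_of_isCompact_isOpen (hU j hj).2 (hU j hj).1)

theorem isSpectralMap_π (hF : ∀ j, SpectralSpace (F.obj j))
    (hFm : ∀ {i j : J} (a : i ⟶ j), IsSpectralMap (F.map a : F.obj i → F.obj j)) (j : J) :
    IsSpectralMap (c.π.app j : c.pt → F.obj j) := by
  refine ⟨(c.π.app j).hom.continuous, fun s hso hsc => ?_⟩
  exact isCompact_of_patch_closed F c hc hF hFm
    (patch_closed_preimage F c j (cclosed_of_isCompact_isOpen hsc hso))

end Groth.Agent.Helper3.SpecLim
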