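import Mathlib
import Groth.Agent.Helper3.SpecSp
import Groth.Agent.Helper3.Hochster

/-! # Products of spectral spaces, Sierpiński space -/

set_option autoImplicit false
universe u v

namespace Groth.Agent.Helper3.SpecPi

open Topology TopologicalSpace
open Groth.Agent.Lead.Spectral Groth.Agent.Helper3.SpecSp

theorem quasiSober_of_finite (X : Type v) [TopologicalSpace X] [Finite X] : QuasiSober X := by
  classical
  refine ⟨fun {S} hS hSc => ?_⟩
  have hfin : S.Finite := Set.toFinite S
  have h := (isIrreducible_iff_sUnion_isClosed.mp hS)
    (hfin.toFinset.image (fun x => closure ({x} : Set X)))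
    (by
      intro z hz
      obtain ⟨x, -, rfl⟩ := Finset.mem_image.mp hz
      exact isClosed_closure)
    (by
      intro x hx
      refine Set.mem_sUnion.mpr ⟨closure {x}, ?_, subset_closure rfl⟩
      exact Finset.mem_coe.mpr (Finset.mem_image.mpr ⟨x, hfin.mem_toFinset.mpr hx, rfl⟩))
  obtain ⟨z, hz, hSz⟩ := h
  obtain ⟨x, hx, rfl⟩ := Finset.mem_image.mp hz
  refine ⟨x, ?_⟩
  rw [isGenericPoint_def]
  exact le_antisymm (closure_minimal (Set.singleton_subset_iff.mpr (hfin.mem_toFinset.mp hx)) hSc)
    hSz

theorem spectralSpace_of_finite (X : Type v) [TopologicalSpace X] [Finite X] [T0Space X] :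
    SpectralSpace X := by
  have := quasiSober_of_finite X
  have : QuasiSeparatedSpace X := ⟨fun U V _ _ _ _ => (Set.toFinite (U ∩ V)).isCompact⟩
  exact { }

instance t0Space_prop : T0Space Prop := by
  rw [t0Space_iff_exists_isOpen_xor_mem]
  intro p q hpq
  refine ⟨{True}, isOpen_singleton_true, ?_⟩
  by_cases hp : p
  · have hq : ¬ q := fun hq => hpq (propext ⟨fun _ => hq, fun _ => hp⟩)
    left
    simp [hp, hq]
  · have hq : q := by
      by_contra hq
      exact hpq (propext ⟨fun h => (hp h).elim, fun h => (hq h).elim⟩)
    right
    simp [hp, hq]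

instance spectralSpace_prop : SpectralSpace Prop := spectralSpace_of_finite Prop

theorem spectralSpace_pi {ι : Type v} (X : ι → Type u) [∀ i, TopologicalSpace (X i)]
    [∀ i, SpectralSpace (X i)] : SpectralSpace (∀ i, X i) := by
  refine Hochster.spectralSpace_of_patch
    (@Pi.topologicalSpace ι X (fun i => constructibleTopology (X i)))
    (@Pi.compactSpace ι X (fun i => constructibleTopology (X i))
      (fun i => compactSpace_constructible))
    _ (isTopologicalBasis_pi (fun i => PrespectralSpace.isTopologicalBasis (X := X i))) ?_ ?_
  · rintro b ⟨U, F, hU, rfl⟩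
    exact @isOpen_set_pi ι X (fun i => constructibleTopology (X i)) _ U F.finite_toSet
      (fun i hi => copen_of_qc (hU i hi).1 (hU i hi).2)
  · rintro b ⟨U, F, hU, rfl⟩
    exact @isClosed_set_pi ι X (fun i => constructibleTopology (X i)) _ U
      (fun i hi => cclosed_of_isCompact_isOpen (hU i hi).2 (hU i hi).1)

/-- A continuous map is spectral as soon as preimages of the members of a basis of quasi-compact
opens are quasi-compact. -/
theorem isSpectralMap_of_basis {X Y : Type v} [TopologicalSpace X] [TopologicalSpace Y]
    {f : X → Y} (hf : Continuous f) {κ : Type*} (b : κ → Set Y)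
    (hb : IsTopologicalBasis (Set.range b)) (hbc : ∀ k, IsCompact (b k))
    (h : ∀ k, IsCompact (f ⁻¹' b k)) : IsSpectralMap f := by
  refine ⟨hf, fun s hso hsc => ?_⟩
  obtain ⟨t, ht, rfl⟩ := (isCompact_open_iff_eq_finite_iUnion_of_isTopologicalBasis b hb hbc s).mp
    ⟨hsc, hso⟩
  rw [Set.preimage_iUnion₂]
  exact ht.isCompact_biUnion fun k _ => h k

theorem isCompact_pi_basis {ι : Type v} (X : ι → Type u) [∀ i, TopologicalSpace (X i)]
    [∀ i, CompactSpace (X i)] (F : Finset ι) (U : ∀ i, Set (X i))
    (hU : ∀ i ∈ F, IsCompact (U i)) : IsCompact ((F : Set ι).pi U) := by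
  classical
  have : (F : Set ι).pi U = {x | ∀ i, x i ∈ (if i ∈ F then U i else Set.univ)} := by
    ext x
    simp only [Set.mem_pi, Finset.mem_coe, Set.mem_ofPred_eq]
    constructor
    · intro h i
      by_cases hi : i ∈ F
      · simp [hi, h i hi]
      · simp [hi]
    · intro h i hi
      have := h i
      simpa [hi] using this
  rw [this]
  apply isCompact_pi_infinite
  intro i
  by_cases hi : i ∈ F
  · simp only [hi, if_true]; exact hU i hi
  · simp only [hi, if_false]; exact isCompact_univ

/-- Preimage of an open subset of the Sierpiński space under the indicator of a quasi-compact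
open is quasi-compact open. -/
theorem qc_open_preimage_mem {X : Type v} [TopologicalSpace X] [CompactSpace X] {V : Set X}
    (hVo : IsOpen V) (hVc : IsCompact V) {s : Set Prop} (hs : IsOpen s) :
    IsOpen {x | (x ∈ V) ∈ s} ∧ IsCompact {x | (x ∈ V) ∈ s} := by
  refine ⟨hs.preimage (isOpen_iff_continuous_mem.mp hVo), ?_⟩
  by_cases hF : False ∈ s
  · have : s = Set.univ := by
      have h1 := hs.mem_nhds hF
      rw [nhds_false] at h1
      exact Filter.mem_top.mp h1
    rw [this]
    simpa using isCompact_univ
  · by_cases hT : True ∈ s
    · have : {x | (x ∈ V) ∈ s} = V := by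
        ext x
        simp only [Set.mem_ofPred_eq]
        constructor
        · intro h
          by_contra hx
          have : (x ∈ V) = False := eq_false hx
          rw [this] at h
          exact hF h
        · intro hx
          have : (x ∈ V) = True := eq_true hx
          rw [this]; exact hT
      rw [this]; exact hVc
    · have : {x | (x ∈ V) ∈ s} = ∅ := by
        ext x
        simp only [Set.mem_ofPred_eq, Set.mem_empty_iff_false, iff_false]
        intro h
        by_cases hx : x ∈ V
        · have : (x ∈ V) = True := eq_true hx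
          rw [this] at h; exact hT h
        · have : (x ∈ V) = False := eq_false hx
          rw [this] at h; exact hF h
      rw [this]; exact isCompact_empty

end Groth.Agent.Helper3.SpecPi
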