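import Mathlib

set_option linter.style.haveILetI false
set_option linter.unusedSectionVars false
set_option linter.unusedVariables false

namespace Groth.Agent.Helper3.SplitFin

open Polynomial TensorProduct

universe u

/-- `P` splits into linear factors over `R'`. -/
def SplitsIn {R : Type u} [CommRing R] (R' : Type u) [CommRing R'] [Algebra R R'] (P : R[X]) :
    Prop :=
  ∃ (d : ℕ) (α : Fin d → R'), P.map (algebraMap R R') = ∏ j, (X - C (α j))

theorem SplitsIn.trans {R : Type u} [CommRing R] {R₁ : Type u} [CommRing R₁] [Algebra R R₁]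
    {R₂ : Type u} [CommRing R₂] [Algebra R₁ R₂] [Algebra R R₂] [IsScalarTower R R₁ R₂]
    {P : R[X]} (h : SplitsIn R₁ P) : SplitsIn R₂ P := by
  obtain ⟨d, α, hα⟩ := h
  refine ⟨d, fun j => algebraMap R₁ R₂ (α j), ?_⟩
  rw [IsScalarTower.algebraMap_eq R R₁ R₂, ← Polynomial.map_map, hα, Polynomial.map_prod]
  simp

theorem injective_of_monic {R : Type u} [CommRing R] (P : R[X]) (hP : P.Monic)
    (hd : 0 < P.natDegree) : Function.Injective (algebraMap R (AdjoinRoot P)) := by
  rw [injective_iff_map_eq_zero]
  intro r hr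
  rw [AdjoinRoot.algebraMap_eq] at hr
  change AdjoinRoot.mk P (C r) = 0 at hr
  rw [AdjoinRoot.mk_eq_zero] at hr
  by_contra hne
  refine hP.not_dvd_of_natDegree_lt ?_ ?_ hr
  · simpa using hne
  · simpa using hd

/-- a single monic polynomial can be split in a finite free extension -/
theorem exists_split_one : ∀ (n : ℕ) (R : Type u) [CommRing R] (P : R[X]), P.Monic →
    P.natDegree = n →
    ∃ (R' : Type u) (_ : CommRing R') (_ : Algebra R R'), Module.Finite R R' ∧ Module.Free R R' ∧
      Function.Injective (algebraMap R R') ∧ SplitsIn R' P := by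
  intro n
  induction n with
  | zero =>
    intro R _ P hP hn
    refine ⟨R, inferInstance, inferInstance, inferInstance, inferInstance,
      fun _ _ h => h, 0, Fin.elim0, ?_⟩
    rw [eq_one_of_monic_natDegree_zero hP hn]
    simp
  | succ n ih =>
    intro R _ P hP hn
    have hfin : Module.Finite R (AdjoinRoot P) := (AdjoinRoot.powerBasis' hP).finite
    have hfree : Module.Free R (AdjoinRoot P) := Module.Free.of_basis (AdjoinRoot.powerBasis' hP).basis
    have hinj := injective_of_monic P hP (by omega)
    haveI : Nontrivial R := by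
      by_contra h
      rw [not_nontrivial_iff_subsingleton] at h
      have : P.natDegree = 0 := by rw [Subsingleton.elim P 0]; simp
      omega
    haveI : Nontrivial (AdjoinRoot P) := hinj.nontrivial
    -- factor
    set r : AdjoinRoot P := AdjoinRoot.root P with hr
    set P₁ : (AdjoinRoot P)[X] := P.map (algebraMap R (AdjoinRoot P)) with hP₁
    have hP₁m : P₁.Monic := hP.map _
    have hroot : P₁.IsRoot r := by
      rw [IsRoot, hP₁, eval_map, AdjoinRoot.algebraMap_eq]
      exact AdjoinRoot.eval₂_root P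
    have hfac : (X - C r) * (P₁ /ₘ (X - C r)) = P₁ := mul_divByMonic_eq_iff_isRoot.mpr hroot
    have hQm : (P₁ /ₘ (X - C r)).Monic := by
      have h1 : (X - C r).Monic := monic_X_sub_C r
      have := hP₁m
      rw [← hfac] at this
      exact h1.of_mul_monic_left this
    have hQd : (P₁ /ₘ (X - C r)).natDegree = n := by
      rw [natDegree_divByMonic _ (monic_X_sub_C r), natDegree_X_sub_C, hP₁,
        hP.natDegree_map, hn]
      rfl
    obtain ⟨R₂, _, _, hfin₂, hfree₂, hinj₂, d, β, hβ⟩ := ih (AdjoinRoot P) _ hQm hQd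
    letI : Algebra R R₂ := ((algebraMap (AdjoinRoot P) R₂).comp (algebraMap R (AdjoinRoot P))).toAlgebra
    haveI : IsScalarTower R (AdjoinRoot P) R₂ := IsScalarTower.of_algebraMap_eq (fun _ => rfl)
    refine ⟨R₂, inferInstance, inferInstance, Module.Finite.trans (AdjoinRoot P) R₂,
      Module.Free.of_basis ((Module.Free.chooseBasis R (AdjoinRoot P)).smulTower
        (Module.Free.chooseBasis (AdjoinRoot P) R₂)), hinj₂.comp hinj, d + 1,
      Fin.cons (algebraMap (AdjoinRoot P) R₂ r) β, ?_⟩
    rw [IsScalarTower.algebraMap_eq R (AdjoinRoot P) R₂, ← Polynomial.map_map, ← hP₁, ← hfac,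
      Polynomial.map_mul, hβ, Fin.prod_univ_succ]
    simp

/-- a finite list of monic polynomials can be split in a finite free extension -/
theorem exists_split_list : ∀ (n : ℕ) (R : Type u) [CommRing R] (P : Fin n → R[X]),
    (∀ i, (P i).Monic) →
    ∃ (R' : Type u) (_ : CommRing R') (_ : Algebra R R'), Module.Finite R R' ∧ Module.Free R R' ∧
      Function.Injective (algebraMap R R') ∧ ∀ i, SplitsIn R' (P i) := by
  intro n
  induction n with
  | zero =>
    intro R _ P hP
    exact ⟨R, inferInstance, inferInstance, inferInstance, inferInstance,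
      fun _ _ h => h, fun i => i.elim0⟩
  | succ n ih =>
    intro R _ P hP
    obtain ⟨R₁, _, _, hfin₁, hfree₁, hinj₁, hs₁⟩ :=
      exists_split_one _ R (P 0) (hP 0) rfl
    obtain ⟨R₂, _, _, hfin₂, hfree₂, hinj₂, hs₂⟩ :=
      ih R₁ (fun i => (P i.succ).map (algebraMap R R₁)) (fun i => (hP i.succ).map _)
    letI : Algebra R R₂ := ((algebraMap R₁ R₂).comp (algebraMap R R₁)).toAlgebra
    haveI : IsScalarTower R R₁ R₂ := IsScalarTower.of_algebraMap_eq (fun _ => rfl)
    refine ⟨R₂, inferInstance, inferInstance, Module.Finite.trans R₁ R₂,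
      Module.Free.of_basis ((Module.Free.chooseBasis R R₁).smulTower
        (Module.Free.chooseBasis R₁ R₂)), hinj₂.comp hinj₁, ?_⟩
    intro i
    refine Fin.cases ?_ (fun i => ?_) i
    · exact hs₁.trans
    · obtain ⟨d, α, hα⟩ := hs₂ i
      refine ⟨d, α, ?_⟩
      rw [IsScalarTower.algebraMap_eq R R₁ R₂, ← Polynomial.map_map, hα]

theorem main (R S : Type u) [CommRing R] [CommRing S] [Algebra R S]
    [Module.Finite R S] :
    ∃ (R' : Type u) (_ : CommRing R') (_ : Algebra R R'), Module.Finite R R' ∧ Module.Free R R' ∧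
      Function.Injective (algebraMap R R') ∧
      ∃ (n : ℕ) (d : Fin n → ℕ) (α : (i : Fin n) → Fin (d i) → R')
        (φ : MvPolynomial (Fin n) R' →ₐ[R'] R' ⊗[R] S), Function.Surjective φ ∧
          ∀ i, φ (∏ j, (MvPolynomial.X i - MvPolynomial.C (α i j))) = 0 := by
  obtain ⟨n, s, hs⟩ := Module.Finite.exists_fin (R := R) (M := S)
  have hint : ∀ i, IsIntegral R (s i) := fun i => Algebra.IsIntegral.isIntegral (s i)
  choose P hPm hP0 using hint
  obtain ⟨R', _, _, hfin, hfree, hinj, hsp⟩ := exists_split_list n R P hPm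
  choose d α hα using hsp
  refine ⟨R', inferInstance, inferInstance, hfin, hfree, hinj, n, d, α,
    MvPolynomial.aeval (fun i => (1 : R') ⊗ₜ[R] s i), ?_, ?_⟩
  · -- surjectivity
    intro z
    have hS : ∀ x : S, (1 : R') ⊗ₜ[R] x ∈
        (MvPolynomial.aeval (R := R') (fun i => (1 : R') ⊗ₜ[R] s i)).range := by
      intro x
      have hx : x ∈ Submodule.span R (Set.range s) := hs ▸ Submodule.mem_top
      induction hx using Submodule.span_induction with
      | mem x hx =>
        obtain ⟨i, rfl⟩ := hx
        exact ⟨MvPolynomial.X i, by simp⟩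
      | zero => rw [tmul_zero]; exact Subalgebra.zero_mem _
      | add x y _ _ hx hy => rw [tmul_add]; exact Subalgebra.add_mem _ hx hy
      | smul a x _ hx =>
        rw [tmul_smul, ← algebraMap_smul R' a ((1 : R') ⊗ₜ[R] x)]
        exact Subalgebra.smul_mem _ hx _
    change z ∈ (MvPolynomial.aeval (R := R') (fun i => (1 : R') ⊗ₜ[R] s i)).range
    induction z using TensorProduct.induction_on with
    | zero => exact Subalgebra.zero_mem _
    | tmul a x =>
      have : a ⊗ₜ[R] x = a • ((1 : R') ⊗ₜ[R] x) := by rw [smul_tmul', smul_eq_mul, mul_one]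
      rw [this]
      exact Subalgebra.smul_mem _ (hS x) a
    | add x y hx hy => exact Subalgebra.add_mem _ hx hy
  · intro i
    have h1 : MvPolynomial.aeval (fun i => (1 : R') ⊗ₜ[R] s i)
        (∏ j, (MvPolynomial.X i - MvPolynomial.C (α i j))) =
        Polynomial.aeval ((1 : R') ⊗ₜ[R] s i) (∏ j, (X - C (α i j))) := by
      simp [map_prod, Algebra.TensorProduct.algebraMap_apply]
    rw [h1, ← hα i, Polynomial.aeval_map_algebraMap]
    have h2 : (1 : R') ⊗ₜ[R] s i = (Algebra.TensorProduct.includeRight : S →ₐ[R] R' ⊗[R] S) (s i) :=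
      rfl
    rw [h2, Polynomial.aeval_algHom_apply, Polynomial.aeval_def, hP0 i, map_zero]

end Groth.Agent.Helper3.SplitFin
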