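import Mathlib
import Groth.Prelude

set_option autoImplicit false
set_option linter.style.haveILetI false
set_option linter.unusedSectionVars false
set_option linter.unusedVariables false
set_option linter.deprecated false
set_option linter.style.haveILetI false
set_option linter.unusedSectionVars false
set_option linter.unusedVariables false

universe u

open CategoryTheory CategoryTheory.Limits AlgebraicGeometry

namespace Groth.Agent.Helper3.SpreadA

/-- a finitely generated subring of the fraction field lies in a localization `R[1/b]` -/
theorem exists_away' (R K : Type u) [CommRing R] [IsDomain R] [CommRing K] [Algebra R K]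
    [IsFractionRing R K]
    (A₁ : Subalgebra ℤ K) (h : A₁.FG) :
    ∃ (b : R) (_ : b ≠ 0) (ψ : A₁ →+* Localization.Away b)
      (lam : Localization.Away b →+* K),
      lam.comp (algebraMap R (Localization.Away b)) = algebraMap R K ∧
      lam.comp ψ = A₁.val.toRingHom := by
  classical
  obtain ⟨s, hs⟩ := h
  obtain ⟨b, hb⟩ := IsLocalization.exist_integer_multiples_of_finset (nonZeroDivisors R) s
  have hb0 : (b : R) ≠ 0 := nonZeroDivisors.ne_zero b.2
  have hunit : IsUnit (algebraMap R K (b : R)) :=
    IsLocalization.map_units K b
  let lam : Localization.Away (b : R) →+* K :=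
    IsLocalization.Away.lift (b : R) hunit
  have hlam : lam.comp (algebraMap R (Localization.Away (b : R))) =
      algebraMap R K := IsLocalization.Away.lift_comp (b : R) hunit
  have hlam' : ∀ r : R, lam (algebraMap R (Localization.Away (b : R)) r) =
      algebraMap R K r := fun r => IsLocalization.Away.lift_eq (b : R) hunit r
  have hinj : Function.Injective lam := by
    change Function.Injective (IsLocalization.lift (M := Submonoid.powers (b : R))
      (g := algebraMap R K) _)
    rw [IsLocalization.lift_injective_iff]
    intro x y
    rw [(IsFractionRing.injective R K).eq_iff,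
      (IsLocalization.injective (Localization.Away (b : R))
        (powers_le_nonZeroDivisors_of_noZeroDivisors hb0)).eq_iff]
  have hmem : ∀ x ∈ A₁, x ∈ lam.range := by
    intro x hx
    rw [← hs] at hx
    induction hx using Algebra.adjoin_induction with
    | mem x hx =>
      obtain ⟨r, hr⟩ := hb x hx
      refine ⟨algebraMap R _ r * IsLocalization.Away.invSelf (b : R), ?_⟩
      have h1 : lam (IsLocalization.Away.invSelf (b : R)) *
          algebraMap R K (b : R) = 1 := by
        rw [← hlam', ← map_mul, mul_comm, IsLocalization.Away.mul_invSelf, map_one]
      have h2 : algebraMap R K r = algebraMap R K (b : R) * x := by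
        rw [hr, Algebra.smul_def]
      rw [map_mul, hlam', h2, mul_comm, ← mul_assoc, h1, one_mul]
    | algebraMap n => exact ⟨(n : Localization.Away (b : R)), by simp⟩
    | add x y _ _ hx hy => exact lam.range.add_mem hx hy
    | mul x y _ _ hx hy => exact lam.range.mul_mem hx hy
  let e : Localization.Away (b : R) ≃+* lam.range :=
    RingEquiv.ofBijective lam.rangeRestrict ⟨by
      intro x y hxy
      apply hinj
      exact congrArg Subtype.val hxy, lam.rangeRestrict_surjective⟩
  let ψ : A₁ →+* Localization.Away (b : R) :=
    e.symm.toRingHom.comp (RingHom.codRestrict A₁.val.toRingHom lam.range (fun x => hmem x.1 x.2))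
  refine ⟨b, hb0, ψ, lam, hlam, ?_⟩
  ext x
  change lam (e.symm ⟨x.1, hmem x.1 x.2⟩) = x.1
  have : (e (e.symm ⟨x.1, hmem x.1 x.2⟩)).1 = x.1 := by rw [RingEquiv.apply_symm_apply]
  exact this

end Groth.Agent.Helper3.SpreadA
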