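import Mathlib
import Groth.Prelude
import Groth.Agent.Lead.LimExistProp
import Groth.Agent.Lead.SubalgSys
import Groth.Agent.S2074

set_option autoImplicit false
set_option linter.style.haveILetI false
set_option linter.unusedSectionVars false
set_option linter.unusedVariables false
set_option linter.deprecated false
set_option linter.style.haveILetI false
set_option linter.unusedSectionVars false
set_option linter.unusedVariables false

universe u

open CategoryTheory CategoryTheory.Limits AlgebraicGeometry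

namespace Groth.Agent.Helper3.SpreadB

open Groth.Agent.Lead.LimExist Groth.Agent.Lead.LimRed Groth.Agent.Lead.LimFrame

set_option backward.isDefEq.respectTransparency false in
/-- a smooth proper scheme over `Spec A` comes from a smooth proper scheme over the spectrum of a
finitely generated `ℤ`-subalgebra -/
theorem exists_smooth_proper_model (A : Type u) [CommRing A] {X : Scheme.{u}}
    (f : X ⟶ Spec (CommRingCat.of A)) [Smooth f] [IsProper f] :
    ∃ A₀ : Subalgebra ℤ A, A₀.FG ∧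
      ∃ (X₀ : Scheme.{u}) (f₀ : X₀ ⟶ Spec (CommRingCat.of ↥A₀)) (g : X ⟶ X₀),
        Smooth f₀ ∧ IsProper f₀ ∧
          IsPullback g f f₀ (Spec.map (CommRingCat.ofHom (algebraMap (↥A₀) A))) := by
  classical
  have hbot : (⊥ : Subalgebra ℤ A).FG := Subalgebra.fg_bot
  haveI := Groth.Agent.Lead.SubalgSys.isCofiltered (A := A) hbot
  have hc : IsLimit (Groth.Agent.Lead.SubalgSys.cone A ⊥) :=
    Groth.Agent.Lead.SubalgSys.coneIsLimit hbot
  have : CompactSpace X := QuasiCompact.compactSpace_of_compactSpace f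
  have : QuasiSeparatedSpace X := quasiSeparatedSpace_of_quasiSeparated f
  let f' : X ⟶ (Groth.Agent.Lead.SubalgSys.cone A ⊥).pt := f
  have h1 : Smooth f' := ‹Smooth f›
  have h2 : LocallyOfFinitePresentation f' := inferInstance
  obtain ⟨j, M, hM⟩ := Groth.Agent.Lead.LimExist.exists_model_prop hc @Smooth
    (fun i₀ X₀ f₀ _ _ _ h ↦ Groth.Agent.Lead.LimSmooth.smooth_descends hc i₀ (𝟙 _) f₀ h) f' h1
  haveI := hM
  haveI hp' : IsProper f' := ‹IsProper f›
  haveI : ∀ (i k : (Groth.Agent.Lead.SubalgSys.Idx A ⊥)ᵒᵖ) (φ : i ⟶ k),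
      IsAffineHom ((Groth.Agent.Lead.SubalgSys.D A ⊥).map φ) := fun _ _ φ => inferInstance
  haveI : CompactSpace ((Groth.Agent.Lead.SubalgSys.D A ⊥).obj j) := inferInstance
  haveI : QuasiSeparatedSpace ((Groth.Agent.Lead.SubalgSys.D A ⊥).obj j) := inferInstance
  obtain ⟨i, φ, Xi, Yi, fi, gi, pY, pX, hYi, hXi, hprop⟩ :=
    Groth.Agent.S2074.result (Groth.Agent.Lead.SubalgSys.D A ⊥)
      (Groth.Agent.Lead.SubalgSys.cone A ⊥) hc j M.fi (𝟙 _) f' (𝟙 _)
      ((Groth.Agent.Lead.SubalgSys.cone A ⊥).π.app j) M.g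
      (IsPullback.id_vert ((Groth.Agent.Lead.SubalgSys.cone A ⊥).π.app j)) M.sq
  have h3 : IsProper (stageMap (Groth.Agent.Lead.SubalgSys.D A ⊥) j M.fi (𝟙 _) (Over.mk φ)) :=
    (stage_in j (𝟙 _) M.fi @IsProper φ hYi hXi).mp hprop
  have h4 : IsProper (M.rebase (Over.mk φ)).fi :=
    (stage_in j (𝟙 _) M.fi @IsProper φ (IsPullback.id_vert ((Groth.Agent.Lead.SubalgSys.D A ⊥).map φ))
      (IsPullback.of_hasPullback ((Groth.Agent.Lead.SubalgSys.D A ⊥).map φ) M.fi).flip).mpr h3
  have h5 : Smooth (M.rebase (Over.mk φ)).fi := by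
    change Smooth (pullback.fst ((Groth.Agent.Lead.SubalgSys.D A ⊥).map φ) M.fi)
    infer_instance
  exact ⟨i.unop.1, i.unop.2.1, (M.rebase (Over.mk φ)).Xi, (M.rebase (Over.mk φ)).fi,
    (M.rebase (Over.mk φ)).g, h5, h4, (M.rebase (Over.mk φ)).sq⟩

end Groth.Agent.Helper3.SpreadB
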