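import Mathlib
import Groth.Prelude
import Groth.Agent.Helper3.SpreadA
import Groth.Agent.Helper3.SpreadB

set_option autoImplicit false
set_option linter.style.haveILetI false
set_option linter.unusedSectionVars false
set_option linter.unusedVariables false
set_option linter.deprecated false
set_option linter.style.haveILetI false
set_option linter.unusedSectionVars false
set_option linter.unusedVariables false

universe u

open CategoryTheory CategoryTheory.Limits AlgebraicGeometry

namespace Groth.Agent.Helper3.SpreadC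

/-- **Spreading out from the generic point**: a smooth proper scheme over the fraction field of a
domain `R` extends to a smooth proper scheme over a nonempty open of `Spec R`. -/
theorem main (R : Type u) [CommRing R] [IsDomain R]
    (C : Over (Spec (CommRingCat.of (FractionRing R)))) [Smooth C.hom] [IsProper C.hom] :
    ∃ (U : (Spec (CommRingCat.of R)).Opens)
      (ξ : Spec (CommRingCat.of (FractionRing R)) ⟶ (U : Scheme.{u}))
      (𝒞 : Scheme.{u}) (π : 𝒞 ⟶ (U : Scheme.{u})),
      ξ ≫ U.ι = Neron.genPt R ∧ Smooth π ∧ IsProper π ∧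
      Nonempty (Over.mk (pullback.snd π ξ) ≅ C) := by
  obtain ⟨A₀, hA₀, X₀, f₀, g, hsm, hpr, hsq⟩ :=
    Groth.Agent.Helper3.SpreadB.exists_smooth_proper_model (FractionRing R) C.hom
  obtain ⟨b, hb, ψ, lam, hlam, hψ⟩ := Groth.Agent.Helper3.SpreadA.exists_away' R (FractionRing R) A₀ hA₀
  haveI := hsm
  haveI := hpr
  let jb : Spec (CommRingCat.of (Localization.Away b)) ⟶ Spec (CommRingCat.of R) :=
    Spec.map (CommRingCat.ofHom (algebraMap R (Localization.Away b)))
  haveI : IsOpenImmersion jb := IsOpenImmersion.of_isLocalization b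
  let U : (Spec (CommRingCat.of R)).Opens := jb.opensRange
  let eU : Spec (CommRingCat.of (Localization.Away b)) ≅ (U : Scheme.{u}) := jb.isoOpensRange
  have heU : eU.hom ≫ U.ι = jb := jb.isoOpensRange_hom_ι
  let sψ : Spec (CommRingCat.of (Localization.Away b)) ⟶ Spec (CommRingCat.of ↥A₀) :=
    Spec.map (CommRingCat.ofHom ψ)
  let slam : Spec (CommRingCat.of (FractionRing R)) ⟶ Spec (CommRingCat.of (Localization.Away b)) :=
    Spec.map (CommRingCat.ofHom lam)
  have h1 : slam ≫ jb = Neron.genPt R := by
    change Spec.map _ ≫ Spec.map _ = Spec.map _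
    rw [← Spec.map_comp, ← CommRingCat.ofHom_comp, hlam]
  have h2 : slam ≫ sψ = Spec.map (CommRingCat.ofHom (algebraMap (↥A₀) (FractionRing R))) := by
    change Spec.map _ ≫ Spec.map _ = Spec.map _
    rw [← Spec.map_comp, ← CommRingCat.ofHom_comp, hψ]
    rfl
  have hw : g ≫ f₀ = (C.hom ≫ slam) ≫ sψ := by
    rw [Category.assoc, h2]; exact hsq.w
  have hpb : IsPullback (pullback.lift g (C.hom ≫ slam) hw) C.hom (pullback.snd f₀ sψ) slam := by
    refine IsPullback.of_right ?_ (pullback.lift_snd _ _ _) (IsPullback.of_hasPullback f₀ sψ)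
    rw [pullback.lift_fst, h2]
    exact hsq
  have hpb' : IsPullback (pullback.lift g (C.hom ≫ slam) hw) C.hom
      (pullback.snd f₀ sψ ≫ eU.hom) (slam ≫ eU.hom) :=
    IsPullback.of_iso hpb (Iso.refl _) (Iso.refl _) (Iso.refl _) eU (by simp) (by simp)
      (by simp) (by simp)
  refine ⟨U, slam ≫ eU.hom, pullback f₀ sψ, pullback.snd f₀ sψ ≫ eU.hom, ?_, inferInstance,
    inferInstance, ⟨?_⟩⟩
  · rw [Category.assoc, heU, h1]
  · exact Over.isoMk hpb'.isoPullback.symm (by simp)

end Groth.Agent.Helper3.SpreadC
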