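import Mathlib
import Groth.Agent.Helper3.BirResField
import Groth.Agent.Helper3.SpreadFP
import Groth.Agent.Helper3.LocalIso2
import Groth.Agent.Helper4.SchLFP

/-!
Spreading out an isomorphism of local rings to an isomorphism of open neighbourhoods, for schemes
locally of finite presentation over a base.
-/

set_option autoImplicit false

namespace Groth.Agent.Helper3.SpreadIso

open AlgebraicGeometry CategoryTheory Limits

universe u

theorem exists_isIso_spread_out {X Y S : Scheme.{u}} (sX : X ⟶ S) (sY : Y ⟶ S)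
    [LocallyOfFinitePresentation sX] [LocallyOfFinitePresentation sY]
    {x : X} {y : Y} (e : sX x = sY y)
    (φ : Y.presheaf.stalk y ⟶ X.presheaf.stalk x) [IsIso φ]
    (h : sY.stalkMap y ≫ φ =
      S.presheaf.stalkSpecializes (Inseparable.of_eq e).specializes ≫ sX.stalkMap x) :
    ∃ (U : X.Opens) (hxU : x ∈ U) (V : Y.Opens) (f : U.toScheme ⟶ V.toScheme), IsIso f ∧
      Spec.map φ ≫ Y.fromSpecStalk y = U.fromSpecStalkOfMem x hxU ≫ f ≫ V.ι ∧
        f ≫ V.ι ≫ sY = U.ι ≫ sX := by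
  obtain ⟨U₀, hxU₀, f₀, hf1, hf2⟩ := SpreadFP.spread_out_of_lfp sX sY e φ h
  have h1 : IsIso (Scheme.stalkClosedPointTo (Spec.map φ ≫ Y.fromSpecStalk y)) :=
    BirResField.isIso_stalkClosedPointTo_SpecMap_fromSpecStalk y φ
  have h2 : IsIso (Scheme.stalkClosedPointTo (U₀.fromSpecStalkOfMem x hxU₀ ≫ f₀)) :=
    BirResField.isIso_stalkClosedPointTo_congr hf1 h1
  rw [Scheme.stalkClosedPointTo_comp] at h2
  have h3 : IsIso (Scheme.stalkClosedPointTo (U₀.fromSpecStalkOfMem x hxU₀)) := by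
    have h4 : IsIso (Scheme.stalkClosedPointTo (Spec.map (𝟙 _) ≫ X.fromSpecStalk x)) :=
      BirResField.isIso_stalkClosedPointTo_SpecMap_fromSpecStalk x (𝟙 _)
    have h5 : Spec.map (𝟙 _) ≫ X.fromSpecStalk x = U₀.fromSpecStalkOfMem x hxU₀ ≫ U₀.ι := by
      rw [Spec.map_id, Category.id_comp, Scheme.Opens.fromSpecStalkOfMem_ι]
    have h6 := BirResField.isIso_stalkClosedPointTo_congr h5 h4
    rw [Scheme.stalkClosedPointTo_comp] at h6
    exact @IsIso.of_isIso_comp_left _ _ _ _ _ (U₀.ι.stalkMap _)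
      (Scheme.stalkClosedPointTo (U₀.fromSpecStalkOfMem x hxU₀)) inferInstance h6
  have h7 : IsIso (f₀.stalkMap
      ((U₀.fromSpecStalkOfMem x hxU₀) (IsLocalRing.closedPoint (X.presheaf.stalk x)))) :=
    @IsIso.of_isIso_comp_right _ _ _ _ _ (f₀.stalkMap _)
      (Scheme.stalkClosedPointTo (U₀.fromSpecStalkOfMem x hxU₀)) h3 h2
  have hb : Function.Bijective (f₀.stalkMap
      ((U₀.fromSpecStalkOfMem x hxU₀) (IsLocalRing.closedPoint (X.presheaf.stalk x)))).hom :=
    (ConcreteCategory.isIso_iff_bijective _).mp h7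
  have hlfp : LocallyOfFinitePresentation f₀ := by
    have : LocallyOfFinitePresentation (f₀ ≫ sY) := by rw [hf2]; infer_instance
    exact Groth.Agent.Helper4.SchLFP.locallyOfFinitePresentation_of_comp f₀ sY
  obtain ⟨U', hvU', himm⟩ := LocalIso.exists_isOpenImmersion_nbhd_of_lfp f₀ _ hb
  -- the point `a c` maps to `x`
  have hac : U₀.ι ((U₀.fromSpecStalkOfMem x hxU₀)
      (IsLocalRing.closedPoint (X.presheaf.stalk x))) = x := by
    have := congrArg (fun g : Spec (X.presheaf.stalk x) ⟶ X =>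
      g (IsLocalRing.closedPoint (X.presheaf.stalk x))) (Scheme.Opens.fromSpecStalkOfMem_ι U₀ x hxU₀)
    exact this.trans Scheme.fromSpecStalk_closedPoint
  have hxU : x ∈ U₀.ι ''ᵁ U' := ⟨_, hvU', hac⟩
  let V : Y.Opens := (U'.ι ≫ f₀).opensRange
  let f : (U₀.ι ''ᵁ U').toScheme ⟶ V.toScheme :=
    (U₀.ι.isoImage U').inv ≫ (U'.ι ≫ f₀).isoOpensRange.hom
  have hfι : f ≫ V.ι = (U₀.ι.isoImage U').inv ≫ U'.ι ≫ f₀ := by
    simp only [f, Category.assoc]
    congr 1
    exact (U'.ι ≫ f₀).isoOpensRange_hom_ι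
  refine ⟨U₀.ι ''ᵁ U', hxU, V, f, inferInstance, ?_, ?_⟩
  · rw [hfι, hf1]
    have : (U₀.ι ''ᵁ U').fromSpecStalkOfMem x hxU ≫ (U₀.ι.isoImage U').inv ≫ U'.ι =
        U₀.fromSpecStalkOfMem x hxU₀ := by
      rw [← cancel_mono U₀.ι, Category.assoc, Category.assoc, Scheme.Hom.isoImage_inv_ι,
        Scheme.Opens.fromSpecStalkOfMem_ι, Scheme.Opens.fromSpecStalkOfMem_ι]
    rw [← this]
    simp only [Category.assoc]
  · rw [← Category.assoc, hfι, Category.assoc, Category.assoc, hf2, Scheme.Hom.isoImage_inv_ι_assoc]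

end Groth.Agent.Helper3.SpreadIso
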