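import Mathlib
import Groth.Agent.Helper3.SqZero2

set_option autoImplicit false
set_option linter.style.haveILetI false
set_option linter.unusedSectionVars false
set_option linter.unusedVariables false
set_option linter.style.haveILetI false
set_option linter.unusedSectionVars false
set_option linter.unusedVariables false

universe u

open AlgebraicGeometry CategoryTheory CategoryTheory.Limits TensorProduct

namespace Groth.Agent.Helper3.SqZero3

open Groth.Agent.Helper3.SqZero2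

theorem surjective_j₀ (R : Type u) [CommRing R] (J : Ideal R) (hJ : J * J = ⊥) :
    Surjective (Spec.map (CommRingCat.ofHom (Ideal.Quotient.mk J))) := by
  rw [surjective_iff]
  intro x
  have hx : (x : PrimeSpectrum R) ∈ Set.range (PrimeSpectrum.comap (Ideal.Quotient.mk J)) := by
    rw [_root_.range_comap_of_surjective _ _ Ideal.Quotient.mk_surjective, Ideal.mk_ker]
    intro a ha
    have h1 : a * a ∈ J * J := Ideal.mul_mem_mul ha ha
    rw [hJ] at h1
    have h2 : a * a = 0 := h1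
    have h3 : a * a ∈ (x : PrimeSpectrum R).asIdeal := by rw [h2]; exact Ideal.zero_mem _
    exact (((x : PrimeSpectrum R).isPrime.mem_or_mem h3)).elim id id
  obtain ⟨y, hy⟩ := hx
  exact ⟨y, hy⟩

section
variable (R : Type u) [CommRing R] (J : Ideal R) (hJ : J * J = ⊥)
  {X Y : Scheme.{u}} (fX : X ⟶ Spec (CommRingCat.of R)) (fY : Y ⟶ Spec (CommRingCat.of R))
  (μ : pullback fX fX ⟶ X)
  (g g' e : Y ⟶ X) (hg : g ≫ fX = fY) (hg' : g' ≫ fX = fY) (he : e ≫ fX = fY)
  (hig : pullback.fst fY (Spec.map (CommRingCat.ofHom (Ideal.Quotient.mk J))) ≫ g =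
    pullback.fst fY (Spec.map (CommRingCat.ofHom (Ideal.Quotient.mk J))) ≫ e)
  (hig' : pullback.fst fY (Spec.map (CommRingCat.ofHom (Ideal.Quotient.mk J))) ≫ g' =
    pullback.fst fY (Spec.map (CommRingCat.ofHom (Ideal.Quotient.mk J))) ≫ e)
  (h_ge : pullback.lift g e (hg.trans he.symm) ≫ μ = g)
  (h_eg : pullback.lift e g (he.trans hg.symm) ≫ μ = g)
  (h_g'e : pullback.lift g' e (hg'.trans he.symm) ≫ μ = g')
  (h_eg' : pullback.lift e g' (he.trans hg'.symm) ≫ μ = g')
  (h_ee : pullback.lift e e rfl ≫ μ = e)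

include hJ hig hig' h_ge h_eg h_g'e h_eg' h_ee in
theorem local_comm (y : Y) : ∃ V : Y.Opens, y ∈ V ∧
    V.ι ≫ pullback.lift g g' (hg.trans hg'.symm) ≫ μ =
      V.ι ≫ pullback.lift g' g (hg'.trans hg.symm) ≫ μ := by
  classical
  haveI := surjective_j₀ R J hJ
  set i := pullback.fst fY (Spec.map (CommRingCat.ofHom (Ideal.Quotient.mk J))) with hi
  have htop : ∀ {Z : Scheme.{u}} (r r' : Y ⟶ Z), i ≫ r = i ≫ r' → ∀ y, r y = r' y := by
    intro Z r r' hrr y
    obtain ⟨y₀, rfl⟩ := i.surjective y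
    have := congrArg (fun f : _ ⟶ Z => f y₀) hrr
    simpa using this
  -- congruences of the lifts
  have hlift : ∀ (a b : Y ⟶ X) (ha : a ≫ fX = fY) (hb : b ≫ fX = fY), i ≫ a = i ≫ e → i ≫ b = i ≫ e →
      i ≫ pullback.lift a b (ha.trans hb.symm) = i ≫ pullback.lift e e rfl := by
    intro a b ha hb h1 h2
    apply pullback.hom_ext
    · rw [Category.assoc, Category.assoc, pullback.lift_fst, pullback.lift_fst, h1]
    · rw [Category.assoc, Category.assoc, pullback.lift_snd, pullback.lift_snd, h2]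
  set p := pullback.lift g g' (hg.trans hg'.symm) with hp
  set p₁ := pullback.lift g e (hg.trans he.symm) with hp₁
  set p₂ := pullback.lift e g' (he.trans hg'.symm) with hp₂
  set p₀ := pullback.lift e e (rfl : e ≫ fX = e ≫ fX) with hp₀
  set p' := pullback.lift g' g (hg'.trans hg.symm) with hp'
  set p₁' := pullback.lift g' e (hg'.trans he.symm) with hp₁'
  set p₂' := pullback.lift e g (he.trans hg.symm) with hp₂'
  have hc : i ≫ p = i ≫ p₀ := hlift g g' hg hg' hig hig'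
  have hc₁ : i ≫ p₁ = i ≫ p₀ := hlift g e hg he hig rfl
  have hc₂ : i ≫ p₂ = i ≫ p₀ := hlift e g' he hg' rfl hig'
  have hc' : i ≫ p' = i ≫ p₀ := hlift g' g hg' hg hig' hig
  have hc₁' : i ≫ p₁' = i ≫ p₀ := hlift g' e hg' he hig' rfl
  have hc₂' : i ≫ p₂' = i ≫ p₀ := hlift e g he hg rfl hig
  -- the chart on X
  obtain ⟨_, ⟨U, hU, rfl⟩, hxU, -⟩ := X.isBasis_affineOpens.exists_subset_of_mem_open
    (Set.mem_univ (e y)) isOpen_univ
  have hU' : IsAffineOpen U := hU
  let jU : Spec (CommRingCat.of Γ(X, U)) ⟶ X := hU'.fromSpec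
  haveI : IsOpenImmersion jU := inferInstanceAs (IsOpenImmersion hU'.fromSpec)
  have hrjU : Set.range jU = (U : Set X) := hU'.range_fromSpec
  let φB : CommRingCat.of R ⟶ CommRingCat.of Γ(X, U) := Spec.preimage (jU ≫ fX)
  letI : Algebra R Γ(X, U) := φB.hom.toAlgebra
  have hjU : jU ≫ fX = Spec.map (CommRingCat.ofHom (algebraMap R Γ(X, U))) := by
    change _ = Spec.map (CommRingCat.ofHom φB.hom)
    rw [CommRingCat.ofHom_hom, Spec.map_preimage]
  -- the point z
  have hz : p₀ y ∈ Set.range (κ fX jU hjU) := by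
    rw [range_κ, hrjU]
    constructor
    · change (pullback.fst fX fX) (p₀ y) ∈ (U : Set X)
      rw [← Scheme.Hom.comp_apply, hp₀, pullback.lift_fst]; exact hxU
    · change (pullback.snd fX fX) (p₀ y) ∈ (U : Set X)
      rw [← Scheme.Hom.comp_apply, hp₀, pullback.lift_snd]; exact hxU
  obtain ⟨t, ht⟩ := hz
  have hμz : μ (p₀ y) ∈ (U : Set X) := by
    rw [← Scheme.Hom.comp_apply, hp₀, h_ee]; exact hxU
  let O : TopologicalSpace.Opens (PrimeSpectrum (Γ(X, U) ⊗[R] Γ(X, U))) :=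
    ⟨(κ fX jU hjU ≫ μ) ⁻¹' (U : Set X), U.isOpen.preimage (κ fX jU hjU ≫ μ).continuous⟩
  have htO : t ∈ O := by
    change (κ fX jU hjU ≫ μ) t ∈ (U : Set X)
    rw [Scheme.Hom.comp_apply, ht]; exact hμz
  obtain ⟨_, ⟨h, rfl⟩, hth, hhO⟩ :=
    (TopologicalSpace.Opens.isBasis_iff_nbhd.mp PrimeSpectrum.isBasis_basic_opens) htO
  have hrange_μ : Set.range (κh fX jU hjU h ≫ μ) ⊆ Set.range jU := by
    rintro _ ⟨s, rfl⟩
    rw [hrjU, Scheme.Hom.comp_apply]
    have hs : (κh fX jU hjU h) s ∈ Set.range (κh fX jU hjU h) := ⟨s, rfl⟩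
    rw [range_κh] at hs
    obtain ⟨t', ht', ht'eq⟩ := hs
    rw [← ht'eq]
    have : t' ∈ O := hhO ht'
    exact this
  let mstar : CommRingCat.of Γ(X, U) ⟶ CommRingCat.of (Localization.Away h) :=
    Spec.preimage (IsOpenImmersion.lift jU (κh fX jU hjU h ≫ μ) hrange_μ)
  have hm : κh fX jU hjU h ≫ μ = Spec.map mstar ≫ jU := by
    rw [Spec.map_preimage, IsOpenImmersion.lift_fac]
  have hzW : p₀ y ∈ Set.range (κh fX jU hjU h) := by
    rw [range_κh]; exact ⟨t, hth, ht⟩
  -- the chart on Y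
  have hyW : y ∈ (p₀ ⁻¹ᵁ (κh fX jU hjU h).opensRange : Y.Opens) := hzW
  obtain ⟨_, ⟨V, hV, rfl⟩, hyV, hVW⟩ := Y.isBasis_affineOpens.exists_subset_of_mem_open hyW
    (p₀ ⁻¹ᵁ (κh fX jU hjU h).opensRange).isOpen
  have hV' : IsAffineOpen V := hV
  let j' : Spec (CommRingCat.of Γ(Y, V)) ⟶ Y := hV'.fromSpec
  have hrj' : Set.range j' = (V : Set Y) := hV'.range_fromSpec
  have hrange : ∀ r : Y ⟶ pullback fX fX, i ≫ r = i ≫ p₀ →
      Set.range (j' ≫ r) ⊆ Set.range (κh fX jU hjU h) := by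
    intro r hr
    rintro _ ⟨s, rfl⟩
    rw [Scheme.Hom.comp_apply, htop r p₀ hr]
    have hs : j' s ∈ (V : Set Y) := by rw [← hrj']; exact ⟨s, rfl⟩
    exact hVW hs
  have key := chart_comm J fX fY jU hjU h j' μ hm hJ p p₁ p₂ p₀ p' p₁' p₂'
    (hrange p hc) (hrange p₁ hc₁) (hrange p₂ hc₂) (hrange p₀ rfl) (hrange p' hc') (hrange p₁' hc₁')
    (hrange p₂' hc₂') hc hc₁ hc₂ hc' hc₁' hc₂'
    (by rw [hp, hp₁, pullback.lift_fst, pullback.lift_fst])
    (by rw [hp₂, hp₀, pullback.lift_fst, pullback.lift_fst])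
    (by rw [hp, hp₂, pullback.lift_snd, pullback.lift_snd])
    (by rw [hp₁, hp₀, pullback.lift_snd, pullback.lift_snd])
    (by rw [hp', hp₁', pullback.lift_fst, pullback.lift_fst])
    (by rw [hp₂', hp₀, pullback.lift_fst, pullback.lift_fst])
    (by rw [hp', hp₂', pullback.lift_snd, pullback.lift_snd])
    (by rw [hp₁', hp₀, pullback.lift_snd, pullback.lift_snd])
    (by rw [hp₁, hp₂', h_ge, h_eg]) (by rw [hp₂, hp₁', h_eg', h_g'e])
  refine ⟨V, hyV, ?_⟩
  have hι : Scheme.Opens.ι V = hV'.isoSpec.hom ≫ j' := hV'.isoSpec_hom_fromSpec.symm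
  rw [hι, Category.assoc, Category.assoc, key]

include hJ hig hig' h_ge h_eg h_g'e h_eg' h_ee in
theorem main_sch :
    pullback.lift g g' (hg.trans hg'.symm) ≫ μ = pullback.lift g' g (hg'.trans hg.symm) ≫ μ := by
  have H := local_comm R J hJ fX fY μ g g' e hg hg' he hig hig' h_ge h_eg h_g'e h_eg' h_ee
  choose V hyV hV using H
  have hcov : TopologicalSpace.IsOpenCover V := by
    rw [TopologicalSpace.IsOpenCover, eq_top_iff]
    intro y _
    exact TopologicalSpace.Opens.mem_iSup.mpr ⟨y, hyV y⟩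
  refine (Y.openCoverOfIsOpenCover V hcov).hom_ext _ _ (fun y => ?_)
  exact hV y

end

end Groth.Agent.Helper3.SqZero3
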