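import Mathlib
import Groth.Prelude.Def_Red
import Groth.Agent.Helper3.SqZero3

set_option autoImplicit false
set_option linter.style.haveILetI false
set_option linter.unusedSectionVars false
set_option linter.unusedVariables false
set_option linter.style.haveILetI false
set_option linter.unusedSectionVars false
set_option linter.unusedVariables false

universe u

open AlgebraicGeometry CategoryTheory CategoryTheory.Limits MonObj CartesianMonoidalCategory MonoidalCategory

namespace Groth.Agent.Helper3.SqZero4

open Groth.Agent.Helper3.SqZero3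

theorem main (R : Type u) [CommRing R] (J : Ideal R) (hJ : J * J = ⊥)
    (X : Over (Spec (CommRingCat.of R))) [GrpObj X] (Y : Over (Spec (CommRingCat.of R))) (g g' : Y ⟶ X)
    (hg : (Over.pullback (Spec.map (CommRingCat.ofHom (Ideal.Quotient.mk J)))).map g = 1)
    (hg' : (Over.pullback (Spec.map (CommRingCat.ofHom (Ideal.Quotient.mk J)))).map g' = 1) :
    g * g' = g' * g := by
  have hone : (Over.pullback (Spec.map (CommRingCat.ofHom (Ideal.Quotient.mk J)))).map (1 : Y ⟶ X) = 1 :=
    Functor.map_one _
  have hleft : ∀ k k' : Y ⟶ X,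
      (Over.pullback (Spec.map (CommRingCat.ofHom (Ideal.Quotient.mk J)))).map k =
        (Over.pullback (Spec.map (CommRingCat.ofHom (Ideal.Quotient.mk J)))).map k' →
      pullback.fst Y.hom (Spec.map (CommRingCat.ofHom (Ideal.Quotient.mk J))) ≫ k.left =
        pullback.fst Y.hom (Spec.map (CommRingCat.ofHom (Ideal.Quotient.mk J))) ≫ k'.left := by
    intro k k' hkk
    have := congrArg (fun k : (Over.pullback (Spec.map (CommRingCat.ofHom (Ideal.Quotient.mk J)))).obj Y ⟶
      (Over.pullback (Spec.map (CommRingCat.ofHom (Ideal.Quotient.mk J)))).obj X =>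
        k.left ≫ pullback.fst X.hom (Spec.map (CommRingCat.ofHom (Ideal.Quotient.mk J)))) hkk
    simpa [pullback.lift_fst] using this
  have hunit : ∀ a b : Y ⟶ X, (a * b).left =
      pullback.lift a.left b.left ((Over.w a).trans (Over.w b).symm) ≫ (μ : X ⊗ X ⟶ X).left := by
    intro a b
    rw [Hom.mul_def, Over.comp_left, Over.lift_left]
  apply Over.OverMorphism.ext
  rw [hunit, hunit]
  refine main_sch R J hJ X.hom Y.hom (μ : X ⊗ X ⟶ X).left g.left g'.left (1 : Y ⟶ X).left
    (Over.w g) (Over.w g') (Over.w (1 : Y ⟶ X)) (hleft g 1 (hg.trans hone.symm))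
    (hleft g' 1 (hg'.trans hone.symm)) ?_ ?_ ?_ ?_ ?_
  · rw [← hunit, _root_.mul_one]
  · rw [← hunit, _root_.one_mul]
  · rw [← hunit, _root_.mul_one]
  · rw [← hunit, _root_.one_mul]
  · rw [← hunit, _root_.mul_one]

end Groth.Agent.Helper3.SqZero4
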