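import Mathlib
import Groth.Agent.Helper3.StalkNbhd2

/-!
Unramified local homomorphisms in terms of the quotient by the extended maximal ideal.
-/

namespace Groth.Agent.Helper3.StalkNbhd

open IsLocalRing

universe u

/-- transport lemma -/
lemma quot_aux {R S : Type u} [CommRing R] [CommRing S] [IsLocalRing R] [IsLocalRing S]
    [Algebra R S] [IsLocalHom (algebraMap R S)] (J : Ideal S) (hJ : J = maximalIdeal S)
    (hle : maximalIdeal R ≤ J.comap (algebraMap R S)) :
    letI := (Ideal.quotientMap J (algebraMap R S) hle).toAlgebra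
    (Module.Finite (R ⧸ maximalIdeal R) (S ⧸ J) ∧ Algebra.IsSeparable (R ⧸ maximalIdeal R) (S ⧸ J)) ↔
      (Module.Finite (ResidueField R) (ResidueField S) ∧
        Algebra.IsSeparable (ResidueField R) (ResidueField S)) := by
  subst hJ
  have halg : (Ideal.quotientMap (maximalIdeal S) (algebraMap R S) hle).toAlgebra =
      (inferInstance : Algebra (ResidueField R) (ResidueField S)) := by
    refine Algebra.algebra_ext _ _ fun x ↦ ?_
    obtain ⟨x, rfl⟩ := Ideal.Quotient.mk_surjective x
    rfl
  rw [halg]
  rfl

/-- local ring characterization -/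
lemma fu_iff_quot {R S : Type u} [CommRing R] [CommRing S] [IsLocalRing R] [IsLocalRing S]
    [Algebra R S] [IsLocalHom (algebraMap R S)] [Algebra.EssFiniteType R S] :
    letI := (Ideal.quotientMap ((maximalIdeal R).map (algebraMap R S)) (algebraMap R S)
      Ideal.le_comap_map).toAlgebra
    Algebra.FormallyUnramified R S ↔
      (IsField (S ⧸ (maximalIdeal R).map (algebraMap R S)) ∧
        Module.Finite (R ⧸ maximalIdeal R) (S ⧸ (maximalIdeal R).map (algebraMap R S)) ∧
        Algebra.IsSeparable (R ⧸ maximalIdeal R) (S ⧸ (maximalIdeal R).map (algebraMap R S))) := by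
  constructor
  · intro h
    have hJ := Algebra.FormallyUnramified.map_maximalIdeal (R := R) (S := S)
    refine ⟨Algebra.FormallyUnramified.isField_quotient_map_maximalIdeal, ?_⟩
    exact (quot_aux _ hJ Ideal.le_comap_map).mpr ⟨inferInstance, inferInstance⟩
  · rintro ⟨h1, h2⟩
    have hJ : (maximalIdeal R).map (algebraMap R S) = maximalIdeal S := by
      apply eq_maximalIdeal
      rwa [Ideal.Quotient.maximal_ideal_iff_isField_quotient]
    have := (quot_aux _ hJ Ideal.le_comap_map).mp h2
    have := this.2
    exact Algebra.FormallyUnramified.of_map_maximalIdeal hJ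

end Groth.Agent.Helper3.StalkNbhd
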