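import Mathlib

set_option backward.isDefEq.respectTransparency.types false
set_option maxHeartbeats 4000000
set_option synthInstance.maxHeartbeats 400000
set_option autoImplicit false
universe u
open CategoryTheory CategoryTheory.Limits AlgebraicGeometry TopologicalSpace Opposite

namespace Groth.Agent.Helper3.StalkOpen

/-- If `D(b)` consists of generizations of `p`, then the localization at `p` is the
localization away from `b`. -/
theorem isLocalization_away_of_atPrime {B S : Type u} [CommRing B] [CommRing S] [Algebra B S]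
    (p : Ideal B) [p.IsPrime] [IsLocalization.AtPrime S p] (b : B) (hb : b ∉ p)
    (h : ∀ q : Ideal B, q.IsPrime → b ∉ q → q ≤ p) : IsLocalization.Away b S := by
  have h1 : Submonoid.powers b ≤ p.primeCompl := by
    rintro _ ⟨n, rfl⟩
    exact fun hn => hb (Ideal.IsPrime.mem_of_pow_mem inferInstance n hn)
  have h2 : ∀ s ∈ p.primeCompl, ∃ m ∈ Submonoid.powers b, s ∣ m := by
    intro s hs
    by_contra hcon
    push Not at hcon
    have hdisj : Disjoint ((Ideal.span {s} : Ideal B) : Set B) (Submonoid.powers b : Set B) := by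
      rw [Set.disjoint_left]
      intro m hm1 hm2
      exact hcon m hm2 (Ideal.mem_span_singleton.mp hm1)
    obtain ⟨q, hq, hsq, hqd⟩ := Ideal.exists_le_prime_disjoint (Ideal.span {s}) (Submonoid.powers b) hdisj
    have hbq : b ∉ q := fun hbq =>
      Set.disjoint_left.mp hqd hbq (Submonoid.mem_powers b)
    exact hs (h q hq hbq (hsq (Ideal.subset_span rfl)))
  exact (IsLocalization.iff_of_le_of_exists_dvd (Submonoid.powers b) p.primeCompl h1 h2).mpr
    inferInstance

/-- In a finite space, the set of generizations of a point is open. -/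
theorem isOpen_generizations {T : Type*} [TopologicalSpace T] [Finite T] (p : T) :
    IsOpen {q : T | q ⤳ p} := by
  have : {q : T | q ⤳ p} = ⋂₀ {s : Set T | IsOpen s ∧ p ∈ s} := by
    ext q
    simp only [Set.mem_sInter, specializes_iff_forall_open]
    constructor
    · intro h s hs; exact h s hs.1 hs.2
    · intro h s hs hp; exact h s ⟨hs, hp⟩
  rw [this]
  exact (Set.toFinite _).isOpen_sInter fun s hs => hs.1

theorem main {X : Scheme.{u}} (x : X) {U : X.Opens} (hU : IsAffineOpen U) (hxU : x ∈ U)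
    [Finite ↥(Spec Γ(X, U))] : IsOpenImmersion (X.fromSpecStalk x) := by
  set p : PrimeSpectrum Γ(X, U) := hU.primeIdealOf ⟨x, hxU⟩ with hp
  haveI : Finite (PrimeSpectrum Γ(X, U)) := ‹Finite ↥(Spec Γ(X, U))›
  have hG : IsOpen {q : PrimeSpectrum Γ(X, U) | q ⤳ p} := isOpen_generizations p
  obtain ⟨_, ⟨_, ⟨b, rfl⟩, rfl⟩, hpb, hbG⟩ :=
    PrimeSpectrum.isBasis_basic_opens.exists_subset_of_mem_open
    (show p ∈ {q : PrimeSpectrum Γ(X, U) | q ⤳ p} from specializes_rfl) hG
  letI : Algebra Γ(X, U) (X.presheaf.stalk x) := (X.presheaf.germ U x hxU).hom.toAlgebra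
  haveI := hU.isLocalization_stalk ⟨x, hxU⟩
  haveI : IsLocalization.Away b (X.presheaf.stalk x) :=
    isLocalization_away_of_atPrime p.asIdeal b hpb (fun q hq hbq => by
      have : (⟨q, hq⟩ : PrimeSpectrum Γ(X, U)) ⤳ p := hbG (show (⟨q, hq⟩ : PrimeSpectrum _) ∈
        (PrimeSpectrum.basicOpen b : Set _) from hbq)
      exact (PrimeSpectrum.le_iff_specializes _ _).mpr this)
  have h1 : IsOpenImmersion (Spec.map (CommRingCat.ofHom (algebraMap Γ(X, U) (X.presheaf.stalk x)))) :=
    IsOpenImmersion.of_isLocalization b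
  have h2 : CommRingCat.ofHom (algebraMap Γ(X, U) (X.presheaf.stalk x)) = X.presheaf.germ U x hxU :=
    rfl
  rw [h2] at h1
  rw [← hU.fromSpecStalk_eq_fromSpecStalk hxU, IsAffineOpen.fromSpecStalk]
  infer_instance

theorem main' (R : Type u) [CommRing R] [Finite (PrimeSpectrum R)]
    {X : Scheme.{u}} (f : X ⟶ Spec (CommRingCat.of R)) [LocallyOfFiniteType f]
    [LocallyQuasiFinite f] (x : X) :
    IsOpenImmersion (X.fromSpecStalk x) ∧ LocallyOfFiniteType (X.fromSpecStalk x ≫ f) := by
  obtain ⟨_, ⟨U', hU' : IsAffineOpen U', rfl⟩, hxU', -⟩ :=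
    X.isBasis_affineOpens.exists_subset_of_mem_open (Set.mem_univ x) isOpen_univ
  obtain ⟨U, hU, hxU⟩ : ∃ U : X.Opens, IsAffineOpen U ∧ x ∈ U := ⟨U', hU', hxU'⟩
  haveI : IsAffine (U : Scheme.{u}) := hU
  haveI : Finite ↥(Spec (CommRingCat.of R)) := ‹Finite (PrimeSpectrum R)›
  have hfin : Finite ↥(U : Scheme.{u}) := by
    have h1 := (U.ι ≫ f).finite_preimage (s := Set.univ) Set.finite_univ
    rw [Set.preimage_univ] at h1
    exact Set.finite_univ_iff.mp h1
  haveI : Finite ↥(Spec Γ(X, U)) :=
    Finite.of_injective _ hU.isoSpec.inv.homeomorph.injective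
  have h1 : IsOpenImmersion (X.fromSpecStalk x) := main x hU hxU
  exact ⟨h1, inferInstance⟩

end Groth.Agent.Helper3.StalkOpen
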