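import Mathlib

set_option linter.style.haveILetI false
set_option linter.unusedSectionVars false
set_option linter.unusedVariables false

namespace Groth.Agent.Helper3.StanleyReisner

open MvPolynomial Finset

universe u v

section Alg

variable (K : Type u) [Field K] (L : Type v) [PartialOrder L]

/-- exponents of the generators -/
def gens : Set (L →₀ ℕ) :=
  {s | ∃ a b : L, ¬ a ≤ b ∧ ¬ b ≤ a ∧ s = Finsupp.single a 1 + Finsupp.single b 1}

theorem gens_image :
    {f : MvPolynomial L K | ∃ a b : L, ¬ a ≤ b ∧ ¬ b ≤ a ∧ f = X a * X b} =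
      (fun s => monomial s (1 : K)) '' gens L := by
  ext f
  constructor
  · rintro ⟨a, b, h1, h2, rfl⟩
    refine ⟨_, ⟨a, b, h1, h2, rfl⟩, ?_⟩
    simp [X, monomial_mul]
  · rintro ⟨s, ⟨a, b, h1, h2, rfl⟩, rfl⟩
    refine ⟨a, b, h1, h2, ?_⟩
    simp [X, monomial_mul]

variable {L}

theorem exists_gens_le_iff (d : L →₀ ℕ) :
    (∃ s ∈ gens L, s ≤ d) ↔ ¬ IsChain (fun a b : L => a ≤ b) (d.support : Set L) := by
  classical
  constructor
  · rintro ⟨s, ⟨a, b, h1, h2, rfl⟩, hle⟩ hch
    have hab : a ≠ b := fun h => h1 (h ▸ le_rfl)
    have ha : a ∈ d.support := by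
      have := hle a
      simp only [Finsupp.coe_add, Pi.add_apply, Finsupp.single_eq_same,
        Finsupp.single_eq_of_ne hab] at this
      rw [Finsupp.mem_support_iff]; omega
    have hb : b ∈ d.support := by
      have := hle b
      simp only [Finsupp.coe_add, Pi.add_apply, Finsupp.single_eq_same,
        Finsupp.single_eq_of_ne hab.symm] at this
      rw [Finsupp.mem_support_iff]; omega
    rcases hch ha hb hab with h | h
    · exact h1 h
    · exact h2 h
  · intro hch
    rw [IsChain, Set.Pairwise] at hch
    push Not at hch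
    obtain ⟨a, ha, b, hb, hab, h1, h2⟩ := hch
    refine ⟨_, ⟨a, b, h1, h2, rfl⟩, ?_⟩
    intro c
    simp only [Finsupp.coe_add, Pi.add_apply]
    have ha' : 1 ≤ d a := Nat.one_le_iff_ne_zero.mpr (Finsupp.mem_support_iff.mp ha)
    have hb' : 1 ≤ d b := Nat.one_le_iff_ne_zero.mpr (Finsupp.mem_support_iff.mp hb)
    by_cases hca : c = a
    · subst hca
      rw [Finsupp.single_eq_same, Finsupp.single_eq_of_ne hab]; omega
    · by_cases hcb : c = b
      · subst hcb
        rw [Finsupp.single_eq_same, Finsupp.single_eq_of_ne hab.symm]; omega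
      · rw [Finsupp.single_eq_of_ne hca, Finsupp.single_eq_of_ne hcb]; omega

/-- The Stanley–Reisner ideal -/
noncomputable def I : Ideal (MvPolynomial L K) :=
  Ideal.span {f : MvPolynomial L K | ∃ a b : L, ¬ a ≤ b ∧ ¬ b ≤ a ∧ f = X a * X b}

theorem mem_I_iff (p : MvPolynomial L K) :
    p ∈ I K (L := L) ↔ ∀ d ∈ p.support, ¬ IsChain (fun a b : L => a ≤ b) (d.support : Set L) := by
  rw [I, gens_image, mem_ideal_span_monomial_image]
  exact forall₂_congr (fun d _ => exists_gens_le_iff d)

end Alg

section Lin

variable (K : Type u) [Field K] {L : Type v} [PartialOrder L] [Fintype L] (m : ℕ)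

open Classical in
/-- good monomials: degree `m` with support a chain -/
noncomputable def Good : Finset (L →₀ ℕ) :=
  ((Finset.univ : Finset L).finsuppAntidiag m).filter
    (fun d => IsChain (fun a b : L => a ≤ b) (d.support : Set L))

theorem mem_Good (d : L →₀ ℕ) : d ∈ Good (L := L) m ↔
    d.degree = m ∧ IsChain (fun a b : L => a ≤ b) (d.support : Set L) := by
  classical
  rw [Good, Finset.mem_filter, mem_finsuppAntidiag, Finsupp.degree_eq_sum]
  simp

/-- the quotient map as a linear map -/
noncomputable abbrev φ : MvPolynomial L K →ₗ[K] MvPolynomial L K ⧸ I K (L := L) :=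
  (Ideal.Quotient.mkₐ K (I K (L := L))).toLinearMap

/-- the candidate basis -/
noncomputable def vv : Good (L := L) m → MvPolynomial L K ⧸ I K (L := L) :=
  fun d => φ K (monomial d.1 1)

theorem linearIndependent_vv : LinearIndependent K (vv K m (L := L)) := by
  classical
  rw [Fintype.linearIndependent_iff]
  intro g hg j
  have h1 : (∑ i, g i • vv K m i) = φ K (∑ i, g i • monomial i.1 (1 : K)) := by
    rw [map_sum]
    exact Finset.sum_congr rfl (fun i _ => (map_smul _ _ _).symm)
  rw [h1] at hg
  have h2 : (∑ i : Good (L := L) m, g i • monomial i.1 (1 : K)) ∈ I K (L := L) :=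
    Ideal.Quotient.eq_zero_iff_mem.mp hg
  rw [mem_I_iff] at h2
  by_contra hne
  have h3 : coeff j.1 (∑ i : Good (L := L) m, g i • monomial i.1 (1 : K)) = g j := by
    rw [coeff_sum, Finset.sum_eq_single j]
    · simp
    · intro i _ hij
      rw [coeff_smul, coeff_monomial, if_neg (fun h => hij (Subtype.ext h)), smul_zero]
    · intro h; exact absurd (Finset.mem_univ j) h
  have h4 : j.1 ∈ (∑ i : Good (L := L) m, g i • monomial i.1 (1 : K)).support := by
    rw [mem_support_iff, h3]; exact hne
  exact h2 j.1 h4 ((mem_Good m j.1).mp j.2).2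

theorem map_eq_span :
    Submodule.map (φ K (L := L)) (homogeneousSubmodule L K m) =
      Submodule.span K (Set.range (vv K m (L := L))) := by
  classical
  apply le_antisymm
  · rintro _ ⟨p, hp, rfl⟩
    rw [SetLike.mem_coe, mem_homogeneousSubmodule] at hp
    rw [← support_sum_monomial_coeff p, map_sum]
    refine Submodule.sum_mem _ (fun d hd => ?_)
    have hdeg : d.degree = m := by
      by_contra hne
      exact (mem_support_iff.mp hd) (hp.coeff_eq_zero hne)
    have h1 : monomial d (coeff d p) = coeff d p • monomial d (1 : K) := by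
      rw [smul_monomial, smul_eq_mul, mul_one]
    rw [h1, map_smul]
    refine Submodule.smul_mem _ _ ?_
    by_cases hch : IsChain (fun a b : L => a ≤ b) (d.support : Set L)
    · exact Submodule.subset_span ⟨⟨d, (mem_Good m d).mpr ⟨hdeg, hch⟩⟩, rfl⟩
    · have : monomial d (1 : K) ∈ I K (L := L) := by
        rw [mem_I_iff]
        intro d' hd'
        rw [support_monomial, if_neg one_ne_zero, Finset.mem_singleton] at hd'
        rw [hd']; exact hch
      have h2 : φ K (monomial d (1 : K)) = 0 := Ideal.Quotient.eq_zero_iff_mem.mpr this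
      rw [h2]; exact Submodule.zero_mem _
  · rw [Submodule.span_le]
    rintro _ ⟨d, rfl⟩
    exact ⟨monomial d.1 1, isHomogeneous_monomial _ ((mem_Good m d.1).mp d.2).1, rfl⟩

theorem finrank_eq_card :
    Module.finrank K (Submodule.map (φ K (L := L)) (homogeneousSubmodule L K m)) =
      (Good (L := L) m).card := by
  rw [map_eq_span, finrank_span_eq_card (linearIndependent_vv K m), Fintype.card_coe]

end Lin

section Count

variable {L : Type v} [Fintype L]

/-- number of `d` with support exactly `C` and total degree `m` -/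
theorem card_support_eq [DecidableEq L] (C : Finset L) (hC : C.Nonempty) (m : ℕ) (hm : 1 ≤ m) :
    (((Finset.univ : Finset L).finsuppAntidiag m).filter (fun d => d.support = C)).card =
      (m - 1).choose (C.card - 1) := by
  classical
  have hc1 : 1 ≤ C.card := Finset.card_pos.mpr hC
  have hsum : ∀ d : L →₀ ℕ, d.support = C → ∑ i, d i = ∑ i ∈ C, d i := by
    intro d hd
    symm
    apply Finset.sum_subset (Finset.subset_univ _)
    intro i _ hi
    rw [← hd] at hi
    simpa using hi
  by_cases hcm : C.card ≤ m
  · set one : L →₀ ℕ := Finsupp.indicator C (fun _ _ => 1) with hone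
    have hone_in : ∀ i ∈ C, one i = 1 := fun i hi => by
      rw [hone, Finsupp.indicator_apply, dif_pos hi]
    have hone_out : ∀ i ∉ C, one i = 0 := fun i hi => by
      rw [hone, Finsupp.indicator_apply, dif_neg hi]
    have h1 : (((Finset.univ : Finset L).finsuppAntidiag m).filter (fun d => d.support = C)).card
        = (C.finsuppAntidiag (m - C.card)).card := by
      apply Finset.card_nbij' (fun d => d - one) (fun e => e + one)
      · intro d hd
        simp only [Finset.coe_filter, Set.mem_setOf_eq, mem_finsuppAntidiag] at hd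
        obtain ⟨⟨hd1, -⟩, hd2⟩ := hd
        rw [Finset.mem_coe, mem_finsuppAntidiag]
        beta_reduce
        constructor
        · have h2 : C.sum ⇑(d - one) + C.card = m := by
            rw [← hd1, hsum d hd2, Finset.card_eq_sum_ones, ← Finset.sum_add_distrib]
            apply Finset.sum_congr rfl
            intro i hi
            rw [Finsupp.tsub_apply, hone_in i hi]
            have : d i ≠ 0 := by rw [← Finsupp.mem_support_iff, hd2]; exact hi
            omega
          omega
        · intro i hi
          rw [Finsupp.mem_support_iff, Finsupp.tsub_apply] at hi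
          rw [← hd2, Finsupp.mem_support_iff]
          omega
      · intro e he
        rw [Finset.mem_coe, mem_finsuppAntidiag] at he
        obtain ⟨he1, he2⟩ := he
        simp only [Finset.coe_filter, Set.mem_setOf_eq, mem_finsuppAntidiag]
        have hsupp : (e + one).support = C := by
          ext i
          rw [Finsupp.mem_support_iff, Finsupp.add_apply]
          by_cases hi : i ∈ C
          · rw [hone_in i hi]; simp [hi]
          · rw [hone_out i hi]
            have : e i = 0 := by
              by_contra h; exact hi (he2 (Finsupp.mem_support_iff.mpr h))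
            simp [hi, this]
        refine ⟨⟨?_, Finset.subset_univ _⟩, hsupp⟩
        rw [hsum _ hsupp]
        simp only [Finsupp.add_apply]
        rw [Finset.sum_add_distrib, he1, Finset.sum_congr rfl hone_in, Finset.sum_const,
          smul_eq_mul, mul_one]
        omega
      · intro d hd
        simp only [Finset.coe_filter, Set.mem_setOf_eq, mem_finsuppAntidiag] at hd
        obtain ⟨-, hd2⟩ := hd
        ext i
        simp only [Finsupp.add_apply, Finsupp.tsub_apply]
        by_cases hi : i ∈ C
        · rw [hone_in i hi]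
          have : d i ≠ 0 := by rw [← Finsupp.mem_support_iff, hd2]; exact hi
          omega
        · rw [hone_out i hi]; omega
      · intro e he
        ext i
        simp
    rw [h1, card_finsuppAntidiag_nat_eq_choose]
    have h2 : C.card + (m - C.card) - 1 = m - 1 := by omega
    rw [h2]
    exact Nat.choose_symm_of_eq_add (by omega)
  · rw [Nat.choose_eq_zero_of_lt (by omega), Finset.card_eq_zero, Finset.filter_eq_empty_iff]
    intro d hd hd2
    rw [mem_finsuppAntidiag] at hd
    have h3 : C.card ≤ ∑ i ∈ C, d i := by
      rw [Finset.card_eq_sum_ones]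
      apply Finset.sum_le_sum
      intro i hi
      have : d i ≠ 0 := by rw [← Finsupp.mem_support_iff, hd2]; exact hi
      omega
    rw [← hsum d hd2, hd.1] at h3
    exact hcm h3

end Count

theorem main (K : Type u) [Field K] (L : Type v) [DistribLattice L]
    [Fintype L] (m : ℕ) (hm : 1 ≤ m) :
    Module.finrank K ((MvPolynomial.homogeneousSubmodule L K m).map
        (Ideal.Quotient.mkₐ K (Ideal.span {f : MvPolynomial L K | ∃ a b : L, ¬ a ≤ b ∧ ¬ b ≤ a ∧
          f = MvPolynomial.X a * MvPolynomial.X b})).toLinearMap) =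
      ∑ᶠ C : {C : Finset L // C.Nonempty ∧ IsChain (fun a b : L => a ≤ b) (↑C : Set L)},
        Nat.choose (m - 1) (C.1.card - 1) := by
  classical
  have h1 := finrank_eq_card K (L := L) m
  change Module.finrank K (Submodule.map (φ K (L := L)) (homogeneousSubmodule L K m)) = _
  rw [h1]
  set Chains : Finset (Finset L) := Finset.univ.filter
    (fun C => C.Nonempty ∧ IsChain (fun a b : L => a ≤ b) (↑C : Set L)) with hChains
  rw [finsum_subtype_eq_finsum_cond
    (f := fun C : Finset L => Nat.choose (m - 1) (C.card - 1))
    (fun C : Finset L => C.Nonempty ∧ IsChain (fun a b : L => a ≤ b) (↑C : Set L)),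
    finsum_cond_eq_sum_of_cond_iff (t := Chains) _ (by
      intro C _
      rw [hChains, Finset.mem_filter]
      simp)]
  have hmaps : ((Good (L := L) m : Finset (L →₀ ℕ)) : Set (L →₀ ℕ)).MapsTo
      (fun d => d.support) Chains := by
    intro d hd
    rw [Finset.mem_coe, mem_Good] at hd
    rw [Finset.mem_coe, hChains, Finset.mem_filter]
    refine ⟨Finset.mem_univ _, ?_, hd.2⟩
    rw [Finsupp.support_nonempty_iff]
    rintro rfl
    rw [map_zero] at hd
    omega
  rw [Finset.card_eq_sum_card_fiberwise hmaps]
  apply Finset.sum_congr rfl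
  intro C hC
  rw [hChains, Finset.mem_filter] at hC
  rw [← card_support_eq C hC.2.1 m hm]
  congr 1
  ext d
  simp only [Finset.mem_filter, mem_Good, mem_finsuppAntidiag, Finsupp.degree_eq_sum]
  constructor
  · rintro ⟨⟨h1, -⟩, h3⟩
    exact ⟨⟨h1, Finset.subset_univ _⟩, h3⟩
  · rintro ⟨⟨h1, -⟩, h3⟩
    exact ⟨⟨h1, h3 ▸ hC.2.2⟩, h3⟩

end Groth.Agent.Helper3.StanleyReisner
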