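import Mathlib

/-!
A standard étale algebra is, locally, dominated by a finite free cover (the splitting algebra of
the monic polynomial). (S9453)
-/

namespace Groth.Agent.Helper3.StdEtCover

open Polynomial

universe u

/-- Field level: if `f` splits over `L` with roots `m` and `x` is a root of `f` in `M`, some root
`a ∈ m` has the same minimal polynomial as `x`. -/
theorem field_level {K M L : Type*} [Field K] [Field M] [Field L] [Algebra K M] [Algebra K L]
    (f : K[X]) (hf : f.Monic) (x : M) (hx : aeval x f = 0) (m : Multiset L)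
    (hm : f.map (algebraMap K L) = (m.map (fun a => X - C a)).prod) :
    ∃ a ∈ m, ∀ t : K[X], aeval a t = 0 ↔ aeval x t = 0 := by
  have hint : IsIntegral K x := ⟨f, hf, hx⟩
  have hdvd : minpoly K x ∣ f := minpoly.dvd K x hx
  have hirr : Irreducible (minpoly K x) := minpoly.irreducible hint
  have hsplit : ((minpoly K x).map (algebraMap K L)).Splits := by
    refine Splits.of_dvd (g := f.map (algebraMap K L)) ?_ ?_ (Polynomial.map_dvd _ hdvd)
    · rw [hm]
      refine Splits.multisetProd ?_
      intro p hp
      obtain ⟨a, -, rfl⟩ := Multiset.mem_map.1 hp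
      exact Splits.X_sub_C a
    · exact (hf.map _).ne_zero
  have hdeg : ((minpoly K x).map (algebraMap K L)).degree ≠ 0 := by
    rw [degree_map]; exact (minpoly.degree_pos hint).ne'
  obtain ⟨b, hb⟩ := hsplit.exists_eval_eq_zero hdeg
  have hbf : eval b (f.map (algebraMap K L)) = 0 := by
    obtain ⟨c, hc⟩ := Polynomial.map_dvd (algebraMap K L) hdvd
    rw [hc, eval_mul, hb, zero_mul]
  rw [hm, eval_multiset_prod, Multiset.prod_eq_zero_iff] at hbf
  obtain ⟨p, hp, hp0⟩ := Multiset.mem_map.1 hbf
  obtain ⟨a, ha, rfl⟩ := Multiset.mem_map.1 hp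
  have hab : b = a := by
    simpa [sub_eq_zero] using hp0
  subst hab
  refine ⟨b, ha, fun t => ?_⟩
  have hb' : aeval b (minpoly K x) = 0 := by rwa [aeval_def, ← eval_map]
  have hmin : minpoly K x = minpoly K b :=
    minpoly.eq_of_irreducible_of_monic hirr hb' (minpoly.monic hint)
  rw [← minpoly.dvd_iff, ← hmin, minpoly.dvd_iff]

/-- Compatibility of `aeval` with a commutative square of ring maps. -/
theorem map_aeval_eq {R S K M : Type*} [CommRing R] [CommRing S] [CommRing K] [CommRing M]
    [Algebra R S] [Algebra R K] [Algebra K M] [Algebra S M]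
    (hcomm : (algebraMap K M).comp (algebraMap R K) = (algebraMap S M).comp (algebraMap R S))
    (x : S) (t : R[X]) :
    algebraMap S M (aeval x t) = aeval (algebraMap S M x) (t.map (algebraMap R K)) := by
  rw [aeval_def, aeval_def, eval₂_map, hcomm, hom_eval₂]

/-- Ring level version of `field_level`. -/
theorem ring_level {R S S' : Type*} [CommRing R] [CommRing S] [CommRing S'] [Algebra R S]
    [Algebra R S'] (f : R[X]) (hf : f.Monic) (x : S) (hx : aeval x f = 0) (m : Multiset S')
    (hm : f.map (algebraMap R S') = (m.map (fun a => X - C a)).prod)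
    (q : Ideal S) [q.IsPrime] (q' : Ideal S') [q'.IsPrime] (h : q'.under R = q.under R) :
    ∃ a ∈ m, ∀ t : R[X], aeval a t ∈ q' ↔ aeval x t ∈ q := by
  set p : Ideal R := q.under R with hp
  let _ : Algebra p.ResidueField q.ResidueField :=
    (Ideal.ResidueField.map p q (algebraMap R S) rfl).toAlgebra
  let _ : Algebra p.ResidueField q'.ResidueField :=
    (Ideal.ResidueField.map p q' (algebraMap R S') h.symm).toAlgebra
  have hcM : (algebraMap p.ResidueField q.ResidueField).comp (algebraMap R p.ResidueField) =
      (algebraMap S q.ResidueField).comp (algebraMap R S) := by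
    ext r
    exact Ideal.ResidueField.map_algebraMap p q (algebraMap R S) rfl r
  have hcL : (algebraMap p.ResidueField q'.ResidueField).comp (algebraMap R p.ResidueField) =
      (algebraMap S' q'.ResidueField).comp (algebraMap R S') := by
    ext r
    exact Ideal.ResidueField.map_algebraMap p q' (algebraMap R S') h.symm r
  have hx' : aeval (algebraMap S q.ResidueField x) (f.map (algebraMap R p.ResidueField)) = 0 := by
    rw [← map_aeval_eq hcM, hx, map_zero]
  have hm' : (f.map (algebraMap R p.ResidueField)).map
      (algebraMap p.ResidueField q'.ResidueField) =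
      ((m.map (algebraMap S' q'.ResidueField)).map (fun a => X - C a)).prod := by
    rw [Polynomial.map_map, hcL, ← Polynomial.map_map, hm, Polynomial.map_multiset_prod,
      Multiset.map_map, Multiset.map_map]
    congr 1
    refine Multiset.map_congr rfl fun a _ => ?_
    simp
  obtain ⟨a', ha', hat⟩ := field_level _ (hf.map _) _ hx' _ hm'
  obtain ⟨a, ha, rfl⟩ := Multiset.mem_map.1 ha'
  refine ⟨a, ha, fun t => ?_⟩
  rw [← Ideal.algebraMap_residueField_eq_zero, ← Ideal.algebraMap_residueField_eq_zero (I := q),
    map_aeval_eq hcL, map_aeval_eq hcM]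
  exact hat _

/-- S9453. -/
theorem main (R : Type u) [CommRing R] (S : Type u)
    [CommRing S] [Algebra R S] [Algebra.IsStandardEtale R S] :
    ∃ (S' : Type u) (_ : CommRing S') (_ : Algebra R S'),
      Module.Finite R S' ∧ Algebra.FinitePresentation R S' ∧ Module.Flat R S' ∧
        Function.Surjective (PrimeSpectrum.comap (algebraMap R S')) ∧
        ∀ (q : Ideal S) [q.IsPrime] (q' : Ideal S') [q'.IsPrime], q'.under R = q.under R →
          ∃ (g' : S') (_ : g' ∉ q') (φ : S →ₐ[R] Localization.Away g'),
            (q'.map (algebraMap S' (Localization.Away g'))).comap φ = q := by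
  rcases subsingleton_or_nontrivial R with hR | hR
  · have hS : Subsingleton S := (algebraMap R S).codomain_trivial
    refine ⟨R, inferInstance, inferInstance, inferInstance, inferInstance, inferInstance,
      fun x => ⟨x, ?_⟩, fun q hq => ?_⟩
    · ext1; simp
    · exact absurd (Subsingleton.elim _ _) hq.ne_top
  obtain ⟨P⟩ := Algebra.IsStandardEtale.nonempty_standardEtalePresentation (R := R) (S := S)
  obtain ⟨S', _, _, hfin, hfree, hnt, hsplit⟩ := P.monic_f.exists_splits_map
  obtain ⟨m, hm⟩ := splits_iff_exists_multiset.1 hsplit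
  rw [(P.monic_f.map _).leadingCoeff, C_1, one_mul] at hm
  have hfp : Module.FinitePresentation R S' := Module.finitePresentation_of_projective R S'
  refine ⟨S', inferInstance, inferInstance, inferInstance, inferInstance, inferInstance,
    PrimeSpectrum.comap_surjective_of_faithfullyFlat, ?_⟩
  intro q _ q' _ h
  obtain ⟨a, ham, hat⟩ := ring_level P.f P.monic_f P.x P.hasMap.1 m hm q q' h
  have haf : aeval a P.f = 0 := by
    rw [aeval_def, ← eval_map, hm, eval_multiset_prod]
    refine Multiset.prod_eq_zero ?_
    rw [Multiset.map_map]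
    exact Multiset.mem_map.2 ⟨a, ham, by simp⟩
  have hg' : aeval a P.g ∉ q' := by
    rw [hat]
    intro hmem
    exact ‹q.IsPrime›.ne_top (Ideal.eq_top_of_isUnit_mem _ hmem P.hasMap.2)
  set g' := aeval a P.g with hg'def
  have hmap : P.HasMap (algebraMap S' (Localization.Away g') a) := by
    refine ⟨?_, ?_⟩
    · rw [aeval_algebraMap_apply, haf, map_zero]
    · rw [aeval_algebraMap_apply]
      exact IsLocalization.Away.algebraMap_isUnit g'
  let φ : S →ₐ[R] Localization.Away g' := (P.lift _ hmap).comp P.equivRing.toAlgHom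
  have hφx : φ P.x = algebraMap S' (Localization.Away g') a := by
    change P.lift _ hmap (P.equivRing P.x) = _
    rw [P.equivRing_x, StandardEtalePair.lift_X]
  have hφt : ∀ t : R[X], φ (aeval P.x t) = algebraMap S' (Localization.Away g') (aeval a t) := by
    intro t
    rw [← aeval_algHom_apply, hφx, aeval_algebraMap_apply]
  have hdisj : Disjoint (Submonoid.powers g' : Set S') (q' : Set S') := by
    rw [Set.disjoint_left]
    rintro _ ⟨n, rfl⟩ hn
    exact hg' (Ideal.IsPrime.mem_of_pow_mem ‹_› n hn)
  have hcm : (q'.map (algebraMap S' (Localization.Away g'))).comap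
      (algebraMap S' (Localization.Away g')) = q' :=
    IsLocalization.under_map_of_isPrime_disjoint (Submonoid.powers g') _ ‹_› hdisj
  have hprime : (q'.map (algebraMap S' (Localization.Away g'))).IsPrime :=
    IsLocalization.isPrime_of_isPrime_disjoint (Submonoid.powers g') _ _ ‹_› hdisj
  refine ⟨g', hg', φ, ?_⟩
  ext s
  obtain ⟨t, n, hst⟩ := P.exists_mul_aeval_x_g_pow_eq_aeval_x s
  have hunit : IsUnit (aeval P.x P.g ^ n) := P.hasMap.2.pow n
  rw [Ideal.mem_comap]
  have h1 : s ∈ q ↔ aeval P.x t ∈ q := by
    rw [← hst]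
    constructor
    · intro hs; exact q.mul_mem_right _ hs
    · intro hs
      obtain ⟨u, hu⟩ := hunit
      have : s = s * aeval P.x P.g ^ n * ↑u⁻¹ := by
        rw [← hu, mul_assoc, Units.mul_inv, mul_one]
      rw [this]; exact q.mul_mem_right _ hs
  have h2 : φ s ∈ q'.map (algebraMap S' (Localization.Away g')) ↔
      φ (aeval P.x t) ∈ q'.map (algebraMap S' (Localization.Away g')) := by
    rw [← hst, map_mul]
    have hunit' : IsUnit (φ (aeval P.x P.g ^ n)) := hunit.map φ
    constructor
    · intro hs; exact Ideal.mul_mem_right _ _ hs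
    · intro hs
      obtain ⟨u, hu⟩ := hunit'
      have : φ s = φ s * φ (aeval P.x P.g ^ n) * ↑u⁻¹ := by
        rw [← hu, mul_assoc, Units.mul_inv, mul_one]
      rw [this]; exact Ideal.mul_mem_right _ _ hs
  rw [h1, h2, hφt, ← hat, ← Ideal.mem_comap, hcm]

end Groth.Agent.Helper3.StdEtCover
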