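import Mathlib
import Groth.Agent.Helper3.StdInv5

set_option autoImplicit false
set_option linter.style.haveILetI false
set_option linter.unusedSectionVars false
set_option linter.unusedVariables false
set_option linter.deprecated false
set_option linter.style.haveILetI false
set_option linter.unusedSectionVars false
set_option linter.unusedVariables false

/-!
# Integral closure of a DVR in a Galois extension: the inertia invariants are étale at the prime
-/

namespace Groth.Agent.Helper3.StdInv

open Polynomial
open scoped Pointwise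

universe u v w

/-- A localization of a domain at a prime is a principal localization as soon as some `g ∉ m'`
lies in every nonzero prime not contained in `m'`. -/
theorem isLocalization_away_atPrime (S : Type*) [CommRing S] [IsDomain S] (m' : Ideal S)
    [m'.IsPrime] (g : S) (hg : g ∉ m')
    (hprime : ∀ P : Ideal S, P.IsPrime → P ≠ ⊥ → g ∉ P → P ≤ m') :
    IsLocalization.Away g (Localization.AtPrime m') := by
  refine ⟨?_, ?_, ?_⟩
  · rintro ⟨_, n, rfl⟩
    rw [map_pow]
    exact (IsLocalization.map_units (Localization.AtPrime m') (⟨g, hg⟩ : m'.primeCompl)).pow n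
  · intro z
    obtain ⟨b, s, rfl⟩ := IsLocalization.exists_mk'_eq m'.primeCompl z
    have hs : (s : S) ∉ m' := s.2
    have hrad : g ∈ (Ideal.span {(s : S)}).radical := by
      rw [Ideal.radical_eq_sInf, Ideal.mem_sInf]
      rintro P ⟨hsP, hP⟩
      by_contra hgP
      have hP0 : P ≠ ⊥ := by
        rintro rfl
        have : (s : S) = 0 := by
          have := hsP (Ideal.mem_span_singleton_self _)
          simpa using this
        exact hs (this ▸ zero_mem _)
      exact hs (hprime P hP hP0 hgP (hsP (Ideal.mem_span_singleton_self _)))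
    obtain ⟨n, hn⟩ := hrad
    obtain ⟨c, hc⟩ := Ideal.mem_span_singleton.mp hn
    refine ⟨⟨b * c, ⟨g ^ n, n, rfl⟩⟩, ?_⟩
    simp only
    rw [hc, map_mul, map_mul, ← mul_assoc, IsLocalization.mk'_spec]
  · intro x y hxy
    have := IsLocalization.injective (Localization.AtPrime m') m'.primeCompl_le_nonZeroDivisors hxy
    exact ⟨1, by rw [this]⟩

section DVR

variable (A K L B : Type u) [CommRing A] [IsDomain A]
    [IsDiscreteValuationRing A] [Field K] [Field L] [Algebra A K] [IsFractionRing A K] [Algebra K L]
    [Algebra A L] [IsScalarTower A K L] [FiniteDimensional K L] [IsGalois K L]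
    [CommRing B] [Algebra A B] [Algebra B L] [IsScalarTower A B L] [IsIntegralClosure B A L]
    [MulSemiringAction (L ≃ₐ[K] L) B]
    (hact : ∀ (σ : L ≃ₐ[K] L) (b : B), algebraMap B L (σ • b) = σ (algebraMap B L b))

include hact in
lemma smulCommClass_of_hact : SMulCommClass (L ≃ₐ[K] L) A B := by
  refine ⟨fun σ a b => ?_⟩
  apply IsIntegralClosure.algebraMap_injective B A L
  rw [hact, Algebra.smul_def, Algebra.smul_def, map_mul, map_mul, map_mul, hact,
    ← IsScalarTower.algebraMap_apply A B L, IsScalarTower.algebraMap_apply A K L, AlgEquiv.commutes]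

include hact in
lemma isInvariant_of_hact : Algebra.IsInvariant A B (L ≃ₐ[K] L) := by
  refine ⟨fun b hb => ?_⟩
  have h1 : algebraMap B L b ∈ (⊥ : IntermediateField K L) := by
    rw [← IsGalois.fixedField_top (F := K) (E := L), IntermediateField.mem_fixedField_iff]
    intro σ _
    rw [← hact, hb]
  obtain ⟨y, hy⟩ := IntermediateField.mem_bot.mp h1
  have h2 : IsIntegral A y := by
    have h3 : IsIntegral A (algebraMap K L y) := by
      rw [hy]; exact (IsIntegralClosure.isIntegral A L b).algebraMap
    exact (isIntegral_algebraMap_iff (algebraMap K L).injective).mp h3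
  obtain ⟨a, rfl⟩ := IsIntegrallyClosed.isIntegral_iff.mp h2
  refine ⟨a, ?_⟩
  apply IsIntegralClosure.algebraMap_injective B A L
  rw [← hy, ← IsScalarTower.algebraMap_apply, ← IsScalarTower.algebraMap_apply]

include hact in
theorem main (m : Ideal B) [m.IsMaximal]
    (B' : Type u) [CommRing B'] [Algebra A B'] [Algebra B' B] [IsScalarTower A B' B] [Algebra B' L]
    [IsScalarTower B' B L]
    [Algebra B' (IntermediateField.fixedField (m.inertia (L ≃ₐ[K] L)))]
    [IsScalarTower B' (IntermediateField.fixedField (m.inertia (L ≃ₐ[K] L))) L]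
    [IsIntegralClosure B' A (IntermediateField.fixedField (m.inertia (L ≃ₐ[K] L)))] :
    (∀ b : B, (∀ σ ∈ m.inertia (L ≃ₐ[K] L), σ • b = b) ↔ b ∈ Set.range (algebraMap B' B)) ∧
      Algebra.Etale A (Localization.AtPrime (m.comap (algebraMap B' B))) := by
  classical
  have hBL : Function.Injective (algebraMap B L) := IsIntegralClosure.algebraMap_injective B A L
  have hB'F : Function.Injective (algebraMap B' (IntermediateField.fixedField (m.inertia (L ≃ₐ[K] L)))) := IsIntegralClosure.algebraMap_injective B' A (IntermediateField.fixedField (m.inertia (L ≃ₐ[K] L)))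
  have htow : ∀ y : B', algebraMap B L (algebraMap B' B y) = ((algebraMap B' (IntermediateField.fixedField (m.inertia (L ≃ₐ[K] L))) y : IntermediateField.fixedField (m.inertia (L ≃ₐ[K] L))) : L) := by
    intro y
    rw [← IsScalarTower.algebraMap_apply B' B L, IsScalarTower.algebraMap_apply B' (IntermediateField.fixedField (m.inertia (L ≃ₐ[K] L))) L]
    rfl
  -- part 1
  have part1 : ∀ b : B, (∀ σ ∈ m.inertia (L ≃ₐ[K] L), σ • b = b) ↔ b ∈ Set.range (algebraMap B' B) := by
    intro b
    constructor
    · intro hb
      have hxF : algebraMap B L b ∈ IntermediateField.fixedField (m.inertia (L ≃ₐ[K] L)) := by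
        rw [IntermediateField.mem_fixedField_iff]
        intro σ hσ
        rw [← hact, hb σ hσ]
      haveI : IsScalarTower A (IntermediateField.fixedField (m.inertia (L ≃ₐ[K] L))) L :=
        IsScalarTower.of_algebraMap_eq (fun a => rfl)
      have hint : IsIntegral A (⟨algebraMap B L b, hxF⟩ : IntermediateField.fixedField (m.inertia (L ≃ₐ[K] L))) := by
        have h3 : IsIntegral A (algebraMap (IntermediateField.fixedField (m.inertia (L ≃ₐ[K] L))) L ⟨algebraMap B L b, hxF⟩) :=
          (IsIntegralClosure.isIntegral A L b).algebraMap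
        exact (isIntegral_algebraMap_iff (algebraMap (IntermediateField.fixedField (m.inertia (L ≃ₐ[K] L))) L).injective).mp h3
      obtain ⟨y, hy⟩ := (IsIntegralClosure.isIntegral_iff (A := B')).mp hint
      refine ⟨y, hBL ?_⟩
      rw [htow, hy]
    · rintro ⟨y, rfl⟩ σ hσ
      apply hBL
      rw [hact, htow]
      exact (IntermediateField.mem_fixedField_iff _ _).mp (algebraMap B' (IntermediateField.fixedField (m.inertia (L ≃ₐ[K] L))) y).2 σ hσ
  refine ⟨part1, ?_⟩
  -- instances
  haveI : SMulCommClass (L ≃ₐ[K] L) A B := smulCommClass_of_hact A K L B hact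
  haveI : Algebra.IsInvariant A B (L ≃ₐ[K] L) := isInvariant_of_hact A K L B hact
  haveI : Algebra.IsIntegral A B := IsIntegralClosure.isIntegral_algebra A L
  have hAB : Function.Injective (algebraMap A B) := by
    have h1 : Function.Injective (algebraMap A L) := by
      rw [IsScalarTower.algebraMap_eq A K L]
      exact (algebraMap K L).injective.comp (IsFractionRing.injective A K)
    rw [IsScalarTower.algebraMap_eq A B L] at h1
    exact Function.Injective.of_comp h1
  have hB'B : Function.Injective (algebraMap B' B) := by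
    intro y y' h
    apply hB'F
    have := congrArg (algebraMap B L) h
    rw [htow, htow] at this
    exact Subtype.ext this
  haveI : IsDomain B := hBL.isDomain _
  haveI : IsDomain B' := hB'B.isDomain _
  haveI : Algebra.IsIntegral A B' := by
    refine ⟨fun y => ?_⟩
    have h1 : IsIntegral A (algebraMap B' B y) := Algebra.IsIntegral.isIntegral _
    exact (isIntegral_algebraMap_iff hB'B).mp h1
  haveI : Algebra.IsIntegral B' B := Algebra.IsIntegral.tower_top (R := A)
  -- theta
  obtain ⟨θ, hθI, hθ⟩ := exists_theta (G := L ≃ₐ[K] L) m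
  obtain ⟨θ', rfl⟩ := (part1 θ).mp hθI
  obtain ⟨u, hu, het⟩ := etale_away A B (L ≃ₐ[K] L) (m.inertia (L ≃ₐ[K] L)) B' hAB hB'B part1 θ'
  set m' := m.comap (algebraMap B' B) with hm'
  have hum' : u ∉ m' := hu m inferInstance hθ
  -- maximal ideals of `B'`
  have hmaxA : ∀ P : Ideal B', P.IsPrime → P ≠ ⊥ → P.IsMaximal := by
    intro P hP hP0
    have h1 : P.comap (algebraMap A B') ≠ ⊥ := fun h => hP0 (Ideal.eq_bot_of_comap_eq_bot h)
    haveI : (P.comap (algebraMap A B')).IsPrime := Ideal.comap_isPrime _ _
    have h2 : (P.comap (algebraMap A B')).IsMaximal :=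
      Ring.DimensionLEOne.maximalOfPrime h1 inferInstance
    exact Ideal.isMaximal_of_isIntegral_of_isMaximal_comap P h2
  have hconj : ∀ P : Ideal B', P.IsMaximal → ∃ σ : (L ≃ₐ[K] L), P = (σ • m).comap (algebraMap B' B) := by
    intro P hP
    obtain ⟨Q, hQmax, hQP⟩ := Ideal.exists_ideal_over_maximal_of_isIntegral (S := B) P
      (by
        rw [(RingHom.injective_iff_ker_eq_bot _).mp hB'B]
        exact bot_le)
    haveI := hQmax
    have h1 : m.under A = Q.under A := by
      have e1 : m.under A = IsLocalRing.maximalIdeal A :=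
        IsLocalRing.eq_maximalIdeal (Ideal.isMaximal_comap_of_isIntegral_of_isMaximal m)
      have e2 : Q.under A = IsLocalRing.maximalIdeal A :=
        IsLocalRing.eq_maximalIdeal (Ideal.isMaximal_comap_of_isIntegral_of_isMaximal Q)
      rw [e1, e2]
    obtain ⟨σ, hσ⟩ := Algebra.IsInvariant.exists_smul_of_under_eq A B (L ≃ₐ[K] L) m Q h1
    exact ⟨σ, by rw [← hσ, hQP]⟩
  haveI hm'max : m'.IsMaximal := Ideal.isMaximal_comap_of_isIntegral_of_isMaximal m
  -- the element `f`
  have hfσ : ∀ σ : (L ≃ₐ[K] L), (σ • m).comap (algebraMap B' B) ≠ m' →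
      ∃ f : B', f ∈ (σ • m).comap (algebraMap B' B) ∧ f ∉ m' := by
    intro σ hσ
    haveI : (σ • m).IsMaximal := by
      have : (σ • m).IsPrime := inferInstance
      exact Ideal.isMaximal_of_isIntegral_of_isMaximal_comap (R := A) (σ • m) (by
        have e : (σ • m).comap (algebraMap A B) = m.under A := (Ideal.under_smul A m σ)
        rw [e]
        exact Ideal.isMaximal_comap_of_isIntegral_of_isMaximal m)
    haveI : ((σ • m).comap (algebraMap B' B)).IsMaximal :=
      Ideal.isMaximal_comap_of_isIntegral_of_isMaximal (σ • m)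
    by_contra hcon
    push Not at hcon
    exact hσ (Ideal.IsMaximal.eq_of_le inferInstance hm'max.ne_top hcon)
  choose! fσ hfσ1 hfσ2 using hfσ
  cases nonempty_fintype (L ≃ₐ[K] L)
  set f : B' := ∏ σ ∈ Finset.univ.filter
    (fun σ : (L ≃ₐ[K] L) => (σ • m).comap (algebraMap B' B) ≠ m'), fσ σ with hf
  have hfm' : f ∉ m' := by
    rw [hf, Ideal.IsPrime.prod_mem_iff]
    rintro ⟨σ, hσ, hmem⟩
    exact hfσ2 σ (Finset.mem_filter.mp hσ).2 hmem
  have hfP : ∀ P : Ideal B', P.IsMaximal → P ≠ m' → f ∈ P := by
    intro P hP hPm'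
    obtain ⟨σ, rfl⟩ := hconj P hP
    rw [hf]
    exact Ideal.prod_mem _ (Finset.mem_filter.mpr ⟨Finset.mem_univ σ, hPm'⟩) (hfσ1 σ hPm')
  set g : B' := u * f with hg
  have hgm' : g ∉ m' := fun h => (Ideal.IsPrime.mem_or_mem inferInstance h).elim hum' hfm'
  haveI hloc : IsLocalization.Away g (Localization.AtPrime m') := by
    apply isLocalization_away_atPrime B' m' g hgm'
    intro P hP hP0 hgP
    have hPmax := hmaxA P hP hP0
    by_contra hle
    have hne : P ≠ m' := fun h => hle (h ▸ le_rfl)
    exact hgP (Ideal.mul_mem_left _ _ (hfP P hPmax hne))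
  -- transfer étaleness
  set T₁ := Localization.Away u
  set T₂ := Localization.Away (algebraMap B' T₁ f)
  haveI : Algebra.Etale T₁ T₂ := Algebra.Etale.of_isLocalizationAway (algebraMap B' T₁ f)
  haveI : Algebra.Etale A T₂ := Algebra.Etale.comp A T₁ T₂
  haveI : IsLocalization.Away g T₂ := by
    rw [hg]; infer_instance
  let e : T₂ ≃ₐ[A] Localization.AtPrime m' :=
    (IsLocalization.algEquiv (Submonoid.powers g) T₂ (Localization.AtPrime m')).restrictScalars A
  exact Algebra.Etale.of_equiv e

end DVR

end Groth.Agent.Helper3.StdInv
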