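import Mathlib
import Groth.Agent.Helper3.StdInv5

set_option autoImplicit false
set_option linter.style.haveILetI false
set_option linter.unusedSectionVars false
set_option linter.unusedVariables false
set_option linter.deprecated false
set_option linter.style.haveILetI false
set_option linter.unusedSectionVars false
set_option linter.unusedVariables false

/-!
# Subgroups containing the decomposition group: auxiliary elements, and a local flatness lemma
-/

namespace Groth.Agent.Helper3.StdInv

open Polynomial IsLocalRing
open scoped Pointwise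

universe u v w

section EltH

variable {R : Type v} [CommRing R] {G : Type w} [Group G] [Finite G] [MulSemiringAction G R]
  (q : Ideal R) [q.IsPrime]

/-- For `H` containing the decomposition group: an `H`-invariant element outside `q` whose
conjugates by elements outside `H` lie in `q`. -/
theorem exists_elt_H (H : Subgroup G) (hD : MulAction.stabilizer G q ≤ H) :
    ∃ e : R, (∀ h ∈ H, h • e = e) ∧ e ∉ q ∧ ∀ τ : G, τ ∉ H → τ • e ∈ q := by
  classical
  obtain ⟨e₀, he₀D, he₀q, he₀ρ⟩ := exists_decomp_elt (G := G) q
  letI : Fintype H := Fintype.ofFinite _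
  set P := MulSemiringAction.charpoly H e₀ with hP
  set SD : Finset H := Finset.univ.filter (fun h : H => h.1 ∈ MulAction.stabilizer G q) with hSD
  set d := SD.card with hd
  set N := Fintype.card H with hN
  have hd1 : 1 ≤ d := by
    rw [hd, Nat.one_le_iff_ne_zero, Finset.card_ne_zero]
    exact ⟨1, Finset.mem_filter.mpr ⟨Finset.mem_univ _, one_mem _⟩⟩
  have hdN : d ≤ N := by
    rw [hd, hN, ← Finset.card_univ]; exact Finset.card_le_card (Finset.filter_subset _ _)
  set ebar := Ideal.Quotient.mk q e₀ with hebar
  have hebar0 : ebar ≠ 0 := fun h => he₀q (Ideal.Quotient.eq_zero_iff_mem.mp h)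
  -- the image of the charpoly twisted by `τ`
  have hmapτ : ∀ τ : G, (P.map (MulSemiringAction.toRingHom G R τ)).map (Ideal.Quotient.mk q) =
      ∏ h : H, (X - C (Ideal.Quotient.mk q (τ • h.1 • e₀))) := by
    intro τ
    rw [hP, MulSemiringAction.charpoly_eq, Polynomial.map_prod, Polynomial.map_prod]
    refine Finset.prod_congr rfl fun h _ => ?_
    simp only [Polynomial.map_sub, Polynomial.map_X, Polynomial.map_C,
      MulSemiringAction.toRingHom_apply]
    rfl
  have hmap1 : P.map (Ideal.Quotient.mk q) = (X - C ebar) ^ d * X ^ (N - d) := by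
    have h1 := hmapτ 1
    have h2 : P.map (MulSemiringAction.toRingHom G R 1) = P := by
      ext k; simp [coeff_map]
    rw [h2] at h1
    rw [h1, ← Finset.prod_filter_mul_prod_filter_not Finset.univ
      (fun h : H => h.1 ∈ MulAction.stabilizer G q)]
    congr 1
    · rw [← hSD, Finset.prod_congr rfl (g := fun _ => X - C ebar), Finset.prod_const]
      intro h hh
      rw [one_smul, he₀D h.1 (Finset.mem_filter.mp hh).2]
    · rw [Finset.prod_congr rfl (g := fun _ => (X : (R ⧸ q)[X])), Finset.prod_const]
      · congr 1
        have := Finset.card_filter_add_card_filter_not (s := (Finset.univ : Finset H))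
          (fun h : H => h.1 ∈ MulAction.stabilizer G q)
        rw [Finset.card_univ] at this
        have e1 : d = (Finset.univ.filter (fun h : H => h.1 ∈ MulAction.stabilizer G q)).card := rfl
        have e2 : N = Fintype.card H := rfl
        omega
      · intro h hh
        rw [one_smul, Ideal.Quotient.eq_zero_iff_mem.mpr (he₀ρ h.1 (Finset.mem_filter.mp hh).2)]
        simp
  refine ⟨P.coeff (N - d), fun h hh => ?_, ?_, fun τ hτ => ?_⟩
  · exact MulSemiringAction.smul_coeff_charpoly e₀ (N - d) (⟨h, hh⟩ : H)
  · rw [← Ideal.Quotient.eq_zero_iff_mem, ← coeff_map, hmap1]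
    have : ((X - C ebar) ^ d * X ^ (N - d)).coeff (0 + (N - d)) = ((X - C ebar) ^ d).coeff 0 :=
      coeff_mul_X_pow _ _ _
    rw [zero_add] at this
    rw [this, coeff_zero_eq_eval_zero, eval_pow, eval_sub, eval_X, eval_C, zero_sub]
    exact pow_ne_zero _ (neg_ne_zero.mpr hebar0)
  · have h1 : τ • P.coeff (N - d) = (P.map (MulSemiringAction.toRingHom G R τ)).coeff (N - d) := by
      rw [coeff_map]; rfl
    rw [h1, ← Ideal.Quotient.eq_zero_iff_mem, ← coeff_map, hmapτ τ]
    have h2 : ∀ h : H, Ideal.Quotient.mk q (τ • h.1 • e₀) = 0 := by
      intro h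
      rw [Ideal.Quotient.eq_zero_iff_mem, smul_smul]
      apply he₀ρ
      intro hmem
      apply hτ
      have h3 := H.mul_mem (hD hmem) (H.inv_mem h.2)
      simpa using h3
    simp_rw [h2]
    simp only [map_zero, sub_zero, Finset.prod_const, Finset.card_univ]
    rw [coeff_X_pow, if_neg]
    omega

end EltH

section LocalLemma

/-- A flat local homomorphism which is unramified with trivial residue field extension induces
isomorphisms on all infinitesimal neighbourhoods of the closed points. -/
theorem local_flat_unram (A C : Type*) [CommRing A] [CommRing C] [IsLocalRing A] [IsLocalRing C]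
    [Algebra A C] [IsLocalHom (algebraMap A C)] [Module.Flat A C]
    (hmap : (maximalIdeal A).map (algebraMap A C) = maximalIdeal C)
    (hres : ∀ c : C, ∃ a : A, c - algebraMap A C a ∈ maximalIdeal C) (n : ℕ) :
    Function.Surjective ((Ideal.Quotient.mk (maximalIdeal C ^ n)).comp (algebraMap A C)) ∧
      (maximalIdeal C ^ n).comap (algebraMap A C) = maximalIdeal A ^ n := by
  haveI : Module.FaithfullyFlat A C := Module.FaithfullyFlat.of_flat_of_isLocalHom
  constructor
  · have key : ∀ n : ℕ, ∀ c : C, ∃ a : A, c - algebraMap A C a ∈ maximalIdeal C ^ n := by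
      intro n
      induction n with
      | zero => intro c; exact ⟨0, by simp⟩
      | succ n ih =>
        have step : ∀ z ∈ maximalIdeal C ^ n, ∃ a : A, z - algebraMap A C a ∈ maximalIdeal C ^ (n + 1) := by
          intro z hz
          rw [← hmap, ← Ideal.map_pow] at hz
          have hz' : z ∈ Ideal.span (algebraMap A C '' (maximalIdeal A ^ n : Ideal A)) := hz
          clear hz
          suffices h : z ∈ maximalIdeal C ^ n ∧
              ∃ a : A, z - algebraMap A C a ∈ maximalIdeal C ^ (n + 1) from h.2
          induction hz' using Submodule.span_induction with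
          | mem g hg =>
            obtain ⟨α, hα, rfl⟩ := hg
            refine ⟨?_, α, by simp⟩
            rw [← hmap, ← Ideal.map_pow]
            exact Ideal.mem_map_of_mem _ hα
          | zero => exact ⟨zero_mem _, 0, by simp⟩
          | add x y _ _ hx hy =>
            obtain ⟨hx1, a, ha⟩ := hx
            obtain ⟨hy1, b, hb⟩ := hy
            refine ⟨add_mem hx1 hy1, a + b, ?_⟩
            have : x + y - algebraMap A C (a + b) = (x - algebraMap A C a) + (y - algebraMap A C b) := by
              rw [map_add]; ring
            rw [this]; exact add_mem ha hb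
          | smul c' x _ hx =>
            obtain ⟨hx1, a, ha⟩ := hx
            obtain ⟨a', ha'⟩ := hres c'
            refine ⟨Ideal.mul_mem_left _ _ hx1, a' * a, ?_⟩
            have : c' • x - algebraMap A C (a' * a) =
                algebraMap A C a' * (x - algebraMap A C a) + (c' - algebraMap A C a') * x := by
              rw [smul_eq_mul, map_mul]; ring
            rw [this]
            refine add_mem (Ideal.mul_mem_left _ _ ha) ?_
            rw [pow_succ']
            exact Ideal.mul_mem_mul ha' hx1
        intro c
        obtain ⟨a₀, ha₀⟩ := ih c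
        obtain ⟨a₁, ha₁⟩ := step _ ha₀
        refine ⟨a₀ + a₁, ?_⟩
        have : c - algebraMap A C (a₀ + a₁) = c - algebraMap A C a₀ - algebraMap A C a₁ := by
          rw [map_add]; ring
        rw [this]; exact ha₁
    intro x
    obtain ⟨c, rfl⟩ := Ideal.Quotient.mk_surjective x
    obtain ⟨a, ha⟩ := key n c
    refine ⟨a, ?_⟩
    rw [RingHom.comp_apply, eq_comm, Ideal.Quotient.eq]
    exact ha
  · rw [← hmap, ← Ideal.map_pow, Ideal.comap_map_eq_self_of_faithfullyFlat]

end LocalLemma

end Groth.Agent.Helper3.StdInv
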