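import Mathlib
import Groth.Agent.Helper3.StdInv7

set_option autoImplicit false
set_option linter.style.haveILetI false
set_option linter.unusedSectionVars false
set_option linter.unusedVariables false
set_option linter.deprecated false
set_option linter.style.haveILetI false
set_option linter.unusedSectionVars false
set_option linter.unusedVariables false

/-!
# Invariants of a subgroup containing the decomposition group: same infinitesimal neighbourhoods
-/

namespace Groth.Agent.Helper3.StdInv

open Polynomial IsLocalRing
open scoped Pointwise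

universe u v w

section Trace

variable {R : Type v} [CommRing R] {G : Type w} [Group G] [Finite G] [MulSemiringAction G R]
  (q : Ideal R) [q.IsPrime]

theorem exists_trace (H : Subgroup G) (e : R) (heH : ∀ h ∈ H, h • e = e)
    (heτ : ∀ τ : G, τ ∉ H → τ • e ∈ q) (x : R) (hx : ∀ h ∈ H, h • x = x) :
    ∃ y : R, (∀ σ : G, σ • y = y) ∧ y - x * e ∈ q := by
  classical
  letI : Fintype (G ⧸ H) := Fintype.ofFinite _
  have hxe : ∀ h ∈ H, h • (x * e) = x * e := fun h hh => by rw [smul_mul', hx h hh, heH h hh]
  set c := conj H (x * e) hxe with hc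
  refine ⟨∑ t, c t, fun σ => ?_, ?_⟩
  · rw [Finset.smul_sum]
    simp_rw [hc, ← conj_smul]
    exact Fintype.sum_equiv (MulAction.toPerm σ) _ _ (fun t => rfl)
  · rw [← Finset.add_sum_erase _ _ (Finset.mem_univ ((1 : G) : G ⧸ H)), hc, conj_one, add_sub_cancel_left]
    refine Ideal.sum_mem _ fun t ht => ?_
    induction t using QuotientGroup.induction_on with
    | H τ =>
      rw [conj_mk, smul_mul']
      apply Ideal.mul_mem_left
      apply heτ
      intro hτ
      rw [Finset.mem_erase] at ht
      apply ht.1
      rw [QuotientGroup.eq]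
      simpa using H.inv_mem hτ

end Trace

section Main

theorem s6017 (G R : Type u) [Group G] [Finite G] [CommRing R] [MulSemiringAction G R]
    (H : Subgroup G) (q : Ideal R) [q.IsPrime] (hD : MulAction.stabilizer G q ≤ H)
    (hle : FixedPoints.subring R G ≤ FixedPoints.subring R H) (n : ℕ) :
    let q' : Ideal (FixedPoints.subring R H) := Ideal.comap (FixedPoints.subring R H).subtype q
    let φ := Localization.localRingHom (Ideal.comap (Subring.inclusion hle) q') q'
      (Subring.inclusion hle) rfl
    Function.Surjective ((Ideal.Quotient.mk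
        (IsLocalRing.maximalIdeal (Localization.AtPrime q') ^ n)).comp φ) ∧
      Ideal.comap φ (IsLocalRing.maximalIdeal (Localization.AtPrime q') ^ n) =
        IsLocalRing.maximalIdeal
          (Localization.AtPrime (Ideal.comap (Subring.inclusion hle) q')) ^ n := by
  intro q' φ
  letI : Algebra (FixedPoints.subring R G) (FixedPoints.subring R H) :=
    (Subring.inclusion hle).toAlgebra
  haveI : IsScalarTower (FixedPoints.subring R G) (FixedPoints.subring R H) R :=
    IsScalarTower.of_algebraMap_eq (fun x => rfl)
  haveI : Algebra.IsInvariant (FixedPoints.subring R G) R G := ⟨fun b hb => ⟨⟨b, hb⟩, rfl⟩⟩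
  set p : Ideal (FixedPoints.subring R G) := Ideal.comap (Subring.inclusion hle) q' with hp
  haveI : p.IsPrime := Ideal.comap_isPrime _ _
  -- the auxiliary element
  obtain ⟨e, heH, heq, heτ⟩ := exists_elt_H (G := G) q H hD
  have hS : ∀ r : R, (∀ h ∈ H, h • r = r) ↔
      r ∈ Set.range (algebraMap (FixedPoints.subring R H) R) := by
    intro r
    constructor
    · intro h
      exact ⟨⟨r, fun g => h g.1 g.2⟩, rfl⟩
    · rintro ⟨s, rfl⟩ h hh
      exact s.2 ⟨h, hh⟩
  obtain ⟨u, hu, het⟩ := etale_away (FixedPoints.subring R G) R G H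
    (FixedPoints.subring R H) Subtype.val_injective Subtype.val_injective hS
    ⟨e, fun g => heH g.1 g.2⟩
  have huq' : u ∉ q' := by
    rw [Ideal.mem_comap]
    refine hu q inferInstance (fun τ hτ hmem => heq ?_)
    have h1 : τ • e ∈ q := heτ τ hτ
    change e - τ • e ∈ q at hmem
    have := add_mem hmem h1
    simpa using this
  -- the local ring upstairs as a localization of the étale algebra
  set T := Localization.AtPrime q'
  set T₁ := Localization.Away u
  have hleu : Submonoid.powers u ≤ q'.primeCompl := by
    rintro _ ⟨k, rfl⟩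
    exact fun h => huq' (Ideal.IsPrime.mem_of_pow_mem inferInstance k h)
  letI : Algebra T₁ T := IsLocalization.localizationAlgebraOfSubmonoidLe T₁ T _ _ hleu
  haveI : IsScalarTower (FixedPoints.subring R H) T₁ T :=
    IsLocalization.localization_isScalarTower_of_submonoid_le T₁ T _ _ hleu
  haveI : IsLocalization (q'.primeCompl.map (algebraMap (FixedPoints.subring R H) T₁)) T :=
    IsLocalization.isLocalization_of_submonoid_le T₁ T _ _ hleu
  haveI : IsScalarTower (FixedPoints.subring R G) T₁ T := IsScalarTower.of_algebraMap_eq' (by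
    rw [IsScalarTower.algebraMap_eq (FixedPoints.subring R G) (FixedPoints.subring R H) T,
      IsScalarTower.algebraMap_eq (FixedPoints.subring R H) T₁ T, RingHom.comp_assoc,
      ← IsScalarTower.algebraMap_eq (FixedPoints.subring R G) (FixedPoints.subring R H) T₁])
  haveI : Module.Flat T₁ T :=
    IsLocalization.flat T (q'.primeCompl.map (algebraMap (FixedPoints.subring R H) T₁))
  haveI : Module.Flat (FixedPoints.subring R G) T₁ := inferInstance
  haveI : Module.Flat (FixedPoints.subring R G) T := Module.Flat.trans _ T₁ T
  haveI : Algebra.FormallyUnramified T₁ T := Algebra.FormallyUnramified.of_isLocalization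
    (q'.primeCompl.map (algebraMap (FixedPoints.subring R H) T₁))
  haveI : Algebra.FormallyUnramified (FixedPoints.subring R G) T :=
    Algebra.FormallyUnramified.comp _ T₁ T
  haveI : Algebra.EssFiniteType T₁ T := Algebra.EssFiniteType.of_isLocalization T
    (q'.primeCompl.map (algebraMap (FixedPoints.subring R H) T₁))
  haveI : Algebra.EssFiniteType (FixedPoints.subring R G) T :=
    Algebra.EssFiniteType.comp _ T₁ T
  -- the base local ring
  set Bp := Localization.AtPrime p
  letI : Algebra Bp T := φ.toAlgebra
  haveI : IsScalarTower (FixedPoints.subring R G) Bp T := IsScalarTower.of_algebraMap_eq (by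
    intro b
    change _ = φ (algebraMap _ Bp b)
    rw [Localization.localRingHom_to_map]
    rfl)
  haveI : Module.Flat Bp T := (Module.flat_iff_of_isLocalization Bp p.primeCompl T).mpr inferInstance
  haveI : Algebra.FormallyUnramified Bp T :=
    Algebra.FormallyUnramified.of_restrictScalars (FixedPoints.subring R G) Bp T
  haveI : Algebra.EssFiniteType Bp T := Algebra.EssFiniteType.of_comp (FixedPoints.subring R G) Bp T
  haveI : IsLocalHom (algebraMap Bp T) := by
    change IsLocalHom φ
    infer_instance
  have hmap : (maximalIdeal Bp).map (algebraMap Bp T) = maximalIdeal T :=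
    Algebra.FormallyUnramified.map_maximalIdeal
  -- residue field
  have hres : ∀ z : T, ∃ a : Bp, z - algebraMap Bp T a ∈ maximalIdeal T := by
    intro z
    obtain ⟨r, s, rfl⟩ := IsLocalization.exists_mk'_eq q'.primeCompl z
    obtain ⟨yr, hyr, hyr'⟩ := exists_trace (G := G) q H e heH heτ r.1 (fun h hh => r.2 ⟨h, hh⟩)
    obtain ⟨ys, hys, hys'⟩ := exists_trace (G := G) q H e heH heτ s.1.1 (fun h hh => s.1.2 ⟨h, hh⟩)
    have hsq : (s.1 : R) ∉ q := s.2
    have hysq : ys ∉ q := by
      intro h
      have h1 : (s.1 : R) * e ∈ q := by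
        have := sub_mem h hys'
        simpa using this
      exact (Ideal.IsPrime.mem_or_mem inferInstance h1).elim hsq heq
    have hysp : (⟨ys, hys⟩ : FixedPoints.subring R G) ∈ p.primeCompl := by
      intro h
      exact hysq h
    refine ⟨IsLocalization.mk' Bp (⟨yr, hyr⟩ : FixedPoints.subring R G) ⟨⟨ys, hys⟩, hysp⟩, ?_⟩
    have hφ : algebraMap Bp T (IsLocalization.mk' Bp (⟨yr, hyr⟩ : FixedPoints.subring R G)
        ⟨⟨ys, hys⟩, hysp⟩) =
        IsLocalization.mk' T (⟨yr, fun g => hyr g.1⟩ : FixedPoints.subring R H)
          (⟨⟨ys, fun g => hys g.1⟩, fun h => hysq h⟩ : q'.primeCompl) := by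
      change φ _ = _
      rw [Localization.localRingHom_mk']
      rfl
    rw [hφ, ← IsLocalization.mk'_sub, ← Localization.AtPrime.map_eq_maximalIdeal]
    rw [IsLocalization.mk'_mem_map_algebraMap_iff]
    refine ⟨1, one_mem _, ?_⟩
    rw [one_mul, Ideal.mem_comap]
    change (r : R) * ys - yr * (s.1 : R) ∈ q
    have h1 : (r : R) * ys - yr * (s.1 : R) =
        (r : R) * (ys - (s.1 : R) * e) - (s.1 : R) * (yr - (r : R) * e) := by ring
    rw [h1]
    exact sub_mem (Ideal.mul_mem_left _ _ hys') (Ideal.mul_mem_left _ _ hyr')
  have key := local_flat_unram Bp T hmap hres n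
  exact key

end Main

end Groth.Agent.Helper3.StdInv
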