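import Mathlib

set_option linter.style.haveILetI false
set_option linter.unusedSectionVars false
set_option linter.unusedVariables false
set_option linter.style.haveILetI false
set_option linter.unusedSectionVars false
set_option linter.unusedVariables false

open TensorProduct KaehlerDifferential

namespace Groth.Agent.Helper3.StdSmSurj

universe u

variable (A B : Type u) [CommRing A] [CommRing B] [Algebra A B]

lemma tmul_mem_span (q : Ideal B) [q.IsPrime] (ω : Ω[B⁄A]) (c : q.ResidueField) :
    c ⊗ₜ[B] ω ∈ Submodule.span q.ResidueField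
      (Set.range fun b : B => (1 : q.ResidueField) ⊗ₜ[B] D A B b) := by
  have hω : ω ∈ Submodule.span B (Set.range (D A B)) := by
    rw [KaehlerDifferential.span_range_derivation]; trivial
  induction hω using Submodule.span_induction generalizing c with
  | mem x hx =>
    obtain ⟨b, rfl⟩ := hx
    have : c ⊗ₜ[B] D A B b = c • ((1 : q.ResidueField) ⊗ₜ[B] D A B b) := by
      rw [TensorProduct.smul_tmul', smul_eq_mul, mul_one]
    rw [this]
    exact Submodule.smul_mem _ _ (Submodule.subset_span ⟨b, rfl⟩)
  | zero => simp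
  | add x y _ _ hx hy => rw [tmul_add]; exact add_mem (hx c) (hy c)
  | smul a x _ hx =>
    rw [← TensorProduct.smul_tmul]
    exact hx _

lemma span_tmul_D (q : Ideal B) [q.IsPrime] :
    Submodule.span q.ResidueField
      (Set.range fun b : B => (1 : q.ResidueField) ⊗ₜ[B] D A B b) = ⊤ := by
  rw [eq_top_iff]
  rintro m -
  induction m using TensorProduct.induction_on with
  | zero => exact zero_mem _
  | add x y hx hy => exact add_mem hx hy
  | tmul c ω => exact tmul_mem_span A B q ω c

lemma exists_gens [Algebra.FiniteType A B] (q : Ideal B) [q.IsPrime] (r : ℕ)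
    (hr : Module.finrank q.ResidueField (q.ResidueField ⊗[B] Ω[B⁄A]) = r) :
    ∃ x : Fin r → B, Submodule.span q.ResidueField
      (Set.range fun i => (1 : q.ResidueField) ⊗ₜ[B] D A B (x i)) = ⊤ := by
  obtain ⟨κ, a, ha, hsp, hli⟩ := exists_linearIndependent' q.ResidueField
    (fun b : B => (1 : q.ResidueField) ⊗ₜ[B] D A B b)
  rw [span_tmul_D] at hsp
  let bs : Module.Basis κ q.ResidueField (q.ResidueField ⊗[B] Ω[B⁄A]) :=
    Module.Basis.mk hli hsp.ge
  have : Finite κ := Module.Finite.finite_basis bs
  have hcard : Nat.card κ = r := by rw [← hr, Module.finrank_eq_nat_card_basis bs]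
  have e : κ ≃ Fin r := (Finite.equivFinOfCardEq hcard)
  refine ⟨a ∘ e.symm, ?_⟩
  rw [← hsp]
  congr 1
  ext m
  constructor
  · rintro ⟨i, rfl⟩; exact ⟨e.symm i, rfl⟩
  · rintro ⟨k, rfl⟩; exact ⟨e k, by simp⟩

/-- see below -/
lemma subsingleton_tmul (E : Type u) [CommRing E] [Algebra A E] [Algebra E B] [IsScalarTower A E B]
    (q : Ideal B) [q.IsPrime] {ι : Type*} (y : ι → E)
    (hy : Submodule.span q.ResidueField
      (Set.range fun i => (1 : q.ResidueField) ⊗ₜ[B] D A B (algebraMap E B (y i))) = ⊤) :
    Subsingleton (q.ResidueField ⊗[B] Ω[B⁄E]) := by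
  let f : Ω[B⁄A] →ₗ[B] Ω[B⁄E] := KaehlerDifferential.map A E B B
  have hf : Function.Surjective f := KaehlerDifferential.map_surjective A E B
  let F : q.ResidueField ⊗[B] Ω[B⁄A] →ₗ[q.ResidueField] q.ResidueField ⊗[B] Ω[B⁄E] :=
    LinearMap.baseChange q.ResidueField f
  have hF : Function.Surjective F := LinearMap.baseChange_surjective _ hf
  have hF0 : F = 0 := by
    apply LinearMap.ext_on_range hy
    intro i
    simp only [F, f, LinearMap.baseChange_tmul, KaehlerDifferential.map_D, LinearMap.zero_apply]
    rw [Algebra.algebraMap_self, RingHom.id_apply, Derivation.map_algebraMap, tmul_zero]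
  constructor
  intro a b
  obtain ⟨a', rfl⟩ := hF a
  obtain ⟨b', rfl⟩ := hF b
  simp [hF0]

lemma isUnramifiedAt_of_subsingleton (E : Type u) [CommRing E] [Algebra E B]
    [Algebra.FiniteType E B]
    (q : Ideal B) [q.IsPrime] (h : Subsingleton (q.ResidueField ⊗[B] Ω[B⁄E])) :
    Algebra.IsUnramifiedAt E q := by
  have : (⟨q, inferInstance⟩ : PrimeSpectrum B) ∈ Algebra.unramifiedLocus E B := by
    rw [Algebra.unramifiedLocus_eq_compl_support, Set.mem_compl_iff,
      Module.mem_support_iff_nontrivial_residueField_tensorProduct]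
    exact not_nontrivial _
  exact this

lemma mvPolynomial_stdSmooth [Nontrivial A] (r : ℕ) :
    Algebra.IsStandardSmoothOfRelativeDimension r A (MvPolynomial (Fin r) A) := by
  haveI : Subsingleton (Algebra.H1Cotangent A (MvPolynomial (Fin r) A)) :=
    Algebra.FormallySmooth.subsingleton_h1Cotangent
  haveI : Algebra.IsStandardSmooth A (MvPolynomial (Fin r) A) := by
    apply Algebra.IsStandardSmooth.of_basis_kaehlerDifferential
      (KaehlerDifferential.mvPolynomialBasis A (Fin r))
    rintro _ ⟨i, rfl⟩
    exact ⟨MvPolynomial.X i, by simp⟩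
  rw [Algebra.IsStandardSmoothOfRelativeDimension.iff_of_isStandardSmooth]
  rw [rank_eq_card_basis (KaehlerDifferential.mvPolynomialBasis A (Fin r))]
  simp

theorem main [Algebra.FiniteType A B]
    (q : Ideal B) [q.IsPrime] (r : ℕ)
    (hr : Module.finrank q.ResidueField (q.ResidueField ⊗[B] Ω[B⁄A]) = r) :
    ∃ g : B, g ∉ q ∧ ∃ (D : Type u) (_ : CommRing D) (_ : Algebra A D),
      Algebra.IsStandardSmoothOfRelativeDimension r A D ∧
        ∃ φ : D →ₐ[A] Localization.Away g, Function.Surjective φ := by
  obtain ⟨x, hx⟩ := exists_gens A B q r hr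
  haveI : Nontrivial B := ⟨⟨0, 1, fun h => (Ideal.IsPrime.ne_top ‹q.IsPrime›) ((Ideal.eq_top_iff_one q).mpr (h ▸ q.zero_mem))⟩⟩
  haveI : Nontrivial A := (algebraMap A B).domain_nontrivial
  let E := MvPolynomial (Fin r) A
  letI algEB : Algebra E B := (MvPolynomial.aeval x).toAlgebra
  haveI : IsScalarTower A E B :=
    IsScalarTower.of_algebraMap_eq' (MvPolynomial.aeval x).comp_algebraMap.symm
  haveI : Algebra.FiniteType E B := Algebra.FiniteType.of_restrictScalars_finiteType A E B
  have hsub := subsingleton_tmul A B E q (fun i => (MvPolynomial.X i : E))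
    (by
      have : ∀ i, algebraMap E B (MvPolynomial.X i) = x i := fun i => by
        rw [RingHom.algebraMap_toAlgebra]; exact MvPolynomial.aeval_X x i
      simp only [this]; exact hx)
  haveI := isUnramifiedAt_of_subsingleton B E q hsub
  obtain ⟨g, hg, P, φ, hφ⟩ :=
    Algebra.IsUnramifiedAt.exists_hasStandardEtaleSurjectionOn (R := E) q
  letI : Algebra A P.Ring := ((algebraMap E P.Ring).comp (algebraMap A E)).toAlgebra
  haveI : IsScalarTower A E P.Ring := IsScalarTower.of_algebraMap_eq' rfl
  haveI : Algebra.IsStandardSmoothOfRelativeDimension 0 E P.Ring :=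
    Algebra.Etale.iff_isStandardSmoothOfRelativeDimension_zero.mp inferInstance
  haveI : Algebra.IsStandardSmoothOfRelativeDimension r A E := mvPolynomial_stdSmooth A r
  have hsm := Algebra.IsStandardSmoothOfRelativeDimension.trans (n := r) (m := 0) A E P.Ring
  rw [zero_add] at hsm
  refine ⟨g, hg, P.Ring, inferInstance, inferInstance, hsm, φ.restrictScalars A, hφ⟩

end Groth.Agent.Helper3.StdSmSurj
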