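import Mathlib
import Groth.Prelude

set_option autoImplicit false
set_option linter.style.haveILetI false
set_option linter.unusedSectionVars false
set_option linter.unusedVariables false
set_option linter.deprecated false
set_option linter.style.haveILetI false
set_option linter.unusedSectionVars false
set_option linter.unusedVariables false

open CategoryTheory CategoryTheory.Limits AlgebraicGeometry Opposite TensorProduct

universe u

namespace Groth.Agent.Helper3.SteinI

/-- Every element of `B ⊗[A] κ` is of the form `(b ⊗ 1) / (g ⊗ 1)` when `κ` consists of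
fractions of elements of `A`. -/
theorem exists_tmul_eq {A : Type u} [CommRing A] (B κ : Type u) [CommRing B] [Algebra A B]
    [Field κ] [Algebra A κ]
    (hκ : ∀ k : κ, ∃ a g : A, algebraMap A κ g ≠ 0 ∧ k * algebraMap A κ g = algebraMap A κ a)
    (x : B ⊗[A] κ) :
    ∃ (g : A) (b : B), algebraMap A κ g ≠ 0 ∧
      x * ((algebraMap A B g) ⊗ₜ[A] (1 : κ)) = b ⊗ₜ[A] (1 : κ) := by
  induction x using TensorProduct.induction_on with
  | zero =>
    refine ⟨1, 0, ?_, ?_⟩
    · rw [map_one]; exact one_ne_zero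
    · rw [zero_mul, zero_tmul]
  | tmul b k =>
    obtain ⟨a, g, hg, hk⟩ := hκ k
    refine ⟨g, a • b, hg, ?_⟩
    rw [Algebra.TensorProduct.tmul_mul_tmul, mul_one, mul_comm b, ← Algebra.smul_def,
      TensorProduct.smul_tmul, Algebra.smul_def, mul_comm, hk, TensorProduct.smul_tmul,
      Algebra.smul_def, mul_one]
  | add x y hx hy =>
    obtain ⟨g₁, b₁, hg₁, h₁⟩ := hx
    obtain ⟨g₂, b₂, hg₂, h₂⟩ := hy
    refine ⟨g₁ * g₂, b₁ * algebraMap A B g₂ + b₂ * algebraMap A B g₁, ?_, ?_⟩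
    · rw [map_mul]; exact mul_ne_zero hg₁ hg₂
    · have e1 : (algebraMap A B (g₁ * g₂)) ⊗ₜ[A] (1 : κ) =
          ((algebraMap A B g₁) ⊗ₜ[A] (1 : κ)) * ((algebraMap A B g₂) ⊗ₜ[A] (1 : κ)) := by
        rw [Algebra.TensorProduct.tmul_mul_tmul, mul_one, map_mul]
      rw [e1, add_mul, ← mul_assoc, h₁, mul_comm ((algebraMap A B g₁) ⊗ₜ[A] (1 : κ)),
        ← mul_assoc, h₂, Algebra.TensorProduct.tmul_mul_tmul, Algebra.TensorProduct.tmul_mul_tmul,
        mul_one, TensorProduct.add_tmul]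

/-- The affine form of "sections of the fibre of an affine morphism come from the base". -/
theorem exists_mul_eq_of_pullback_Spec {A B : CommRingCat.{u}} {K : Type u} [Field K]
    (φ : A ⟶ B) (ψ : A ⟶ CommRingCat.of K)
    (hκ : ∀ k : K, ∃ a g : A, ψ.hom g ≠ 0 ∧ k * ψ.hom g = ψ.hom a)
    (ε : Γ(pullback (Spec.map φ) (Spec.map ψ), ⊤)) :
    ∃ (g : A) (b : B), ψ.hom g ≠ 0 ∧
      ε * ((Scheme.ΓSpecIso B).inv ≫ (pullback.fst (Spec.map φ) (Spec.map ψ)).appTop).hom
          (φ.hom g) =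
        ((Scheme.ΓSpecIso B).inv ≫ (pullback.fst (Spec.map φ) (Spec.map ψ)).appTop).hom b := by
  algebraize [φ.hom, ψ.hom]
  let R : CommRingCat.{u} := CommRingCat.of (B ⊗[A] K)
  let iso : pullback (Spec.map φ) (Spec.map ψ) ≅ Spec R := pullbackSpecIso A B K
  let β : B ⟶ Γ(pullback (Spec.map φ) (Spec.map ψ), ⊤) :=
    (Scheme.ΓSpecIso B).inv ≫ (pullback.fst (Spec.map φ) (Spec.map ψ)).appTop
  let θ : Γ(pullback (Spec.map φ) (Spec.map ψ), ⊤) ⟶ R :=
    iso.inv.appTop ≫ (Scheme.ΓSpecIso R).hom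
  haveI : IsIso iso.inv.appTop := inferInstanceAs (IsIso (iso.inv.app ⊤))
  haveI : IsIso θ := inferInstance
  have hβθ : β ≫ θ = CommRingCat.ofHom (algebraMap B (B ⊗[A] K)) := by
    have h1 : iso.inv ≫ pullback.fst (Spec.map φ) (Spec.map ψ) =
        Spec.map (CommRingCat.ofHom (algebraMap B (B ⊗[A] K))) := pullbackSpecIso_inv_fst A B K
    simp only [β, θ, Category.assoc]
    rw [← Category.assoc (pullback.fst (Spec.map φ) (Spec.map ψ)).appTop,
      ← Scheme.Hom.comp_appTop, h1, Scheme.ΓSpecIso_naturality]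
    exact Iso.inv_hom_id_assoc (Scheme.ΓSpecIso B) _
  obtain ⟨g, b, hg, hgb⟩ := exists_tmul_eq (A := A) B K hκ (θ.hom ε)
  refine ⟨g, b, hg, ?_⟩
  have hinj : Function.Injective θ.hom :=
    ((ConcreteCategory.isIso_iff_bijective θ).mp inferInstance).1
  apply hinj
  rw [map_mul]
  have e1 : ∀ b' : B, θ.hom (β.hom b') = b' ⊗ₜ[A] (1 : K) := by
    intro b'
    have := congr($(hβθ).hom b')
    exact this
  rw [e1, e1]
  exact hgb

end Groth.Agent.Helper3.SteinI
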