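import Mathlib
import Groth.Prelude
import Groth.Agent.Helper3.SteinI1
import Groth.Agent.Helper3.SteinI2
import Groth.Agent.Helper3.SteinK1

set_option autoImplicit false
set_option linter.style.haveILetI false
set_option linter.unusedSectionVars false
set_option linter.unusedVariables false
set_option linter.deprecated false
set_option linter.style.haveILetI false
set_option linter.unusedSectionVars false
set_option linter.unusedVariables false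

open CategoryTheory CategoryTheory.Limits AlgebraicGeometry Opposite

universe u

namespace Groth.Agent.Helper3.SteinI

theorem appLE_congr_hom {X Y : Scheme.{u}} {f g : X ⟶ Y} (h : f = g) (U : Y.Opens) (V : X.Opens)
    (e : V ≤ f ⁻¹ᵁ U) : f.appLE U V e = g.appLE U V (h ▸ e) := by
  subst h; rfl

/-- Sections of the fibre of an affine morphism over a point extend to a neighbourhood. -/
theorem exists_section_of_isAffineHom {N S P : Scheme.{u}} (ν : N ⟶ S) [IsAffineHom ν] (s : S)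
    (j : P ⟶ N) (q : P ⟶ Spec (S.residueField s))
    (hP : IsPullback j q ν (S.fromSpecResidueField s)) (ε : Γ(P, ⊤)) :
    ∃ (V : S.Opens) (_ : s ∈ V) (t : Γ(N, ν ⁻¹ᵁ V)),
      (j.app (ν ⁻¹ᵁ V)).hom t =
        (P.presheaf.map (homOfLE (le_top : j ⁻¹ᵁ (ν ⁻¹ᵁ V) ≤ ⊤)).op).hom ε := by
  obtain ⟨_, ⟨V₀, hV₀ : IsAffineOpen V₀, rfl⟩, hs, -⟩ :=
    S.isBasis_affineOpens.exists_subset_of_mem_open (Set.mem_univ s) isOpen_univ
  have hs : s ∈ V₀ := hs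
  have hN₀ : IsAffineOpen (ν ⁻¹ᵁ V₀) := hV₀.preimage ν
  let φ : Γ(S, V₀) ⟶ Γ(N, ν ⁻¹ᵁ V₀) := ν.app V₀
  let ψ : Γ(S, V₀) ⟶ S.residueField s := S.presheaf.germ V₀ s hs ≫ S.residue s
  have hy₀ : S.fromSpecResidueField s = Spec.map ψ ≫ hV₀.fromSpec := by
    rw [Scheme.fromSpecResidueField, ← hV₀.fromSpecStalk_eq_fromSpecStalk hs,
      IsAffineOpen.fromSpecStalk, Spec.map_comp, Category.assoc]
  have hbot : IsPullback (Spec.map φ) hN₀.fromSpec hV₀.fromSpec ν := by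
    refine IsOpenImmersion.isPullback _ _ _ _ ?_ ?_
    · have := IsAffineOpen.SpecMap_appLE_fromSpec ν hV₀ hN₀ le_rfl
      rw [← this, Scheme.Hom.appLE_eq_app]
    · rw [hV₀.opensRange_fromSpec, hN₀.opensRange_fromSpec]
  let j' : pullback (Spec.map φ) (Spec.map ψ) ⟶ N :=
    pullback.fst (Spec.map φ) (Spec.map ψ) ≫ hN₀.fromSpec
  have hZ' : IsPullback j' (pullback.snd (Spec.map φ) (Spec.map ψ)) ν
      (S.fromSpecResidueField s) := by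
    rw [hy₀]
    exact ((IsPullback.of_hasPullback (Spec.map φ) (Spec.map ψ)).flip.paste_vert hbot).flip
  let c : pullback (Spec.map φ) (Spec.map ψ) ≅ P := hZ'.isoIsPullback _ _ hP
  have hcj : c.hom ≫ j = j' := hZ'.isoIsPullback_hom_fst _ _ hP
  -- the residue field consists of fractions
  have hκ : ∀ k : S.residueField s, ∃ a g : Γ(S, V₀), ψ.hom g ≠ 0 ∧ k * ψ.hom g = ψ.hom a := by
    intro k
    obtain ⟨x, rfl⟩ := S.residue_surjective s k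
    letI : Algebra Γ(S, V₀) (S.presheaf.stalk s) := (S.presheaf.germ V₀ s hs).hom.toAlgebra
    haveI := hV₀.isLocalization_stalk ⟨s, hs⟩
    obtain ⟨a, ⟨g, hg⟩, rfl⟩ := IsLocalization.exists_mk'_eq (hV₀.primeIdealOf ⟨s, hs⟩).asIdeal.primeCompl x
    have hunit : IsUnit ((S.presheaf.germ V₀ s hs).hom g) :=
      IsLocalization.map_units (S.presheaf.stalk s) ⟨g, hg⟩
    refine ⟨a, g, ?_, ?_⟩
    · exact (hunit.map (S.residue s).hom).ne_zero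
    · show (S.residue s).hom _ * (S.residue s).hom ((S.presheaf.germ V₀ s hs).hom g) =
        (S.residue s).hom ((S.presheaf.germ V₀ s hs).hom a)
      rw [← map_mul]
      congr 1
      exact IsLocalization.mk'_spec _ a ⟨g, hg⟩
  let ε' : Γ(pullback (Spec.map φ) (Spec.map ψ), ⊤) := c.hom.appTop.hom ε
  obtain ⟨g, b, hg, hgb⟩ := exists_mul_eq_of_pullback_Spec (K := S.residueField s) φ ψ hκ ε'
  have hVV₀ : S.basicOpen g ≤ V₀ := S.basicOpen_le g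
  have hsV : s ∈ S.basicOpen g := by
    rw [Scheme.mem_basicOpen _ _ _ hs]
    exact (IsLocalRing.residue_ne_zero_iff_isUnit _).mp hg
  have huS : IsUnit ((S.presheaf.map (homOfLE hVV₀).op).hom g) :=
    RingedSpace.isUnit_res_basicOpen S.toRingedSpace g
  have hu : IsUnit ((ν.app (S.basicOpen g)).hom ((S.presheaf.map (homOfLE hVV₀).op).hom g)) :=
    huS.map _
  refine ⟨S.basicOpen g, hsV,
    (N.presheaf.map (homOfLE (ν.preimage_mono hVV₀)).op).hom b * ↑(hu.unit⁻¹), ?_⟩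
  -- the key comparison of ring maps
  have hβ : (Scheme.ΓSpecIso Γ(N, ν ⁻¹ᵁ V₀)).inv ≫
      (pullback.fst (Spec.map φ) (Spec.map ψ)).appTop =
      j'.appLE (ν ⁻¹ᵁ V₀) ⊤ (by
        show ⊤ ≤ pullback.fst (Spec.map φ) (Spec.map ψ) ⁻¹ᵁ (hN₀.fromSpec ⁻¹ᵁ (ν ⁻¹ᵁ V₀))
        rw [hN₀.fromSpec_preimage_self]; exact le_rfl) := by
    show _ = (pullback.fst (Spec.map φ) (Spec.map ψ) ≫ hN₀.fromSpec).appLE (ν ⁻¹ᵁ V₀) ⊤ _
    rw [Scheme.Hom.comp_appLE, hN₀.fromSpec_app_self, Category.assoc, Scheme.Hom.map_appLE]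
    congr 1
    simp [Scheme.Hom.appLE]
  have hW'top : c.hom ⁻¹ᵁ (j ⁻¹ᵁ (ν ⁻¹ᵁ S.basicOpen g)) ≤ ⊤ := le_top
  have h1 : N.presheaf.map (homOfLE (ν.preimage_mono hVV₀)).op ≫
      j.app (ν ⁻¹ᵁ S.basicOpen g) ≫ c.hom.app (j ⁻¹ᵁ (ν ⁻¹ᵁ S.basicOpen g)) =
      ((Scheme.ΓSpecIso Γ(N, ν ⁻¹ᵁ V₀)).inv ≫
        (pullback.fst (Spec.map φ) (Spec.map ψ)).appTop) ≫
        (pullback (Spec.map φ) (Spec.map ψ)).presheaf.map (homOfLE hW'top).op := by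
    rw [hβ, Scheme.Hom.appLE_map, Scheme.Hom.app_eq_appLE, Scheme.Hom.app_eq_appLE,
      Scheme.Hom.appLE_comp_appLE, Scheme.Hom.map_appLE, appLE_congr_hom hcj]
  have h2 : P.presheaf.map (homOfLE (le_top : j ⁻¹ᵁ (ν ⁻¹ᵁ S.basicOpen g) ≤ ⊤)).op ≫
      c.hom.app (j ⁻¹ᵁ (ν ⁻¹ᵁ S.basicOpen g)) =
      c.hom.appTop ≫
        (pullback (Spec.map φ) (Spec.map ψ)).presheaf.map (homOfLE hW'top).op :=
    c.hom.naturality _
  have h3 : (ν.app (S.basicOpen g)).hom ((S.presheaf.map (homOfLE hVV₀).op).hom g) =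
      (N.presheaf.map (homOfLE (ν.preimage_mono hVV₀)).op).hom (φ.hom g) := by
    have := ν.naturality (homOfLE hVV₀).op
    exact congr($(this).hom g)
  have hρinj : Function.Injective (c.hom.app (j ⁻¹ᵁ (ν ⁻¹ᵁ S.basicOpen g))).hom :=
    ((ConcreteCategory.isIso_iff_bijective _).mp inferInstance).1
  have e1 : ∀ x : Γ(N, ν ⁻¹ᵁ V₀), (c.hom.app (j ⁻¹ᵁ (ν ⁻¹ᵁ S.basicOpen g))).hom
      ((j.app (ν ⁻¹ᵁ S.basicOpen g)).hom
        ((N.presheaf.map (homOfLE (ν.preimage_mono hVV₀)).op).hom x)) =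
      ((pullback (Spec.map φ) (Spec.map ψ)).presheaf.map (homOfLE hW'top).op).hom
        (((Scheme.ΓSpecIso Γ(N, ν ⁻¹ᵁ V₀)).inv ≫
          (pullback.fst (Spec.map φ) (Spec.map ψ)).appTop).hom x) :=
    fun x => congr($(h1).hom x)
  have e2 : (c.hom.app (j ⁻¹ᵁ (ν ⁻¹ᵁ S.basicOpen g))).hom
      ((P.presheaf.map (homOfLE (le_top : j ⁻¹ᵁ (ν ⁻¹ᵁ S.basicOpen g) ≤ ⊤)).op).hom ε) =
      ((pullback (Spec.map φ) (Spec.map ψ)).presheaf.map (homOfLE hW'top).op).hom ε' :=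
    congr($(h2).hom ε)
  have key : (j.app (ν ⁻¹ᵁ S.basicOpen g)).hom
      ((N.presheaf.map (homOfLE (ν.preimage_mono hVV₀)).op).hom b) =
      (P.presheaf.map (homOfLE (le_top : j ⁻¹ᵁ (ν ⁻¹ᵁ S.basicOpen g) ≤ ⊤)).op).hom ε *
      (j.app (ν ⁻¹ᵁ S.basicOpen g)).hom
        ((ν.app (S.basicOpen g)).hom ((S.presheaf.map (homOfLE hVV₀).op).hom g)) := by
    apply hρinj
    rw [map_mul, h3, e1 b, e1 (φ.hom g), e2, ← map_mul]
    exact congrArg _ hgb.symm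
  rw [map_mul, key, mul_assoc, ← map_mul, IsUnit.mul_val_inv, map_one, mul_one]

theorem main {X S : Scheme.{u}} (f : X ⟶ S) [IsProper f] (s : S)
    (e : (f.fiber s).presheaf.obj (op ⊤)) (he : IsIdempotentElem e) :
    ∃ (V : S.Opens) (_ : s ∈ V) (t : X.presheaf.obj (op (f ⁻¹ᵁ V))),
      ((f.fiberι s).app (f ⁻¹ᵁ V)).hom t =
        ((f.fiber s).presheaf.map
          (homOfLE (le_top : (f.fiberι s) ⁻¹ᵁ (f ⁻¹ᵁ V) ≤ ⊤)).op).hom e := by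
  let p := f.toNormalization
  let ν := f.fromNormalization
  have hw : p ≫ ν = f := f.toNormalization_fromNormalization
  haveI : IsProper (p ≫ ν) := by rw [hw]; infer_instance
  haveI : IsProper p := IsProper.of_comp p ν
  haveI : Surjective p := inferInstance
  haveI hgc : GeometricallyConnected p :=
    Groth.Agent.Helper3.SteinG.geometricallyConnected_of_isIso_app p
      (fun U => Groth.Agent.S1340.result f U)
  let y₀ := S.fromSpecResidueField s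
  let ι : pullback f y₀ ⟶ X := pullback.fst f y₀
  let p₁ : pullback f y₀ ⟶ pullback ν y₀ := SteinK.bcLift f p ν hw y₀
  have hp₁ : IsPullback p₁ ι (pullback.fst ν y₀) p := SteinK.isPullback_bcLift f p ν hw y₀
  haveI : GeometricallyConnected p₁ :=
    MorphismProperty.of_isPullback (P := @GeometricallyConnected) hp₁.flip hgc
  haveI : IsProper p₁ := MorphismProperty.of_isPullback (P := @IsProper) hp₁.flip inferInstance
  haveI : IsAffineHom ν := inferInstance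
  haveI : IsAffine (pullback ν y₀) := isAffine_of_isAffineHom (pullback.snd ν y₀)
  obtain ⟨ε, hε, hεe⟩ := exists_idem_descend p₁ p₁.isClosedMap e he
  obtain ⟨V, hsV, t', ht'⟩ := exists_section_of_isAffineHom ν s (pullback.fst ν y₀)
    (pullback.snd ν y₀) (IsPullback.of_hasPullback ν y₀) ε
  have hle : f ⁻¹ᵁ V ≤ p ⁻¹ᵁ (ν ⁻¹ᵁ V) :=
    le_of_eq (by rw [← Scheme.Hom.comp_preimage, hw])
  have hle2 : ι ⁻¹ᵁ (f ⁻¹ᵁ V) ≤ p₁ ⁻¹ᵁ (pullback.fst ν y₀ ⁻¹ᵁ (ν ⁻¹ᵁ V)) := by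
    refine le_of_eq ?_
    rw [← Scheme.Hom.comp_preimage p₁, hp₁.w, Scheme.Hom.comp_preimage,
      ← Scheme.Hom.comp_preimage p ν, hw]
  refine ⟨V, hsV, (p.appLE (ν ⁻¹ᵁ V) (f ⁻¹ᵁ V) hle).hom t', ?_⟩
  have H : p.appLE (ν ⁻¹ᵁ V) (f ⁻¹ᵁ V) hle ≫ ι.app (f ⁻¹ᵁ V) =
      (pullback.fst ν y₀).app (ν ⁻¹ᵁ V) ≫
        p₁.appLE (pullback.fst ν y₀ ⁻¹ᵁ (ν ⁻¹ᵁ V)) (ι ⁻¹ᵁ (f ⁻¹ᵁ V)) hle2 := by
    rw [Scheme.Hom.app_eq_appLE, Scheme.Hom.app_eq_appLE, Scheme.Hom.appLE_comp_appLE,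
      Scheme.Hom.appLE_comp_appLE, appLE_congr_hom hp₁.w]
  have H2 : (pullback ν y₀).presheaf.map
      (homOfLE (le_top : pullback.fst ν y₀ ⁻¹ᵁ (ν ⁻¹ᵁ V) ≤ ⊤)).op ≫
        p₁.appLE (pullback.fst ν y₀ ⁻¹ᵁ (ν ⁻¹ᵁ V)) (ι ⁻¹ᵁ (f ⁻¹ᵁ V)) hle2 =
      p₁.appTop ≫ (pullback f y₀).presheaf.map
        (homOfLE (le_top : ι ⁻¹ᵁ (f ⁻¹ᵁ V) ≤ ⊤)).op := by
    rw [Scheme.Hom.appLE, p₁.naturality_assoc, ← Functor.map_comp]
    rfl
  have E1 := congr($(H).hom t')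
  have E2 := congr($(H2).hom ε)
  show (ι.app (f ⁻¹ᵁ V)).hom ((p.appLE (ν ⁻¹ᵁ V) (f ⁻¹ᵁ V) hle).hom t') =
    ((pullback f y₀).presheaf.map (homOfLE (le_top : ι ⁻¹ᵁ (f ⁻¹ᵁ V) ≤ ⊤)).op).hom e
  rw [← hεe]
  refine E1.trans ?_
  refine Eq.trans ?_ E2
  show (p₁.appLE (pullback.fst ν y₀ ⁻¹ᵁ (ν ⁻¹ᵁ V)) (ι ⁻¹ᵁ (f ⁻¹ᵁ V)) hle2).hom
    (((pullback.fst ν y₀).app (ν ⁻¹ᵁ V)).hom t') = _
  rw [ht']
  rfl

end Groth.Agent.Helper3.SteinI
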