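import Mathlib

set_option autoImplicit false
set_option linter.style.haveILetI false
set_option linter.unusedSectionVars false
set_option linter.unusedVariables false
set_option linter.deprecated false
set_option linter.style.haveILetI false
set_option linter.unusedSectionVars false
set_option linter.unusedVariables false

universe u

namespace Groth.Agent.Helper3.SteinP

/-- Ring homomorphisms into an algebraically closed field extend along injective integral
ring homomorphisms. -/
theorem exists_extension {B B' Ω : Type u} [CommRing B] [CommRing B'] [Field Ω] [IsAlgClosed Ω]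
    (ι : B →+* B') (hι : Function.Injective ι) (hint : ι.IsIntegral) (γ : B →+* Ω) :
    ∃ γ' : B' →+* Ω, γ'.comp ι = γ := by
  letI := ι.toAlgebra
  haveI : Algebra.IsIntegral B B' := ⟨hint⟩
  haveI hq : (RingHom.ker γ).IsPrime := RingHom.ker_isPrime γ
  have hker : RingHom.ker (algebraMap B B') ≤ RingHom.ker γ := by
    have : RingHom.ker (algebraMap B B') = ⊥ := (RingHom.injective_iff_ker_eq_bot _).mp hι
    rw [this]; exact bot_le
  obtain ⟨Q, -, hQ, hQq⟩ := Ideal.exists_ideal_over_prime_of_isIntegral (RingHom.ker γ)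
    (⊥ : Ideal B') (by rw [← RingHom.ker_eq_comap_bot]; exact hker)
  haveI := hQ
  let f : B ⧸ RingHom.ker γ →+* B' ⧸ Q :=
    Ideal.quotientMap Q (algebraMap B B') (le_of_eq hQq.symm)
  have hf : Function.Injective f := Ideal.quotientMap_injective' (le_of_eq hQq)
  have hfi : f.IsIntegral := by
    intro x
    obtain ⟨y, rfl⟩ := Ideal.Quotient.mk_surjective x
    obtain ⟨P, hP, hPy⟩ := Algebra.IsIntegral.isIntegral (R := B) y
    refine ⟨P.map (Ideal.Quotient.mk (RingHom.ker γ)), hP.map _, ?_⟩
    rw [Polynomial.eval₂_map]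
    have hc : f.comp (Ideal.Quotient.mk (RingHom.ker γ)) =
        (Ideal.Quotient.mk Q).comp (algebraMap B B') := by
      ext b
      exact Ideal.quotientMap_mk (I := Q) (f := algebraMap B B') (H := le_of_eq hQq.symm)
    rw [hc, ← Polynomial.hom_eval₂, hPy, map_zero]
  let g : B ⧸ RingHom.ker γ →+* Ω := RingHom.kerLift γ
  have hg : Function.Injective g := RingHom.kerLift_injective γ
  letI := f.toAlgebra
  letI := g.toAlgebra
  haveI : IsDomain (B' ⧸ Q) := Ideal.Quotient.isDomain _
  haveI : IsDomain (B ⧸ RingHom.ker γ) := Ideal.Quotient.isDomain _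
  haveI : Module.IsTorsionFree (B ⧸ RingHom.ker γ) (B' ⧸ Q) :=
    Module.isTorsionFree_iff_algebraMap_injective.2 hf
  haveI : Module.IsTorsionFree (B ⧸ RingHom.ker γ) Ω :=
    Module.isTorsionFree_iff_algebraMap_injective.2 hg
  haveI : Algebra.IsIntegral (B ⧸ RingHom.ker γ) (B' ⧸ Q) := ⟨hfi⟩
  haveI : Algebra.IsAlgebraic (B ⧸ RingHom.ker γ) (B' ⧸ Q) := Algebra.IsIntegral.isAlgebraic
  let l : B' ⧸ Q →ₐ[B ⧸ RingHom.ker γ] Ω := IsAlgClosed.lift
  refine ⟨l.toRingHom.comp (Ideal.Quotient.mk Q), ?_⟩
  ext b
  show l (Ideal.Quotient.mk Q (algebraMap B B' b)) = γ b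
  have h1 : Ideal.Quotient.mk Q (algebraMap B B' b) = f (Ideal.Quotient.mk _ b) :=
    (Ideal.quotientMap_mk (f := algebraMap B B') (H := le_of_eq hQq.symm)).symm
  have h2 : ∀ x : B ⧸ RingHom.ker γ, l (f x) = g x := fun x => l.commutes x
  rw [h1, h2]
  exact RingHom.kerLift_mk γ b

/-- Frobenius powers are injective on fields of the right characteristic. -/
theorem eq_of_pow_eq {R Ω : Type u} [CommRing R] [Field Ω] (χ : R →+* Ω) (q : ℕ)
    (hq : q = 1 ∨ (q.Prime ∧ (q : R) = 0)) (n : ℕ) (x y : Ω) (h : x ^ q ^ n = y ^ q ^ n) :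
    x = y := by
  rcases hq with rfl | ⟨hp, hq0⟩
  · simpa using h
  · have hq0' : (q : Ω) = 0 := by
      have : (q : Ω) = χ (q : R) := (map_natCast _ q).symm
      rw [this, hq0, map_zero]
    haveI : CharP Ω q := (CharP.charP_iff_prime_eq_zero hp).2 hq0'
    haveI : Fact q.Prime := ⟨hp⟩
    have hinj : Function.Injective (iterateFrobenius Ω q n) := RingHom.injective _
    apply hinj
    rw [iterateFrobenius_def, iterateFrobenius_def]
    exact h

/-- If every element of `B` has a `q`-power that is a fraction of elements of `A`, and the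
normalization of `A` is radicial over `A`, then `B` is radicial over `A`. -/
theorem radicial_of_pow {A B K : Type u} [CommRing A] [IsDomain A] [CommRing B] [IsDomain B]
    [Field K] [Algebra A K] [IsFractionRing A K]
    (φ : A →+* B) (hφ : Function.Injective φ) (hint : φ.IsIntegral) (q : ℕ)
    (hq : q = 1 ∨ (q.Prime ∧ (q : A) = 0))
    (hpi : ∀ b : B, ∃ (n : ℕ) (a g : A), g ≠ 0 ∧ b ^ q ^ n * φ g = φ a)
    (hrad : ∀ (Ω : Type u) [Field Ω] (δ₁ δ₂ : integralClosure A K →+* Ω),
      δ₁.comp (algebraMap A (integralClosure A K)) =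
        δ₂.comp (algebraMap A (integralClosure A K)) → δ₁ = δ₂)
    (Ω : Type u) [Field Ω] (γ₁ γ₂ : B →+* Ω) (h : γ₁.comp φ = γ₂.comp φ) : γ₁ = γ₂ := by
  letI algAB : Algebra A B := φ.toAlgebra
  have hALeq : ∀ x : A, algebraMap A (FractionRing B) x =
      algebraMap B (FractionRing B) (φ x) := fun x =>
    IsScalarTower.algebraMap_apply A B (FractionRing B) x
  have hAL : Function.Injective (algebraMap A (FractionRing B)) := by
    intro x y hxy
    rw [hALeq, hALeq] at hxy
    exact hφ (IsFractionRing.injective B (FractionRing B) hxy)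
  let σ : K →ₐ[A] FractionRing B :=
    IsFractionRing.liftAlgHom (g := Algebra.ofId A (FractionRing B)) hAL
  have hσ : Function.Injective σ := σ.toRingHom.injective
  let τ : integralClosure A K →ₐ[A] integralClosure A (FractionRing B) := σ.mapIntegralClosure
  have hBint : ∀ b : B, IsIntegral A (algebraMap B (FractionRing B) b) := fun b =>
    (show IsIntegral A b from hint b).map (IsScalarTower.toAlgHom A B (FractionRing B))
  let ι : B →ₐ[A] integralClosure A (FractionRing B) :=
    (IsScalarTower.toAlgHom A B (FractionRing B)).codRestrict _ hBint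
  have hιval : ∀ b : B, ((ι b : integralClosure A (FractionRing B)) : FractionRing B) =
      algebraMap B (FractionRing B) b := fun b => rfl
  have hι : Function.Injective ι.toRingHom := by
    intro b b' hbb'
    apply IsFractionRing.injective B (FractionRing B)
    rw [← hιval, ← hιval]
    exact congrArg Subtype.val hbb'
  have hιint : ι.toRingHom.IsIntegral := by
    refine RingHom.IsIntegral.tower_top φ ι.toRingHom ?_
    have : ι.toRingHom.comp φ = algebraMap A (integralClosure A (FractionRing B)) := by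
      ext a
      exact congrArg Subtype.val (ι.commutes a)
    rw [this]
    exact Algebra.IsIntegral.isIntegral
  let j : Ω →+* AlgebraicClosure Ω := algebraMap Ω (AlgebraicClosure Ω)
  obtain ⟨γ₁', h₁⟩ := exists_extension ι.toRingHom hι hιint (j.comp γ₁)
  obtain ⟨γ₂', h₂⟩ := exists_extension ι.toRingHom hι hιint (j.comp γ₂)
  have e₁ : ∀ b : B, γ₁' (ι b) = j (γ₁ b) := fun b => congrArg (fun χ : B →+* _ => χ b) h₁
  have e₂ : ∀ b : B, γ₂' (ι b) = j (γ₂ b) := fun b => congrArg (fun χ : B →+* _ => χ b) h₂
  have hδ : γ₁'.comp τ.toRingHom = γ₂'.comp τ.toRingHom := by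
    apply hrad
    ext a
    show γ₁' (τ (algebraMap A _ a)) = γ₂' (τ (algebraMap A _ a))
    rw [τ.commutes, ← ι.commutes, e₁, e₂]
    exact congrArg j (congrArg (fun χ : A →+* Ω => χ a) h)
  ext b
  obtain ⟨n, a, g, hg, hb⟩ := hpi b
  have hgL : algebraMap A (FractionRing B) g ≠ 0 := by
    intro h0
    exact hg (hAL (h0.trans (map_zero _).symm))
  have hbL : (algebraMap B (FractionRing B) b) ^ q ^ n * algebraMap A (FractionRing B) g =
      algebraMap A (FractionRing B) a := by
    have := congrArg (algebraMap B (FractionRing B)) hb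
    rw [map_mul, map_pow] at this
    rw [hALeq, hALeq]
    exact this
  have hσc : σ (algebraMap A K a / algebraMap A K g) =
      (algebraMap B (FractionRing B) b) ^ q ^ n := by
    rw [map_div₀, σ.commutes, σ.commutes, div_eq_iff hgL, hbL]
  have hc : IsIntegral A (algebraMap A K a / algebraMap A K g) := by
    rw [← isIntegral_algHom_iff σ hσ, hσc]
    exact (hBint b).pow _
  have hτ : τ ⟨algebraMap A K a / algebraMap A K g, hc⟩ = (ι b) ^ q ^ n := by
    apply Subtype.ext
    show σ (algebraMap A K a / algebraMap A K g) = _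
    rw [hσc]
    simp [hιval]
  have key : (j (γ₁ b)) ^ q ^ n = (j (γ₂ b)) ^ q ^ n := by
    rw [← e₁, ← e₂, ← map_pow γ₁', ← map_pow γ₂', ← hτ]
    exact congrArg (fun χ : integralClosure A K →+* _ => χ ⟨_, hc⟩) hδ
  exact j.injective (eq_of_pow_eq (j.comp (γ₁.comp φ)) q hq n _ _ key)

end Groth.Agent.Helper3.SteinP
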