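import Mathlib
import Groth.Prelude
import Groth.Agent.Helper3.SteinP1
import Groth.Agent.Helper3.SteinN1
import Groth.Agent.Helper3.SteinK1
import Groth.Agent.Helper3.SteinGeom
import Groth.Agent.Helper5.PINorm3

set_option autoImplicit false
set_option linter.style.haveILetI false
set_option linter.unusedSectionVars false
set_option linter.unusedVariables false
set_option linter.deprecated false
set_option linter.style.haveILetI false
set_option linter.unusedSectionVars false
set_option linter.unusedVariables false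

open CategoryTheory CategoryTheory.Limits AlgebraicGeometry Opposite

universe u

namespace Groth.Agent.Helper3.SteinP

open Groth.Agent.Helper3.SteinN (appLE_congr_hom appLE_comp_appTop)

theorem map_genericPoint_of_isDominant {X Y : Scheme.{u}} [IrreducibleSpace X] [IrreducibleSpace Y]
    (f : X ⟶ Y) [IsDominant f] : f (genericPoint X) = genericPoint Y := by
  have hsub : Set.range f ⊆ closure ({f (genericPoint X)} : Set Y) := by
    rintro _ ⟨z, rfl⟩
    have h1 : genericPoint X ⤳ z := genericPoint_specializes z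
    exact specializes_iff_mem_closure.mp (h1.map f.continuous)
  have h1 : closure ({f (genericPoint X)} : Set Y) = Set.univ := by
    apply Set.eq_univ_of_univ_subset
    rw [← f.denseRange.closure_eq]
    exact closure_minimal hsub isClosed_closure
  have hg1 : IsGenericPoint (f (genericPoint X)) (⊤ : Set Y) := h1
  exact hg1.eq (genericPoint_spec Y)

theorem le_fiber_preimage {X S : Scheme.{u}} (f : X ⟶ S) (ξ : S) (U : S.Opens) (hξU : ξ ∈ U) :
    ⊤ ≤ f.fiberι ξ ⁻¹ᵁ (f ⁻¹ᵁ U) := by
  rw [← Scheme.Hom.comp_preimage, f.fiber_fac ξ, Scheme.Hom.comp_preimage]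
  intro z _
  show S.fromSpecResidueField ξ (f.fiberToSpecResidueField ξ z) ∈ U
  rw [Scheme.fromSpecResidueField_apply]
  exact hξU

/-- The comparison square between sections over an affine neighbourhood of `ξ` and global
sections of the fibre over `ξ`. -/
theorem fiber_comm {X S : Scheme.{u}} (f : X ⟶ S) (ξ : S) (U : S.Opens) (hU : IsAffineOpen U)
    (hξU : ξ ∈ U) (hle2 : ⊤ ≤ f.fiberι ξ ⁻¹ᵁ (f ⁻¹ᵁ U)) :
    f.app U ≫ (f.fiberι ξ).appLE (f ⁻¹ᵁ U) ⊤ hle2 =
      (S.presheaf.germ U ξ hξU ≫ S.residue ξ) ≫ (Scheme.ΓSpecIso (S.residueField ξ)).inv ≫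
        (f.fiberToSpecResidueField ξ).appTop := by
  have hfac : f.fiberι ξ ≫ f = f.fiberToSpecResidueField ξ ≫ S.fromSpecResidueField ξ :=
    f.fiber_fac ξ
  have hle1 : ⊤ ≤ S.fromSpecResidueField ξ ⁻¹ᵁ U := by
    intro z _
    show S.fromSpecResidueField ξ z ∈ U
    rw [Scheme.fromSpecResidueField_apply]
    exact hξU
  have hcomm : f.app U ≫ (f.fiberι ξ).appLE (f ⁻¹ᵁ U) ⊤ hle2 =
      (S.fromSpecResidueField ξ).appLE U ⊤ hle1 ≫ (f.fiberToSpecResidueField ξ).appTop := by
    rw [appLE_comp_appTop, Scheme.Hom.app_eq_appLE, Scheme.Hom.appLE_comp_appLE,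
      appLE_congr_hom hfac]
  have hy₀ : S.fromSpecResidueField ξ =
      Spec.map (S.presheaf.germ U ξ hξU ≫ S.residue ξ) ≫ hU.fromSpec := by
    rw [Scheme.fromSpecResidueField, ← hU.fromSpecStalk_eq_fromSpecStalk hξU,
      IsAffineOpen.fromSpecStalk, Spec.map_comp, Category.assoc]
  have hα : (S.fromSpecResidueField ξ).appLE U ⊤ hle1 =
      (S.presheaf.germ U ξ hξU ≫ S.residue ξ) ≫ (Scheme.ΓSpecIso (S.residueField ξ)).inv := by
    rw [appLE_congr_hom hy₀, Scheme.Hom.comp_appLE, hU.fromSpec_app_self, Category.assoc,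
      Scheme.Hom.map_appLE, Scheme.ΓSpecIso_inv_naturality]
    congr 1
  rw [hcomm, hα, Category.assoc]

/-- Elements of the residue field at `s` are fractions of sections over an affine
neighbourhood. -/
theorem exists_frac_residue {S : Scheme.{u}} (s : S) (V₀ : S.Opens) (hV₀ : IsAffineOpen V₀)
    (hs : s ∈ V₀) (k : S.residueField s) :
    ∃ a g : Γ(S, V₀), (S.presheaf.germ V₀ s hs ≫ S.residue s).hom g ≠ 0 ∧
      k * (S.presheaf.germ V₀ s hs ≫ S.residue s).hom g =
        (S.presheaf.germ V₀ s hs ≫ S.residue s).hom a := by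
  obtain ⟨x, rfl⟩ := S.residue_surjective s k
  letI : Algebra Γ(S, V₀) (S.presheaf.stalk s) := (S.presheaf.germ V₀ s hs).hom.toAlgebra
  haveI := hV₀.isLocalization_stalk ⟨s, hs⟩
  obtain ⟨a, ⟨g, hg⟩, rfl⟩ :=
    IsLocalization.exists_mk'_eq (hV₀.primeIdealOf ⟨s, hs⟩).asIdeal.primeCompl x
  have hunit : IsUnit ((S.presheaf.germ V₀ s hs).hom g) :=
    IsLocalization.map_units (S.presheaf.stalk s) ⟨g, hg⟩
  refine ⟨a, g, ?_, ?_⟩
  · exact (hunit.map (S.residue s).hom).ne_zero
  · show (S.residue s).hom _ * (S.residue s).hom ((S.presheaf.germ V₀ s hs).hom g) =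
      (S.residue s).hom ((S.presheaf.germ V₀ s hs).hom a)
    rw [← map_mul]
    congr 1
    exact IsLocalization.mk'_spec _ a ⟨g, hg⟩

/-- Geometric connectedness of the generic fibre: every section over the preimage of an affine
open has a `q`-power which is a fraction of sections of the base. -/
theorem exists_pow_mul_eq {X S : Scheme.{u}} (f : X ⟶ S) [IsProper f] [IsDominant f]
    [IsIntegral X] [IsIntegral S]
    (hη : GeometricallyConnected (f.fiberToSpecResidueField (genericPoint S)))
    (U : S.Opens) (hU : IsAffineOpen U) [Nonempty U] (b : Γ(X, f ⁻¹ᵁ U)) :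
    ∃ (n : ℕ) (a g : Γ(S, U)), g ≠ 0 ∧
      b ^ (ringExpChar (S.residueField (genericPoint S))) ^ n * (f.app U).hom g =
        (f.app U).hom a := by
  have hξU : genericPoint S ∈ U :=
    ((genericPoint_spec S).mem_open_set_iff U.isOpen).mpr (by simpa using ‹Nonempty U›)
  have hle2 := le_fiber_preimage f (genericPoint S) U hξU
  have hcomm := fiber_comm f (genericPoint S) U hU hξU hle2
  have hgen : ∀ Z ∈ irreducibleComponents ↑X, ∀ x : X, IsGenericPoint x Z →
      f x = genericPoint ↑S := by
    intro Z hZ x hx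
    rw [irreducibleComponents_eq_singleton] at hZ
    have hZ' : Z = Set.univ := hZ
    subst hZ'
    have : x = genericPoint X := hx.eq (genericPoint_spec X)
    rw [this]
    exact map_genericPoint_of_isDominant f
  have hρ := Groth.Agent.Helper3.SteinN.injective_appLE_fiber f (genericPoint S) hgen
    (f ⁻¹ᵁ U) hle2
  haveI : IsProper (f.fiberToSpecResidueField (genericPoint S)) := by
    unfold Scheme.Hom.fiberToSpecResidueField
    exact MorphismProperty.pullback_snd (P := @IsProper) _ _ inferInstance
  obtain ⟨-, -, hpow⟩ := (Groth.Agent.Helper3.SteinGeom.main (S.residueField (genericPoint S))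
    (f.fiberToSpecResidueField (genericPoint S))).mp hη
  obtain ⟨n, c, hc⟩ := hpow (((f.fiberι (genericPoint S)).appLE (f ⁻¹ᵁ U) ⊤ hle2).hom b)
  obtain ⟨a, g, hg, hcg⟩ := exists_frac_residue (genericPoint S) U hU hξU c
  refine ⟨n, a, g, ?_, ?_⟩
  · rintro rfl; exact hg (map_zero _)
  · have key0 : ∀ x : Γ(S, U),
        ((f.fiberι (genericPoint S)).appLE (f ⁻¹ᵁ U) ⊤ hle2).hom ((f.app U).hom x) =
        (f.fiberToSpecResidueField (genericPoint S)).appTop.hom
          ((Scheme.ΓSpecIso (S.residueField (genericPoint S))).inv.hom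
            ((S.presheaf.germ U (genericPoint S) hξU ≫ S.residue (genericPoint S)).hom x)) :=
      fun x => congr($(hcomm).hom x)
    have key : ((f.fiberι (genericPoint S)).appLE (f ⁻¹ᵁ U) ⊤ hle2).hom
        (b ^ (ringExpChar (S.residueField (genericPoint S))) ^ n * (f.app U).hom g -
          (f.app U).hom a) =
        ((((f.fiberι (genericPoint S)).appLE (f ⁻¹ᵁ U) ⊤ hle2).hom b) ^
            (ringExpChar (S.residueField (genericPoint S))) ^ n -
          (f.fiberToSpecResidueField (genericPoint S)).appTop.hom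
            ((Scheme.ΓSpecIso (S.residueField (genericPoint S))).inv.hom c)) *
        ((f.fiberι (genericPoint S)).appLE (f ⁻¹ᵁ U) ⊤ hle2).hom ((f.app U).hom g) := by
      rw [map_sub, map_mul, map_pow, sub_mul, key0 a, key0 g, ← hcg, map_mul, map_mul]
    have hnil : IsNilpotent (b ^ (ringExpChar (S.residueField (genericPoint S))) ^ n *
        (f.app U).hom g - (f.app U).hom a) := by
      have hc' : IsNilpotent
          ((((f.fiberι (genericPoint S)).appLE (f ⁻¹ᵁ U) ⊤ hle2).hom b) ^
            (ringExpChar (S.residueField (genericPoint S))) ^ n -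
          (f.fiberToSpecResidueField (genericPoint S)).appTop.hom
            ((Scheme.ΓSpecIso (S.residueField (genericPoint S))).inv.hom c)) := hc
      obtain ⟨m, hm⟩ := hc'
      refine ⟨m, hρ ?_⟩
      rw [map_pow, key, mul_pow, hm, zero_mul, map_zero]
    haveI : _root_.IsReduced Γ(X, f ⁻¹ᵁ U) := inferInstance
    exact sub_eq_zero.mp hnil.eq_zero

theorem expChar_hyp {A κ : Type u} [CommRing A] [Field κ] (ψ : A →+* κ)
    (hψ : Function.Injective ψ) :
    ringExpChar κ = 1 ∨ ((ringExpChar κ).Prime ∧ ((ringExpChar κ : ℕ) : A) = 0) := by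
  rcases expChar_is_prime_or_one κ (ringExpChar κ) with hp | h1
  · right
    refine ⟨hp, hψ ?_⟩
    rw [map_natCast, map_zero]
    have hr : ringChar κ = ringExpChar κ := by
      unfold ringExpChar at hp ⊢
      rcases Nat.eq_zero_or_pos (ringChar κ) with h0 | hpos
      · rw [h0] at hp
        exact absurd hp (by norm_num)
      · exact (max_eq_left hpos).symm
    rw [← hr]
    exact ringChar.Nat.cast_ringChar
  · left; exact h1

theorem main {X S : Scheme.{u}} (f : X ⟶ S) [IsProper f] [IsDominant f]
    [IsIntegral X] [IsIntegral S] (hS : ∀ s : S, CAlg2.IsGeomUnibranch (S.presheaf.stalk s))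
    (hη : GeometricallyConnected (f.fiberToSpecResidueField (genericPoint S))) :
    GeometricallyConnected f := by
  let p := f.toNormalization
  let ν := f.fromNormalization
  have hw : p ≫ ν = f := f.toNormalization_fromNormalization
  haveI : IsProper (p ≫ ν) := by rw [hw]; infer_instance
  haveI : IsProper p := IsProper.of_comp p ν
  haveI : Surjective p := inferInstance
  haveI hgc : GeometricallyConnected p :=
    Groth.Agent.Helper3.SteinG.geometricallyConnected_of_isIso_app p
      (fun U => Groth.Agent.S1340.result f U)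
  haveI : IsDominant (p ≫ ν) := by rw [hw]; infer_instance
  haveI : IsDominant ν := IsDominant.of_comp p ν
  haveI : IsSchemeTheoreticallyDominant ν := IsSchemeTheoreticallyDominant.of_isDominant ν
  have hν : UniversallyInjective ν := by
    refine (IsZariskiLocalAtTarget.iff_of_iSup_eq_top (P := @UniversallyInjective) _
      (iSup_affineOpens_eq_top S)).2 ?_
    rintro ⟨U, hU⟩
    by_cases hne : Nonempty U
    · show UniversallyInjective (ν ∣_ U)
      rw [Groth.Agent.Helper5.PINorm.univInj_morphismRestrict_iff _ U hU (hU.preimage _)]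
      have hof : ν.app U = CommRingCat.ofHom (ν.app U).hom := rfl
      rw [hof, Groth.Agent.Helper5.BrRad2.univInj_iff]
      intro Ω _ γ₁ γ₂ h
      have hξU : genericPoint S ∈ U :=
        ((genericPoint_spec S).mem_open_set_iff U.isOpen).mpr (by simpa using hne)
      haveI : Nonempty (ν ⁻¹ᵁ U) := by
        obtain ⟨x, hx⟩ := f.denseRange.exists_mem_open U.2 ⟨_, hξU⟩
        refine ⟨⟨p x, ?_⟩⟩
        show ν (p x) ∈ U
        rw [← Scheme.Hom.comp_apply, hw]; exact hx
      haveI : IsDomain Γ(f.normalization, ν ⁻¹ᵁ U) := inferInstance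
      haveI : IsDomain Γ(S, U) := inferInstance
      haveI : IsFractionRing Γ(S, U) S.functionField :=
        functionField_isFractionRing_of_isAffineOpen S U hU
      have hinj : Function.Injective (ν.app U).hom := ν.app_injective U
      have hint : (ν.app U).hom.IsIntegral := ν.isIntegral_app U hU
      -- characteristic hypothesis
      have hψinj : Function.Injective
          (S.presheaf.germ U (genericPoint S) hξU ≫ S.residue (genericPoint S)).hom := by
        have h1 : Function.Injective (S.presheaf.germ U (genericPoint S) hξU).hom :=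
          germ_injective_of_isIntegral S (genericPoint S) hξU
        have h2 : Function.Injective (S.residue (genericPoint S)).hom :=
          Groth.Agent.Helper3.SteinN.residue_injective_of_isField
            (Field.toIsField S.functionField)
        exact h2.comp h1
      have hq := expChar_hyp
        (S.presheaf.germ U (genericPoint S) hξU ≫ S.residue (genericPoint S)).hom hψinj
      -- transfer of the power property along `p`
      have hle : f ⁻¹ᵁ U ≤ p ⁻¹ᵁ (ν ⁻¹ᵁ U) :=
        le_of_eq (by rw [← Scheme.Hom.comp_preimage, hw])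
      have hle' : p ⁻¹ᵁ (ν ⁻¹ᵁ U) ≤ f ⁻¹ᵁ U :=
        le_of_eq (by rw [← Scheme.Hom.comp_preimage, hw])
      have hep : ν.app U ≫ p.appLE (ν ⁻¹ᵁ U) (f ⁻¹ᵁ U) hle = f.app U := by
        rw [Scheme.Hom.app_eq_appLE, Scheme.Hom.appLE_comp_appLE, appLE_congr_hom hw,
          ← Scheme.Hom.app_eq_appLE]
      have hepinj : Function.Injective (p.appLE (ν ⁻¹ᵁ U) (f ⁻¹ᵁ U) hle).hom := by
        haveI : IsIso (p.app (ν ⁻¹ᵁ U)) := Groth.Agent.S1340.result f (ν ⁻¹ᵁ U)
        have h1 : p.appLE (ν ⁻¹ᵁ U) (f ⁻¹ᵁ U) hle =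
            p.app (ν ⁻¹ᵁ U) ≫ X.presheaf.map (homOfLE hle).op := rfl
        have h2 : IsIso (X.presheaf.map (homOfLE hle).op) := by
          have : IsIso (homOfLE hle) := ⟨⟨homOfLE hle', rfl, rfl⟩⟩
          infer_instance
        rw [h1]
        exact ((ConcreteCategory.isIso_iff_bijective _).mp inferInstance).1
      have hpi : ∀ b : Γ(f.normalization, ν ⁻¹ᵁ U), ∃ (n : ℕ) (a g : Γ(S, U)), g ≠ 0 ∧
          b ^ (ringExpChar (S.residueField (genericPoint S))) ^ n * (ν.app U).hom g =
            (ν.app U).hom a := by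
        intro b
        obtain ⟨n, a, g, hg, hb⟩ := exists_pow_mul_eq f hη U hU
          ((p.appLE (ν ⁻¹ᵁ U) (f ⁻¹ᵁ U) hle).hom b)
        refine ⟨n, a, g, hg, hepinj ?_⟩
        have e1 : ∀ x : Γ(S, U), (p.appLE (ν ⁻¹ᵁ U) (f ⁻¹ᵁ U) hle).hom ((ν.app U).hom x) =
            (f.app U).hom x := fun x => congr($(hep).hom x)
        rw [map_mul, map_pow, e1, e1]
        exact hb
      exact radicial_of_pow (K := S.functionField) (ν.app U).hom hinj hint _ hq hpi
        (fun Ω' _ δ₁ δ₂ hδ =>
          Groth.Agent.Helper5.PINorm.radicial_of_geomUnibranch_stalks hS U hU Ω' δ₁ δ₂ hδ)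
        Ω γ₁ γ₂ h
    · haveI : IsEmpty U := not_nonempty_iff.1 hne
      have htf : UniversallyInjective (ν ∣_ U) ↔
          ∀ (K : Type u) [Field K], Function.Injective
            (fun g : Spec (.of K) ⟶ _ ↦ g ≫ (ν ∣_ U)) :=
        (tfae_universallyInjective _).out 0 1
      show UniversallyInjective (ν ∣_ U)
      rw [htf]
      intro K _ g₁ g₂ _
      obtain ⟨pt⟩ : Nonempty (Spec (CommRingCat.of K)) := inferInstance
      exact (IsEmpty.false ((ν ∣_ U) (g₁ pt))).elim
  -- `f` is surjective
  haveI : Surjective f := by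
    constructor
    intro s
    have hcl : IsClosed (Set.range f) := f.isClosedMap.isClosed_range
    have : Set.range f = Set.univ := by
      rw [← hcl.closure_eq]; exact f.denseRange.closure_eq
    rw [← Set.mem_range, this]; trivial
  refine ⟨fun K _ y Z fst snd hsq => ?_⟩
  have hlift : fst ≫ p ≫ ν = snd ≫ y := by rw [hw]; exact hsq.w
  let p_y : Z ⟶ pullback ν y :=
    pullback.lift (fst ≫ p) snd (by rw [Category.assoc]; exact hlift)
  have hp_y : IsPullback p_y fst (pullback.fst ν y) p := by
    have outer : IsPullback (p_y ≫ pullback.snd ν y) fst y (p ≫ ν) := by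
      rw [pullback.lift_snd, hw]; exact hsq.flip
    exact IsPullback.of_right outer (pullback.lift_fst _ _ _)
      (IsPullback.of_hasPullback ν y).flip
  haveI : GeometricallyConnected p_y :=
    MorphismProperty.of_isPullback (P := @GeometricallyConnected) hp_y.flip hgc
  haveI : UniversallyInjective (pullback.snd ν y) :=
    MorphismProperty.pullback_snd (P := @UniversallyInjective) _ _ hν
  have hsub : ∀ a b : ↥(pullback ν y), a = b := by
    intro a b
    apply (pullback.snd ν y).injective
    exact Subsingleton.elim _ _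
  haveI : Surjective snd :=
    MorphismProperty.of_isPullback (P := @Surjective) hsq inferInstance
  obtain ⟨z, -⟩ := snd.surjective (IsLocalRing.closedPoint K)
  have hconn := p_y.isConnected_preimage_singleton (p_y z)
  have huniv : p_y ⁻¹' {p_y z} = Set.univ := by
    ext w
    simp only [Set.mem_preimage, Set.mem_singleton_iff, Set.mem_univ, iff_true]
    exact hsub _ _
  rw [huniv] at hconn
  exact connectedSpace_iff_univ.mpr hconn

end Groth.Agent.Helper3.SteinP
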