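import Mathlib

set_option autoImplicit false
set_option linter.style.haveILetI false
set_option linter.unusedSectionVars false
set_option linter.unusedVariables false
set_option linter.deprecated false
set_option linter.style.haveILetI false
set_option linter.unusedSectionVars false
set_option linter.unusedVariables false

universe u

open Polynomial

namespace Groth.Agent.Helper3.SteinUH1

/-- Two retractions of an integral algebra over a field with connected spectrum coincide. -/
theorem retraction_unique {K A : Type u} [Field K] [CommRing A] [Algebra K A]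
    [Algebra.IsIntegral K A] [PreconnectedSpace (PrimeSpectrum A)]
    (ψ₁ ψ₂ : A →ₐ[K] K) : ψ₁ = ψ₂ := by
  by_contra hne
  obtain ⟨a, ha⟩ : ∃ a, ψ₁ a ≠ ψ₂ a := by
    by_contra h
    push Not at h
    exact hne (AlgHom.ext h)
  set c₁ := ψ₁ a with hc₁
  set c₂ := ψ₂ a with hc₂
  obtain ⟨m, hm, hma⟩ := Algebra.IsIntegral.isIntegral (R := K) a
  have hma' : aeval a m = 0 := by
    simpa [aeval_def] using hma
  have hm0 : m ≠ 0 := hm.ne_zero
  have hroot₁ : m.IsRoot c₁ := by
    have := congrArg ψ₁ hma'
    rw [← Polynomial.aeval_algHom_apply, map_zero] at this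
    simpa [IsRoot, aeval_def] using this
  have hroot₂ : m.IsRoot c₂ := by
    have := congrArg ψ₂ hma'
    rw [← Polynomial.aeval_algHom_apply, map_zero] at this
    simpa [IsRoot, aeval_def] using this
  obtain ⟨n, hmn, hnd⟩ := Polynomial.exists_eq_pow_rootMultiplicity_mul_and_not_dvd m hm0 c₁
  set r := rootMultiplicity c₁ m with hr
  have hrpos : 0 < r := (Polynomial.rootMultiplicity_pos hm0).2 hroot₁
  have hcop : IsCoprime ((X - C c₁) ^ r) n :=
    IsCoprime.pow_left (((Polynomial.irreducible_X_sub_C c₁).coprime_iff_not_dvd).2 hnd)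
  obtain ⟨u, v, huv⟩ := hcop
  set e : A := aeval a (v * n) with he
  have h1e : 1 - e = aeval a (u * (X - C c₁) ^ r) := by
    have := congrArg (aeval a) huv
    rw [map_add, map_one] at this
    rw [he, ← this]; ring
  have hidem : e * (1 - e) = 0 := by
    rw [h1e, he, ← map_mul]
    have : v * n * (u * (X - C c₁) ^ r) = u * v * m := by rw [hmn]; ring
    rw [this, map_mul, hma', mul_zero]
  have hψ₁e : ψ₁ e = 1 := by
    rw [he, ← Polynomial.aeval_algHom_apply]
    have := congrArg (eval c₁) huv
    simp only [eval_add, eval_mul, eval_pow, eval_sub, eval_X, eval_C, sub_self, eval_one] at this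
    rw [zero_pow hrpos.ne', mul_zero, zero_add] at this
    simpa [aeval_def, eval₂_mul, ← hc₁] using this
  have hψ₂e : ψ₂ e = 0 := by
    rw [he, ← Polynomial.aeval_algHom_apply]
    have h2 : eval c₂ n = 0 := by
      have := hroot₂
      rw [IsRoot, hmn, eval_mul, eval_pow, eval_sub, eval_X, eval_C] at this
      rcases mul_eq_zero.1 this with h | h
      · exact absurd (sub_eq_zero.1 (pow_eq_zero_iff hrpos.ne' |>.1 h)) (Ne.symm ha)
      · exact h
    simp [aeval_def, eval₂_mul, ← hc₂, h2]
  have hclopen : IsClopen (PrimeSpectrum.basicOpen e : Set (PrimeSpectrum A)) :=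
    PrimeSpectrum.isClopen_basicOpen_of_mul_add e (1 - e) hidem (by ring)
  rcases isClopen_iff.1 hclopen with h | h
  · -- ker ψ₁ is in basicOpen e
    have hp : (RingHom.ker ψ₁.toRingHom).IsPrime := RingHom.ker_isPrime _
    have : (⟨RingHom.ker ψ₁.toRingHom, hp⟩ : PrimeSpectrum A) ∈
        (PrimeSpectrum.basicOpen e : Set (PrimeSpectrum A)) := by
      show e ∉ RingHom.ker ψ₁.toRingHom
      rw [RingHom.mem_ker]
      show ¬ ψ₁ e = 0
      rw [hψ₁e]; exact one_ne_zero
    rw [h] at this
    exact this
  · have hp : (RingHom.ker ψ₂.toRingHom).IsPrime := RingHom.ker_isPrime _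
    have : (⟨RingHom.ker ψ₂.toRingHom, hp⟩ : PrimeSpectrum A) ∈
        (PrimeSpectrum.basicOpen e : Set (PrimeSpectrum A)) := by
      rw [h]; trivial
    apply this
    show e ∈ RingHom.ker ψ₂.toRingHom
    rw [RingHom.mem_ker]
    exact hψ₂e

end Groth.Agent.Helper3.SteinUH1
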