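import Mathlib
import Groth.Prelude
import Groth.Agent.Helper5.UnivHomeo1
import Groth.Agent.Helper3.SteinUH1
import Groth.Agent.Helper3.SteinK1

set_option autoImplicit false
set_option linter.style.haveILetI false
set_option linter.unusedSectionVars false
set_option linter.unusedVariables false
set_option linter.deprecated false
set_option linter.style.haveILetI false
set_option linter.unusedSectionVars false
set_option linter.unusedVariables false

universe u

open CategoryTheory CategoryTheory.Limits AlgebraicGeometry TopologicalSpace MorphismProperty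

namespace Groth.Agent.Helper3.SteinU

theorem isUnivHomeo_of_factor {X Z S : Scheme.{u}} (f : X ⟶ S) [GeometricallyConnected f]
    (a : X ⟶ Z) (c : Z ⟶ S) (hac : a ≫ c = f) [IsIntegralHom c] [Surjective a] :
    FlatMor.IsUnivHomeo c := by
  rw [Groth.Agent.Helper5.UnivHomeo.isUnivHomeo_iff]
  have hsurjT : Surjective a := inferInstance
  refine ⟨inferInstance, ?_, ?_⟩
  · refine ((tfae_universallyInjective c).out 0 1).mpr ?_
    intro K _ g₁ g₂ hg
    dsimp only at hg
    set p := c with hp
    let h : Spec (.of K) ⟶ S := g₁ ≫ p
    let s₁ : Spec (.of K) ⟶ pullback p h := pullback.lift g₁ (𝟙 _) (by simp [h])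
    let s₂ : Spec (.of K) ⟶ pullback p h := pullback.lift g₂ (𝟙 _) (by simp [h, hg])
    have hs₁f : s₁ ≫ pullback.fst p h = g₁ := pullback.lift_fst _ _ _
    have hs₂f : s₂ ≫ pullback.fst p h = g₂ := pullback.lift_fst _ _ _
    have hs₁s : s₁ ≫ pullback.snd p h = 𝟙 _ := pullback.lift_snd _ _ _
    have hs₂s : s₂ ≫ pullback.snd p h = 𝟙 _ := pullback.lift_snd _ _ _
    suffices hs : s₁ = s₂ by
      rw [← hs₁f, ← hs₂f, hs]
    have hPaff : IsAffine (pullback p h) := isAffine_of_isAffineHom (pullback.snd p h)
    have hconn : ConnectedSpace ↑(pullback p h) := by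
      have hc : ConnectedSpace ↑(pullback f h) :=
        GeometricallyConnected.geometrically_connectedSpace _ _ _ (.of_hasPullback _ _)
      let q := Groth.Agent.Helper3.SteinK.bcLift f a p hac h
      have left := Groth.Agent.Helper3.SteinK.isPullback_bcLift f a p hac h
      have hq : Surjective q := MorphismProperty.of_isPullback (P := @Surjective) left.flip hsurjT
      exact hq.surj.connectedSpace q.continuous
    let A : CommRingCat.{u} := Γ(pullback p h, ⊤)
    let e : pullback p h ≅ Spec A := (pullback p h).isoSpec
    let ι : CommRingCat.of K ⟶ A := Spec.preimage (e.inv ≫ pullback.snd p h)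
    have hι : Spec.map ι = e.inv ≫ pullback.snd p h := Spec.map_preimage _
    have hιint : ι.hom.IsIntegral := by
      rw [← IsIntegralHom.SpecMap_iff, hι]
      infer_instance
    let ψ₁ : A ⟶ CommRingCat.of K := Spec.preimage (s₁ ≫ e.hom)
    let ψ₂ : A ⟶ CommRingCat.of K := Spec.preimage (s₂ ≫ e.hom)
    have hψ₁ : Spec.map ψ₁ = s₁ ≫ e.hom := Spec.map_preimage _
    have hψ₂ : Spec.map ψ₂ = s₂ ≫ e.hom := Spec.map_preimage _
    have hιψ₁ : ι ≫ ψ₁ = 𝟙 _ := by
      apply Spec.map_injective
      rw [Spec.map_comp, hψ₁, hι]
      simp [hs₁s]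
    have hιψ₂ : ι ≫ ψ₂ = 𝟙 _ := by
      apply Spec.map_injective
      rw [Spec.map_comp, hψ₂, hι]
      simp [hs₂s]
    suffices hψ : ψ₁ = ψ₂ by
      have : s₁ ≫ e.hom = s₂ ≫ e.hom := by rw [← hψ₁, ← hψ₂, hψ]
      exact (cancel_mono e.hom).1 this
    letI : Algebra K A := ι.hom.toAlgebra
    have hint : Algebra.IsIntegral K A := ⟨fun x => hιint x⟩
    have hpre : PreconnectedSpace (PrimeSpectrum A) := by
      have : ConnectedSpace (Spec A) :=
        (e.hom.homeomorph.surjective).connectedSpace e.hom.homeomorph.continuous
      exact (inferInstance : PreconnectedSpace (Spec A))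
    let φ₁ : A →ₐ[K] K :=
      { ψ₁.hom with
        commutes' := fun r => by
          have := congr($(hιψ₁).hom r)
          exact this }
    let φ₂ : A →ₐ[K] K :=
      { ψ₂.hom with
        commutes' := fun r => by
          have := congr($(hιψ₂).hom r)
          exact this }
    have hφ := Groth.Agent.Helper3.SteinUH1.retraction_unique φ₁ φ₂
    ext x
    exact congr($hφ x)
  · have : Surjective (a ≫ c) := by
      rw [hac]; infer_instance
    exact Surjective.of_comp a c

end Groth.Agent.Helper3.SteinU

namespace Groth.Agent.Helper3.SteinU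

open Groth.Agent.Helper3.SteinK in
theorem main {X S T : Scheme.{u}} (f : X ⟶ S) [IsProper f] (g : T ⟶ S) :
    FlatMor.IsUnivHomeo (f.normalizationPullback g) := by
  let p := f.toNormalization
  let ν := f.fromNormalization
  have hw : p ≫ ν = f := f.toNormalization_fromNormalization
  haveI : IsProper (p ≫ ν) := by rw [hw]; infer_instance
  haveI : IsProper p := IsProper.of_comp p ν
  haveI : Surjective p := inferInstance
  haveI hgc : GeometricallyConnected p :=
    Groth.Agent.Helper3.SteinG.geometricallyConnected_of_isIso_app p
      (fun U => Groth.Agent.S1340.result f U)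
  let q := bcLift f p ν hw g
  have hq := isPullback_bcLift f p ν hw g
  haveI : GeometricallyConnected q :=
    MorphismProperty.of_isPullback (P := @GeometricallyConnected) hq.flip hgc
  have hac : (pullback.snd f g).toNormalization ≫ f.normalizationPullback g = q := by
    apply pullback.hom_ext
    · rw [Category.assoc, Scheme.Hom.toNormalization_normalizationPullback_fst]
      exact (bcLift_fst f p ν hw g).symm
    · rw [Category.assoc, Scheme.Hom.normalizationPullback_snd,
        Scheme.Hom.toNormalization_fromNormalization]
      exact (bcLift_snd f p ν hw g).symm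
  haveI : Surjective (pullback.snd f g).toNormalization := inferInstance
  exact isUnivHomeo_of_factor q (pullback.snd f g).toNormalization (f.normalizationPullback g) hac

end Groth.Agent.Helper3.SteinU
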