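import Mathlib
import Groth.Prelude.Def_Flat
import Groth.Agent.Helper5.UnivHomeo1
import Groth.Agent.Helper3.SteinUH1

set_option autoImplicit false
set_option linter.style.haveILetI false
set_option linter.unusedSectionVars false
set_option linter.unusedVariables false
set_option linter.deprecated false
set_option linter.style.haveILetI false
set_option linter.unusedSectionVars false
set_option linter.unusedVariables false

universe u

open CategoryTheory CategoryTheory.Limits AlgebraicGeometry TopologicalSpace MorphismProperty

namespace Groth.Agent.Helper3.SteinUH2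

theorem main {X S : Scheme.{u}} (f : X ⟶ S) [IsProper f] [GeometricallyConnected f] :
    FlatMor.IsUnivHomeo f.fromNormalization := by
  rw [Groth.Agent.Helper5.UnivHomeo.isUnivHomeo_iff]
  have hsurjT : Surjective f.toNormalization := inferInstance
  refine ⟨inferInstance, ?_, ?_⟩
  · refine ((tfae_universallyInjective f.fromNormalization).out 0 1).mpr ?_
    intro K _ g₁ g₂ hg
    dsimp only at hg
    set p := f.fromNormalization with hp
    let h : Spec (.of K) ⟶ S := g₁ ≫ p
    let s₁ : Spec (.of K) ⟶ pullback p h := pullback.lift g₁ (𝟙 _) (by simp [h])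
    let s₂ : Spec (.of K) ⟶ pullback p h := pullback.lift g₂ (𝟙 _) (by simp [h, hg])
    have hs₁f : s₁ ≫ pullback.fst p h = g₁ := pullback.lift_fst _ _ _
    have hs₂f : s₂ ≫ pullback.fst p h = g₂ := pullback.lift_fst _ _ _
    have hs₁s : s₁ ≫ pullback.snd p h = 𝟙 _ := pullback.lift_snd _ _ _
    have hs₂s : s₂ ≫ pullback.snd p h = 𝟙 _ := pullback.lift_snd _ _ _
    suffices hs : s₁ = s₂ by
      rw [← hs₁f, ← hs₂f, hs]
    have hPaff : IsAffine (pullback p h) := isAffine_of_isAffineHom (pullback.snd p h)
    have hconn : ConnectedSpace ↑(pullback p h) := by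
      have hc : ConnectedSpace ↑(pullback f h) :=
        GeometricallyConnected.geometrically_connectedSpace _ _ _ (.of_hasPullback _ _)
      let q : pullback f h ⟶ pullback p h :=
        pullback.map f h p h f.toNormalization (𝟙 _) (𝟙 _) (by simp [hp]) (by simp)
      have e1 : q ≫ pullback.snd p h = pullback.snd f h := by
        have := pullback.lift_snd (f := p) (g := h) (pullback.fst f h ≫ f.toNormalization)
          (pullback.snd f h ≫ 𝟙 _) (by simp [hp, pullback.condition])
        exact this.trans (Category.comp_id _)
      have e3 : q ≫ pullback.fst p h = pullback.fst f h ≫ f.toNormalization :=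
        pullback.lift_fst (f := p) (g := h) (pullback.fst f h ≫ f.toNormalization)
          (pullback.snd f h ≫ 𝟙 _) (by simp [hp, pullback.condition])
      have e2 : f.toNormalization ≫ p = f := f.toNormalization_fromNormalization
      have outer : IsPullback (q ≫ pullback.snd p h) (pullback.fst f h) h
          (f.toNormalization ≫ p) := by
        rw [e1, e2]; exact (IsPullback.of_hasPullback f h).flip
      have left : IsPullback q (pullback.fst f h) (pullback.fst p h) f.toNormalization :=
        IsPullback.of_right outer e3 (IsPullback.of_hasPullback p h).flip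
      have hq : Surjective q := MorphismProperty.of_isPullback (P := @Surjective) left.flip hsurjT
      exact hq.surj.connectedSpace q.continuous
    let A : CommRingCat.{u} := Γ(pullback p h, ⊤)
    let e : pullback p h ≅ Spec A := (pullback p h).isoSpec
    let ι : CommRingCat.of K ⟶ A := Spec.preimage (e.inv ≫ pullback.snd p h)
    have hι : Spec.map ι = e.inv ≫ pullback.snd p h := Spec.map_preimage _
    have hιint : ι.hom.IsIntegral := by
      rw [← IsIntegralHom.SpecMap_iff, hι]
      infer_instance
    let ψ₁ : A ⟶ CommRingCat.of K := Spec.preimage (s₁ ≫ e.hom)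
    let ψ₂ : A ⟶ CommRingCat.of K := Spec.preimage (s₂ ≫ e.hom)
    have hψ₁ : Spec.map ψ₁ = s₁ ≫ e.hom := Spec.map_preimage _
    have hψ₂ : Spec.map ψ₂ = s₂ ≫ e.hom := Spec.map_preimage _
    have hιψ₁ : ι ≫ ψ₁ = 𝟙 _ := by
      apply Spec.map_injective
      rw [Spec.map_comp, hψ₁, hι]
      simp [hs₁s]
    have hιψ₂ : ι ≫ ψ₂ = 𝟙 _ := by
      apply Spec.map_injective
      rw [Spec.map_comp, hψ₂, hι]
      simp [hs₂s]
    suffices hψ : ψ₁ = ψ₂ by
      have : s₁ ≫ e.hom = s₂ ≫ e.hom := by rw [← hψ₁, ← hψ₂, hψ]
      exact (cancel_mono e.hom).1 this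
    letI : Algebra K A := ι.hom.toAlgebra
    have hint : Algebra.IsIntegral K A := ⟨fun x => hιint x⟩
    have hpre : PreconnectedSpace (PrimeSpectrum A) := by
      have : ConnectedSpace (Spec A) :=
        (e.hom.homeomorph.surjective).connectedSpace e.hom.homeomorph.continuous
      exact (inferInstance : PreconnectedSpace (Spec A))
    let φ₁ : A →ₐ[K] K :=
      { ψ₁.hom with
        commutes' := fun r => by
          have := congr($(hιψ₁).hom r)
          exact this }
    let φ₂ : A →ₐ[K] K :=
      { ψ₂.hom with
        commutes' := fun r => by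
          have := congr($(hιψ₂).hom r)
          exact this }
    have hφ := Groth.Agent.Helper3.SteinUH1.retraction_unique φ₁ φ₂
    ext x
    exact congr($hφ x)
  · have : Surjective (f.toNormalization ≫ f.fromNormalization) := by
      rw [f.toNormalization_fromNormalization]; infer_instance
    exact Surjective.of_comp f.toNormalization f.fromNormalization

end Groth.Agent.Helper3.SteinUH2
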