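import Mathlib
import Groth.Agent.Helper3.SmoothLift

open AlgebraicGeometry CategoryTheory CategoryTheory.Limits TopologicalSpace Opposite

namespace Groth.Agent.Helper3.StrictHensDense

universe u

theorem exists_residue_section (R : Type u) [CommRing R] [IsLocalRing R]
    [IsAlgClosed (IsLocalRing.ResidueField R)] (C : Type u) [CommRing C] [Algebra R C]
    [Algebra.FiniteType R C] (P : Ideal C) [P.IsPrime]
    (hP : (IsLocalRing.maximalIdeal R).map (algebraMap R C) ≤ P) :
    ∃ σ : C →+* IsLocalRing.ResidueField R, σ.comp (algebraMap R C) = IsLocalRing.residue R := by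
  obtain ⟨M, hM, hPM⟩ := Ideal.exists_le_maximal ((IsLocalRing.maximalIdeal R).map (algebraMap R C))
    (fun h => (inferInstance : P.IsPrime).ne_top (top_le_iff.mp (h ▸ hP)))
  letI : Field (C ⧸ M) := Ideal.Quotient.field M
  let ι : IsLocalRing.ResidueField R →+* C ⧸ M :=
    Ideal.Quotient.lift (IsLocalRing.maximalIdeal R) ((Ideal.Quotient.mk M).comp (algebraMap R C))
      (fun a ha => Ideal.Quotient.eq_zero_iff_mem.mpr (hPM (Ideal.mem_map_of_mem _ ha)))
  letI : Algebra (IsLocalRing.ResidueField R) (C ⧸ M) := ι.toAlgebra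
  haveI : IsScalarTower R (IsLocalRing.ResidueField R) (C ⧸ M) :=
    IsScalarTower.of_algebraMap_eq' rfl
  haveI : Algebra.FiniteType R (C ⧸ M) :=
    Algebra.FiniteType.of_surjective (Ideal.Quotient.mkₐ R M) Ideal.Quotient.mk_surjective
  haveI : Algebra.FiniteType (IsLocalRing.ResidueField R) (C ⧸ M) :=
    Algebra.FiniteType.of_restrictScalars_finiteType R _ _
  haveI : Module.Finite (IsLocalRing.ResidueField R) (C ⧸ M) :=
    finite_of_finite_type_of_isJacobsonRing _ _
  have hbij : Function.Bijective (algebraMap (IsLocalRing.ResidueField R) (C ⧸ M)) :=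
    IsAlgClosed.algebraMap_bijective_of_isIntegral
  let e : IsLocalRing.ResidueField R ≃+* C ⧸ M := RingEquiv.ofBijective _ hbij
  refine ⟨e.symm.toRingHom.comp (Ideal.Quotient.mk M), ?_⟩
  ext r
  change e.symm (Ideal.Quotient.mk M (algebraMap R C r)) = IsLocalRing.residue R r
  rw [RingEquiv.symm_apply_eq]
  rfl


theorem main (R : Type u) [CommRing R] [HenselianLocalRing R]
    [IsAlgClosed (IsLocalRing.ResidueField R)]
    {X : Scheme.{u}} (p : X ⟶ Spec (CommRingCat.of R)) [Smooth p]
    (x : X) (hx : p.base x = IsLocalRing.closedPoint R) :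
    x ∈ closure {y : X | ∃ s : Spec (CommRingCat.of R) ⟶ X, s ≫ p = 𝟙 _ ∧
      s.base (IsLocalRing.closedPoint R) = y} := by
  rw [mem_closure_iff]
  intro O hO hxO
  obtain ⟨_, ⟨(V : X.Opens), hV, rfl⟩, hxV, hVO⟩ :=
    X.isBasis_affineOpens.exists_subset_of_mem_open hxO hO
  haveI : IsOpenImmersion hV.fromSpec := hV.isOpenImmersion_fromSpec
  let φ' : CommRingCat.of R ⟶ Γ(X, V) :=
    (Scheme.ΓSpecIso (CommRingCat.of R)).inv ≫ p.appLE ⊤ V le_top
  have K1 : hV.fromSpec ≫ p = Spec.map φ' := by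
    rw [← IsAffineOpen.SpecMap_appLE_fromSpec p (isAffineOpen_top _) hV le_top,
      IsAffineOpen.fromSpec_top, Scheme.isoSpec_Spec_inv, ← Spec.map_comp]
  have hft : φ'.hom.FiniteType := by
    have h1 : (p.appLE ⊤ V le_top).hom.FiniteType :=
      p.finiteType_appLE (isAffineOpen_top _) hV le_top
    have h2 : ((Scheme.ΓSpecIso (CommRingCat.of R)).inv).hom.FiniteType :=
      RingHom.FiniteType.of_surjective _
        ((ConcreteCategory.isIso_iff_bijective _).mp inferInstance).2
    exact h1.comp h2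
  algebraize [φ'.hom]
  let px : PrimeSpectrum Γ(X, V) := hV.primeIdealOf ⟨x, hxV⟩
  have hpx : hV.fromSpec px = x := hV.fromSpec_primeIdealOf ⟨x, hxV⟩
  have hP : (IsLocalRing.maximalIdeal R).map (algebraMap R Γ(X, V)) ≤ px.asIdeal := by
    rw [Ideal.map_le_iff_le_comap]
    have h1 : (Spec.map φ') px = IsLocalRing.closedPoint R := by
      rw [← K1]
      change p.base (hV.fromSpec px) = _
      rw [hpx, hx]
    have h2 := congrArg PrimeSpectrum.asIdeal h1
    exact h2.ge
  obtain ⟨σ, hσ⟩ := exists_residue_section R Γ(X, V) px.asIdeal hP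
  let u₀ : Spec (CommRingCat.of (IsLocalRing.ResidueField R)) ⟶ X :=
    Spec.map (CommRingCat.ofHom σ) ≫ hV.fromSpec
  have h₀ : u₀ ≫ p = Spec.map (CommRingCat.ofHom (IsLocalRing.residue R)) := by
    simp only [u₀, Category.assoc, K1, ← Spec.map_comp]
    congr 1
    ext r
    exact DFunLike.congr_fun hσ r
  obtain ⟨u, hu1, hu2⟩ := SmoothLift.exists_section R p u₀ h₀
  refine ⟨u.base (IsLocalRing.closedPoint R), hVO ?_, u, hu1, rfl⟩
  have h3 : (Spec.map (CommRingCat.ofHom (IsLocalRing.residue R)))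
      (IsLocalRing.closedPoint (IsLocalRing.ResidueField R)) = IsLocalRing.closedPoint R :=
    IsLocalRing.comap_closedPoint (IsLocalRing.residue R)
  have h4 : u.base (IsLocalRing.closedPoint R) =
      u₀.base (IsLocalRing.closedPoint (IsLocalRing.ResidueField R)) := by
    rw [← hu2, ← h3]; rfl
  rw [h4]
  have h5 : u₀.base (IsLocalRing.closedPoint (IsLocalRing.ResidueField R)) ∈
      Set.range hV.fromSpec := ⟨_, rfl⟩
  rwa [hV.range_fromSpec] at h5

end Groth.Agent.Helper3.StrictHensDense
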