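import Mathlib
import Groth.Agent.Helper3.HensSection
import Groth.Agent.Helper3.HensLocal

open AlgebraicGeometry CategoryTheory Limits Polynomial

universe u

namespace Groth.Agent.Helper3.StrictHensSec

/-- Forward direction: sections through points of the closed fibre. -/
theorem exists_section_through (A : Type u) [CommRing A] [HenselianLocalRing A]
    [IsSepClosed (IsLocalRing.ResidueField A)]
    (X : Scheme.{u}) (f : X ⟶ Spec (CommRingCat.of A)) [Etale f]
    (x : X) (hx : f.base x = IsLocalRing.closedPoint A) :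
    ∃ u : Spec (CommRingCat.of A) ⟶ X, u ≫ f = 𝟙 _ ∧ u.base (IsLocalRing.closedPoint A) = x := by
  set k := IsLocalRing.ResidueField A with hk
  let s : Spec (CommRingCat.of k) ⟶ Spec (CommRingCat.of A) :=
    Spec.map (CommRingCat.ofHom (IsLocalRing.residue A))
  have hs : ∀ pt : Spec (CommRingCat.of k), s.base pt = IsLocalRing.closedPoint A := by
    intro pt
    have h1 : pt = IsLocalRing.closedPoint k := Subsingleton.elim _ _
    rw [h1]
    exact IsLocalRing.comap_closedPoint (IsLocalRing.residue A)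
  obtain ⟨t, ht, htx⟩ := Scheme.exists_fac_of_etale_of_isSepClosed f s x (by rw [hx, hs])
  obtain ⟨u, ⟨hu1, hu2⟩, -⟩ := HensSection.existsUnique_section A f t ht
  refine ⟨u, hu1, ?_⟩
  rw [← htx, ← hu2, ← hs default]
  rfl

end Groth.Agent.Helper3.StrictHensSec

namespace Groth.Agent.Helper3.StrictHensSec

/-- Ring-level reformulation of the section property. -/
theorem ring_sections (A : Type u) [CommRing A] [IsLocalRing A]
    (H : ∀ (X : Scheme.{u}) (f : X ⟶ Spec (CommRingCat.of A)), Etale f →
        ∀ x : X, f.base x = IsLocalRing.closedPoint A →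
          ∃ u : Spec (CommRingCat.of A) ⟶ X, u ≫ f = 𝟙 _ ∧
            u.base (IsLocalRing.closedPoint A) = x)
    (A' : Type u) [CommRing A'] [Algebra A A'] [Algebra.Etale A A'] (q : Ideal A') [q.IsPrime]
    (hq : q.comap (algebraMap A A') = IsLocalRing.maximalIdeal A) :
    ∃ τ : A' →ₐ[A] A, (IsLocalRing.maximalIdeal A).comap τ.toRingHom = q := by
  let f : Spec (CommRingCat.of A') ⟶ Spec (CommRingCat.of A) :=
    Spec.map (CommRingCat.ofHom (algebraMap A A'))
  have hf : Etale f := HasRingHomProperty.Spec_iff.mpr (RingHom.etale_algebraMap.mpr inferInstance)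
  let x : Spec (CommRingCat.of A') := ⟨q, inferInstance⟩
  have hx : f.base x = IsLocalRing.closedPoint A := PrimeSpectrum.ext hq
  obtain ⟨u, hu1, hu2⟩ := H _ f hf x hx
  obtain ⟨τ₀, rfl⟩ := Spec.map_surjective u
  have h1 : CommRingCat.ofHom (algebraMap A A') ≫ τ₀ = 𝟙 _ := by
    apply Spec.map_injective
    rw [Spec.map_comp, Spec.map_id]
    exact hu1
  let τ : A' →ₐ[A] A :=
    { τ₀.hom with
      commutes' := fun r => congr($(h1).hom r) }
  refine ⟨τ, ?_⟩
  have := congrArg PrimeSpectrum.asIdeal hu2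
  exact this

end Groth.Agent.Helper3.StrictHensSec

namespace Groth.Agent.Helper3.StrictHensSec

theorem hens_of_ring_sections (A : Type u) [CommRing A] [IsLocalRing A]
    (H' : ∀ (A' : Type u) [CommRing A'] [Algebra A A'] [Algebra.Etale A A'] (q : Ideal A')
      [q.IsPrime], q.comap (algebraMap A A') = IsLocalRing.maximalIdeal A →
      ∃ τ : A' →ₐ[A] A, (IsLocalRing.maximalIdeal A).comap τ.toRingHom = q) :
    HenselianLocalRing A := by
  haveI : HenselianRing A (IsLocalRing.maximalIdeal A) := by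
    refine HensEtale.hens_of_etale_lift (IsLocalRing.maximalIdeal A) (fun A' _ _ _ σ => ?_)
    haveI : (RingHom.ker σ.toRingHom).IsPrime := RingHom.ker_isPrime _
    have hq : (RingHom.ker σ.toRingHom).comap (algebraMap A A') = IsLocalRing.maximalIdeal A := by
      ext a
      rw [Ideal.mem_comap, RingHom.mem_ker]
      show σ (algebraMap A A' a) = 0 ↔ _
      rw [σ.commutes, Ideal.Quotient.algebraMap_eq, Ideal.Quotient.eq_zero_iff_mem]
    obtain ⟨τ, hτ⟩ := H' A' (RingHom.ker σ.toRingHom) hq
    refine ⟨τ, ?_⟩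
    ext a'
    show Ideal.Quotient.mk _ (τ a') = σ a'
    have h1 : a' - algebraMap A A' (τ a') ∈ RingHom.ker σ.toRingHom := by
      rw [← hτ, Ideal.mem_comap]
      show τ (a' - algebraMap A A' (τ a')) ∈ _
      rw [map_sub, τ.commutes]
      simp
    rw [RingHom.mem_ker] at h1
    have h2 : σ (a' - algebraMap A A' (τ a')) = 0 := h1
    rw [map_sub, σ.commutes, sub_eq_zero] at h2
    rw [h2]
    rfl
  exact HensLocal.henselianLocalRing_of_henselianRing A

theorem sepClosed_of_ring_sections (A : Type u) [CommRing A] [IsLocalRing A]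
    (H' : ∀ (A' : Type u) [CommRing A'] [Algebra A A'] [Algebra.Etale A A'] (q : Ideal A')
      [q.IsPrime], q.comap (algebraMap A A') = IsLocalRing.maximalIdeal A →
      ∃ τ : A' →ₐ[A] A, (IsLocalRing.maximalIdeal A).comap τ.toRingHom = q) :
    IsSepClosed (IsLocalRing.ResidueField A) := by
  refine IsSepClosed.of_exists_root _ (fun p hpm hpi hps => ?_)
  haveI : Fact (Irreducible p) := ⟨hpi⟩
  obtain ⟨P, hPp, -, hPm⟩ := lifts_and_natDegree_eq_and_monic
    (mem_lifts_of_surjective (f := IsLocalRing.residue A) IsLocalRing.residue_surjective p) hpm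
  let Pair : StandardEtalePair A := ⟨P, hPm, derivative P, ⟨1, 0, 1, by simp⟩⟩
  let L := AdjoinRoot p
  letI algL : Algebra A L := ((AdjoinRoot.of p).comp (IsLocalRing.residue A)).toAlgebra
  have halg : ∀ Q : A[X], aeval (AdjoinRoot.root p) Q =
      eval₂ (AdjoinRoot.of p) (AdjoinRoot.root p) (Q.map (IsLocalRing.residue A)) := by
    intro Q
    rw [eval₂_map]
    rfl
  have h1 : aeval (AdjoinRoot.root p) P = 0 := by
    rw [halg, hPp, AdjoinRoot.eval₂_root]
  have h2 : IsUnit (aeval (AdjoinRoot.root p) (derivative P)) := by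
    rw [isUnit_iff_ne_zero, halg, ← derivative_map, hPp]
    have h3 : aeval (AdjoinRoot.root p) p = 0 := by
      rw [aeval_def, AdjoinRoot.algebraMap_eq, AdjoinRoot.eval₂_root]
    have := hps.aeval_derivative_ne_zero h3
    rwa [aeval_def, AdjoinRoot.algebraMap_eq] at this
  let β : Pair.Ring →ₐ[A] L := Pair.lift (AdjoinRoot.root p) ⟨h1, h2⟩
  haveI : (RingHom.ker β.toRingHom).IsPrime := RingHom.ker_isPrime _
  have hq : (RingHom.ker β.toRingHom).comap (algebraMap A Pair.Ring) =
      IsLocalRing.maximalIdeal A := by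
    ext a
    rw [Ideal.mem_comap, RingHom.mem_ker]
    show β (algebraMap A Pair.Ring a) = 0 ↔ _
    rw [β.commutes]
    show (AdjoinRoot.of p) (IsLocalRing.residue A a) = 0 ↔ _
    rw [map_eq_zero_iff _ (AdjoinRoot.of p).injective, IsLocalRing.residue_eq_zero_iff]
  obtain ⟨τ, -⟩ := H' Pair.Ring (RingHom.ker β.toRingHom) hq
  refine ⟨IsLocalRing.residue A (τ Pair.X), ?_⟩
  have h4 : aeval (τ Pair.X) P = 0 := by
    rw [aeval_algHom_apply, Pair.hasMap_X.1, map_zero]
  rw [← hPp, Polynomial.eval_map, Polynomial.eval₂_at_apply, ← Polynomial.coe_aeval_eq_eval, h4,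
    map_zero]

end Groth.Agent.Helper3.StrictHensSec
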