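import Mathlib
import Groth.Agent.Helper3.WeilRes3

set_option autoImplicit false
set_option linter.style.haveILetI false
set_option linter.unusedSectionVars false
set_option linter.unusedVariables false
set_option linter.style.haveILetI false
set_option linter.unusedSectionVars false
set_option linter.unusedVariables false

open AlgebraicGeometry CategoryTheory CategoryTheory.Limits TopologicalSpace
open MonoidalCategory CartesianMonoidalCategory MonObj GrpObj

universe u

namespace Groth.Agent.Helper3.SubgrpLocus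

open Groth.Agent.Helper3.WeilRes1 Groth.Agent.Helper3.WeilRes3

/-- factorization of a composite through a closed subscheme, via the pulled back ideal -/
theorem fac_iff {Q Y X : Scheme.{u}} (𝓓 : X.IdealSheafData) (b : Q ⟶ Y) (m : Y ⟶ X) :
    (∃ d : Q ⟶ 𝓓.subscheme, d ≫ 𝓓.subschemeι = b ≫ m) ↔ 𝓓.comap m ≤ b.ker := by
  rw [KerLocal.exists_lift_iff_le_ker, Scheme.IdealSheafData.ker_subschemeι,
    Scheme.Hom.ker_comp, Scheme.IdealSheafData.le_map_iff_comap_le]

/-- the condition of the Weil restriction ideal, in terms of factorizations -/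
theorem weil_iff {Y S X : Scheme.{u}} (π : Y ⟶ S) [IsFinite π] [Flat π]
    [LocallyOfFinitePresentation π] (𝓓 : X.IdealSheafData) (m : Y ⟶ X) {T : Scheme.{u}}
    (g : T ⟶ S) :
    weilIdeal π (projSections_of_finite_flat π) (𝓓.comap m) ≤ g.ker ↔
      ∃ d : pullback g π ⟶ 𝓓.subscheme, d ≫ 𝓓.subschemeι = pullback.snd g π ≫ m := by
  rw [fac_iff]
  exact weilIdeal_le_ker_iff π _ _ _ _ g (IsPullback.of_hasPullback g π)

variable {S : Scheme.{u}} (G : Over S) [GrpObj G] (𝓓 : G.left.IdealSheafData)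

/-- the closed subscheme as an object over the base -/
noncomputable abbrev dObj : Over S := Over.mk (𝓓.subschemeι ≫ G.hom)

/-- the inclusion -/
noncomputable abbrev dIncl : dObj G 𝓓 ⟶ G := Over.homMk 𝓓.subschemeι rfl

/-- a point of `G` factoring through the closed subscheme, as a point of the latter -/
noncomputable def ptLift {T : Over S} (x : T ⟶ G) (d : T.left ⟶ 𝓓.subscheme)
    (hd : d ≫ 𝓓.subschemeι = x.left) : T ⟶ dObj G 𝓓 :=
  Over.homMk d (by
    change d ≫ 𝓓.subschemeι ≫ G.hom = T.hom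
    rw [← Category.assoc, hd, Over.w])

lemma ptLift_comp {T : Over S} (x : T ⟶ G) (d : T.left ⟶ 𝓓.subscheme)
    (hd : d ≫ 𝓓.subschemeι = x.left) : ptLift G 𝓓 x d hd ≫ dIncl G 𝓓 = x := by
  apply Over.OverMorphism.ext
  exact hd


/-- the subgroup condition for a finite locally free closed subscheme of a group scheme is
represented by a closed subscheme of the base -/
theorem main [IsFinite (𝓓.subschemeι ≫ G.hom)] [Flat (𝓓.subschemeι ≫ G.hom)]
    [LocallyOfFinitePresentation (𝓓.subschemeι ≫ G.hom)] :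
    ∃ 𝓩 : S.IdealSheafData, ∀ (T : Scheme.{u}) (g : T ⟶ S),
      (∃ t : T ⟶ 𝓩.subscheme, t ≫ 𝓩.subschemeι = g) ↔
        ∀ (T' : Scheme.{u}) (a : T' ⟶ T), ∃ H : Subgroup (Over.mk (a ≫ g) ⟶ G),
          (H : Set (Over.mk (a ≫ g) ⟶ G)) =
            {x | ∃ d : T' ⟶ 𝓓.subscheme, d ≫ 𝓓.subschemeι = x.left} := by
  let D : Over S := dObj G 𝓓
  let i : D ⟶ G := dIncl G 𝓓
  haveI hD1 : IsFinite D.hom := ‹_›
  haveI hD2 : Flat D.hom := ‹_›
  haveI hD3 : LocallyOfFinitePresentation D.hom := ‹_›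
  haveI : IsFinite (D ⊗ D).hom := by
    rw [Over.tensorObj_hom]; infer_instance
  haveI : Flat (D ⊗ D).hom := by
    rw [Over.tensorObj_hom]; infer_instance
  haveI : LocallyOfFinitePresentation (D ⊗ D).hom := by
    rw [Over.tensorObj_hom]; infer_instance
  let e : S ⟶ G.left := (η[G]).left
  let m2 : (D ⊗ D).left ⟶ G.left := ((i ⊗ₘ i) ≫ μ[G]).left
  let m3 : D.left ⟶ G.left := (i ≫ ι[G]).left
  refine ⟨𝓓.comap e ⊔ weilIdeal (D ⊗ D).hom (projSections_of_finite_flat _) (𝓓.comap m2) ⊔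
    weilIdeal D.hom (projSections_of_finite_flat _) (𝓓.comap m3), fun T g => ?_⟩
  rw [KerLocal.exists_lift_iff_le_ker, Scheme.IdealSheafData.ker_subschemeι, sup_le_iff,
    sup_le_iff, weil_iff, weil_iff, ← fac_iff]
  constructor
  · rintro ⟨⟨⟨d1, h1⟩, ⟨d2, h2⟩⟩, ⟨d3, h3⟩⟩ T' a
    refine ⟨{ carrier := {x | ∃ d : T' ⟶ 𝓓.subscheme, d ≫ 𝓓.subschemeι = x.left}
              mul_mem' := ?_
              one_mem' := ?_
              inv_mem' := ?_ }, rfl⟩
    · rintro x y ⟨dx, hx⟩ ⟨dy, hy⟩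
      let δx := ptLift G 𝓓 x dx hx
      let δy := ptLift G 𝓓 y dy hy
      have hxy : x * y = lift δx δy ≫ (i ⊗ₘ i) ≫ μ[G] := by
        rw [Hom.mul_def, ← Category.assoc, lift_map]
        congr 2
        · exact (ptLift_comp G 𝓓 x dx hx).symm
        · exact (ptLift_comp G 𝓓 y dy hy).symm
      have hw : a ≫ g = (lift δx δy).left ≫ (D ⊗ D).hom := (Over.w (lift δx δy)).symm
      refine ⟨pullback.lift a (lift δx δy).left hw ≫ d2, ?_⟩
      rw [Category.assoc, h2, pullback.lift_snd_assoc, hxy]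
      rfl
    · refine ⟨a ≫ d1, ?_⟩
      rw [Category.assoc, h1, Hom.one_def]
      rfl
    · rintro x ⟨dx, hx⟩
      let δx := ptLift G 𝓓 x dx hx
      have hxi : x⁻¹ = δx ≫ i ≫ ι[G] := by
        rw [Hom.inv_def, ← Category.assoc]
        congr 1
        exact (ptLift_comp G 𝓓 x dx hx).symm
      have hw : a ≫ g = dx ≫ D.hom := (Over.w δx).symm
      refine ⟨pullback.lift a dx hw ≫ d3, ?_⟩
      rw [Category.assoc, h3, pullback.lift_snd_assoc, hxi]
      rfl
  · intro h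
    refine ⟨⟨?_, ?_⟩, ?_⟩
    · obtain ⟨H, hH⟩ := h T (𝟙 T)
      have h1 : (1 : Over.mk (𝟙 T ≫ g) ⟶ G) ∈ (H : Set _) := H.one_mem
      rw [hH] at h1
      obtain ⟨d, hd⟩ := h1
      refine ⟨d, hd.trans ?_⟩
      rw [Hom.one_def]
      change (𝟙 T ≫ g) ≫ e = g ≫ e
      rw [Category.id_comp]
    · obtain ⟨H, hH⟩ := h _ (pullback.fst g (D ⊗ D).hom)
      let β : Over.mk (pullback.fst g (D ⊗ D).hom ≫ g) ⟶ D ⊗ D :=
        Over.homMk (pullback.snd g (D ⊗ D).hom) pullback.condition.symm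
      have hx : β ≫ fst D D ≫ i ∈ (H : Set _) := by
        rw [hH]
        exact ⟨(β ≫ fst D D).left, rfl⟩
      have hy : β ≫ snd D D ≫ i ∈ (H : Set _) := by
        rw [hH]
        exact ⟨(β ≫ snd D D).left, rfl⟩
      have hxy : (β ≫ fst D D ≫ i) * (β ≫ snd D D ≫ i) ∈ (H : Set _) := H.mul_mem hx hy
      rw [hH] at hxy
      obtain ⟨d, hd⟩ := hxy
      refine ⟨d, hd.trans ?_⟩
      have : (β ≫ fst D D ≫ i) * (β ≫ snd D D ≫ i) = β ≫ (i ⊗ₘ i) ≫ μ[G] := by
        rw [Hom.mul_def, ← comp_lift_assoc]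
        congr 2
      rw [this]
      rfl
    · obtain ⟨H, hH⟩ := h _ (pullback.fst g D.hom)
      let β : Over.mk (pullback.fst g D.hom ≫ g) ⟶ D :=
        Over.homMk (pullback.snd g D.hom) pullback.condition.symm
      have hx : β ≫ i ∈ (H : Set _) := by
        rw [hH]
        exact ⟨β.left, rfl⟩
      have hxi : (β ≫ i)⁻¹ ∈ (H : Set _) := H.inv_mem hx
      rw [hH] at hxi
      obtain ⟨d, hd⟩ := hxi
      refine ⟨d, hd.trans ?_⟩
      rw [Hom.inv_def]
      rfl

end Groth.Agent.Helper3.SubgrpLocus
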