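import Mathlib
import Groth.Agent.Helper3.MonoImmA

set_option backward.isDefEq.respectTransparency.types false
set_option maxHeartbeats 4000000
set_option synthInstance.maxHeartbeats 400000
set_option autoImplicit false
universe u
open CategoryTheory CategoryTheory.Limits AlgebraicGeometry TopologicalSpace Opposite

namespace Groth.Agent.Helper3.SuppClos

/-- The vanishing locus of the germs of a section is open. -/
theorem isOpen_germ_eq_zero {T : TopCat.{u}} (F : TopCat.Presheaf AddCommGrpCat.{u} T)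
    (U : Opens T) (t : F.obj (op U)) :
    IsOpen {u : T | ∃ hu : u ∈ U, F.germ U u hu t = 0} := by
  rw [isOpen_iff_forall_mem_open]
  rintro u ⟨hu, h0⟩
  have h1 : F.germ U u hu t = F.germ U u hu 0 := by rw [h0, map_zero]
  obtain ⟨W, hW, iU, iV, e⟩ := F.germ_eq u hu hu t 0 h1
  refine ⟨W, ?_, W.2, hW⟩
  intro u' hu'
  have hu'U : u' ∈ U := iU.le hu'
  refine ⟨hu'U, ?_⟩
  have h2 : F.germ U u' hu'U t = F.germ W u' hu' (F.map iU.op t) :=
    (TopCat.Presheaf.germ_res_apply F iU u' hu' t).symm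
  rw [h2, e, map_zero, map_zero]

theorem noetherianSpace_of_subset {T : Type*} [TopologicalSpace T] {A B : Set T}
    (hB : NoetherianSpace ↥B) (hAB : A ⊆ B) : NoetherianSpace ↥A := by
  rw [noetherianSpace_set_iff] at hB ⊢
  exact fun t ht => hB t (ht.trans hAB)

theorem main {X : Scheme.{u}}
    (hX : ∀ x : X, ∃ U : X.Opens, x ∈ U ∧ TopologicalSpace.NoetherianSpace U)
    (F : TopCat.Sheaf AddCommGrpCat.{u} X.carrier) (x : X) (s : F.presheaf.stalk x) :
    (∃ (U : X.Opens) (hx : x ∈ U) (t : F.presheaf.obj (Opposite.op U)),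
        F.presheaf.germ U x hx t = s ∧
          ∀ (u : X) (hu : u ∈ U), F.presheaf.germ U u hu t ≠ 0 → u ∈ closure ({x} : Set X)) ↔
      ∀ (y : X) (h : y ⤳ x), y ≠ x → F.presheaf.stalkSpecializes h s = 0 := by
  constructor
  · rintro ⟨U, hx, t, rfl, hsupp⟩ y h hne
    have hyU : y ∈ U := h.mem_open U.2 hx
    have h1 : F.presheaf.stalkSpecializes h (F.presheaf.germ U x hx t) =
        F.presheaf.germ U y hyU t :=
      TopCat.Presheaf.germ_stalkSpecializes_apply F.presheaf hx h t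
    rw [h1]
    by_contra hne0
    have h2 : y ∈ closure ({x} : Set X) := hsupp y hyU hne0
    have h3 : x ⤳ y := specializes_iff_mem_closure.mpr h2
    exact hne (h.antisymm h3).eq
  · intro H
    obtain ⟨U₀, hxU₀, t₀, rfl⟩ := F.presheaf.exists_germ_eq s
    obtain ⟨N, hxN, hN⟩ := hX x
    let Ω : Set X := {u : X | ∃ hu : u ∈ U₀, F.presheaf.germ U₀ u hu t₀ = 0}
    have hΩ : IsOpen Ω := isOpen_germ_eq_zero F.presheaf U₀ t₀
    let U₁ : X.Opens := U₀ ⊓ N ⊓ ⟨(closure ({x} : Set X))ᶜ, isClosed_closure.isOpen_compl⟩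
    haveI : NoetherianSpace ↥(U₁ : Set X) :=
      noetherianSpace_of_subset (A := (U₁ : Set X)) (B := (N : Set X)) hN
        (fun u hu => hu.1.2)
    haveI : QuasiSober ↥(U₁ : Set X) := U₁.isOpenEmbedding.quasiSober
    let Z₁ : Set ↥(U₁ : Set X) := {z | z.1 ∉ Ω}
    have hZ₁ : IsClosed Z₁ := (hΩ.preimage continuous_subtype_val).isClosed_compl
    haveI : NoetherianSpace ↥Z₁ := inferInstance
    haveI : QuasiSober ↥Z₁ := hZ₁.isClosedEmbedding_subtypeVal.quasiSober
    let g : ↥Z₁ → X := fun z => z.1.1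
    have hg : Continuous g := continuous_subtype_val.comp continuous_subtype_val
    have hnot : x ∉ closure (Set.range g) := by
      intro hmem
      obtain ⟨z, hz⟩ := MonoImmA.exists_specializes_of_mem_closure_range g hg x hmem
      have hzU₁ : g z ∈ U₁ := z.1.2
      have hne : g z ≠ x := by
        intro h
        exact hzU₁.2 (h ▸ subset_closure rfl)
      have h0 := H (g z) hz hne
      have h1 : F.presheaf.stalkSpecializes hz (F.presheaf.germ U₀ x hxU₀ t₀) =
          F.presheaf.germ U₀ (g z) hzU₁.1.1 t₀ :=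
        TopCat.Presheaf.germ_stalkSpecializes_apply F.presheaf hxU₀ hz t₀
      rw [h1] at h0
      exact z.2 ⟨hzU₁.1.1, h0⟩
    let U : X.Opens := U₀ ⊓ N ⊓ ⟨(closure (Set.range g))ᶜ, isClosed_closure.isOpen_compl⟩
    have hxU : x ∈ U := ⟨⟨hxU₀, hxN⟩, hnot⟩
    have hUU₀ : U ≤ U₀ := fun u hu => hu.1.1
    refine ⟨U, hxU, F.presheaf.map (homOfLE hUU₀).op t₀, ?_, ?_⟩
    · exact TopCat.Presheaf.germ_res_apply F.presheaf (homOfLE hUU₀) x hxU t₀
    · intro u hu hne0
      rw [TopCat.Presheaf.germ_res_apply F.presheaf (homOfLE hUU₀) u hu t₀] at hne0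
      by_contra hcl
      have huU₁ : u ∈ U₁ := ⟨hu.1, hcl⟩
      have huZ : (⟨u, huU₁⟩ : ↥(U₁ : Set X)) ∈ Z₁ := by
        rintro ⟨hu', h0⟩
        exact hne0 h0
      exact hu.2 (subset_closure ⟨⟨⟨u, huU₁⟩, huZ⟩, rfl⟩)

end Groth.Agent.Helper3.SuppClos
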