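import Mathlib
set_option linter.style.haveILetI false
set_option linter.unusedSectionVars false
set_option linter.unusedVariables false
open TensorProduct
universe u
namespace Groth.Agent.Helper3.SuppGD

/-- On a flat module, an element outside the prime `p` is a nonzerodivisor modulo `p`. -/
theorem mem_smul_top_of_smul_mem {R N : Type*} [CommRing R] [AddCommGroup N] [Module R N]
    [Module.Flat R N] (p : Ideal R) [p.IsPrime] (a : R) (ha : a ∉ p) (y : N)
    (h : a • y ∈ (p • ⊤ : Submodule R N)) : y ∈ (p • ⊤ : Submodule R N) := by
  have hinj : Function.Injective (LinearMap.lsmul R (R ⧸ p) a) := by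
    intro u v huv
    simp only [LinearMap.lsmul_apply, Algebra.smul_def] at huv
    have hne : algebraMap R (R ⧸ p) a ≠ 0 := by
      rw [Ideal.Quotient.algebraMap_eq, Ne, Ideal.Quotient.eq_zero_iff_mem]
      exact ha
    exact mul_left_cancel₀ hne huv
  have h1 := Module.Flat.lTensor_preserves_injective_linearMap (M := N)
    (LinearMap.lsmul R (R ⧸ p) a) hinj
  let e := TensorProduct.tensorQuotEquivQuotSMul N p
  have he : ∀ z : N, e (z ⊗ₜ[R] (1 : R ⧸ p)) = Submodule.Quotient.mk z := by
    intro z
    simp [e, TensorProduct.tensorQuotEquivQuotSMul]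
  have h2 : y ⊗ₜ[R] (1 : R ⧸ p) = 0 := by
    apply h1
    rw [map_zero, LinearMap.lTensor_tmul, LinearMap.lsmul_apply, ← TensorProduct.smul_tmul]
    apply e.injective
    rw [he, map_zero, Submodule.Quotient.mk_eq_zero]
    exact h
  have h3 := he y
  rw [h2, map_zero] at h3
  exact (Submodule.Quotient.mk_eq_zero _).mp h3.symm

theorem main {R S : Type u} [CommRing R] [CommRing S] [Algebra R S] (N : Type u) [AddCommGroup N] [Module S N] [Module R N] [IsScalarTower R S N] [Module.Finite S N] [Module.Flat R N] (p p' : Ideal R) [p.IsPrime] [p'.IsPrime] (hle : p ≤ p') (q' : PrimeSpectrum S) (hq' : q' ∈ Module.support S N) (hover : q'.asIdeal.under R = p') : ∃ q : PrimeSpectrum S, q ≤ q' ∧ q ∈ Module.support S N ∧ q.asIdeal.under R = p := by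
  let 𝔞 := Module.annihilator S N
  have h𝔞 : 𝔞 ≤ q'.asIdeal := Module.annihilator_le_of_mem_support hq'
  let J : Ideal S := p.map (algebraMap R S) ⊔ 𝔞
  have hJ : J ≤ q'.asIdeal := by
    refine sup_le ?_ h𝔞
    rw [Ideal.map_le_iff_le_comap]
    intro x hx
    have : x ∈ q'.asIdeal.under R := by rw [hover]; exact hle hx
    exact this
  obtain ⟨q, hqmin, hqq'⟩ := Ideal.exists_minimalPrimes_le hJ
  haveI hqprime : q.IsPrime := hqmin.1.1
  have hJq : J ≤ q := hqmin.1.2
  refine ⟨⟨q, hqprime⟩, hqq', ?_, ?_⟩
  · rw [Module.mem_support_iff_of_finite]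
    exact le_sup_right.trans hJq
  · apply le_antisymm
    · intro a ha
      by_contra hap
      have haq : algebraMap R S a ∈ q := ha
      -- radical in the localization
      have hrad := IsLocalization.AtPrime.radical_map_of_mem_minimalPrimes
        (A := Localization.AtPrime q) q J hqmin
      have h1 : algebraMap S (Localization.AtPrime q) (algebraMap R S a) ∈
          (J.map (algebraMap S (Localization.AtPrime q))).radical := by
        rw [hrad]; exact Ideal.mem_map_of_mem _ haq
      obtain ⟨n, hn⟩ := h1
      rw [← map_pow, IsLocalization.mem_map_algebraMap_iff (M := q.primeCompl)] at hn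
      obtain ⟨⟨⟨j, hj⟩, ⟨b, hb⟩⟩, hn⟩ := hn
      simp only at hn
      rw [← map_mul, IsLocalization.eq_iff_exists q.primeCompl] at hn
      obtain ⟨⟨c, hc⟩, hcn⟩ := hn
      simp only at hcn
      -- t := c * b ∉ q, t * a^n ∈ J
      set t : S := c * b with ht
      have htq : t ∉ q := fun h => (hqprime.mem_or_mem h).elim hc hb
      have htJ : t * (algebraMap R S a) ^ n ∈ J := by
        have : t * (algebraMap R S a) ^ n = c * j := by rw [ht, ← hcn]; ring
        rw [this]; exact J.mul_mem_left c hj
      -- t a^n x ∈ p N
      have hpS : ∀ π ∈ p.map (algebraMap R S), ∀ x : N, π • x ∈ (p • ⊤ : Submodule R N) := by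
        intro π hπ x
        refine Submodule.span_induction (p := fun π _ => ∀ x : N, π • x ∈ (p • ⊤ : Submodule R N))
          ?_ ?_ ?_ ?_ hπ x
        · rintro _ ⟨r, hr, rfl⟩ x
          rw [algebraMap_smul]
          exact Submodule.smul_mem_smul hr trivial
        · intro x; rw [zero_smul]; exact Submodule.zero_mem _
        · intro u v _ _ hu hv x
          rw [add_smul]; exact Submodule.add_mem _ (hu x) (hv x)
        · intro s u _ hu x
          rw [smul_eq_mul, mul_comm, mul_smul]
          exact hu (s • x)
      have h2 : ∀ x : N, (a ^ n) • (t • x) ∈ (p • ⊤ : Submodule R N) := by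
        intro x
        obtain ⟨π, hπ, α, hα, hsum⟩ := Submodule.mem_sup.mp htJ
        have : (a ^ n) • (t • x) = π • x := by
          rw [← algebraMap_smul S (a ^ n) (t • x), ← mul_smul, map_pow, mul_comm, ← hsum, add_smul,
            Module.mem_annihilator.mp hα x, add_zero]
        rw [this]
        exact hpS π hπ x
      have h3 : ∀ x : N, t • x ∈ (p • ⊤ : Submodule R N) := fun x =>
        mem_smul_top_of_smul_mem p (a ^ n) (fun h => hap ((inferInstance : p.IsPrime).mem_of_pow_mem n h)) (t • x) (h2 x)
      have h4 : ∀ x : N, t • x ∈ (q • ⊤ : Submodule S N) := by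
        intro x
        refine Submodule.smul_induction_on (h3 x) ?_ ?_
        · intro r hr m _
          rw [← algebraMap_smul S r m]
          exact Submodule.smul_mem_smul (hJq (Ideal.mem_sup_left (Ideal.mem_map_of_mem _ hr))) trivial
        · intro u v hu hv
          exact Submodule.add_mem _ hu hv
      let f : Module.End S N := algebraMap S (Module.End S N) t
      have hf : LinearMap.range f ≤ q • ⊤ := by
        rintro _ ⟨x, rfl⟩
        exact h4 x
      obtain ⟨P, hmonic, -, hcoeff, hzero⟩ :=
        LinearMap.exists_monic_and_natDegree_eq_and_coeff_mem_pow_and_aeval_eq_zero S f q hf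
      have hev : P.eval t ∈ q := by
        apply le_sup_right.trans hJq
        show P.eval t ∈ Module.annihilator S N
        rw [Module.mem_annihilator]
        intro x
        have h5 : Polynomial.aeval f P = algebraMap S (Module.End S N) (Polynomial.aeval t P) :=
          Polynomial.aeval_algebraMap_apply (Module.End S N) t P
        rw [hzero] at h5
        have := congrArg (fun φ : Module.End S N => φ x) h5
        simp only [LinearMap.zero_apply, Module.algebraMap_end_apply] at this
        rw [← Polynomial.coe_aeval_eq_eval]
        exact this.symm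
      rw [Polynomial.eval_eq_sum_range, Finset.sum_range_succ, hmonic.coeff_natDegree, one_mul]
        at hev
      have hsum : ∑ k ∈ Finset.range P.natDegree, P.coeff k * t ^ k ∈ q := by
        refine Ideal.sum_mem _ (fun k hk => Ideal.mul_mem_right _ _ ?_)
        have hk' : P.natDegree - k ≠ 0 := by
          have := Finset.mem_range.mp hk
          omega
        exact Ideal.pow_le_self hk' (hcoeff k)
      have : t ^ P.natDegree ∈ q := (Ideal.add_mem_iff_right _ hsum).mp hev
      exact htq (hqprime.mem_of_pow_mem _ this)
    · intro a ha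
      exact hJq (Ideal.mem_sup_left (Ideal.mem_map_of_mem _ ha))

end Groth.Agent.Helper3.SuppGD
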