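import Mathlib
import Groth.Agent.Helper3.GrpTransl

set_option linter.style.haveILetI false
set_option linter.unusedSectionVars false
set_option linter.unusedVariables false
set_option linter.style.haveILetI false
set_option linter.unusedSectionVars false
set_option linter.unusedVariables false

namespace Groth.Agent.Helper3.SurjPts

open AlgebraicGeometry CategoryTheory Limits

universe u

/-- a field extension of finite transcendence degree embeds into an algebraically closed extension
of infinite transcendence degree -/
theorem nonempty_algHom (K L Ω : Type*) [Field K] [Field L] [Field Ω] [Algebra K L] [Algebra K Ω]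
    [IsAlgClosed Ω] [FinTrdeg K L] (t : ℕ → Ω) (ht : AlgebraicIndependent K t) :
    Nonempty (L →ₐ[K] Ω) := by
  obtain ⟨s, hs⟩ := exists_finset_isTranscendenceBasis K L
  let e := s.equivFin
  let y : s → Ω := fun i => t (e i)
  have hy : AlgebraicIndependent K y := ht.comp _ (Fin.val_injective.comp e.injective)
  let f : IntermediateField.adjoin K (Set.range ((↑) : s → L)) →ₐ[K] Ω :=
    (IntermediateField.val _).comp
      ((hy.aevalEquivField).toAlgHom.comp hs.1.aevalEquivField.symm.toAlgHom)
  haveI : Algebra.IsAlgebraic (IntermediateField.adjoin K (Set.range ((↑) : s → L))) L :=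
    hs.isAlgebraic_field
  obtain ⟨φ, _⟩ := IsAlgClosed.surjective_domRestrict_of_isAlgebraic (E := L) f
  exact ⟨φ⟩

/-- the structure map of the residue field of a point of a scheme locally of finite type over a
field is essentially of finite type -/
theorem exists_essFiniteType (K : Type u) [Field K] {Y : Scheme.{u}}
    (pY : Y ⟶ Spec (CommRingCat.of K)) [LocallyOfFiniteType pY] (y0 : Y) :
    ∃ χ : CommRingCat.of K ⟶ Y.residueField y0,
      Spec.map χ = Y.fromSpecResidueField y0 ≫ pY ∧ χ.hom.EssFiniteType := by
  let p : Spec (CommRingCat.of K) := pY y0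
  refine ⟨CommRingCat.ofHom (algebraMap K p.asIdeal.ResidueField) ≫
    (Scheme.Spec.residueFieldIso (CommRingCat.of K) p).inv ≫ pY.residueFieldMap y0, ?_, ?_⟩
  · rw [Spec.map_comp, Spec.map_comp, Category.assoc,
      Scheme.Spec.map_residueFieldIso_inv_eq_fromSpecResidueField,
      Scheme.Hom.SpecMap_residueFieldMap_fromSpecResidueField]
  · rw [CommRingCat.hom_comp, CommRingCat.hom_comp]
    refine RingHom.EssFiniteType.comp ?_ (RingHom.EssFiniteType.comp ?_ ?_)
    · rw [CommRingCat.hom_ofHom, RingHom.essFiniteType_algebraMap]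
      infer_instance
    · refine (RingHom.FiniteType.of_surjective _ ?_).essFiniteType
      exact (ConcreteCategory.bijective_of_isIso
        (Scheme.Spec.residueFieldIso (CommRingCat.of K) p).inv).2
    · exact RingHom.EssFiniteType.residueFieldMap (LocallyOfFiniteType.stalkMap pY y0)

theorem main
    (K Ω : Type u) [Field K] [Field Ω] [IsAlgClosed Ω] [Algebra K Ω]
    (t : ℕ → Ω) (ht : AlgebraicIndependent K t)
    {X Y : Scheme.{u}} (pX : X ⟶ Spec (CommRingCat.of K)) (pY : Y ⟶ Spec (CommRingCat.of K))
    [LocallyOfFiniteType pX] [LocallyOfFiniteType pY] (f : X ⟶ Y) (hf : f ≫ pY = pX) :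
    Surjective f ↔ ∀ y : Spec (CommRingCat.of Ω) ⟶ Y,
      y ≫ pY = Spec.map (CommRingCat.ofHom (algebraMap K Ω)) →
        ∃ x : Spec (CommRingCat.of Ω) ⟶ X, x ≫ f = y := by
  haveI : LocallyOfFiniteType (f ≫ pY) := hf ▸ inferInstance
  haveI : LocallyOfFiniteType f := locallyOfFiniteType_of_comp f pY
  constructor
  · intro hsurj y hy
    -- the fibre product
    haveI : Surjective (pullback.snd f y) := inferInstance
    haveI : LocallyOfFiniteType (pullback.snd f y) := inferInstance
    haveI : JacobsonSpace ↥(pullback f y) := LocallyOfFiniteType.jacobsonSpace (pullback.snd f y)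
    haveI : Nonempty ↥(Spec (CommRingCat.of Ω)) := inferInstanceAs (Nonempty (PrimeSpectrum Ω))
    haveI : Nonempty ↥(pullback f y) := by
      obtain ⟨q⟩ := (inferInstance : Nonempty ↥(Spec (CommRingCat.of Ω)))
      obtain ⟨z, _⟩ := (pullback.snd f y).surjective q
      exact ⟨z⟩
    have hcl : (closedPoints ↥(pullback f y)).Nonempty := by
      by_contra hne
      rw [Set.not_nonempty_iff_eq_empty] at hne
      have := JacobsonSpace.closure_inter_closedPoints (X := ↥(pullback f y)) isClosed_univ
      rw [hne, Set.inter_empty, closure_empty] at this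
      exact Set.empty_ne_univ this
    obtain ⟨z, hz⟩ := hcl
    obtain ⟨σ, hσ, -⟩ := Groth.Agent.Helper3.GrpTransl.exists_section_of_closed Ω
      (pullback.snd f y) z hz
    refine ⟨σ ≫ pullback.fst f y, ?_⟩
    rw [Category.assoc, pullback.condition, ← Category.assoc, hσ, Category.id_comp]
  · intro h
    refine ⟨fun y0 => ?_⟩
    obtain ⟨χ, hχ, hess⟩ := exists_essFiniteType K pY y0
    algebraize [χ.hom]
    haveI : Algebra.EssFiniteType K (Y.residueField y0) := hess
    obtain ⟨φ⟩ := nonempty_algHom K (Y.residueField y0) Ω t ht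
    let y : Spec (CommRingCat.of Ω) ⟶ Y :=
      Spec.map (CommRingCat.ofHom φ.toRingHom) ≫ Y.fromSpecResidueField y0
    have hy : y ≫ pY = Spec.map (CommRingCat.ofHom (algebraMap K Ω)) := by
      simp only [y, Category.assoc]
      rw [← hχ, ← Spec.map_comp]
      congr 1
      ext a
      exact φ.commutes a
    obtain ⟨x, hx⟩ := h y hy
    obtain ⟨q⟩ : Nonempty ↥(Spec (CommRingCat.of Ω)) :=
      inferInstanceAs (Nonempty (PrimeSpectrum Ω))
    refine ⟨x q, ?_⟩
    have := congrArg (fun g : Spec (CommRingCat.of Ω) ⟶ Y => g q) hx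
    simp only [Scheme.Hom.comp_apply] at this
    rw [this]
    exact Scheme.fromSpecResidueField_apply y0 _

end Groth.Agent.Helper3.SurjPts
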