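import Mathlib
import Groth.Agent.Helper3.SyntCot1
import Groth.Agent.Helper3.KzCot
import Groth.Agent.Helper5.RelGCI13
import Groth.Agent.Helper5.LST8
set_option autoImplicit false
set_option linter.style.haveILetI false
set_option linter.unusedSectionVars false
set_option linter.unusedVariables false
set_option linter.deprecated false
set_option linter.style.haveILetI false
set_option linter.unusedSectionVars false
set_option linter.unusedVariables false
universe u

namespace Groth.Agent.Helper3.SyntCot

open Algebra MvPolynomial TensorProduct

/-- The conormal module of a relative global complete intersection presentation is projective. -/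
theorem projective_cot_relGCI (R : Type u) [CommRing R] (n c : ℕ)
    (F : Fin c → MvPolynomial (Fin n) R) (h : Synt.IsRelGCI R n c F) :
    Module.Projective (Synt.RelGCIRing R n c F) (Ideal.span (Set.range F)).Cotangent := by
  by_cases hI : Ideal.span (Set.range F) = ⊤
  · haveI : Subsingleton (Synt.RelGCIRing R n c F) := by
      rw [Ideal.Quotient.subsingleton_iff]; exact hI
    haveI : Subsingleton (Ideal.span (Set.range F)).Cotangent :=
      Module.subsingleton (Synt.RelGCIRing R n c F) _
    infer_instance
  · obtain ⟨b, -⟩ := Groth.Agent.Helper3.KzCot.main (I := Ideal.span (Set.range F)) hI c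
      (fun i => ⟨F i, Ideal.subset_span (Set.mem_range_self i)⟩)
      (Groth.Agent.Helper5.RelGCI.s9254 R n c F h) rfl
    exact Module.Projective.of_basis b

/-- Local projectivity of the conormal module of any presentation of a syntomic algebra. -/
theorem exists_away_projective (R A : Type u) [CommRing R] [CommRing A] [Algebra R A]
    (hA : Synt.IsSyntomic R A) {ι : Type*} (G : Generators R A ι) (q : Ideal A) [q.IsPrime] :
    ∃ g' ∉ q, Module.Projective (Localization.Away g')
      (Localization.Away g' ⊗[A] G.toExtension.Cotangent) := by
  obtain ⟨g', hg', n', c', F', hrel, ⟨e⟩⟩ := Groth.Agent.Helper5.LST.lst R A hA q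
  refine ⟨g', hg', ?_⟩
  set K : Ideal (MvPolynomial (Fin n') R) := Ideal.span (Set.range F') with hKdef
  let φ : MvPolynomial (Fin n') R →ₐ[R] Localization.Away g' :=
    e.symm.toAlgHom.comp (Ideal.Quotient.mkₐ R K)
  have hφ : Function.Surjective φ :=
    e.symm.surjective.comp (Ideal.Quotient.mkₐ_surjective R K)
  have hK : RingHom.ker φ.toRingHom = K := by
    ext x
    rw [RingHom.mem_ker]
    show e.symm (Ideal.Quotient.mk K x) = 0 ↔ _
    rw [EmbeddingLike.map_eq_zero_iff, Ideal.Quotient.eq_zero_iff_mem]
  have h3 : Module.Projective (Localization.Away g') (gen φ hφ).toExtension.Cotangent :=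
    projective_gen_of_projective φ hφ K hK (projective_cot_relGCI R n' c' F' hrel)
  have h2 := projective_of_projective
    ((Generators.localizationAway (Localization.Away g') g').comp G) (gen φ hφ) h3
  exact projective_tensor_of_compLoc g' G h2


theorem s9151 (R : Type u) [CommRing R] (n : ℕ)
    (I : Ideal (MvPolynomial (Fin n) R)) (hI : I.FG) (g : MvPolynomial (Fin n) R ⧸ I)
    (hg : Synt.IsSyntomic R (Localization.Away g)) :
    Module.Finite (Localization.Away g) (LocalizedModule (Submonoid.powers g) I.Cotangent) ∧
      Module.Projective (Localization.Away g) (LocalizedModule (Submonoid.powers g) I.Cotangent) := by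
  haveI hfin : Module.Finite (MvPolynomial (Fin n) R ⧸ I) I.Cotangent := by
    haveI : Module.Finite (MvPolynomial (Fin n) R) I := Module.Finite.iff_fg.mpr hI
    haveI : Module.Finite (MvPolynomial (Fin n) R) I.Cotangent :=
      Module.Finite.of_surjective I.toCotangent I.toCotangent_surjective
    exact Module.Finite.of_restrictScalars_finite (MvPolynomial (Fin n) R) _ _
  haveI hfin' : Module.Finite (Localization.Away g)
      (LocalizedModule (Submonoid.powers g) I.Cotangent) :=
    Module.Finite.of_isLocalizedModule (Submonoid.powers g)
      (LocalizedModule.mkLinearMap (Submonoid.powers g) I.Cotangent)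
  refine ⟨hfin', ?_⟩
  -- `M` is a retract of the conormal module of `R[Y, X] → T`
  obtain ⟨i₀, r₀, hir₀⟩ := exists_retract_compLoc (T := Localization.Away g) g (quotGen I)
  let e₁ : LocalizedModule (Submonoid.powers g) I.Cotangent ≃ₗ[Localization.Away g]
      Localization.Away g ⊗[MvPolynomial (Fin n) R ⧸ I] I.Cotangent :=
    (IsLocalizedModule.isBaseChange (Submonoid.powers g) (Localization.Away g)
      (LocalizedModule.mkLinearMap (Submonoid.powers g) I.Cotangent)).equiv.symm
  let e₂ : Localization.Away g ⊗[MvPolynomial (Fin n) R ⧸ I] I.Cotangent ≃ₗ[Localization.Away g]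
      Localization.Away g ⊗[MvPolynomial (Fin n) R ⧸ I] (quotGen I).toExtension.Cotangent :=
    TensorProduct.AlgebraTensorModule.congr (LinearEquiv.refl (Localization.Away g)
      (Localization.Away g)) (cotEquiv I)
  let i : LocalizedModule (Submonoid.powers g) I.Cotangent →ₗ[Localization.Away g]
      ((Generators.localizationAway (Localization.Away g) g).comp (quotGen I)).toExtension.Cotangent :=
    i₀ ∘ₗ (e₁ ≪≫ₗ e₂).toLinearMap
  let r : ((Generators.localizationAway (Localization.Away g) g).comp
      (quotGen I)).toExtension.Cotangent →ₗ[Localization.Away g]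
      LocalizedModule (Submonoid.powers g) I.Cotangent :=
    (e₁ ≪≫ₗ e₂).symm.toLinearMap ∘ₗ r₀
  have hir : r ∘ₗ i = LinearMap.id := by
    ext x
    have := LinearMap.congr_fun hir₀ ((e₁ ≪≫ₗ e₂) x)
    simp only [LinearMap.coe_comp, Function.comp_apply, LinearMap.id_coe, id_eq] at this
    simp only [r, i, LinearMap.coe_comp, LinearEquiv.coe_coe, Function.comp_apply, this,
      LinearEquiv.symm_apply_apply, LinearMap.id_coe, id_eq]
  apply projective_of_locally (LocalizedModule (Submonoid.powers g) I.Cotangent)
  intro q _
  obtain ⟨g', hg', hproj⟩ := exists_away_projective R (Localization.Away g) hg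
    ((Generators.localizationAway (Localization.Away g) g).comp (quotGen I)) q
  refine ⟨g', hg', ?_⟩
  refine Module.Projective.of_split (LinearMap.baseChange (Localization.Away g') i)
    (LinearMap.baseChange (Localization.Away g') r) ?_
  rw [← LinearMap.baseChange_comp, hir, LinearMap.baseChange_id]

end Groth.Agent.Helper3.SyntCot
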