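import Mathlib
import Groth.Prelude.Def_RegImm
import Groth.Agent.Helper5.RelGCI14
set_option autoImplicit false
set_option linter.style.haveILetI false
set_option linter.unusedSectionVars false
set_option linter.unusedVariables false
set_option linter.deprecated false
set_option linter.style.haveILetI false
set_option linter.unusedSectionVars false
set_option linter.unusedVariables false
universe u v

namespace Groth.Agent.Helper3.SyntFree

open TensorProduct MvPolynomial Algebra Groth.Agent.Helper5.RelGCI

/-- If the classes of `f₁, …, f_c` generate the conormal module `I/I²` of a finite presentation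
`S = R[x₁..x_n]/I`, then `S ≅ R[x₁..x_{n+1}]/(f₁, …, f_c, h x_{n+1} - 1)` for some `h`. -/
theorem freeCot {R S : Type u} [CommRing R] [CommRing S] [Algebra R S] {n c : ℕ}
    (π : MvPolynomial (Fin n) R →ₐ[R] S) (hπ : Function.Surjective π)
    (hfg : (RingHom.ker π.toRingHom).FG)
    (f : Fin c → MvPolynomial (Fin n) R) (hf : ∀ i, f i ∈ RingHom.ker π.toRingHom)
    (hgen : RingHom.ker π.toRingHom ≤
      Ideal.span (Set.range f) ⊔ (RingHom.ker π.toRingHom) ^ 2) :
    ∃ (h : MvPolynomial (Fin n) R)
      (e : S ≃ₐ[R] Synt.RelGCIRing R (n + 1) (c + 1) (snocRel R n c f h)),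
      (∀ y, e (π y) = Ideal.Quotient.mk _ (rename Fin.castSucc y)) ∧ π h = 1 := by
  classical
  set I : Ideal (MvPolynomial (Fin n) R) := RingHom.ker π.toRingHom with hI
  set I' : Ideal (MvPolynomial (Fin n) R) := Ideal.span (Set.range f) with hI'
  have hle : I' ≤ I := by
    rw [hI', Ideal.span_le]
    rintro _ ⟨i, rfl⟩
    exact hf i
  let Q := Synt.RelGCIRing R n c f
  let mk : MvPolynomial (Fin n) R →+* Q := Ideal.Quotient.mk I'
  have hmk : Function.Surjective mk := Ideal.Quotient.mk_surjective
  let π' : Q →ₐ[R] S := Ideal.Quotient.liftₐ I' π (fun a ha => hle ha)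
  have hπ'mk : ∀ y, π' (mk y) = π y := fun y => rfl
  have hπ'surj : Function.Surjective π' := by
    intro s
    obtain ⟨y, rfl⟩ := hπ s
    exact ⟨mk y, rfl⟩
  set Ib : Ideal Q := I.map mk with hIb
  have hkerπ' : RingHom.ker π'.toRingHom = Ib := by
    apply le_antisymm
    · intro q hq
      obtain ⟨y, rfl⟩ := hmk q
      have : y ∈ I := by
        rw [hI, RingHom.mem_ker]
        exact hq
      exact Ideal.mem_map_of_mem _ this
    · rw [hIb, Ideal.map_le_iff_le_comap]
      intro y hy
      rw [Ideal.mem_comap, RingHom.mem_ker]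
      exact hy
  have hIbfg : Ib.FG := hfg.map _
  have hIbidem : IsIdempotentElem Ib := by
    apply le_antisymm
    · exact Ideal.mul_le_right
    · have h1 : Ib ≤ (I' ⊔ I ^ 2).map mk := Ideal.map_mono hgen
      rw [Ideal.map_sup, Ideal.map_pow] at h1
      have h2 : I'.map mk = ⊥ := by
        rw [Ideal.map_eq_bot_iff_le_ker]
        exact le_of_eq Ideal.mk_ker.symm
      rw [h2, bot_sup_eq, pow_two] at h1
      exact h1
  obtain ⟨e', he', hIbe⟩ := (Ideal.isIdempotentElem_iff_of_fg Ib hIbfg).mp hIbidem
  obtain ⟨h, hh⟩ := hmk (1 - e')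
  have hgidem : IsIdempotentElem (Ideal.Quotient.mk (Ideal.span (Set.range f)) h) := by
    show IsIdempotentElem (mk h)
    rw [hh]
    exact he'.one_sub
  letI algQS : Algebra Q S := π'.toRingHom.toAlgebra
  have hker : RingHom.ker (algebraMap Q S) =
      Ideal.span {1 - Ideal.Quotient.mk (Ideal.span (Set.range f)) h} := by
    show RingHom.ker π'.toRingHom = Ideal.span {1 - mk h}
    rw [hkerπ', hIbe, hh]
    congr 2
    ring
  haveI hloc : IsLocalization.Away (Ideal.Quotient.mk (Ideal.span (Set.range f)) h) S :=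
    IsLocalization.away_of_isIdempotentElem hgidem hker hπ'surj
  haveI : IsScalarTower R Q S := IsScalarTower.of_algebraMap_eq (fun r => (π'.commutes r).symm)
  let e₁ : S ≃ₐ[Q] Localization.Away (Ideal.Quotient.mk (Ideal.span (Set.range f)) h) :=
    IsLocalization.algEquiv (Submonoid.powers (Ideal.Quotient.mk (Ideal.span (Set.range f)) h)) S
      (Localization.Away (Ideal.Quotient.mk (Ideal.span (Set.range f)) h))
  let e₂ : S ≃ₐ[R] Localization.Away (Ideal.Quotient.mk (Ideal.span (Set.range f)) h) :=
    e₁.restrictScalars R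
  have he₂ : ∀ q : Q, e₂ (π' q) = algebraMap Q (Localization.Away
      (Ideal.Quotient.mk (Ideal.span (Set.range f)) h)) q := by
    intro q
    show e₁ (algebraMap Q S q) = _
    exact e₁.commutes q
  refine ⟨h, e₂.trans (snocEquiv R n c f h), ?_, ?_⟩
  · intro y
    rw [AlgEquiv.trans_apply, ← hπ'mk, he₂, snocEquiv_algebraMap]
    rfl
  · rw [← hπ'mk]
    have h1 : (1 : Q) - mk h ∈ RingHom.ker π'.toRingHom := by
      rw [hkerπ', hIbe, hh]
      have : (1 : Q) - (1 - e') = e' := by ring
      rw [this]
      exact Ideal.mem_span_singleton_self e'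
    rw [RingHom.mem_ker] at h1
    have h2 : π' ((1 : Q) - mk h) = 0 := h1
    rw [map_sub, map_one, sub_eq_zero] at h2
    exact h2.symm

end Groth.Agent.Helper3.SyntFree
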