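import Mathlib
import Groth.Prelude.Def_RegImm
import Groth.Agent.Helper3.SyntFree1
import Groth.Agent.Helper3.SyntCot5
import Groth.Agent.Helper3.SyntCot2
import Groth.Agent.Helper5.EtFib
import Groth.Agent.Helper5.RelGCI17
import Groth.Agent.Helper5.SM5
import Groth.Agent.Helper5.RelGCI11
set_option autoImplicit false
set_option linter.style.haveILetI false
set_option linter.unusedSectionVars false
set_option linter.unusedVariables false
set_option linter.deprecated false
set_option linter.style.haveILetI false
set_option linter.unusedSectionVars false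
set_option linter.unusedVariables false
universe u v

namespace Groth.Agent.Helper3.SyntFree

open CategoryTheory AlgebraicGeometry TensorProduct MvPolynomial Algebra
open Groth.Agent.Helper5.RelGCI Groth.Agent.Helper3.SyntCot

theorem finite_maxSpec_of_finite (A B : Type u) [CommRing A] [IsLocalRing A] [CommRing B]
    [Algebra A B] [Module.Finite A B] : Finite (MaximalSpectrum B) := by
  have hfin : ((IsLocalRing.maximalIdeal A).primesOver B).Finite :=
    Algebra.QuasiFinite.finite_primesOver _
  haveI : Finite ((IsLocalRing.maximalIdeal A).primesOver B) := hfin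
  have hint : Algebra.IsIntegral A B := inferInstance
  let φ : MaximalSpectrum B → (IsLocalRing.maximalIdeal A).primesOver B := fun M =>
    ⟨M.asIdeal, M.isMaximal.isPrime, ⟨by
      haveI := M.isMaximal
      have h1 : (M.asIdeal.comap (algebraMap A B)).IsMaximal :=
        Ideal.isMaximal_comap_of_isIntegral_of_isMaximal M.asIdeal
      exact (IsLocalRing.eq_maximalIdeal h1).symm⟩⟩
  refine Finite.of_injective φ ?_
  intro M N hMN
  have : M.asIdeal = N.asIdeal := congrArg (fun z => z.1) hMN
  exact MaximalSpectrum.ext this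

/-- generators of the conormal module lift to generators of the kernel modulo its square -/
theorem le_span_sup_sq {R S : Type u} [CommRing R] [CommRing S] [Algebra R S] {n c : ℕ}
    (π : MvPolynomial (Fin n) R →ₐ[R] S) (hπ : Function.Surjective π)
    (b : Fin c → (gen π hπ).toExtension.Cotangent)
    (hb : Submodule.span S (Set.range b) = ⊤) :
    ∃ f : Fin c → MvPolynomial (Fin n) R, (∀ i, f i ∈ RingHom.ker π.toRingHom) ∧
      RingHom.ker π.toRingHom ≤ Ideal.span (Set.range f) ⊔ (RingHom.ker π.toRingHom) ^ 2 := by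
  classical
  let P := gen π hπ
  have hPker : P.toExtension.ker = RingHom.ker π.toRingHom := gen_ker π hπ _ rfl
  have halg : ∀ r : MvPolynomial (Fin n) R, algebraMap P.toExtension.Ring S r = π r :=
    algebraMap_gen π hπ
  choose ξ hξ using fun i : Fin c => Algebra.Extension.Cotangent.mk_surjective (b i)
  have hsmul : ∀ (r : P.toExtension.Ring) (y : P.toExtension.Cotangent),
      r • y = π r • y := by
    intro r y
    rw [← halg r, algebraMap_smul]
  refine ⟨fun i => ((ξ i : P.toExtension.ker) : P.toExtension.Ring), fun i => ?_, ?_⟩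
  · exact hPker.le (ξ i).2
  · intro y hy
    have hy' : y ∈ P.toExtension.ker := hPker.ge hy
    let η : P.toExtension.ker := ⟨y, hy'⟩
    have hmem : Algebra.Extension.Cotangent.mk η ∈ Submodule.span S (Set.range b) := by
      rw [hb]; trivial
    obtain ⟨cf, hcf⟩ := (Submodule.mem_span_range_iff_exists_fun S).1 hmem
    have hπ' : ∀ a₀ : S, ∃ r : P.toExtension.Ring, π r = a₀ := hπ
    choose v hv using fun i => hπ' (cf i)
    have h0 : Algebra.Extension.Cotangent.mk (η - ∑ i, v i • ξ i) = 0 := by
      rw [map_sub, map_sum]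
      simp only [map_smul, hξ, hsmul, hv]
      rw [hcf, sub_self]
    have h2 : ((η - ∑ i, v i • ξ i : P.toExtension.ker) : P.toExtension.Ring) ∈
        P.toExtension.ker ^ 2 := (Algebra.Extension.Cotangent.mk_eq_zero_iff _).1 h0
    have h3 : P.toExtension.ker ^ 2 = (RingHom.ker π.toRingHom) ^ 2 := congrArg (· ^ 2) hPker
    rw [h3] at h2
    have h4 : y = ∑ i, v i * ((ξ i : P.toExtension.ker) : P.toExtension.Ring) +
        ((η - ∑ i, v i • ξ i : P.toExtension.ker) : P.toExtension.Ring) := by
      rw [Submodule.coe_sub, Submodule.coe_sum]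
      simp only [Submodule.coe_smul, smul_eq_mul]
      show y = _ + (y - _)
      ring
    rw [h4]
    refine Ideal.add_mem _ (Ideal.mem_sup_left ?_) (Ideal.mem_sup_right h2)
    exact Ideal.sum_mem _ fun i _ => Ideal.mul_mem_left _ _ (Ideal.subset_span ⟨i, rfl⟩)

theorem exists_square_presentation (A B : Type u) [CommRing A] [IsLocalRing A] [CommRing B]
    [Algebra A B] [Module.Finite A B] (h : Synt.IsSyntomic A B) :
    ∃ (n : ℕ) (F : Fin n → MvPolynomial (Fin n) A), Nonempty (B ≃ₐ[A] Synt.RelGCIRing A n n F) := by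
  classical
  have hfp : Algebra.FinitePresentation A B := h.2.1
  obtain ⟨n, π, hπsurj, hπfg⟩ := Algebra.FinitePresentation.out (R := A) (A := B)
  set P : Generators A B (Fin n) := gen π hπsurj with hP
  have hPker : P.toExtension.ker = RingHom.ker π.toRingHom := gen_ker π hπsurj _ rfl
  haveI hfin : Module.Finite B P.toExtension.Cotangent :=
    Algebra.Extension.Cotangent.finite (by rw [hPker]; exact hπfg)
  haveI hproj : Module.Projective B P.toExtension.Cotangent :=
    projective_of_locally _ (fun q _ => exists_away_projective A B h P q)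
  haveI := finite_maxSpec_of_finite A B
  have hrank : ∀ M : MaximalSpectrum B,
      Module.finrank (B ⧸ M.1) ((B ⧸ M.1) ⊗[B] P.toExtension.Cotangent) = n := by
    intro M
    haveI := M.isMaximal
    letI := Ideal.Quotient.field M.1
    let x : PrimeSpectrum B := ⟨M.1, M.isMaximal.isPrime⟩
    have hx : RingHom.ker (algebraMap B (B ⧸ M.1)) = x.asIdeal := Ideal.mk_ker
    obtain ⟨hle, hfd⟩ := fibreDimAt_of_rank h P (B ⧸ M.1) x hx
    haveI : IsFinite (Spec.map (CommRingCat.ofHom (algebraMap A B))) := by
      rw [IsFinite.SpecMap_iff]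
      exact (RingHom.finite_algebraMap).mpr inferInstance
    have h0 := Groth.Agent.Helper5.EtFib.fibreDimAt_le_zero_of_lqf
      (Spec.map (CommRingCat.ofHom (algebraMap A B))) x
    rw [hfd] at h0
    have h1 : ((Fintype.card (Fin n) -
        Module.finrank (B ⧸ M.1) ((B ⧸ M.1) ⊗[B] P.toExtension.Cotangent) : ℕ) : WithBot ℕ∞) ≤
        ((0 : ℕ) : WithBot ℕ∞) := h0
    have h2 : Fintype.card (Fin n) -
        Module.finrank (B ⧸ M.1) ((B ⧸ M.1) ⊗[B] P.toExtension.Cotangent) ≤ 0 := by
      exact_mod_cast h1
    rw [Fintype.card_fin] at h2 hle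
    omega
  obtain ⟨b⟩ := Module.nonempty_basis_of_flat_of_finrank_eq B P.toExtension.Cotangent n hrank
  obtain ⟨f, hf, hgen⟩ := le_span_sup_sq π hπsurj b b.span_eq
  obtain ⟨hh, e, -, -⟩ := freeCot π hπsurj hπfg f hf hgen
  exact ⟨n + 1, snocRel A n n f hh, ⟨e⟩⟩

theorem fiber_dim_zero (A Q : Type u) [CommRing A] [CommRing Q] [Algebra A Q] [Module.Finite A Q]
    (p : PrimeSpectrum A) [Nontrivial (p.asIdeal.Fiber Q)] :
    ringKrullDim (p.asIdeal.Fiber Q) = 0 := by
  haveI : Module.Finite p.asIdeal.ResidueField (p.asIdeal.Fiber Q) :=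
    inferInstanceAs (Module.Finite p.asIdeal.ResidueField (p.asIdeal.ResidueField ⊗[A] Q))
  haveI : IsArtinianRing (p.asIdeal.Fiber Q) := IsArtinianRing.of_finite p.asIdeal.ResidueField _
  rw [← ringKrullDimZero_iff_ringKrullDim_eq_zero]
  infer_instance

theorem isSyntomic_of_square_presentation (A B : Type u) [CommRing A] [CommRing B]
    [Algebra A B] [Module.Finite A B] (n : ℕ) (F : Fin n → MvPolynomial (Fin n) A)
    (e : B ≃ₐ[A] Synt.RelGCIRing A n n F) : Synt.IsSyntomic A B := by
  haveI : Module.Finite A (Synt.RelGCIRing A n n F) := Module.Finite.equiv e.toLinearEquiv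
  have hrel : Synt.IsRelGCI A n n F := by
    intro p hnt
    refine ⟨le_refl n, ?_⟩
    rw [Nat.sub_self]
    exact fiber_dim_zero A (Synt.RelGCIRing A n n F) p
  have h1 : Synt.IsSyntomic A (Synt.RelGCIRing A n n F) :=
    Groth.Agent.Helper5.RelGCI.s9147 A n n F hrel
  exact Groth.Agent.Helper5.SM.isSyntomic_of_algEquiv A _ _ e.symm h1

theorem s8954 (A B : Type u) [CommRing A] [IsLocalRing A] [CommRing B] [Algebra A B]
    [Module.Finite A B] : Synt.IsSyntomic A B ↔ ∃ (n : ℕ) (F : Fin n → MvPolynomial (Fin n) A),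
      Nonempty (B ≃ₐ[A] Synt.RelGCIRing A n n F) := by
  constructor
  · exact exists_square_presentation A B
  · rintro ⟨n, F, ⟨e⟩⟩
    exact isSyntomic_of_square_presentation A B n F e

end Groth.Agent.Helper3.SyntFree
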