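import Mathlib
import Groth.Prelude.Def_RegImm
import Groth.Agent.Helper5.SpecFib4
import Groth.Agent.Helper5.DimBC
set_option autoImplicit false
set_option linter.style.haveILetI false
set_option linter.unusedSectionVars false
set_option linter.unusedVariables false
set_option linter.deprecated false
set_option linter.style.haveILetI false
set_option linter.unusedSectionVars false
set_option linter.unusedVariables false
universe u v

namespace Groth.Agent.Helper3.SyntFree

open CategoryTheory AlgebraicGeometry TensorProduct MvPolynomial Algebra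

/-- If an `A`-algebra `C` is generated by the image of a linear map from a finite module `M`, then
the fibre ring of `C` at `q` has dimension at most `dim_κ(q) κ(q) ⊗ M`. -/
theorem fiber_dim_le_of_adjoin {A C M : Type u} [CommRing A] [CommRing C] [Algebra A C]
    [AddCommGroup M] [Module A M] [Module.Finite A M]
    (ψ : M →ₗ[A] C) (hψ : Algebra.adjoin A (Set.range ψ) = ⊤) (q : Ideal A) [q.IsPrime] :
    ringKrullDim (q.Fiber C) ≤
      ((Module.finrank q.ResidueField (q.ResidueField ⊗[A] M) : ℕ) : WithBot ℕ∞) := by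
  classical
  set κ := q.ResidueField with hκ
  set r := Module.finrank κ (κ ⊗[A] M) with hr
  let b : Module.Basis (Fin r) κ (κ ⊗[A] M) := Module.finBasis κ (κ ⊗[A] M)
  let ψκ : κ ⊗[A] M →ₗ[κ] κ ⊗[A] C := ψ.baseChange κ
  let w : Fin r → κ ⊗[A] C := fun j => ψκ (b j)
  let Φ : MvPolynomial (Fin r) κ →ₐ[κ] κ ⊗[A] C := MvPolynomial.aeval w
  have hw : ∀ v : κ ⊗[A] M, ψκ v ∈ Φ.range := by
    intro v
    rw [← b.sum_repr v, map_sum]
    refine Subalgebra.sum_mem _ fun j _ => ?_
    rw [map_smul]
    refine Subalgebra.smul_mem _ ?_ _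
    exact ⟨X j, by simp [Φ, w]⟩
  have hinc : ∀ c : C, (1 : κ) ⊗ₜ[A] c ∈ Φ.range := by
    intro c
    have hc : c ∈ Algebra.adjoin A (Set.range ψ) := by rw [hψ]; trivial
    induction hc using Algebra.adjoin_induction with
    | mem y hy =>
      obtain ⟨m, rfl⟩ := hy
      have := hw ((1 : κ) ⊗ₜ[A] m)
      simpa [ψκ] using this
    | algebraMap a =>
      have h1 : (1 : κ) ⊗ₜ[A] (algebraMap A C a) = algebraMap κ (κ ⊗[A] C) (algebraMap A κ a) := by
        rw [Algebra.TensorProduct.algebraMap_apply, Algebra.algebraMap_eq_smul_one a,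
          TensorProduct.tmul_smul, TensorProduct.smul_tmul', Algebra.algebraMap_eq_smul_one a]
        rfl
      rw [h1]
      exact Subalgebra.algebraMap_mem _ _
    | add y z _ _ hy hz =>
      rw [TensorProduct.tmul_add]
      exact Subalgebra.add_mem _ hy hz
    | mul y z _ _ hy hz =>
      have : (1 : κ) ⊗ₜ[A] (y * z) = ((1 : κ) ⊗ₜ[A] y) * ((1 : κ) ⊗ₜ[A] z) := by
        rw [Algebra.TensorProduct.tmul_mul_tmul, one_mul]
      rw [this]
      exact Subalgebra.mul_mem _ hy hz
  have hsurj : Function.Surjective Φ := by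
    intro z
    have : z ∈ Φ.range := by
      induction z using TensorProduct.induction_on with
      | zero => exact Subalgebra.zero_mem _
      | tmul k c =>
        have : k ⊗ₜ[A] c = k • ((1 : κ) ⊗ₜ[A] c) := by
          rw [TensorProduct.smul_tmul', smul_eq_mul, mul_one]
        rw [this]
        exact Subalgebra.smul_mem _ (hinc c) _
      | add y z hy hz => exact Subalgebra.add_mem _ hy hz
    exact this
  have h1 := ringKrullDim_le_of_surjective (Φ : MvPolynomial (Fin r) κ →+* κ ⊗[A] C) hsurj
  rw [Groth.Agent.Helper5.DimBC.dim_mvPolynomial] at h1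
  exact h1

theorem localDim_le_ringKrullDim (T : Type u) [CommRing T] (Q : PrimeSpectrum T) :
    FlatMor.localDim (PrimeSpectrum T) Q ≤ ringKrullDim T := by
  unfold FlatMor.localDim
  refine (iInf_le _ ⟨⊤, trivial⟩).trans ?_
  rw [← PrimeSpectrum.topologicalKrullDim_eq_ringKrullDim]
  exact topologicalKrullDim_subspace_le _ _

theorem fibreDimAt_le_of_adjoin {A C M : Type u} [CommRing A] [CommRing C] [Algebra A C]
    [AddCommGroup M] [Module A M] [Module.Finite A M]
    (ψ : M →ₗ[A] C) (hψ : Algebra.adjoin A (Set.range ψ) = ⊤) (x : PrimeSpectrum C) :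
    FlatMor.fibreDimAt (Spec.map (CommRingCat.ofHom (algebraMap A C))) x ≤
      ((Module.finrank (x.asIdeal.under A).ResidueField
        ((x.asIdeal.under A).ResidueField ⊗[A] M) : ℕ) : WithBot ℕ∞) := by
  obtain ⟨Q, hQ⟩ := Groth.Agent.Helper5.SpecFib.exists_over A C x
  rw [← Groth.Agent.Helper5.SpecFib.localDim_fibre_eq A C x Q hQ]
  exact (localDim_le_ringKrullDim _ Q).trans (fiber_dim_le_of_adjoin ψ hψ (x.asIdeal.under A))

end Groth.Agent.Helper3.SyntFree
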