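import Mathlib
import Groth.Prelude.Def_RegImm
import Groth.Agent.Helper5.CompFib2
import Groth.Agent.Helper3.SyntFree3
set_option autoImplicit false
set_option linter.style.haveILetI false
set_option linter.unusedSectionVars false
set_option linter.unusedVariables false
set_option linter.deprecated false
set_option linter.style.haveILetI false
set_option linter.unusedSectionVars false
set_option linter.unusedVariables false
universe u v

namespace Groth.Agent.Helper3.SyntFree

open CategoryTheory AlgebraicGeometry TensorProduct MvPolynomial Algebra

theorem fibreDimAt_comp_le_ring (R A C : Type u) [CommRing R] [CommRing A] [CommRing C]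
    [Algebra R A] [Algebra A C] [Algebra R C] [IsScalarTower R A C]
    [Algebra.FiniteType R A] [Algebra.FiniteType A C] (x : PrimeSpectrum C) :
    FlatMor.fibreDimAt (Spec.map (CommRingCat.ofHom (algebraMap R C))) x ≤
      FlatMor.fibreDimAt (Spec.map (CommRingCat.ofHom (algebraMap R A)))
        (PrimeSpectrum.comap (algebraMap A C) x) +
      FlatMor.fibreDimAt (Spec.map (CommRingCat.ofHom (algebraMap A C))) x := by
  have h1 : Spec.map (CommRingCat.ofHom (algebraMap R C)) =
      Spec.map (CommRingCat.ofHom (algebraMap A C)) ≫
        Spec.map (CommRingCat.ofHom (algebraMap R A)) := by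
    rw [← Spec.map_comp, ← CommRingCat.ofHom_comp, IsScalarTower.algebraMap_eq R A C]
  haveI : LocallyOfFiniteType (Spec.map (CommRingCat.ofHom (algebraMap A C))) := by
    rw [HasRingHomProperty.Spec_iff (P := @LocallyOfFiniteType)]
    exact (RingHom.finiteType_algebraMap).mpr inferInstance
  haveI : LocallyOfFiniteType (Spec.map (CommRingCat.ofHom (algebraMap R A))) := by
    rw [HasRingHomProperty.Spec_iff (P := @LocallyOfFiniteType)]
    exact (RingHom.finiteType_algebraMap).mpr inferInstance
  have key := Groth.Agent.Helper5.CompFib.fibreDimAt_comp_le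
    (Spec.map (CommRingCat.ofHom (algebraMap A C)))
    (Spec.map (CommRingCat.ofHom (algebraMap R A))) x
  have h2 := congrArg (fun φ : Spec (CommRingCat.of C) ⟶ Spec (CommRingCat.of R) =>
    FlatMor.fibreDimAt φ x) h1
  exact (le_of_eq h2).trans key

end Groth.Agent.Helper3.SyntFree
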