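import Mathlib
import Groth.Prelude.Def_RegImm
import Groth.Agent.Helper2.SmLiftC
import Groth.Agent.Helper3.SyntFree1
set_option autoImplicit false
set_option linter.style.haveILetI false
set_option linter.unusedSectionVars false
set_option linter.unusedVariables false
set_option linter.deprecated false
set_option linter.style.haveILetI false
set_option linter.unusedSectionVars false
set_option linter.unusedVariables false
universe u v

namespace Groth.Agent.Helper3.SyntFree

open TensorProduct MvPolynomial Algebra Groth.Agent.Helper5.RelGCI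

section Entries

variable {P : Type u} [CommRing P] {m : ℕ}

/-- all entries of a matrix lie in an ideal -/
def EntriesIn (I : Ideal P) (M : Matrix (Fin m) (Fin m) P) : Prop := ∀ i j, M i j ∈ I

theorem entriesIn_mul {I I' : Ideal P} {M T : Matrix (Fin m) (Fin m) P}
    (hM : EntriesIn I M) (hT : EntriesIn I' T) : EntriesIn (I * I') (M * T) := by
  intro i j
  rw [Matrix.mul_apply]
  exact Ideal.sum_mem _ fun k _ => Ideal.mul_mem_mul (hM i k) (hT k j)

theorem entriesIn_mul_right {I : Ideal P} {M : Matrix (Fin m) (Fin m) P}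
    (hM : EntriesIn I M) (T : Matrix (Fin m) (Fin m) P) : EntriesIn I (M * T) := by
  intro i j
  rw [Matrix.mul_apply]
  exact Ideal.sum_mem _ fun k _ => Ideal.mul_mem_right _ _ (hM i k)

end Entries

section Improve

variable {P A : Type u} [CommRing P] [CommRing A] {m : ℕ}

/-- improving a lift of an idempotent matrix: idempotent modulo the square of the kernel -/
theorem exists_improved_lift (ρ : P →+* A) (a : Matrix (Fin m) (Fin m) P)
    (hidem : (a.map ρ) * (a.map ρ) = a.map ρ) :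
    ∃ a' : Matrix (Fin m) (Fin m) P, a'.map ρ = a.map ρ ∧
      EntriesIn (RingHom.ker ρ) (a' - a) ∧ EntriesIn ((RingHom.ker ρ) ^ 2) (a' * a' - a') := by
  have hmap : ∀ M : Matrix (Fin m) (Fin m) P, M.map ρ = ρ.mapMatrix M := fun M => rfl
  have hE : EntriesIn (RingHom.ker ρ) (a * a - a) := by
    intro i j
    rw [RingHom.mem_ker]
    have h1 : (ρ.mapMatrix (a * a - a)) i j = 0 := by
      rw [map_sub, map_mul, ← hmap, hidem, sub_self]
      rfl
    exact h1
  refine ⟨3 • (a * a) - 2 • (a * a * a), ?_, ?_, ?_⟩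
  · have h2 : ρ.mapMatrix (a * a) = a.map ρ := by rw [map_mul, ← hmap, hidem]
    have h3 : ρ.mapMatrix (a * a * a) = a.map ρ := by rw [map_mul, h2, ← hmap, hidem]
    rw [hmap, map_sub, map_nsmul, map_nsmul, h2, h3]
    abel
  · have h1 : (3 • (a * a) - 2 • (a * a * a)) - a = (a * a - a) * (1 - 2 • a) := by noncomm_ring
    rw [h1]
    exact entriesIn_mul_right hE _
  · have h1 : (3 • (a * a) - 2 • (a * a * a)) * (3 • (a * a) - 2 • (a * a * a)) -
        (3 • (a * a) - 2 • (a * a * a)) = (a * a - a) * (a * a - a) * (4 • (a * a - a) - 3) := by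
      noncomm_ring
    rw [h1, pow_two]
    exact entriesIn_mul_right (entriesIn_mul hE hE) _

end Improve

section Pres

open Groth.Agent.Helper2.SmLift

variable {R A : Type u} [CommRing R] [CommRing A] [Algebra R A] {N m : ℕ}

local notation "P" => MvPolynomial (Fin N) R

/-- the key inclusion: the kernel of `R[x][Y] → Sp(1 - ē)` is generated modulo its square by the
`m` elements `x_i + ℓ_i`. -/
theorem ker_le_span_sup_sq
    (ρ : MvPolynomial (Fin N) R →ₐ[R] A) (hρ : Function.Surjective ρ)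
    (hfg : (RingHom.ker ρ.toRingHom).FG)
    (a : Matrix (Fin m) (Fin m) (MvPolynomial (Fin N) R)) (x : Fin m → MvPolynomial (Fin N) R)
    (hidem : (a.map ρ) * (a.map ρ) = a.map ρ)
    (hx : ∀ k, x k ∈ RingHom.ker ρ.toRingHom)
    (hrel : ∀ l, x l - ∑ k, a k l * x k ∈ (RingHom.ker ρ.toRingHom) ^ 2)
    (hgen : RingHom.ker ρ.toRingHom ≤
      Ideal.span (Set.range x) ⊔ (RingHom.ker ρ.toRingHom) ^ 2) :
    ∃ (Pi₂ : MvPolynomial (Fin m) (MvPolynomial (Fin N) R) →ₐ[R] Sp (1 - a.map ρ))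
      (G : Fin m → MvPolynomial (Fin m) (MvPolynomial (Fin N) R)),
      Function.Surjective Pi₂ ∧ (RingHom.ker Pi₂.toRingHom).FG ∧
      (∀ i, G i ∈ RingHom.ker Pi₂.toRingHom) ∧
      RingHom.ker Pi₂.toRingHom ≤
        Ideal.span (Set.range G) ⊔ (RingHom.ker Pi₂.toRingHom) ^ 2 := by
  classical
  set J : Ideal P := RingHom.ker ρ.toRingHom with hJ
  set ē : Matrix (Fin m) (Fin m) A := a.map ρ with hē
  obtain ⟨a', ha'ρ, ha'a, ha'idem⟩ := exists_improved_lift (ρ : P →+* A) a hidem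
  have ha'ρ' : ∀ i j, ρ (a' i j) = ē i j := by
    intro i j
    have := congrFun (congrFun ha'ρ i) j
    exact this
  let μ : MvPolynomial (Fin m) P →ₐ[R] MvPolynomial (Fin m) A := MvPolynomial.mapAlgHom ρ
  have hμ : ∀ y, μ y = MvPolynomial.map (ρ : P →+* A) y := fun y => rfl
  have hμsurj : Function.Surjective μ := MvPolynomial.map_surjective _ hρ
  let Pi₂ : MvPolynomial (Fin m) P →ₐ[R] Sp (1 - ē) :=
    (Ideal.Quotient.mkₐ R (relIdeal (1 - ē))).comp μ
  have hPi₂surj : Function.Surjective Pi₂ :=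
    (Ideal.Quotient.mkₐ_surjective R _).comp hμsurj
  let ℓ : Fin m → MvPolynomial (Fin m) P := fun i => X i - ∑ k, C (a' k i) * X k
  have hμℓ : ∀ i, μ (ℓ i) = linForm (1 - ē) i := by
    intro i
    rw [hμ, map_sub, map_sum, linForm, MvPolynomial.map_X]
    have h1 : ∀ k, MvPolynomial.map (ρ : P →+* A) (C (a' k i) * X k) = C (ē k i) * X k := by
      intro k
      rw [map_mul, MvPolynomial.map_C, MvPolynomial.map_X]
      congr 2
      exact ha'ρ' k i
    simp_rw [h1]
    have h2 : ∀ k, C ((1 - ē) k i) * (X k : MvPolynomial (Fin m) A) =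
        C ((1 : Matrix (Fin m) (Fin m) A) k i) * X k - C (ē k i) * X k := by
      intro k
      rw [Matrix.sub_apply, map_sub, sub_mul]
    simp_rw [h2, Finset.sum_sub_distrib]
    congr 1
    rw [Finset.sum_eq_single i]
    · rw [Matrix.one_apply_eq, map_one, one_mul]
    · intro k _ hk
      rw [Matrix.one_apply_ne hk, map_zero, zero_mul]
    · intro h; exact absurd (Finset.mem_univ i) h
  set K₂ : Ideal (MvPolynomial (Fin m) P) := RingHom.ker Pi₂.toRingHom with hK₂
  have hK₂mem : ∀ y, y ∈ K₂ ↔ μ y ∈ relIdeal (1 - ē) := by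
    intro y
    rw [hK₂, RingHom.mem_ker]
    show Ideal.Quotient.mk (relIdeal (1 - ē)) (μ y) = 0 ↔ _
    rw [Ideal.Quotient.eq_zero_iff_mem]
  have hkerμ : RingHom.ker (μ : MvPolynomial (Fin m) P →+* MvPolynomial (Fin m) A) =
      J.map (C : P →+* MvPolynomial (Fin m) P) := by
    show RingHom.ker (MvPolynomial.map (ρ : P →+* A)) = _
    rw [MvPolynomial.ker_map]
    rfl
  have hK₂eq : K₂ = Ideal.span (Set.range ℓ) ⊔ J.map (C : P →+* MvPolynomial (Fin m) P) := by
    have h1 : (Ideal.span (Set.range ℓ)).map (μ : MvPolynomial (Fin m) P →+* _) =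
        relIdeal (1 - ē) := by
      rw [Ideal.map_span, relIdeal, ← Set.range_comp]
      congr 2
      funext i
      exact hμℓ i
    have h2 : K₂ = Ideal.comap (μ : MvPolynomial (Fin m) P →+* _) (relIdeal (1 - ē)) := by
      ext y
      rw [hK₂mem, Ideal.mem_comap]
      rfl
    have h3 := Ideal.comap_map_of_surjective
      (μ : MvPolynomial (Fin m) P →+* MvPolynomial (Fin m) A) hμsurj (Ideal.span (Set.range ℓ))
    rw [h2, ← h1, h3, ← hkerμ]
    rfl
  have hJK₂ : J.map (C : P →+* MvPolynomial (Fin m) P) ≤ K₂ := by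
    rw [hK₂eq]; exact le_sup_right
  have hℓK₂ : ∀ i, ℓ i ∈ K₂ := by
    intro i
    rw [hK₂eq]
    exact Ideal.mem_sup_left (Ideal.subset_span ⟨i, rfl⟩)
  have hCJ : ∀ y ∈ J, (C y : MvPolynomial (Fin m) P) ∈ K₂ := fun y hy =>
    hJK₂ (Ideal.mem_map_of_mem _ hy)
  have hCJ2 : ∀ y ∈ J ^ 2, (C y : MvPolynomial (Fin m) P) ∈ K₂ ^ 2 := by
    intro y hy
    have h1 : (C y : MvPolynomial (Fin m) P) ∈ (J ^ 2).map (C : P →+* MvPolynomial (Fin m) P) :=
      Ideal.mem_map_of_mem _ hy
    rw [Ideal.map_pow] at h1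
    exact Ideal.pow_right_mono hJK₂ 2 h1
  let G : Fin m → MvPolynomial (Fin m) P := fun i => C (x i) + ℓ i
  have hG : ∀ i, G i ∈ K₂ := fun i => Ideal.add_mem _ (hCJ _ (hx i)) (hℓK₂ i)
  set T : Ideal (MvPolynomial (Fin m) P) := Ideal.span (Set.range G) ⊔ K₂ ^ 2 with hT
  have hGT : ∀ i, G i ∈ T := fun i => Ideal.mem_sup_left (Ideal.subset_span ⟨i, rfl⟩)
  have hK2T : K₂ ^ 2 ≤ T := le_sup_right
  -- (7b)
  have hxT : ∀ l, (C (x l) : MvPolynomial (Fin m) P) ∈ T := by
    intro l
    have e1 : (C (x l) : MvPolynomial (Fin m) P) =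
        ∑ k, C (a' k l) * G k - C (∑ k, a' k l * x k - x l) -
          ∑ k, C (a' k l) * ℓ k := by
      simp only [G, mul_add, Finset.sum_add_distrib, map_sub, map_sum, map_mul]
      ring
    have t2 : ∑ k, a' k l * x k - x l ∈ J ^ 2 := by
      have e2 : ∑ k, a' k l * x k - x l =
          ∑ k, (a' - a) k l * x k - (x l - ∑ k, a k l * x k) := by
        simp only [Matrix.sub_apply, sub_mul, Finset.sum_sub_distrib]
        ring
      rw [e2]
      refine Ideal.sub_mem _ (Ideal.sum_mem _ fun k _ => ?_) (hrel l)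
      rw [pow_two]
      exact Ideal.mul_mem_mul (ha'a k l) (hx k)
    have t3 : ∑ k, C (a' k l) * ℓ k ∈ K₂ ^ 2 := by
      have e3 : ∑ k, C (a' k l) * ℓ k =
          - ∑ j, C ((a' * a' - a') j l) * (X j : MvPolynomial (Fin m) P) := by
        simp only [ℓ, mul_sub, Finset.sum_sub_distrib, Finset.mul_sum, Matrix.sub_apply,
          Matrix.mul_apply, map_sub, map_sum, map_mul, sub_mul, Finset.sum_mul]
        rw [Finset.sum_comm]
        rw [neg_sub]
        congr 1
        refine Finset.sum_congr rfl fun j _ => Finset.sum_congr rfl fun k _ => ?_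
        ring
      rw [e3]
      refine neg_mem (Ideal.sum_mem _ fun j _ => ?_)
      exact Ideal.mul_mem_right _ _ (hCJ2 _ (ha'idem j l))
    rw [e1]
    refine Ideal.sub_mem _ (Ideal.sub_mem _ ?_ ?_) (hK2T t3)
    · exact Ideal.sum_mem _ fun k _ => Ideal.mul_mem_left _ _ (hGT k)
    · exact hK2T (hCJ2 _ t2)
  have hℓT : ∀ l, ℓ l ∈ T := by
    intro l
    have : ℓ l = G l - C (x l) := by simp [G]
    rw [this]
    exact Ideal.sub_mem _ (hGT l) (hxT l)
  have hJT : J.map (C : P →+* MvPolynomial (Fin m) P) ≤ T := by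
    rw [Ideal.map_le_iff_le_comap]
    refine hgen.trans (sup_le ?_ ?_)
    · rw [Ideal.span_le]
      rintro _ ⟨k, rfl⟩
      exact hxT k
    · intro y hy
      exact hK2T (hCJ2 y hy)
  refine ⟨Pi₂, G, hPi₂surj, ?_, hG, ?_⟩
  · rw [← hK₂, hK₂eq]
    exact Submodule.FG.sup (Submodule.fg_span (Set.finite_range _)) (hfg.map _)
  · rw [← hK₂]
    conv_lhs => rw [hK₂eq]
    refine sup_le ?_ hJT
    rw [Ideal.span_le]
    rintro _ ⟨i, rfl⟩
    exact hℓT i

theorem exists_equiv_relGCI
    (ρ : MvPolynomial (Fin N) R →ₐ[R] A) (hρ : Function.Surjective ρ)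
    (hfg : (RingHom.ker ρ.toRingHom).FG)
    (a : Matrix (Fin m) (Fin m) (MvPolynomial (Fin N) R)) (x : Fin m → MvPolynomial (Fin N) R)
    (hidem : (a.map ρ) * (a.map ρ) = a.map ρ)
    (hx : ∀ k, x k ∈ RingHom.ker ρ.toRingHom)
    (hrel : ∀ l, x l - ∑ k, a k l * x k ∈ (RingHom.ker ρ.toRingHom) ^ 2)
    (hgen : RingHom.ker ρ.toRingHom ≤
      Ideal.span (Set.range x) ⊔ (RingHom.ker ρ.toRingHom) ^ 2) :
    ∃ (f : Fin m → MvPolynomial (Fin (m + N)) R) (h : MvPolynomial (Fin (m + N)) R),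
      Nonempty (Sp (1 - a.map ρ) ≃ₐ[R]
        Synt.RelGCIRing R (m + N + 1) (m + 1) (snocRel R (m + N) m f h)) := by
  classical
  obtain ⟨Pi₂, G, hsurj, hfgK, hG, hgenK⟩ := ker_le_span_sup_sq ρ hρ hfg a x hidem hx hrel hgen
  let ι : MvPolynomial (Fin (m + N)) R ≃ₐ[R] MvPolynomial (Fin m) (MvPolynomial (Fin N) R) :=
    (MvPolynomial.renameEquiv R finSumFinEquiv).symm.trans
      (MvPolynomial.sumAlgEquiv R (Fin m) (Fin N))
  let π : MvPolynomial (Fin (m + N)) R →ₐ[R] Sp (1 - a.map ρ) := Pi₂.comp ι.toAlgHom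
  have hπ : ∀ y, π y = Pi₂ (ι y) := fun y => rfl
  have hπsurj : Function.Surjective π := hsurj.comp ι.surjective
  set K₂ := RingHom.ker Pi₂.toRingHom with hK₂
  let ιs : MvPolynomial (Fin m) (MvPolynomial (Fin N) R) →+* MvPolynomial (Fin (m + N)) R :=
    (ι.symm : _ →+* _)
  have hιs : ∀ y, ιs (ι y) = y := fun y => ι.symm_apply_apply y
  have hιs' : ∀ z, ι (ιs z) = z := fun z => ι.apply_symm_apply z
  have hker : RingHom.ker π.toRingHom = K₂.map ιs := by
    ext y
    rw [RingHom.mem_ker]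
    constructor
    · intro hy
      have h1 : ι y ∈ K₂ := by rw [hK₂, RingHom.mem_ker]; exact hy
      have h2 := Ideal.mem_map_of_mem ιs h1
      rwa [hιs] at h2
    · intro hy
      have hsurjι : Function.Surjective ιs := fun y => ⟨ι y, hιs y⟩
      obtain ⟨z, hz, rfl⟩ := (Ideal.mem_map_iff_of_surjective ιs hsurjι).1 hy
      show Pi₂ (ι (ιs z)) = 0
      rw [hιs']
      rw [hK₂, RingHom.mem_ker] at hz
      exact hz
  let f : Fin m → MvPolynomial (Fin (m + N)) R := fun i => ιs (G i)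
  have hf : ∀ i, f i ∈ RingHom.ker π.toRingHom := by
    intro i
    rw [hker]
    exact Ideal.mem_map_of_mem _ (hG i)
  have hπfg : (RingHom.ker π.toRingHom).FG := by
    rw [hker]; exact hfgK.map _
  have hgen' : RingHom.ker π.toRingHom ≤
      Ideal.span (Set.range f) ⊔ (RingHom.ker π.toRingHom) ^ 2 := by
    rw [hker]
    have h1 := Ideal.map_mono (f := ιs) hgenK
    rw [Ideal.map_sup, Ideal.map_span, Ideal.map_pow, ← Set.range_comp] at h1
    exact h1
  obtain ⟨h, e, -, -⟩ := freeCot π hπsurj hπfg f hf hgen'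
  exact ⟨f, h, ⟨e⟩⟩

end Pres

end Groth.Agent.Helper3.SyntFree
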