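import Mathlib
import Groth.Prelude.Def_RegImm
import Groth.Agent.Helper3.SyntFree5
import Groth.Agent.Helper3.SyntFree4
import Groth.Agent.Helper3.SyntCot5
import Groth.Agent.Helper3.SyntCot2
import Groth.Agent.Helper5.RelGCI11
import Groth.Agent.Helper5.RelGCI3
set_option autoImplicit false
set_option linter.style.haveILetI false
set_option linter.unusedSectionVars false
set_option linter.unusedVariables false
set_option linter.deprecated false
set_option linter.style.haveILetI false
set_option linter.unusedSectionVars false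
set_option linter.unusedVariables false
universe u v

namespace Groth.Agent.Helper3.SyntFree

open CategoryTheory AlgebraicGeometry TensorProduct MvPolynomial Algebra
open Groth.Agent.Helper5.RelGCI Groth.Agent.Helper3.SyntCot Groth.Agent.Helper2.SmLift

/-- algebraic preparation for a syntomic algebra: a presentation, generators of the kernel modulo
its square and an idempotent matrix splitting the conormal module. -/
theorem exists_prep' {R A : Type u} [CommRing R] [CommRing A] [Algebra R A]
    (h : Synt.IsSyntomic R A) :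
    ∃ (N : ℕ) (ρ : MvPolynomial (Fin N) R →ₐ[R] A) (hρ : Function.Surjective ρ)
      (_ : Module.Finite A (gen ρ hρ).toExtension.Cotangent)
      (m : ℕ) (incl : (gen ρ hρ).toExtension.Cotangent →ₗ[A] (Fin m → A))
      (proj : (Fin m → A) →ₗ[A] (gen ρ hρ).toExtension.Cotangent)
      (x : Fin m → MvPolynomial (Fin N) R) (a : Matrix (Fin m) (Fin m) (MvPolynomial (Fin N) R)),
      (RingHom.ker ρ.toRingHom).FG ∧
      proj ∘ₗ incl = LinearMap.id ∧
      incl ∘ₗ proj = Matrix.toLin' (a.map ρ) ∧
      (∀ k, x k ∈ RingHom.ker ρ.toRingHom) ∧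
      (∀ l, x l - ∑ k, a k l * x k ∈ (RingHom.ker ρ.toRingHom) ^ 2) ∧
      RingHom.ker ρ.toRingHom ≤ Ideal.span (Set.range x) ⊔ (RingHom.ker ρ.toRingHom) ^ 2 := by
  classical
  have hfp : Algebra.FinitePresentation R A := h.2.1
  obtain ⟨N, ρ, hρsurj, hρfg⟩ := Algebra.FinitePresentation.out (R := R) (A := A)
  set J : Ideal (MvPolynomial (Fin N) R) := RingHom.ker ρ.toRingHom with hJ
  let P₀ : Generators R A (Fin N) := gen ρ hρsurj
  have hP₀ker : P₀.toExtension.ker = J := gen_ker ρ hρsurj _ rfl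
  have halg : ∀ r : MvPolynomial (Fin N) R, algebraMap P₀.toExtension.Ring A r = ρ r :=
    algebraMap_gen ρ hρsurj
  haveI hfin : Module.Finite A P₀.toExtension.Cotangent :=
    Algebra.Extension.Cotangent.finite (by rw [hP₀ker]; exact hρfg)
  haveI hproj : Module.Projective A P₀.toExtension.Cotangent :=
    projective_of_locally _ (fun q _ => exists_away_projective R A h P₀ q)
  obtain ⟨mm, proj, incl, -, -, hpi⟩ :=
    Module.Finite.exists_comp_eq_id_of_projective A P₀.toExtension.Cotangent
  set ē : Matrix (Fin mm) (Fin mm) A := LinearMap.toMatrix' (incl ∘ₗ proj) with hē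
  have hēlin : Matrix.toLin' ē = incl ∘ₗ proj := by rw [hē, Matrix.toLin'_toMatrix']
  have hēapp : ∀ k l, ē k l = incl (proj (Pi.single l 1)) k := by
    intro k l
    rw [hē, LinearMap.toMatrix'_apply]
    rfl
  choose ξ hξ using fun k : Fin mm =>
    Algebra.Extension.Cotangent.mk_surjective (proj (Pi.single k (1 : A)))
  have hπ' : ∀ a₀ : A, ∃ r : P₀.toExtension.Ring, ρ r = a₀ := hρsurj
  choose a ha using fun k l => hπ' (ē k l)
  have hsmul : ∀ (r : P₀.toExtension.Ring) (y : P₀.toExtension.Cotangent),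
      r • y = ρ r • y := by
    intro r y
    rw [← halg r, algebraMap_smul]
  have hcrit' : ∀ (η : P₀.toExtension.ker), Algebra.Extension.Cotangent.mk η = 0 →
      (η : P₀.toExtension.Ring) ∈ J ^ 2 := by
    intro η h0
    have h2 : (η : P₀.toExtension.Ring) ∈ P₀.toExtension.ker ^ 2 :=
      (Algebra.Extension.Cotangent.mk_eq_zero_iff η).1 h0
    have h3 : P₀.toExtension.ker ^ 2 = J ^ 2 := congrArg (· ^ 2) hP₀ker
    rw [h3] at h2
    exact h2
  have hprojsum : ∀ v : Fin mm → A, proj v = ∑ k, v k • proj (Pi.single k 1) := by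
    intro v
    rw [LinearMap.pi_apply_eq_sum_univ proj v]
    refine Finset.sum_congr rfl fun k _ => ?_
    congr 2
    ext j
    simp [Pi.single_apply, eq_comm]
  refine ⟨N, ρ, hρsurj, hfin, mm, incl, proj, fun k => ((ξ k : P₀.toExtension.ker) :
    P₀.toExtension.Ring), a, hρfg, hpi, ?_, ?_, ?_, ?_⟩
  · rw [← hēlin]
    congr 1
    ext k l
    rw [Matrix.map_apply]
    exact (ha k l).symm
  · intro k
    exact hP₀ker.le (ξ k).2
  · intro l
    have h1 : ((ξ l - ∑ k, a k l • ξ k : P₀.toExtension.ker) : P₀.toExtension.Ring) =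
        ((ξ l : P₀.toExtension.ker) : P₀.toExtension.Ring) -
          ∑ k, a k l * ((ξ k : P₀.toExtension.ker) : P₀.toExtension.Ring) := by
      rw [Submodule.coe_sub, Submodule.coe_sum]
      rfl
    show ((ξ l : P₀.toExtension.ker) : P₀.toExtension.Ring) -
          ∑ k, a k l * ((ξ k : P₀.toExtension.ker) : P₀.toExtension.Ring) ∈ J ^ 2
    rw [← h1]
    apply hcrit'
    rw [map_sub, map_sum]
    simp only [map_smul, hξ, hsmul, ha]
    have h2 : ∑ k, ē k l • proj (Pi.single k (1 : A)) =
        proj (incl (proj (Pi.single l 1))) := by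
      rw [hprojsum (incl (proj (Pi.single l 1)))]
      refine Finset.sum_congr rfl fun k _ => ?_
      rw [hēapp]
    rw [h2]
    have h3 := LinearMap.congr_fun hpi (proj (Pi.single l 1))
    simp only [LinearMap.coe_comp, Function.comp_apply, LinearMap.id_coe, id_eq] at h3
    rw [h3, sub_self]
  · intro y hy
    have hmy : y ∈ P₀.toExtension.ker := hP₀ker.ge hy
    let η : P₀.toExtension.ker := ⟨y, hmy⟩
    let v' : Fin mm → A := incl (Algebra.Extension.Cotangent.mk η)
    choose v hv using fun k => hπ' (v' k)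
    have hdiff : ((η - ∑ k, v k • ξ k : P₀.toExtension.ker) : P₀.toExtension.Ring) ∈ J ^ 2 := by
      apply hcrit'
      rw [map_sub, map_sum]
      simp only [map_smul, hξ, hsmul, hv]
      rw [← hprojsum v']
      have h3 := LinearMap.congr_fun hpi (Algebra.Extension.Cotangent.mk η)
      simp only [LinearMap.coe_comp, Function.comp_apply, LinearMap.id_coe, id_eq] at h3
      show Algebra.Extension.Cotangent.mk η - proj (incl (Algebra.Extension.Cotangent.mk η)) = 0
      rw [h3, sub_self]
    have h4 : y = ∑ k, v k * ((ξ k : P₀.toExtension.ker) : P₀.toExtension.Ring) +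
        ((η - ∑ k, v k • ξ k : P₀.toExtension.ker) : P₀.toExtension.Ring) := by
      rw [Submodule.coe_sub, Submodule.coe_sum]
      simp only [Submodule.coe_smul, smul_eq_mul]
      show y = _ + (y - _)
      ring
    rw [h4]
    refine Ideal.add_mem _ (Ideal.mem_sup_left ?_) (Ideal.mem_sup_right hdiff)
    exact Ideal.sum_mem _ fun k _ => Ideal.mul_mem_left _ _ (Ideal.subset_span ⟨k, rfl⟩)

/-- the fibre dimension bound for `Sp (1 - ē)` over `R` -/
theorem fibreDimAt_Sp_le {R A : Type u} [CommRing R] [CommRing A] [Algebra R A]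
    (h : Synt.IsSyntomic R A) {N : ℕ} (P₀ : Generators R A (Fin N))
    [Module.Finite A P₀.toExtension.Cotangent] {m : ℕ}
    (incl : P₀.toExtension.Cotangent →ₗ[A] (Fin m → A))
    (proj : (Fin m → A) →ₗ[A] P₀.toExtension.Cotangent)
    (ē p : Matrix (Fin m) (Fin m) A) (hp : p = 1 - ē)
    (hip : incl ∘ₗ proj = Matrix.toLin' ē)
    (x : PrimeSpectrum (Sp p)) :
    FlatMor.fibreDimAt (Spec.map (CommRingCat.ofHom (algebraMap R (Sp p)))) x ≤
      ((N : ℕ) : WithBot ℕ∞) := by
  classical
  haveI : Algebra.FinitePresentation R A := h.2.1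
  -- the linear map
  let φ : (Fin m → A) →ₗ[A] Sp p :=
    { toFun := fun v => ∑ k, algebraMap A (Sp p) (v k) * xx p k
      map_add' := fun v w => by simp [add_mul, Finset.sum_add_distrib]
      map_smul' := fun c v => by
        simp only [Pi.smul_apply, smul_eq_mul, map_mul, RingHom.id_apply, Finset.smul_sum,
          mul_assoc]
        refine Finset.sum_congr rfl fun k _ => ?_
        exact (Algebra.smul_def c _).symm }
  have hφ : ∀ v, φ v = ∑ k, algebraMap A (Sp p) (v k) * xx p k := fun v => rfl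
  let ψ : P₀.toExtension.Cotangent →ₗ[A] Sp p := φ ∘ₗ incl
  have hxx : ∀ i, xx p i = ψ (proj (Pi.single i 1)) := by
    intro i
    show xx p i = φ (incl (proj (Pi.single i 1)))
    have h1 : incl (proj (Pi.single i 1)) = Matrix.toLin' ē (Pi.single i 1) := by
      rw [← hip]; rfl
    rw [h1, hφ]
    have h2 := rel p i
    have h3 : ∀ k, algebraMap A (Sp p) (p k i) * xx p k =
        algebraMap A (Sp p) ((1 : Matrix (Fin m) (Fin m) A) k i) * xx p k -
          algebraMap A (Sp p) ((Matrix.toLin' ē (Pi.single i 1)) k) * xx p k := by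
      intro k
      have h4 : (Matrix.toLin' ē (Pi.single i 1)) k = ē k i := by
        simp [Matrix.toLin'_apply, Matrix.mulVec_single]
      rw [h4, hp, Matrix.sub_apply, map_sub, sub_mul]
    simp_rw [h3, Finset.sum_sub_distrib] at h2
    rw [sub_eq_zero] at h2
    rw [← h2, Finset.sum_eq_single i]
    · rw [Matrix.one_apply_eq, map_one, one_mul]
    · intro k _ hk
      rw [Matrix.one_apply_ne hk, map_zero, zero_mul]
    · intro h; exact absurd (Finset.mem_univ i) h
  have hψ : Algebra.adjoin A (Set.range ψ) = ⊤ := by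
    rw [_root_.eq_top_iff, ← adjoin_xx p]
    apply Algebra.adjoin_mono
    rintro _ ⟨i, rfl⟩
    exact ⟨_, (hxx i).symm⟩
  have h1 := fibreDimAt_comp_le_ring R A (Sp p) x
  have h2 := fibreDimAt_le_of_adjoin ψ hψ x
  let q : PrimeSpectrum A := PrimeSpectrum.comap (algebraMap A (Sp p)) x
  have hq : RingHom.ker (algebraMap A q.asIdeal.ResidueField) = q.asIdeal :=
    Ideal.ker_algebraMap_residueField _
  obtain ⟨hle, h3⟩ := fibreDimAt_of_rank h P₀ q.asIdeal.ResidueField q hq
  rw [Fintype.card_fin] at hle h3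
  have h4 : FlatMor.fibreDimAt (Spec.map (CommRingCat.ofHom (algebraMap R A)))
      (PrimeSpectrum.comap (algebraMap A (Sp p)) x) = _ := h3
  rw [h4] at h1
  refine h1.trans ((add_le_add le_rfl h2).trans (le_of_eq ?_))
  show ((N - Module.finrank q.asIdeal.ResidueField
      (q.asIdeal.ResidueField ⊗[A] P₀.toExtension.Cotangent) : ℕ) : WithBot ℕ∞) +
    ((Module.finrank q.asIdeal.ResidueField
      (q.asIdeal.ResidueField ⊗[A] P₀.toExtension.Cotangent) : ℕ) : WithBot ℕ∞) = _
  rw [← Nat.cast_add, Nat.sub_add_cancel hle]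

theorem s6828 {R A : Type u} [CommRing R] [CommRing A] [Algebra R A]
    (h : Synt.IsSyntomic R A) :
    ∃ (n c : ℕ) (F : Fin c → MvPolynomial (Fin n) R), Synt.IsRelGCI R n c F ∧
      Module.Flat R (Synt.RelGCIRing R n c F) ∧
      ∃ (_ : Algebra A (Synt.RelGCIRing R n c F)) (_ : IsScalarTower R A (Synt.RelGCIRing R n c F)),
        Algebra.Smooth A (Synt.RelGCIRing R n c F) ∧
        ∃ ρ : Synt.RelGCIRing R n c F →ₐ[R] A,
          ∀ a : A, ρ (algebraMap A (Synt.RelGCIRing R n c F) a) = a := by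
  classical
  obtain ⟨N, ρ, hρ, hfin, m, incl, proj, x, a, hfg, hpi, hip, hx, hrel, hgen⟩ := exists_prep' h
  set ē : Matrix (Fin m) (Fin m) A := a.map ρ with hē
  have hidem : ē * ē = ē := by
    apply Matrix.toLin'.injective
    rw [Matrix.toLin'_mul, ← hip, LinearMap.comp_assoc, ← LinearMap.comp_assoc proj incl proj, hpi,
      LinearMap.id_comp]
  have hp : (1 - ē) * (1 - ē) = 1 - ē := by
    have h1 : (1 - ē) * (1 - ē) = 1 - ē - ē + ē * ē := by noncomm_ring
    rw [h1, hidem]
    abel
  obtain ⟨f, hh, ⟨e⟩⟩ := exists_equiv_relGCI ρ hρ hfg a x hidem hx hrel hgen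
  haveI hsm : Algebra.Smooth A (Sp (1 - ē)) := smooth_Sp (1 - ē) hp
  obtain ⟨ρ₀, hρ₀, -⟩ := exists_retraction (R := R) (1 - ē)
  have hrelgci : Synt.IsRelGCI R (m + N + 1) (m + 1) (snocRel R (m + N) m f hh) := by
    apply isRelGCI_of_fibreDimAt_le R _ _ _ (by omega)
    intro x'
    rw [fibreDimAt_algEquiv e.symm x']
    have h1 := fibreDimAt_Sp_le h (gen ρ hρ) incl proj ē (1 - ē) rfl hip
      (PrimeSpectrum.comap ((e.symm.symm : Sp (1 - ē) ≃ₐ[R] _) : Sp (1 - ē) →+* _) x')
    refine h1.trans (le_of_eq ?_)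
    congr 2
    omega
  refine ⟨m + N + 1, m + 1, snocRel R (m + N) m f hh, hrelgci,
    (s9147 R _ _ _ hrelgci).1, ?_⟩
  letI algAC : Algebra A (Synt.RelGCIRing R (m + N + 1) (m + 1) (snocRel R (m + N) m f hh)) :=
    ((e : Sp (1 - ē) →+* _).comp (algebraMap A (Sp (1 - ē)))).toAlgebra
  have halg : ∀ z : A, algebraMap A (Synt.RelGCIRing R (m + N + 1) (m + 1)
      (snocRel R (m + N) m f hh)) z = e (algebraMap A (Sp (1 - ē)) z) := fun z => rfl
  haveI tower : IsScalarTower R A (Synt.RelGCIRing R (m + N + 1) (m + 1)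
      (snocRel R (m + N) m f hh)) := by
    apply IsScalarTower.of_algebraMap_eq
    intro r
    rw [halg, ← IsScalarTower.algebraMap_apply R A (Sp (1 - ē)), e.commutes]
  refine ⟨algAC, tower, ?_, ρ₀.comp (e.symm : _ →ₐ[R] Sp (1 - ē)), ?_⟩
  · let eA : Sp (1 - ē) ≃ₐ[A] Synt.RelGCIRing R (m + N + 1) (m + 1)
        (snocRel R (m + N) m f hh) :=
      AlgEquiv.ofRingEquiv (f := e.toRingEquiv) (fun z => rfl)
    exact Algebra.Smooth.of_equiv eA
  · intro z
    rw [halg]
    show ρ₀ (e.symm (e (algebraMap A (Sp (1 - ē)) z))) = z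
    rw [e.symm_apply_apply, hρ₀]

end Groth.Agent.Helper3.SyntFree
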