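import Mathlib
import Groth.Agent.Helper3.SyntLift4
import Groth.Agent.Helper3.SyntCot2
set_option autoImplicit false
set_option linter.style.haveILetI false
set_option linter.unusedSectionVars false
set_option linter.unusedVariables false
set_option linter.deprecated false
set_option linter.style.haveILetI false
set_option linter.unusedSectionVars false
set_option linter.unusedVariables false
universe u v

namespace Groth.Agent.Helper3.SyntLift

open CategoryTheory AlgebraicGeometry TensorProduct MvPolynomial Algebra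
open Groth.Agent.Helper3.SyntLoc Groth.Agent.Helper3.SyntCot

section Prep

/-- algebraic preparation: a presentation of `A₀` over `R`, generators of the kernel modulo
`J² + I`, and an idempotent matrix splitting the conormal module. -/
theorem exists_prep {R A₀ : Type u} [CommRing R] (I : Ideal R) [CommRing A₀]
    [Algebra (R ⧸ I) A₀] [Algebra R A₀] [IsScalarTower R (R ⧸ I) A₀]
    (h : Synt.IsSyntomic (R ⧸ I) A₀) :
    ∃ (n : ℕ) (ρ : MvPolynomial (Fin n) R →ₐ[R] A₀) (P₀ : Generators (R ⧸ I) A₀ (Fin n))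
      (_ : Module.Finite A₀ P₀.toExtension.Cotangent)
      (mm : ℕ) (incl : P₀.toExtension.Cotangent →ₗ[A₀] (Fin mm → A₀))
      (proj : (Fin mm → A₀) →ₗ[A₀] P₀.toExtension.Cotangent)
      (x : Fin mm → MvPolynomial (Fin n) R) (a : Matrix (Fin mm) (Fin mm) (MvPolynomial (Fin n) R)),
      Function.Surjective ρ ∧
      (∃ s : Finset (MvPolynomial (Fin n) R), RingHom.ker ρ = Ideal.span (s : Set _) ⊔
        I.map (algebraMap R (MvPolynomial (Fin n) R))) ∧
      proj ∘ₗ incl = LinearMap.id ∧
      incl ∘ₗ proj = Matrix.toLin' (a.map ρ) ∧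
      (∀ k, x k ∈ RingHom.ker ρ) ∧
      (∀ l, x l - ∑ k, a k l * x k ∈
        (RingHom.ker ρ) ^ 2 ⊔ I.map (algebraMap R (MvPolynomial (Fin n) R))) ∧
      RingHom.ker ρ ≤ Ideal.span (Set.range x) ⊔
        ((RingHom.ker ρ) ^ 2 ⊔ I.map (algebraMap R (MvPolynomial (Fin n) R))) := by
  classical
  have hfp : Algebra.FinitePresentation (R ⧸ I) A₀ := h.2.1
  obtain ⟨n, π₀, hπ₀surj, hπ₀fg⟩ := Algebra.FinitePresentation.out (R := R ⧸ I) (A := A₀)
  let m : MvPolynomial (Fin n) R →+* MvPolynomial (Fin n) (R ⧸ I) :=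
    MvPolynomial.map (Ideal.Quotient.mk I)
  have hmsurj : Function.Surjective m := MvPolynomial.map_surjective _ Ideal.Quotient.mk_surjective
  let ρ : MvPolynomial (Fin n) R →ₐ[R] A₀ :=
    { (π₀.toRingHom.comp m) with
      commutes' := fun r => by
        show π₀ (MvPolynomial.map (Ideal.Quotient.mk I) (MvPolynomial.C r)) = _
        rw [MvPolynomial.map_C, IsScalarTower.algebraMap_apply R (R ⧸ I) A₀]
        exact π₀.commutes (Ideal.Quotient.mk I r) }
  have hρm : ∀ b, ρ b = π₀ (m b) := fun _ => rfl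
  have hρsurj : Function.Surjective ρ := by
    intro a
    obtain ⟨b₀, rfl⟩ := hπ₀surj a
    obtain ⟨b, rfl⟩ := hmsurj b₀
    exact ⟨b, rfl⟩
  set J : Ideal (MvPolynomial (Fin n) R) := RingHom.ker ρ with hJ
  set J₀ : Ideal (MvPolynomial (Fin n) (R ⧸ I)) := RingHom.ker π₀.toRingHom with hJ₀
  have hJcomap : J = Ideal.comap m J₀ := by
    rw [hJ₀, RingHom.comap_ker]
    rfl
  have hkerm : RingHom.ker m = I.map (algebraMap R (MvPolynomial (Fin n) R)) := by
    rw [MvPolynomial.ker_map, Ideal.mk_ker]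
    rfl
  have hJmap : J.map m = J₀ := by
    rw [hJcomap, Ideal.map_comap_of_surjective m hmsurj]
  -- finite generation of J modulo I
  have hfgB : ∃ s : Finset (MvPolynomial (Fin n) R),
      J = Ideal.span (s : Set (MvPolynomial (Fin n) R)) ⊔
        I.map (algebraMap R (MvPolynomial (Fin n) R)) := by
    obtain ⟨t, ht⟩ := hπ₀fg
    have hmsurj' := hmsurj
    choose lift hlift using hmsurj'
    refine ⟨t.image lift, ?_⟩
    have h1 : (Ideal.span ((t.image lift : Finset _) : Set (MvPolynomial (Fin n) R))).map m =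
        J₀ := by
      rw [Ideal.map_span, ← ht, Finset.coe_image, ← Set.image_comp]
      congr 1
      ext z
      simp [hlift]
    have h3 : Ideal.comap m ⊥ = I.map (algebraMap R (MvPolynomial (Fin n) R)) := hkerm
    rw [hJcomap, ← h1, Ideal.comap_map_of_surjective m hmsurj, h3]
  -- the membership criterion
  have hcrit : ∀ y : MvPolynomial (Fin n) R, m y ∈ J₀ ^ 2 →
      y ∈ J ^ 2 ⊔ I.map (algebraMap R (MvPolynomial (Fin n) R)) := by
    intro y hy
    rw [← hJmap, ← Ideal.map_pow] at hy
    have h1 : y ∈ Ideal.comap m ((J ^ 2).map m) := hy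
    rw [Ideal.comap_map_of_surjective m hmsurj] at h1
    have h3 : Ideal.comap m ⊥ = RingHom.ker m := rfl
    rw [h3, hkerm] at h1
    exact h1
  -- the conormal module
  let P₀ : Generators (R ⧸ I) A₀ (Fin n) := gen π₀ hπ₀surj
  have hP₀ker : P₀.toExtension.ker = J₀ := gen_ker π₀ hπ₀surj _ rfl
  have halg : ∀ r : MvPolynomial (Fin n) (R ⧸ I), algebraMap P₀.toExtension.Ring A₀ r = π₀ r :=
    algebraMap_gen π₀ hπ₀surj
  haveI hfin : Module.Finite A₀ P₀.toExtension.Cotangent :=
    Algebra.Extension.Cotangent.finite (by rw [hP₀ker]; exact hπ₀fg)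
  haveI hproj : Module.Projective A₀ P₀.toExtension.Cotangent :=
    projective_of_locally _ (fun q _ => exists_away_projective (R ⧸ I) A₀ h P₀ q)
  obtain ⟨mm, proj, incl, -, -, hpi⟩ :=
    Module.Finite.exists_comp_eq_id_of_projective A₀ P₀.toExtension.Cotangent
  set ē : Matrix (Fin mm) (Fin mm) A₀ := LinearMap.toMatrix' (incl ∘ₗ proj) with hē
  have hēlin : Matrix.toLin' ē = incl ∘ₗ proj := by rw [hē, Matrix.toLin'_toMatrix']
  have hēapp : ∀ k l, ē k l = incl (proj (Pi.single l 1)) k := by
    intro k l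
    rw [hē, LinearMap.toMatrix'_apply]
    rfl
  -- the classes
  choose ξ hξ using fun k : Fin mm =>
    Algebra.Extension.Cotangent.mk_surjective (proj (Pi.single k (1 : A₀)))
  choose x hx using fun k => hmsurj (ξ k).1
  have hπ' : ∀ a₀ : A₀, ∃ r : P₀.toExtension.Ring, π₀ r = a₀ := hπ₀surj
  choose ā hā using fun k l => hπ' (ē k l)
  choose a ha using fun k l => hmsurj (ā k l)
  have hρa : ∀ k l, ρ (a k l) = ē k l := fun k l => by rw [hρm, ha, hā]
  have hsmul : ∀ (r : P₀.toExtension.Ring) (y : P₀.toExtension.Cotangent),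
      r • y = π₀ r • y := by
    intro r y
    rw [← halg r, algebraMap_smul]
  have hcrit' : ∀ (y : MvPolynomial (Fin n) R) (η : P₀.toExtension.ker),
      (η : P₀.toExtension.Ring) = m y → Algebra.Extension.Cotangent.mk η = 0 →
      y ∈ J ^ 2 ⊔ I.map (algebraMap R (MvPolynomial (Fin n) R)) := by
    intro y η hη h0
    apply hcrit
    have h2 : (η : P₀.toExtension.Ring) ∈ P₀.toExtension.ker ^ 2 :=
      (Algebra.Extension.Cotangent.mk_eq_zero_iff η).1 h0
    have h3 : P₀.toExtension.ker ^ 2 = J₀ ^ 2 := congrArg (· ^ 2) hP₀ker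
    rw [h3, hη] at h2
    exact h2
  have hprojsum : ∀ v : Fin mm → A₀, proj v = ∑ k, v k • proj (Pi.single k 1) := by
    intro v
    rw [LinearMap.pi_apply_eq_sum_univ proj v]
    refine Finset.sum_congr rfl fun k _ => ?_
    congr 2
    ext j
    simp [Pi.single_apply, eq_comm]
  refine ⟨n, ρ, P₀, hfin, mm, incl, proj, x, a, hρsurj, hfgB, hpi, ?_, ?_, ?_, ?_⟩
  · rw [← hēlin]
    congr 1
    ext k l
    rw [Matrix.map_apply]
    exact (hρa k l).symm
  · intro k
    rw [RingHom.mem_ker, hρm, hx]
    exact hP₀ker.le (ξ k).2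
  · intro l
    have h1 : ((ξ l - ∑ k, ā k l • ξ k : P₀.toExtension.ker) : P₀.toExtension.Ring) =
        (m (x l - ∑ k, a k l * x k) : P₀.toExtension.Ring) := by
      rw [map_sub, map_sum, hx, Submodule.coe_sub, Submodule.coe_sum]
      congr 1
      refine Finset.sum_congr rfl fun k _ => ?_
      rw [map_mul, ha, hx]
      rfl
    apply hcrit' _ _ h1
    rw [map_sub, map_sum]
    simp only [map_smul, hξ, hsmul, hā]
    have h2 : ∑ k, ē k l • proj (Pi.single k (1 : A₀)) =
        proj (incl (proj (Pi.single l 1))) := by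
      rw [hprojsum (incl (proj (Pi.single l 1)))]
      refine Finset.sum_congr rfl fun k _ => ?_
      rw [hēapp]
    rw [h2]
    have h3 := LinearMap.congr_fun hpi (proj (Pi.single l 1))
    simp only [LinearMap.coe_comp, Function.comp_apply, LinearMap.id_coe, id_eq] at h3
    rw [h3, sub_self]
  · intro y hy
    have hmy' : m y ∈ J₀ := by
      rw [hJ₀, RingHom.mem_ker]
      exact hy
    have hmy : m y ∈ P₀.toExtension.ker := hP₀ker.ge hmy' 
    let η : P₀.toExtension.ker := ⟨m y, hmy⟩
    let v' : Fin mm → A₀ := incl (Algebra.Extension.Cotangent.mk η)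
    choose vb hvb using fun k => hπ' (v' k)
    choose v hv using fun k => hmsurj (vb k)
    have hdiff : y - ∑ k, v k * x k ∈
        J ^ 2 ⊔ I.map (algebraMap R (MvPolynomial (Fin n) R)) := by
      have h1 : ((η - ∑ k, vb k • ξ k : P₀.toExtension.ker) : P₀.toExtension.Ring) =
          (m (y - ∑ k, v k * x k) : P₀.toExtension.Ring) := by
        rw [map_sub, map_sum, Submodule.coe_sub, Submodule.coe_sum]
        congr 1
        refine Finset.sum_congr rfl fun k _ => ?_
        rw [map_mul, hv, hx]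
        rfl
      apply hcrit' _ _ h1
      rw [map_sub, map_sum]
      simp only [map_smul, hξ, hsmul, hvb]
      rw [← hprojsum v']
      have h3 := LinearMap.congr_fun hpi (Algebra.Extension.Cotangent.mk η)
      simp only [LinearMap.coe_comp, Function.comp_apply, LinearMap.id_coe, id_eq] at h3
      show Algebra.Extension.Cotangent.mk η - proj (incl (Algebra.Extension.Cotangent.mk η)) = 0
      rw [h3, sub_self]
    have h4 : y = ∑ k, v k * x k + (y - ∑ k, v k * x k) := by ring
    rw [h4]
    refine Ideal.add_mem _ (Ideal.mem_sup_left ?_) (Ideal.mem_sup_right hdiff)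
    exact Ideal.sum_mem _ fun k _ => Ideal.mul_mem_left _ _ (Ideal.subset_span ⟨k, rfl⟩)

end Prep

end Groth.Agent.Helper3.SyntLift
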