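import Mathlib
import Groth.Agent.Helper3.SyntLift5
import Groth.Agent.Helper3.SyntCot5
set_option autoImplicit false
set_option linter.style.haveILetI false
set_option linter.unusedSectionVars false
set_option linter.unusedVariables false
set_option linter.deprecated false
set_option linter.style.haveILetI false
set_option linter.unusedSectionVars false
set_option linter.unusedVariables false
universe u v

namespace Groth.Agent.Helper3.SyntLift

open CategoryTheory AlgebraicGeometry TensorProduct MvPolynomial Algebra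
open Groth.Agent.Helper3.SyntLoc Groth.Agent.Helper3.SyntCot

/-- **Syntomic algebras lift along any surjection `R → R/I`.** -/
theorem main {R A₀ : Type u} [CommRing R] (I : Ideal R) [CommRing A₀]
    [Algebra (R ⧸ I) A₀] (h : Synt.IsSyntomic (R ⧸ I) A₀) :
    ∃ (A : Type u) (_ : CommRing A) (_ : Algebra R A), Synt.IsSyntomic R A ∧
      Nonempty ((A ⧸ I.map (algebraMap R A)) ≃ₐ[R ⧸ I] A₀) := by
  classical
  letI : Algebra R A₀ := ((algebraMap (R ⧸ I) A₀).comp (Ideal.Quotient.mk I)).toAlgebra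
  haveI : IsScalarTower R (R ⧸ I) A₀ := IsScalarTower.of_algebraMap_eq (fun r => rfl)
  obtain ⟨n, ρ, P₀, hfin, mm, incl, proj, x, a, hρsurj, hfgB, hpi, hip, hxJ, hC2, hC4⟩ :=
    exists_prep I h
  set J : Ideal (MvPolynomial (Fin n) R) := RingHom.ker ρ with hJ
  have hIJ : I.map (algebraMap R (MvPolynomial (Fin n) R)) ≤ J := map_le_ker I ρ
  have hidem : (a.map ρ) * (a.map ρ) = a.map ρ := by
    apply Matrix.toLin'.injective
    rw [Matrix.toLin'_mul, ← hip]
    calc (incl ∘ₗ proj) ∘ₗ (incl ∘ₗ proj) = incl ∘ₗ (proj ∘ₗ incl) ∘ₗ proj := rfl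
      _ = incl ∘ₗ proj := by rw [hpi]; rfl
  have hC1 : ∀ i j, (a * a - a) i j ∈ J := by
    intro i j
    rw [hJ, RingHom.mem_ker]
    have h0 : (a * a - a).map ρ = 0 := by
      rw [Matrix.map_sub (f := ρ) (fun x y => map_sub _ x y), Matrix.map_mul, hidem, sub_self]
    exact congrFun (congrFun h0 i) j
  set 𝔠 : Ideal (MvPolynomial (Fin n) R) :=
    J ^ 2 ⊔ I.map (algebraMap R (MvPolynomial (Fin n) R)) with h𝔠
  have h𝔠J : 𝔠 ≤ J := sup_le (Ideal.pow_le_self two_ne_zero) hIJ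
  -- étale neighbourhood
  obtain ⟨B', _, _, hBet, hbij, E, hEE, hEa⟩ :=
    Groth.Agent.Helper3.EtProj.matrix_idem_etale J mm a hC1
  let φ : MvPolynomial (Fin n) R →+* B' := algebraMap (MvPolynomial (Fin n) R) B'
  set J' : Ideal B' := J.map φ with hJ'
  letI : Algebra R B' := (φ.comp (algebraMap R (MvPolynomial (Fin n) R))).toAlgebra
  haveI : IsScalarTower R (MvPolynomial (Fin n) R) B' := IsScalarTower.of_algebraMap_eq (fun r => rfl)
  haveI : Algebra.Smooth R (MvPolynomial (Fin n) R) := ⟨inferInstance, inferInstance⟩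
  haveI : Algebra.Smooth R B' := Algebra.Smooth.comp R (MvPolynomial (Fin n) R) B'
  have hinjφ : ∀ b, φ b ∈ J' → b ∈ J := by
    intro b hb
    rw [← Ideal.Quotient.eq_zero_iff_mem]
    apply hbij.1
    rw [map_zero]
    show Ideal.Quotient.mk J' (φ b) = 0
    exact Ideal.Quotient.eq_zero_iff_mem.mpr hb
  have hsurjφ : ∀ b' : B', ∃ b, φ b - b' ∈ J' := by
    intro b'
    obtain ⟨y, hy⟩ := hbij.2 (Ideal.Quotient.mk J' b')
    obtain ⟨b, rfl⟩ := Ideal.Quotient.mk_surjective y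
    refine ⟨b, ?_⟩
    rw [← Ideal.Quotient.eq]
    exact hy
  -- the map ρ'
  let e₁ : (MvPolynomial (Fin n) R ⧸ J) ≃+* (B' ⧸ J') := RingEquiv.ofBijective _ hbij
  have he₁ : ∀ b, e₁ (Ideal.Quotient.mk J b) = Ideal.Quotient.mk J' (φ b) := fun _ => rfl
  let ρr : MvPolynomial (Fin n) R →+* A₀ := ρ.toRingHom
  have hρrsurj : Function.Surjective ρr := hρsurj
  let e₂ : (MvPolynomial (Fin n) R ⧸ J) ≃+* A₀ := RingHom.quotientKerEquivOfSurjective hρrsurj
  have he₂ : ∀ b, e₂ (Ideal.Quotient.mk J b) = ρ b := fun b =>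
    RingHom.quotientKerEquivOfSurjective_apply_mk hρrsurj b
  let ρ'₀ : B' →+* A₀ :=
    e₂.toRingHom.comp (e₁.symm.toRingHom.comp (Ideal.Quotient.mk J'))
  have hρ'₀ : ∀ b', ρ'₀ b' = e₂ (e₁.symm (Ideal.Quotient.mk J' b')) := fun _ => rfl
  have hρ'φ : ∀ b, ρ'₀ (φ b) = ρ b := by
    intro b
    rw [hρ'₀, ← he₁, RingEquiv.symm_apply_apply, he₂]
  let ρ' : B' →ₐ[R] A₀ :=
    { ρ'₀ with
      commutes' := fun r => by
        show ρ'₀ (φ (algebraMap R _ r)) = _
        rw [hρ'φ, ρ.commutes] }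
  have hρ'eq : ∀ b', ρ' b' = ρ'₀ b' := fun _ => rfl
  have hkerρ' : RingHom.ker ρ' = J' := by
    ext b'
    rw [RingHom.mem_ker, hρ'eq, hρ'₀, map_eq_zero_iff _ e₂.injective,
      map_eq_zero_iff _ e₁.symm.injective, Ideal.Quotient.eq_zero_iff_mem]
  have hρ'surj : Function.Surjective ρ' := by
    intro a₀
    obtain ⟨b, rfl⟩ := hρsurj a₀
    exact ⟨φ b, hρ'φ b⟩
  have hφR : φ.comp (algebraMap R (MvPolynomial (Fin n) R)) = algebraMap R B' := rfl
  have hImap : (I.map (algebraMap R (MvPolynomial (Fin n) R))).map φ = I.map (algebraMap R B') := by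
    rw [Ideal.map_map, hφR]
  set 𝔠' : Ideal B' := J' ^ 2 ⊔ I.map (algebraMap R B') with h𝔠'
  have h𝔠map : 𝔠.map φ = 𝔠' := by
    rw [h𝔠, Ideal.map_sup, Ideal.map_pow, hImap]
  have hJ'2 : ∀ p ∈ J', ∀ q ∈ J', p * q ∈ 𝔠' := by
    intro p hp q hq
    apply le_sup_left (α := Ideal B')
    rw [pow_two]
    exact Ideal.mul_mem_mul hp hq
  have hfg' : ∃ s : Finset B', RingHom.ker ρ' = Ideal.span (s : Set B') ⊔
      I.map (algebraMap R B') := by
    obtain ⟨s, hs⟩ := hfgB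
    refine ⟨s.image φ, ?_⟩
    rw [hkerρ', hJ', hs, Ideal.map_sup, Ideal.map_span, hImap, Finset.coe_image]
  -- the module P' and the map θ
  let P' : Submodule B' (Fin mm → B') := LinearMap.range (Matrix.toLin' E)
  let θfull : (Fin mm → B') →ₗ[B'] B' :=
    { toFun := fun v => ∑ k, v k * φ (x k)
      map_add' := fun v w => by
        rw [← Finset.sum_add_distrib]
        exact Finset.sum_congr rfl fun k _ => by rw [Pi.add_apply, add_mul]
      map_smul' := fun c v => by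
        rw [RingHom.id_apply, smul_eq_mul, Finset.mul_sum]
        exact Finset.sum_congr rfl fun k _ => by rw [Pi.smul_apply, smul_eq_mul, mul_assoc] }
  let θ : P' →ₗ[B'] B' := θfull ∘ₗ P'.subtype
  have hθ : ∀ v : P', θ v = ∑ k, (v : Fin mm → B') k * φ (x k) := fun _ => rfl
  have hφxJ' : ∀ k, φ (x k) ∈ J' := fun k => Ideal.mem_map_of_mem _ (hxJ k)
  have hEaJ' : ∀ k l, E k l - φ (a k l) ∈ J' := fun k l => hEa k l
  have hd : ∀ l, φ (x l) - ∑ k, E k l * φ (x k) ∈ 𝔠' := by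
    intro l
    have e : φ (x l) - ∑ k, E k l * φ (x k) = φ (x l - ∑ k, a k l * x k) -
        ∑ k, (E k l - φ (a k l)) * φ (x k) := by
      rw [map_sub, map_sum]
      simp only [map_mul, sub_mul, Finset.sum_sub_distrib]
      ring
    rw [e]
    refine 𝔠'.sub_mem ?_ (Ideal.sum_mem _ fun k _ => hJ'2 _ (hEaJ' k l) _ (hφxJ' k))
    rw [← h𝔠map]
    exact Ideal.mem_map_of_mem _ (hC2 l)
  let 𝔞 : Ideal B' := LinearMap.range θ
  have h𝔞J : 𝔞 ≤ RingHom.ker ρ' := by
    rintro _ ⟨v, rfl⟩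
    rw [RingHom.mem_ker, hθ, map_sum]
    refine Finset.sum_eq_zero fun k _ => ?_
    rw [map_mul, hρ'eq (φ (x k)), hρ'φ]
    have : ρ (x k) = 0 := hxJ k
    rw [this, mul_zero]
  have hsurj : ∀ y' ∈ RingHom.ker ρ', ∃ a' ∈ 𝔞,
      y' - a' ∈ (RingHom.ker ρ') ^ 2 ⊔ I.map (algebraMap R B') := by
    intro y' hy'
    rw [hkerρ'] at hy' ⊢
    have h1 : J' ≤ Ideal.span (Set.range (φ ∘ x)) ⊔ 𝔠' := by
      rw [hJ', ← h𝔠map, Set.range_comp, ← Ideal.map_span, ← Ideal.map_sup]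
      exact Ideal.map_mono hC4
    obtain ⟨u, hu, c', hc', rfl⟩ := Submodule.mem_sup.mp (h1 hy')
    obtain ⟨b, rfl⟩ := Ideal.mem_span_range_iff_exists_fun.mp hu
    refine ⟨θ ⟨Matrix.toLin' E b, ⟨b, rfl⟩⟩, ⟨_, rfl⟩, ?_⟩
    have e : (∑ l, b l * (φ ∘ x) l + c') -
        θ ⟨Matrix.toLin' E b, ⟨b, rfl⟩⟩ = c' + ∑ l, b l * (φ (x l) - ∑ k, E k l * φ (x k)) := by
      rw [hθ]
      show (∑ l, b l * φ (x l) + c') - ∑ k, (Matrix.toLin' E b) k * φ (x k) = _
      have e2 : ∑ k, (Matrix.toLin' E b) k * φ (x k) = ∑ l, b l * ∑ k, E k l * φ (x k) := by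
        simp only [Matrix.toLin'_apply, Matrix.mulVec, dotProduct, Finset.sum_mul, Finset.mul_sum]
        rw [Finset.sum_comm]
        refine Finset.sum_congr rfl fun l _ => Finset.sum_congr rfl fun k _ => ?_
        ring
      rw [e2]
      simp only [mul_sub, Finset.sum_sub_distrib]
      ring
    rw [e]
    exact 𝔠'.add_mem hc' (Ideal.sum_mem _ fun l _ => Ideal.mul_mem_left _ _ (hd l))
  obtain ⟨g₂, hg₂, hg₂J⟩ := exists_nakayama I ρ' hfg' 𝔞 h𝔞J hsurj
  haveI : Algebra.FinitePresentation R B' := Algebra.Smooth.finitePresentation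
  refine exists_syntomic_lift_of_loc I ρ' hρ'surj hfg' 𝔞 h𝔞J hsurj ?_
  intro x₀
  -- local analysis at `x₀`
  let q' : PrimeSpectrum B' := PrimeSpectrum.comap ρ'.toRingHom x₀
  let κ := q'.asIdeal.ResidueField
  have hkerκB : RingHom.ker (algebraMap B' κ) = q'.asIdeal := Ideal.ker_algebraMap_residueField _
  have hkerle : RingHom.ker ρ'.toRingHom ≤ RingHom.ker (algebraMap B' κ) := by
    rw [hkerκB]
    intro b hb
    show ρ' b ∈ x₀.asIdeal
    have : ρ' b = 0 := hb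
    rw [this]
    exact Ideal.zero_mem _
  let ψ : A₀ →+* κ := RingHom.liftOfSurjective ρ'.toRingHom hρ'surj ⟨algebraMap B' κ, hkerle⟩
  letI : Algebra A₀ κ := ψ.toAlgebra
  have hcomp : (algebraMap A₀ κ).comp ρ'.toRingHom = algebraMap B' κ :=
    RingHom.liftOfSurjective_comp ρ'.toRingHom hρ'surj ⟨algebraMap B' κ, hkerle⟩
  have hkerκ : RingHom.ker (algebraMap A₀ κ) = x₀.asIdeal := by
    ext a₀
    obtain ⟨b, rfl⟩ := hρ'surj a₀
    rw [RingHom.mem_ker]
    have h1 : algebraMap A₀ κ (ρ' b) = algebraMap B' κ b := DFunLike.congr_fun hcomp b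
    rw [h1, ← RingHom.mem_ker, hkerκB]
    rfl
  obtain ⟨c, p, fq, hc, hfq, hgen⟩ := exists_local_generators (P := P') q'
  have hEρ : E.map ρ'.toRingHom = a.map ρ := by
    ext k l
    rw [Matrix.map_apply, Matrix.map_apply]
    have h1 : ρ' (E k l - φ (a k l)) = 0 := by
      have := hEaJ' k l
      rw [← hkerρ'] at this
      exact this
    rw [map_sub, sub_eq_zero, hρ'eq (φ (a k l)), hρ'φ] at h1
    exact h1
  have hrank := finrank_retract_eq ρ'.toRingHom hcomp mm E hEE incl proj hpi (hEρ ▸ hip)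
  obtain ⟨hle, hdim⟩ := fibreDimAt_of_rank h P₀ κ x₀ hkerκ
  rw [Fintype.card_fin] at hle hdim
  have hF := fibreDimAt_quot_data I ρ' hρ'surj 𝔞 h𝔞J g₂ hg₂ hg₂J x₀
  have hcn : c ≤ n := by
    rw [hc, hrank]
    exact hle
  refine syntAt_cut 𝔞 n c hcn (fun i => θ (p i)) (fun i => ⟨p i, rfl⟩) fq ?_ _ ?_
    (fun y => fibreDimAt_etale_mvPolynomial R n B' y) ?_
  · rintro _ ⟨y, rfl⟩
    have h1 : fq * θ y = θ (fq • y) := by rw [map_smul, smul_eq_mul]
    rw [h1]
    have h2 : Ideal.span (Set.range fun i => θ (p i)) =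
        Submodule.map θ (Submodule.span B' (Set.range p)) := by
      rw [Submodule.map_span, ← Set.range_comp]
      rfl
    rw [h2]
    exact Submodule.mem_map_of_mem (hgen y)
  · show ρ' fq ∉ x₀.asIdeal
    exact hfq
  · rw [hF, hdim, hc, hrank]
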