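import Mathlib

set_option autoImplicit false
set_option linter.style.haveILetI false
set_option linter.unusedSectionVars false
set_option linter.unusedVariables false
set_option linter.deprecated false
set_option linter.style.haveILetI false
set_option linter.unusedSectionVars false
set_option linter.unusedVariables false

universe u v w

namespace Groth.Agent.Helper3.TameSep1

open IsLocalRing KaehlerDifferential TensorProduct

/-- the map on differentials to the residue field kills `m • Ω` -/
theorem map_residue_smul_top (k B : Type u) [Field k] [CommRing B] [IsLocalRing B] [Algebra k B]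
    (η : Ω[B⁄k]) (hη : η ∈ (maximalIdeal B) • (⊤ : Submodule B Ω[B⁄k])) :
    KaehlerDifferential.map k k B (ResidueField B) η = 0 := by
  induction hη using Submodule.smul_induction_on' with
  | smul b hb ω' _ =>
    rw [map_smul, algebra_compatible_smul (ResidueField B) b]
    have : algebraMap B (ResidueField B) b = 0 := by
      rw [IsLocalRing.ResidueField.algebraMap_eq, IsLocalRing.residue_eq_zero_iff]
      exact hb
    rw [this, zero_smul]
  | add x _ y _ hx hy => rw [map_add, hx, hy, add_zero]

theorem alg_main (k A B : Type u) [Field k] [CommRing A] [CommRing B] [IsLocalRing A]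
    [IsLocalRing B] [Algebra k A] [Algebra k B] [Algebra A B] [IsScalarTower k A B]
    [IsLocalHom (algebraMap A B)]
    [Algebra.EssFiniteType k A] [Algebra.EssFiniteType k B]
    [IsNoetherianRing B]
    (hcyc : ∃ ω : Ω[B⁄k], Submodule.span B {ω} = ⊤)
    (hm : maximalIdeal B ≠ ⊥) (e : ℕ) (h2 : 2 ≤ e)
    (he : (maximalIdeal A).map (algebraMap A B) = maximalIdeal B ^ e)
    [Algebra.IsSeparable (ResidueField A) (ResidueField B)] :
    Algebra.IsSeparable k (ResidueField B) := by
  haveI : Algebra.EssFiniteType A B := Algebra.EssFiniteType.of_comp k A B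
  -- (a) B is not formally unramified over A
  have hnu : ¬ Algebra.FormallyUnramified A B := by
    intro hu
    have h1 := Algebra.FormallyUnramified.map_maximalIdeal (R := A) (S := B)
    rw [he] at h1
    apply hm
    have hle : maximalIdeal B ≤ maximalIdeal B • maximalIdeal B := by
      calc maximalIdeal B = maximalIdeal B ^ e := h1.symm
        _ ≤ maximalIdeal B ^ 2 := Ideal.pow_le_pow_right h2
        _ = maximalIdeal B • maximalIdeal B := by rw [pow_two, smul_eq_mul]
    exact Submodule.eq_bot_of_le_smul_of_le_jacobson_bot (maximalIdeal B) (maximalIdeal B)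
      (IsNoetherian.noetherian _) hle (IsLocalRing.maximalIdeal_le_jacobson _)
  -- (c) the kernel of Ω[B/k] → Ω[B/A] lies in m • Ω
  obtain ⟨ω, hω⟩ := hcyc
  have hker : ∀ η : Ω[B⁄k], KaehlerDifferential.map k A B B η = 0 →
      η ∈ (maximalIdeal B) • (⊤ : Submodule B Ω[B⁄k]) := by
    intro η hη
    have hηω : η ∈ Submodule.span B {ω} := by rw [hω]; trivial
    obtain ⟨b, rfl⟩ := Submodule.mem_span_singleton.mp hηω
    by_cases hb : b ∈ maximalIdeal B
    · exact Submodule.smul_mem_smul hb trivial
    · exfalso
      have hbu : IsUnit b := by
        by_contra hnb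
        exact hb ((IsLocalRing.mem_maximalIdeal b).mpr hnb)
      have hω0 : KaehlerDifferential.map k A B B ω = 0 := by
        rw [map_smul] at hη
        exact (hbu.smul_eq_zero).mp hη
      apply hnu
      rw [Algebra.formallyUnramified_iff]
      refine ⟨fun x y => ?_⟩
      have hall : ∀ z : Ω[B⁄A], z = 0 := by
        intro z
        obtain ⟨z', rfl⟩ := KaehlerDifferential.map_surjective k A B z
        have hz' : z' ∈ Submodule.span B {ω} := by rw [hω]; trivial
        obtain ⟨c, rfl⟩ := Submodule.mem_span_singleton.mp hz'
        rw [map_smul, hω0, smul_zero]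
      rw [hall x, hall y]
  -- (d) differentials of images of A vanish in Ω[κ_B/k]
  have hD : ∀ a : A, D k (ResidueField B) (algebraMap (ResidueField A) (ResidueField B)
      (residue A a)) = 0 := by
    intro a
    have h1 : KaehlerDifferential.map k A B B (D k B (algebraMap A B a)) = 0 := by
      rw [KaehlerDifferential.map_D]
      simp
    have h2 := map_residue_smul_top k B _ (hker _ h1)
    rw [KaehlerDifferential.map_D] at h2
    have e1 : algebraMap (ResidueField A) (ResidueField B) (residue A a) =
        algebraMap B (ResidueField B) (algebraMap A B a) := by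
      rw [IsLocalRing.ResidueField.algebraMap_eq]
      rfl
    rw [e1]
    exact h2
  -- (e) Ω[κ_A/k] = 0
  haveI : Algebra.FormallyEtale (ResidueField A) (ResidueField B) :=
    Algebra.FormallyEtale.of_isSeparable _ _
  have hDA : ∀ ā : ResidueField A, D k (ResidueField A) ā = 0 := by
    intro ā
    obtain ⟨a, rfl⟩ := IsLocalRing.residue_surjective ā
    have h1 : (tensorKaehlerEquivOfFormallyEtale k (ResidueField A) (ResidueField B))
        ((1 : ResidueField B) ⊗ₜ[ResidueField A] D k (ResidueField A) (residue A a)) = 0 := by
      rw [tensorKaehlerEquivOfFormallyEtale_apply, mapBaseChange_tmul, one_smul,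
        KaehlerDifferential.map_D]
      exact hD a
    have h2 : (1 : ResidueField B) ⊗ₜ[ResidueField A] D k (ResidueField A) (residue A a) = 0 :=
      (tensorKaehlerEquivOfFormallyEtale k (ResidueField A) (ResidueField B)).injective
        (h1.trans (map_zero _).symm)
    have h3 := Module.Flat.tensorProduct_mk_injective (R := ResidueField A) (S := ResidueField B)
      (M := Ω[ResidueField A⁄k])
    apply h3
    rw [map_zero]
    exact h2
  haveI : Algebra.FormallyUnramified k (ResidueField A) := by
    rw [Algebra.formallyUnramified_iff]
    refine ⟨fun x y => ?_⟩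
    have hall : ∀ z : Ω[ResidueField A⁄k], z = 0 := by
      intro z
      have hz : z ∈ Submodule.span (ResidueField A) (Set.range (D k (ResidueField A))) := by
        rw [KaehlerDifferential.span_range_derivation]; trivial
      refine Submodule.span_induction ?_ rfl ?_ ?_ hz
      · rintro _ ⟨ā, rfl⟩; exact hDA ā
      · intro x y _ _ hx hy; rw [hx, hy, add_zero]
      · intro c x _ hx; rw [hx, smul_zero]
    rw [hall x, hall y]
  haveI : Algebra.EssFiniteType k (ResidueField A) := by
    haveI : Algebra.FiniteType A (ResidueField A) :=
      Algebra.FiniteType.of_surjective (Algebra.ofId A (ResidueField A))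
        (by
          intro x
          obtain ⟨a, rfl⟩ := IsLocalRing.residue_surjective x
          exact ⟨a, rfl⟩)
    exact Algebra.EssFiniteType.comp k A (ResidueField A)
  haveI : Algebra.IsSeparable k (ResidueField A) :=
    Algebra.FormallyUnramified.isSeparable k (ResidueField A)
  exact Algebra.IsSeparable.trans k (ResidueField A) (ResidueField B)

end Groth.Agent.Helper3.TameSep1
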