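import Mathlib
import Groth.Prelude.Def_CurvBase
import Groth.Agent.Helper3.TameSep2
import Groth.Agent.Helper5.SmRelDim1
import Groth.Agent.Helper5.FtDim8

set_option autoImplicit false
set_option linter.style.haveILetI false
set_option linter.unusedSectionVars false
set_option linter.unusedVariables false
set_option linter.deprecated false
set_option linter.style.haveILetI false
set_option linter.unusedSectionVars false
set_option linter.unusedVariables false

universe u v w

namespace Groth.Agent.Helper3.TameSep3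

open AlgebraicGeometry CategoryTheory IsLocalRing KaehlerDifferential TensorProduct
open Groth.Agent.Helper3.TameSep2

attribute [local instance] Curv2.stalkAlgebra

/-- local rings of a smooth curve over `k`: essentially of finite type, cyclic differentials -/
theorem stalk_facts (k : Type u) [Field k] (X : Scheme.{u})
    [X.Over (Spec (CommRingCat.of k))]
    [SmoothOfRelativeDimension 1 (X ↘ Spec (CommRingCat.of k))] (x : X) :
    Algebra.EssFiniteType k (X.presheaf.stalk x) ∧
      ∃ ω : Ω[X.presheaf.stalk x⁄k], Submodule.span (X.presheaf.stalk x) {ω} = ⊤ := by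
  obtain ⟨V, hV, hxV, hstd⟩ := exists_chart k X x
  letI algS : Algebra k Γ(X, V) := (secMap k X V).toAlgebra
  haveI hstd' : Algebra.IsStandardSmoothOfRelativeDimension 1 k Γ(X, V) := hstd
  letI algSB : Algebra Γ(X, V) (X.presheaf.stalk x) := X.presheaf.algebra_section_stalk ⟨x, hxV⟩
  haveI loc : IsLocalization.AtPrime (X.presheaf.stalk x) (hV.primeIdealOf ⟨x, hxV⟩).asIdeal :=
    hV.isLocalization_stalk ⟨x, hxV⟩
  haveI tower : IsScalarTower k Γ(X, V) (X.presheaf.stalk x) :=
    IsScalarTower.of_algebraMap_eq (fun r => (germ_secMap k X V x hxV r).symm)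
  haveI : Algebra.IsStandardSmooth k Γ(X, V) := hstd'.isStandardSmooth
  haveI : Algebra.FiniteType k Γ(X, V) := inferInstance
  haveI : Algebra.EssFiniteType Γ(X, V) (X.presheaf.stalk x) :=
    Algebra.EssFiniteType.of_isLocalization _ (hV.primeIdealOf ⟨x, hxV⟩).asIdeal.primeCompl
  refine ⟨Algebra.EssFiniteType.comp k Γ(X, V) (X.presheaf.stalk x), ?_⟩
  haveI : Nontrivial Γ(X, V) := (algebraMap Γ(X, V) (X.presheaf.stalk x)).domain_nontrivial
  have hrank : Module.rank Γ(X, V) Ω[Γ(X, V)⁄k] = 1 := by
    have := Algebra.IsStandardSmoothOfRelativeDimension.rank_kaehlerDifferential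
      (R := k) (S := Γ(X, V)) 1
    simpa using this
  obtain ⟨ω₀, hω₀⟩ := (Module.rank_le_one_iff_top_isPrincipal (K := Γ(X, V))
    (V := Ω[Γ(X, V)⁄k])).mp hrank.le
  refine ⟨KaehlerDifferential.map k k Γ(X, V) (X.presheaf.stalk x) ω₀, ?_⟩
  rw [eq_top_iff, ← span_range_map_derivation_of_isLocalization k Γ(X, V) (X.presheaf.stalk x)
    (hV.primeIdealOf ⟨x, hxV⟩).asIdeal.primeCompl, Submodule.span_le]
  rintro _ ⟨s, rfl⟩
  have hs : D k Γ(X, V) s ∈ Submodule.span Γ(X, V) {ω₀} := by rw [← hω₀]; trivial
  obtain ⟨c, hc⟩ := Submodule.mem_span_singleton.mp hs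
  simp only [Function.comp_apply, SetLike.mem_coe]
  rw [← hc, map_smul, algebra_compatible_smul (X.presheaf.stalk x) c]
  exact Submodule.smul_mem _ _ (Submodule.mem_span_singleton_self _)

/-- the local ring at a closed point of a smooth curve is not a field -/
theorem maximalIdeal_ne_bot (k : Type u) [Field k] (X : Scheme.{u})
    [X.Over (Spec (CommRingCat.of k))]
    [SmoothOfRelativeDimension 1 (X ↘ Spec (CommRingCat.of k))] (x : X)
    (hx : IsClosed ({x} : Set X)) :
    maximalIdeal (X.presheaf.stalk x) ≠ ⊥ := by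
  intro hbot
  obtain ⟨V, hV, hxV, hstd⟩ := exists_chart k X x
  letI algS : Algebra k Γ(X, V) := (secMap k X V).toAlgebra
  haveI hstd' : Algebra.IsStandardSmoothOfRelativeDimension 1 k Γ(X, V) := hstd
  haveI : Algebra.IsStandardSmooth k Γ(X, V) := hstd'.isStandardSmooth
  haveI : Algebra.FiniteType k Γ(X, V) := inferInstance
  letI algSB : Algebra Γ(X, V) (X.presheaf.stalk x) := X.presheaf.algebra_section_stalk ⟨x, hxV⟩
  haveI loc : IsLocalization.AtPrime (X.presheaf.stalk x) (hV.primeIdealOf ⟨x, hxV⟩).asIdeal :=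
    hV.isLocalization_stalk ⟨x, hxV⟩
  set q : PrimeSpectrum Γ(X, V) := hV.primeIdealOf ⟨x, hxV⟩ with hq
  have hqx : hV.fromSpec q = x := hV.fromSpec_primeIdealOf ⟨x, hxV⟩
  set fX := X ↘ Spec (CommRingCat.of k) with hfX
  -- local dimension is one
  have h1 : FlatMor.fibreDimAt fX x = ((1 : ℕ) : WithBot ℕ∞) :=
    Groth.Agent.Helper5.SmRelDim.s2768 1 fX x
  have h2 := Groth.Agent.Helper5.EtLoc.fibreDimAt_eq_localDim_preimage fX x
  have huniv : (fX ⁻¹' {fX x} : Set X) = Set.univ := by
    ext z
    haveI : Subsingleton (Spec (CommRingCat.of k)) :=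
      inferInstanceAs (Subsingleton (PrimeSpectrum k))
    simp only [Set.mem_preimage, Set.mem_singleton_iff, Set.mem_univ, iff_true]
    exact Subsingleton.elim _ _
  have hopen : IsOpen (fX ⁻¹' {fX x} : Set X) := by rw [huniv]; exact isOpen_univ
  have h3 := Groth.Agent.Helper5.EtLoc.localDim_of_isOpenEmbedding
    (Subtype.val : ↥(fX ⁻¹' {fX x} : Set X) → X) hopen.isOpenEmbedding_subtypeVal ⟨x, rfl⟩
  have h4 := Groth.Agent.Helper5.EtLoc.localDim_of_isOpenEmbedding
    (hV.fromSpec : Spec Γ(X, V) → X) hV.fromSpec.isOpenEmbedding q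
  rw [hqx] at h4
  have h5 := Groth.Agent.Helper5.FtDim.localDim_eq k Γ(X, V) q
  -- height and coheight vanish
  have hqmax : q.asIdeal.IsMaximal := by
    rw [← PrimeSpectrum.isClosed_singleton_iff_isMaximal]
    have : ({q} : Set (PrimeSpectrum Γ(X, V))) = (hV.fromSpec : Spec Γ(X, V) → X) ⁻¹' {x} := by
      ext z
      simp only [Set.mem_singleton_iff, Set.mem_preimage]
      constructor
      · rintro rfl; exact hqx
      · intro hz
        exact hV.fromSpec.isOpenEmbedding.injective (hz.trans hqx.symm)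
    rw [this]
    exact hx.preimage hV.fromSpec.continuous
  have hco : Order.coheight q = 0 := Order.coheight_eq_zero.mpr (PrimeSpectrum.isMax_iff.mpr hqmax)
  have hfield : IsField (X.presheaf.stalk x) := IsLocalRing.isField_iff_maximalIdeal_eq.mpr hbot
  have hdim0 : ringKrullDim (X.presheaf.stalk x) = 0 := ringKrullDim_eq_zero_of_isField hfield
  have hht : Order.height q = 0 := by
    have := IsLocalization.AtPrime.ringKrullDim_eq_height q.asIdeal (X.presheaf.stalk x)
    rw [hdim0, PrimeSpectrum.height_eq_orderHeight] at this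
    exact_mod_cast this.symm
  rw [hco, hht] at h5
  -- contradiction
  have : ((1 : ℕ) : WithBot ℕ∞) = ((0 + 0 : ℕ∞) : WithBot ℕ∞) := by
    rw [← h1, h2, h3, ← h4]
    exact h5
  simp at this

end Groth.Agent.Helper3.TameSep3
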