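import Mathlib
import Groth.Prelude.Def_CurvBase
import Groth.Agent.Helper3.TameSep1
import Groth.Agent.Helper3.TameSep3

set_option autoImplicit false
set_option linter.style.haveILetI false
set_option linter.unusedSectionVars false
set_option linter.unusedVariables false
set_option linter.deprecated false
set_option linter.style.haveILetI false
set_option linter.unusedSectionVars false
set_option linter.unusedVariables false

universe u v w

namespace Groth.Agent.Helper3.TameSep4

open AlgebraicGeometry CategoryTheory IsLocalRing KaehlerDifferential TensorProduct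
open Groth.Agent.Helper3.TameSep2 Groth.Agent.Helper3.TameSep3

attribute [local instance] Curv2.resAlgebra

theorem s16548 (k : Type u) [Field k]
    (X Y : Scheme.{u}) [X.Over (Spec (CommRingCat.of k))] [Y.Over (Spec (CommRingCat.of k))]
    [SmoothOfRelativeDimension 1 (X ↘ Spec (CommRingCat.of k))]
    [SmoothOfRelativeDimension 1 (Y ↘ Spec (CommRingCat.of k))]
    (f : X ⟶ Y) [IsFinite f] (hf : f ≫ (Y ↘ Spec (CommRingCat.of k)) = X ↘ Spec (CommRingCat.of k))
    (x : X) (hx : IsClosed ({x} : Set X)) (e : ℕ)
    (he : (IsLocalRing.maximalIdeal (Y.presheaf.stalk (f.base x))).map (f.stalkMap x).hom =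
      IsLocalRing.maximalIdeal (X.presheaf.stalk x) ^ e)
    (h2 : 2 ≤ e) (hp : ¬ ringChar k ∣ e)
    (hsep : @Algebra.IsSeparable (Y.residueField (f.base x)) (X.residueField x) _ _
      (f.residueFieldMap x).hom.toAlgebra) :
    Algebra.IsSeparable k (X.residueField x) := by
  letI algA : Algebra k (Y.presheaf.stalk (f x)) := Curv2.stalkAlgebra k Y (f x)
  letI algB : Algebra k (X.presheaf.stalk x) := Curv2.stalkAlgebra k X x
  letI algAB : Algebra (Y.presheaf.stalk (f x)) (X.presheaf.stalk x) :=
    (f.stalkMap x).hom.toAlgebra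
  haveI tower : IsScalarTower k (Y.presheaf.stalk (f x)) (X.presheaf.stalk x) :=
    IsScalarTower.of_algebraMap_eq (fun r => (stalkMap_comp k X Y f hf x r).symm)
  haveI hloc : IsLocalHom (algebraMap (Y.presheaf.stalk (f x)) (X.presheaf.stalk x)) :=
    inferInstanceAs (IsLocalHom (f.stalkMap x).hom)
  obtain ⟨hessA, -⟩ := stalk_facts k Y (f x)
  obtain ⟨hessB, hcyc⟩ := stalk_facts k X x
  haveI := hessA
  haveI := hessB
  haveI : IsNoetherianRing (X.presheaf.stalk x) :=
    Algebra.EssFiniteType.isNoetherianRing k (X.presheaf.stalk x)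
  have hm := maximalIdeal_ne_bot k X x hx
  haveI hsep' : Algebra.IsSeparable (ResidueField (Y.presheaf.stalk (f x)))
      (ResidueField (X.presheaf.stalk x)) := by
    have hinst2 : @Eq (Algebra (ResidueField (Y.presheaf.stalk (f x)))
        (ResidueField (X.presheaf.stalk x))) IsLocalRing.ResidueField.instAlgebra
        ((f.residueFieldMap x).hom.toAlgebra) := by
      refine Algebra.algebra_ext _ _ (fun r => ?_)
      obtain ⟨a, rfl⟩ := IsLocalRing.residue_surjective r
      rw [IsLocalRing.ResidueField.algebraMap_residue]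
      rfl
    rw [hinst2]
    exact hsep
  have key := Groth.Agent.Helper3.TameSep1.alg_main k (Y.presheaf.stalk (f x))
    (X.presheaf.stalk x) hcyc hm e h2 he
  have hinst : (IsLocalRing.ResidueField.algebra _ : Algebra k (ResidueField (X.presheaf.stalk x))) =
      Curv2.resAlgebra k X x := Algebra.algebra_ext _ _ (fun r => rfl)
  rw [← hinst]
  exact key

end Groth.Agent.Helper3.TameSep4
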