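import Mathlib
import Groth.Prelude

set_option autoImplicit false
set_option linter.style.haveILetI false
set_option linter.unusedSectionVars false
set_option linter.unusedVariables false
set_option linter.deprecated false
set_option linter.style.haveILetI false
set_option linter.unusedSectionVars false
set_option linter.unusedVariables false

universe u
open CategoryTheory CategoryTheory.Limits MonoidalCategory CartesianMonoidalCategory MonObj
  AlgebraicGeometry IsLocalRing

namespace Groth.Agent.Helper3.TateIsog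

open AbDual

section
variable {S : Scheme.{u}} {A C : Over S} [GrpObj A] [IsCommMonObj A] [GrpObj C] [IsCommMonObj C]
  {l : ℕ} {T : Over S}

lemma iter (z : TateMod C l T) (a m : ℕ) :
    (l ^ a) • (z : ℕ → Additive (T ⟶ C)) (m + a) = (z : ℕ → Additive (T ⟶ C)) m := by
  induction a with
  | zero => simp
  | succ a ih =>
    rw [pow_succ, mul_smul, ← add_assoc, z.compat, ih]

lemma eq_zero_of_nsmul (hl : l.Prime) (z : TateMod C l T) (n : ℕ) (hn : 0 < n)
    (h : ∀ m, n • (z : ℕ → Additive (T ⟶ C)) m = 0) : z = 0 := by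
  apply TateMod.ext
  intro m
  show _ = 0
  rw [← iter z n m]
  set w := (z : ℕ → Additive (T ⟶ C)) (m + n) with hw
  have h1 : addOrderOf w ∣ n := addOrderOf_dvd_of_nsmul_eq_zero (h _)
  have h2 : addOrderOf w ∣ l ^ (m + n) := addOrderOf_dvd_of_nsmul_eq_zero (z.torsion _)
  obtain ⟨j, hj, hj2⟩ := (Nat.dvd_prime_pow hl).1 h2
  have h3 : j ≤ n := by
    have : l ^ j ≤ n := Nat.le_of_dvd hn (hj2 ▸ h1)
    exact le_trans (Nat.lt_pow_self hl.one_lt).le this
  have h4 : addOrderOf w ∣ l ^ n := by
    rw [hj2]; exact pow_dvd_pow _ h3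
  exact addOrderOf_dvd_iff_nsmul_eq_zero.mp h4

lemma tateMap_comp_pow (u : C ⟶ A) [IsMonHom u] (v : A ⟶ C) [IsMonHom v] (n : ℕ)
    (hvu : v ≫ u = (𝟙 A) ^ n) (y : TateMod A l T) :
    tateMap (l := l) (T := T) u (tateMap v y) = n • y := by
  apply TateMod.ext
  intro m
  rw [AddSubgroup.coe_nsmul, Pi.smul_apply]
  show Additive.ofMul ((((y : ℕ → Additive (T ⟶ A)) m).toMul ≫ v) ≫ u) = _
  rw [Category.assoc, hvu, MonObj.comp_pow, Category.comp_id]
  rfl

end

end Groth.Agent.Helper3.TateIsog
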