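import Mathlib
import Groth.Prelude
import Groth.Agent.Helper5.NeutH
import Groth.Agent.Helper5.NeutI
import Groth.Agent.Helper3.TauA
import Groth.Agent.Helper3.NoethConn

set_option autoImplicit false
set_option linter.style.haveILetI false
set_option linter.unusedSectionVars false
set_option linter.unusedVariables false
set_option linter.deprecated false
set_option linter.style.haveILetI false
set_option linter.unusedSectionVars false
set_option linter.unusedVariables false

universe u
open CategoryTheory CategoryTheory.Limits MonoidalCategory CartesianMonoidalCategory MonObj GrpObj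
  AlgebraicGeometry TopologicalSpace Topology

namespace Groth.Agent.Helper3.TauB

open Groth.Agent.Helper5.Neut Groth.Agent.Helper3.CompGrpA

section transl

variable {T : Scheme.{u}} (G' : Over T) [GrpObj G']

theorem sec_hom (b : 𝟙_ (Over T) ⟶ G') (t : T) : G'.hom.base (b.left.base t) = t := by
  have h1 : b.left ≫ G'.hom = 𝟙 T := Over.w b
  rw [← Scheme.Hom.comp_apply, h1]
  rfl

/-- if the values at `t` of two sections lie in the same connected component of the fibre, then
the quotient section passes through the neutral set at `t` -/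
theorem mul_inv_mem (a b : 𝟙_ (Over T) ⟶ G') (t : T)
    (h : b.left.base t ∈ connectedComponentIn (G'.hom.base ⁻¹' {t}) (a.left.base t)) :
    (b * a⁻¹).left.base t ∈ SGA3x.neutralSet G' := by
  have hF : ∀ y ∈ G'.hom.base ⁻¹' {t}, (Rt a⁻¹).left.base y ∈ G'.hom.base ⁻¹' {t} := by
    intro y hy
    show G'.hom.base ((Rt a⁻¹).left.base y) = t
    have h1 : (Rt a⁻¹).left ≫ G'.hom = G'.hom := Over.w (Rt a⁻¹)
    rw [← Scheme.Hom.comp_apply, h1]
    exact hy
  have h1 := NoethConn.map_mem_connectedComponentIn (F := G'.hom.base ⁻¹' {t})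
    (Rt a⁻¹).left.base (Rt a⁻¹).left.continuous hF (sec_hom G' a t) h
  have h2 : (Rt a⁻¹).left.base (a.left.base t) = e G' t := by
    rw [← Scheme.Hom.comp_apply, ← Over.comp_left, point_comp_Rt, mul_inv_cancel,
      ← TauA.eta_eq_one]
  have h3 : (Rt a⁻¹).left.base (b.left.base t) = (b * a⁻¹).left.base t := by
    rw [← Scheme.Hom.comp_apply, ← Over.comp_left, point_comp_Rt]
  rw [h2, h3] at h1
  rw [mem_neutralSet_iff G' (sec_hom G' _ t)]
  exact h1

end transl

section pigeon

/-- infinitely many points of a fibre inside a quasi-compact open subset of a locally Noetherian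
scheme: two of them lie in the same connected component of the fibre -/
theorem exists_lt_mem_connectedComponentIn {X : Scheme.{u}} [IsLocallyNoetherian X]
    (W : X.Opens) (hW : IsCompact (W : Set X)) (F : Set X) (y : ℕ → X)
    (hyW : ∀ j, y j ∈ W) (hyF : ∀ j, y j ∈ F) :
    ∃ i j : ℕ, i < j ∧ y j ∈ connectedComponentIn F (y i) := by
  haveI : CompactSpace ↥(W : Scheme.{u}) := isCompact_iff_compactSpace.mp hW
  haveI : IsNoetherian (W : Scheme.{u}) := ⟨⟩
  haveI : NoetherianSpace ↥W := inferInstanceAs (NoetherianSpace ↥(W : Scheme.{u}))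
  set F' : Set ↥W := Subtype.val ⁻¹' F with hF'
  have hfin := NoethConn.finite_range_connectedComponentIn F'
  let c : ℕ → Set ↥W := fun j => connectedComponentIn F' ⟨y j, hyW j⟩
  have hc : ∀ j, c j ∈ Set.range (fun z : F' => connectedComponentIn F' z.1) := fun j =>
    ⟨⟨⟨y j, hyW j⟩, hyF j⟩, rfl⟩
  obtain ⟨i, j, hij, heq⟩ : ∃ i j : ℕ, i ≠ j ∧ c i = c j := by
    by_contra hne
    push Not at hne
    have hinj : Function.Injective (fun j : ℕ => (⟨c j, hc j⟩ :
        Set.range (fun z : F' => connectedComponentIn F' z.1))) := by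
      intro i j hij
      by_contra h
      exact hne i j h (congrArg Subtype.val hij)
    haveI := hfin.to_subtype
    exact not_injective_infinite_finite _ hinj
  have key : ∀ i j : ℕ, c i = c j → y j ∈ connectedComponentIn F (y i) := by
    intro i j heq
    have h1 : (⟨y j, hyW j⟩ : ↥W) ∈ c i := by
      rw [heq]
      exact mem_connectedComponentIn (hyF j)
    have h2 := (continuous_subtype_val (p := fun x => x ∈ W)).continuousOn.image_connectedComponentIn_subset
      (s := F') (a := ⟨y i, hyW i⟩) (hyF i) ⟨_, h1, rfl⟩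
    have h3 : Subtype.val '' F' ⊆ F := by
      rintro _ ⟨a, ha, rfl⟩
      exact ha
    exact connectedComponentIn_mono _ h3 h2
  rcases lt_or_gt_of_ne hij with h | h
  · exact ⟨i, j, h, key i j heq⟩
  · exact ⟨j, i, h, key j i heq.symm⟩

end pigeon

section bc

variable {S : Scheme.{u}} (G : Over S) [GrpObj G] {T : Scheme.{u}} (h : T ⟶ G.left)

/-- the tautological section of the base change of `G` along `T ⟶ G ⟶ S` -/
noncomputable def sec : 𝟙_ (Over T) ⟶ Red.bc (h ≫ G.hom) G :=
  Over.homMk (pullback.lift h (𝟙 T) (by simp)) (by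
    show pullback.lift h (𝟙 T) _ ≫ pullback.snd G.hom (h ≫ G.hom) = 𝟙 T
    exact pullback.lift_snd _ _ _)

theorem sec_fst : (sec G h).left ≫ pullback.fst G.hom (h ≫ G.hom) = h := by
  unfold sec
  exact pullback.lift_fst _ _ _

/-- powers of sections of the base change compute powers in `G` -/
theorem pow_fst (b : 𝟙_ (Over T) ⟶ Red.bc (h ≫ G.hom) G) (m : ℕ) :
    (b ^ m).left ≫ pullback.fst G.hom (h ≫ G.hom) =
      (b.left ≫ pullback.fst G.hom (h ≫ G.hom)) ≫ ((𝟙 G : G ⟶ G) ^ m).left := by
  have h1 : b ^ m = b ≫ (𝟙 (Red.bc (h ≫ G.hom) G) : Red.bc (h ≫ G.hom) G ⟶ _) ^ m := by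
    rw [MonObj.comp_pow, Category.comp_id]
  have h2 := NerPowA.map_pow_id (h ≫ G.hom) G m
  have h3 := (NerPowA.isPullback_map_left (h ≫ G.hom) ((𝟙 G : G ⟶ G) ^ m)).w
  rw [h1, Over.comp_left, Category.assoc, ← h2, h3, Category.assoc]

theorem pow_sec_apply (m : ℕ) (t : T) :
    (pullback.fst G.hom (h ≫ G.hom)).base (((sec G h) ^ m).left.base t) =
      ((𝟙 G : G ⟶ G) ^ m).left.base (h.base t) := by
  rw [← Scheme.Hom.comp_apply, pow_fst, sec_fst, Scheme.Hom.comp_apply]

end bc

end Groth.Agent.Helper3.TauB
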