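import Mathlib
import Groth.Prelude
import Groth.Agent.Helper3.TauB

set_option autoImplicit false
set_option linter.style.haveILetI false
set_option linter.unusedSectionVars false
set_option linter.unusedVariables false
set_option linter.deprecated false
set_option linter.style.haveILetI false
set_option linter.unusedSectionVars false
set_option linter.unusedVariables false

universe u
open CategoryTheory CategoryTheory.Limits MonoidalCategory CartesianMonoidalCategory MonObj GrpObj
  AlgebraicGeometry TopologicalSpace Topology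

namespace Groth.Agent.Helper3.TauC

open Groth.Agent.Helper5.Neut Groth.Agent.Helper3.CompGrpA Groth.Agent.Helper3.TauB

variable {S : Scheme.{u}}

/-- a generization of a point of the neutral set has a positive power in the neutral set -/
theorem exists_pow_mem_of_specializes [IsLocallyNoetherian S] (G : Over S) [GrpObj G]
    [LocallyOfFiniteType G.hom] {z x : G.left} (hzx : z ⤳ x) (hx : x ∈ SGA3x.neutralSet G) :
    ∃ m : ℕ, 0 < m ∧ ((𝟙 G : G ⟶ G) ^ m).left.base z ∈ SGA3x.neutralSet G := by
  haveI : IsLocallyNoetherian G.left := LocallyOfFiniteType.isLocallyNoetherian G.hom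
  obtain ⟨U, hU, hxU, -⟩ := exists_isAffineOpen_mem_and_subset (X := G.left) (U := ⊤) (x := x)
    (by simp)
  have hzU : z ∈ U := hzx.mem_open U.isOpen hxU
  haveI : IsAffine (U : Scheme.{u}) := hU
  set h : (U : Scheme.{u}) ⟶ G.left := U.ι with hh
  set G' : Over (U : Scheme.{u}) := Red.bc (h ≫ G.hom) G with hG'
  haveI : LocallyOfFiniteType G'.hom := by
    show LocallyOfFiniteType (pullback.snd G.hom (h ≫ G.hom))
    infer_instance
  haveI : IsLocallyNoetherian G'.left := LocallyOfFiniteType.isLocallyNoetherian G'.hom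
  have hfib : ∀ s : (U : Scheme.{u}), LocallyOfFiniteType (G'.hom.fiberToSpecResidueField s) :=
    fun s => inferInstance
  obtain ⟨W, hWc, hW⟩ := s5323 (U : Scheme.{u}) G' hfib
  set z' : (U : Scheme.{u}) := ⟨z, hzU⟩ with hz'
  set x' : (U : Scheme.{u}) := ⟨x, hxU⟩ with hx'
  have hzx' : z' ⤳ x' := by
    have hind := h.isOpenEmbedding.isInducing
    exact hind.specializes_iff.mp hzx
  have hpr := s5322 S (U : Scheme.{u}) (h ≫ G.hom) G
  -- the points
  set σ := sec G h with hσ
  have hw : ∀ j : ℕ, (σ ^ j).left.base x' ∈ SGA3x.neutralSet G' := by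
    intro j
    rw [hpr]
    show (pullback.fst G.hom (h ≫ G.hom)).base ((σ ^ j).left.base x') ∈ SGA3x.neutralSet G
    rw [pow_sec_apply]
    exact TauA.pow_mem G j _ hx
  have hyW : ∀ j : ℕ, (σ ^ j).left.base z' ∈ W := by
    intro j
    have h1 : (σ ^ j).left.base z' ⤳ (σ ^ j).left.base x' := hzx'.map (σ ^ j).left.continuous
    exact h1.mem_open W.isOpen (hW (hw j))
  have hyF : ∀ j : ℕ, (σ ^ j).left.base z' ∈ G'.hom.base ⁻¹' {z'} := fun j => sec_hom G' _ z'
  obtain ⟨i, j, hij, hc⟩ := exists_lt_mem_connectedComponentIn W hWc (G'.hom.base ⁻¹' {z'})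
    (fun j => (σ ^ j).left.base z') hyW hyF
  have h1 := mul_inv_mem G' (σ ^ i) (σ ^ j) z' hc
  rw [← pow_sub σ hij.le] at h1
  rw [hpr] at h1
  refine ⟨j - i, by omega, ?_⟩
  have h2 : (pullback.fst G.hom (h ≫ G.hom)).base ((σ ^ (j - i)).left.base z') ∈
      SGA3x.neutralSet G := h1
  rw [pow_sec_apply] at h2
  exact h2

/-- the torsion-component set is stable under generization -/
theorem tau_generalization [IsLocallyNoetherian S] (G : Over S) [GrpObj G]
    [LocallyOfFiniteType G.hom] {z x : G.left} (hzx : z ⤳ x) (n : ℕ) (hn : 0 < n)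
    (hx : ((𝟙 G : G ⟶ G) ^ n).left.base x ∈ SGA3x.neutralSet G) :
    ∃ m : ℕ, 0 < m ∧ ((𝟙 G : G ⟶ G) ^ m).left.base z ∈ SGA3x.neutralSet G := by
  have h1 : ((𝟙 G : G ⟶ G) ^ n).left.base z ⤳ ((𝟙 G : G ⟶ G) ^ n).left.base x :=
    hzx.map ((𝟙 G : G ⟶ G) ^ n).left.continuous
  obtain ⟨m, hm, h2⟩ := exists_pow_mem_of_specializes G h1 hx
  refine ⟨n * m, Nat.mul_pos hn hm, ?_⟩
  rw [← TauA.pow_pow_apply]
  exact h2

end Groth.Agent.Helper3.TauC
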