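import Mathlib
import Groth.Prelude
import Groth.Agent.Helper3.TauC
import Groth.Agent.Helper3.TauD
import Groth.Agent.S5693

set_option autoImplicit false
set_option linter.style.haveILetI false
set_option linter.unusedSectionVars false
set_option linter.unusedVariables false
set_option linter.deprecated false
set_option linter.style.haveILetI false
set_option linter.unusedSectionVars false
set_option linter.unusedVariables false

universe u
open CategoryTheory CategoryTheory.Limits MonoidalCategory CartesianMonoidalCategory MonObj GrpObj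
  AlgebraicGeometry TopologicalSpace Topology

namespace Groth.Agent.Helper3.TauE

open Groth.Agent.Helper5.Neut

variable {S : Scheme.{u}}

/-- the torsion-component set -/
def tauSet (G : Over S) [GrpObj G] : Set G.left :=
  {x | ∃ n : ℕ, 0 < n ∧ ((𝟙 G : G ⟶ G) ^ n).left.base x ∈ SGA3x.neutralSet G}

variable [IsLocallyNoetherian S] (G : Over S) [GrpObj G] [IsCommMonObj G]
  [LocallyOfFiniteType G.hom]

theorem isOpen_tauSet : IsOpen (tauSet G) := by
  haveI : IsLocallyNoetherian G.left := LocallyOfFiniteType.isLocallyNoetherian G.hom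
  rw [isOpen_iff_mem_nhds]
  intro x hx
  obtain ⟨U, hU, hxU, -⟩ := exists_isAffineOpen_mem_and_subset (X := G.left) (U := ⊤) (x := x)
    (by simp)
  haveI : IsAffine (U : Scheme.{u}) := hU
  haveI : IsNoetherian (U : Scheme.{u}) := ⟨⟩
  have hemb := U.ι.isOpenEmbedding
  set E' : Set (U : Scheme.{u}) := U.ι.base ⁻¹' tauSet G with hE'
  have hopen : IsOpen E' := by
    apply TauD.isOpen_of_generalization
    · intro a b hba ha
      have h1 : U.ι.base b ⤳ U.ι.base a := hemb.isInducing.specializes_iff.mpr hba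
      obtain ⟨n, hn, hna⟩ := ha
      exact TauC.tau_generalization G h1 n hn hna
    · intro a ha
      have hex : ∃ n : ℕ, 0 < n ∧
          ((𝟙 G : G ⟶ G) ^ n).left.base (U.ι.base a) ∈ SGA3x.neutralSet G := ha
      classical
      set n := Nat.find hex with hn
      have hn1 := Nat.find_spec hex
      have hlc := Groth.Agent.S5693.result S G n hn1.1
      have hlc' := hlc.preimage_of_isOpenEmbedding hemb
      refine ⟨_, hlc'.isConstructible, ?_, ?_⟩
      · refine ⟨hn1.2, ?_⟩
        intro d hd0 hdn hmem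
        exact Nat.find_min hex hdn ⟨hd0, hmem⟩
      · rintro b ⟨hb, -⟩
        exact ⟨n, hn1.1, hb⟩
  have h1 : U.ι.base '' E' ∈ nhds x := by
    refine (hemb.isOpenMap _ hopen).mem_nhds ?_
    exact ⟨⟨x, hxU⟩, hx, rfl⟩
  refine Filter.mem_of_superset h1 ?_
  rintro _ ⟨a, ha, rfl⟩
  exact ha

/-- if the neutral set is closed, then on an affine open the torsion-component set is cut out by
a single exponent -/
theorem exists_bound (h0 : IsClosed (SGA3x.neutralSet G)) (U : G.left.Opens)
    (hU : IsAffineOpen U) :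
    ∃ N : ℕ, 0 < N ∧ ∀ a ∈ U, a ∈ tauSet G →
      ((𝟙 G : G ⟶ G) ^ N).left.base a ∈ SGA3x.neutralSet G := by
  haveI : IsLocallyNoetherian G.left := LocallyOfFiniteType.isLocallyNoetherian G.hom
  haveI : IsAffine (U : Scheme.{u}) := hU
  haveI : IsNoetherian (U : Scheme.{u}) := ⟨⟩
  have hemb := U.ι.isOpenEmbedding
  set E' : Set (U : Scheme.{u}) := U.ι.base ⁻¹' tauSet G with hE'
  have hopen : IsOpen E' := (isOpen_tauSet G).preimage U.ι.continuous
  haveI : QuasiSober ↥E' := hopen.isOpenEmbedding_subtypeVal.quasiSober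
  set A : ℕ → Set ↥E' := fun n =>
    {a | ((𝟙 G : G ⟶ G) ^ n).left.base (U.ι.base a.1) ∈ SGA3x.neutralSet G} with hA
  have hcl : ∀ n, IsClosed (A n) := by
    intro n
    have hc : Continuous (fun a : ↥E' => ((𝟙 G : G ⟶ G) ^ n).left.base (U.ι.base a.1)) :=
      ((𝟙 G : G ⟶ G) ^ n).left.continuous.comp (U.ι.continuous.comp continuous_subtype_val)
    exact h0.preimage hc
  have hmono : ∀ n m, n ∣ m → 0 < m → A n ⊆ A m := by
    rintro n m ⟨k, rfl⟩ - a ha
    exact TauA.pow_mul_mem G n k _ ha
  have hcov : ∀ a : ↥E', ∃ n, 0 < n ∧ a ∈ A n := fun a => a.2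
  obtain ⟨N, hN, hall⟩ := TauD.exists_eq_univ_of_closed_cover A hcl hmono hcov
  refine ⟨N, hN, ?_⟩
  intro a haU ha
  exact hall ⟨⟨a, haU⟩, ha⟩

end Groth.Agent.Helper3.TauE
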