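import Mathlib
import Groth.Prelude
import Groth.Agent.Helper3.TauE

set_option autoImplicit false
set_option linter.style.haveILetI false
set_option linter.unusedSectionVars false
set_option linter.unusedVariables false
set_option linter.deprecated false
set_option linter.style.haveILetI false
set_option linter.unusedSectionVars false
set_option linter.unusedVariables false

universe u
open CategoryTheory CategoryTheory.Limits MonoidalCategory CartesianMonoidalCategory MonObj GrpObj
  AlgebraicGeometry TopologicalSpace Topology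

namespace Groth.Agent.Helper3.TauF

open Groth.Agent.Helper5.Neut Groth.Agent.Helper3.TauE

variable {S : Scheme.{u}} [IsLocallyNoetherian S] (G : Over S) [GrpObj G] [IsCommMonObj G]
  [LocallyOfFiniteType G.hom]

/-- if the neutral set is closed, the set of points having a power with exponent in a
divisor-closed family of closed conditions lying in the neutral set is closed -/
theorem isClosed_of_divisor_closed (h0 : IsClosed (SGA3x.neutralSet G)) (K : ℕ → Set G.left)
    (hK : ∀ d, IsClosed (K d))
    (hdiv : ∀ (x : G.left) (n d : ℕ), 0 < n → x ∈ K n → d ∣ n → x ∈ K d) :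
    IsClosed {x : G.left | ∃ n : ℕ, 0 < n ∧ x ∈ K n ∧
      ((𝟙 G : G ⟶ G) ^ n).left.base x ∈ SGA3x.neutralSet G} := by
  rw [← isOpen_compl_iff, isOpen_iff_mem_nhds]
  intro x hx
  obtain ⟨U, hU, hxU, -⟩ := exists_isAffineOpen_mem_and_subset (X := G.left) (U := ⊤) (x := x)
    (by simp)
  obtain ⟨N, hN, hbound⟩ := exists_bound G h0 U hU
  set A : ℕ → Set G.left := fun d => ((𝟙 G : G ⟶ G) ^ d).left.base ⁻¹' SGA3x.neutralSet G with hA
  have hAcl : ∀ d, IsClosed (A d) := fun d => h0.preimage ((𝟙 G : G ⟶ G) ^ d).left.continuous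
  set B : Set G.left := ⋃ d ∈ N.divisors, (K d ∩ A d) with hB
  have hBcl : IsClosed B :=
    Set.Finite.isClosed_biUnion (Finset.finite_toSet _) (fun d _ => (hK d).inter (hAcl d))
  have hxB : x ∉ B := by
    intro hxB
    obtain ⟨d, hd, hxK, hxA⟩ := Set.mem_iUnion₂.mp hxB
    exact hx ⟨d, Nat.pos_of_mem_divisors hd, hxK, hxA⟩
  have hV : (U : Set G.left) ∩ Bᶜ ∈ nhds x :=
    (U.isOpen.inter hBcl.isOpen_compl).mem_nhds ⟨hxU, hxB⟩
  refine Filter.mem_of_superset hV ?_
  rintro a ⟨haU, haB⟩ ⟨n, hn, haK, han⟩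
  apply haB
  have haN := hbound a haU ⟨n, hn, han⟩
  have hg := TauA.gcd_mem G a n N han haN
  have hgN : Nat.gcd n N ∈ N.divisors :=
    Nat.mem_divisors.mpr ⟨Nat.gcd_dvd_right n N, hN.ne'⟩
  exact Set.mem_iUnion₂.mpr ⟨Nat.gcd n N, hgN, hdiv a n _ hn haK (Nat.gcd_dvd_left n N), hg⟩

end Groth.Agent.Helper3.TauF
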