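import Mathlib
import Groth.Prelude
import Groth.Agent.Helper3.TauF

set_option autoImplicit false
set_option linter.style.haveILetI false
set_option linter.unusedSectionVars false
set_option linter.unusedVariables false
set_option linter.deprecated false
set_option linter.style.haveILetI false
set_option linter.unusedSectionVars false
set_option linter.unusedVariables false

universe u
open CategoryTheory CategoryTheory.Limits MonoidalCategory CartesianMonoidalCategory MonObj GrpObj
  AlgebraicGeometry TopologicalSpace Topology

namespace Groth.Agent.Helper3.TauG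

open Groth.Agent.Helper5.Neut Groth.Agent.Helper3.TauE

/-- the locus where a given natural number vanishes in the residue field is closed -/
theorem isClosed_charSet (S : Scheme.{u}) (q : ℕ) :
    IsClosed {s : S | ((q : ℕ) : S.residueField s) = 0} := by
  have h : {s : S | ((q : ℕ) : S.residueField s) = 0} =
      ((S.basicOpen ((q : ℕ) : Γ(S, ⊤)) : Set S))ᶜ := by
    ext s
    have h1 := S.evaluation_eq_zero_iff_notMem_basicOpen s (U := ⊤) trivial ((q : ℕ) : Γ(S, ⊤))
    have h2 : (S.evaluation ⊤ s trivial) ((q : ℕ) : Γ(S, ⊤)) = ((q : ℕ) : S.residueField s) :=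
      map_natCast (S.evaluation ⊤ s trivial).hom q
    rw [h2] at h1
    exact h1
  rw [h]
  exact (S.basicOpen _).isOpen.isClosed_compl

theorem ringExpChar_eq_prime_iff (K : Type*) [Field K] (q : ℕ) (hq : q.Prime) :
    ringExpChar K = q ↔ ((q : ℕ) : K) = 0 := by
  constructor
  · intro h
    have h1 : ExpChar K q := ringExpChar.of_eq h
    cases h1 with
    | zero => exact absurd hq Nat.not_prime_one
    | prime hprime => exact CharP.cast_eq_zero K q
  · intro h
    haveI : CharP K q := (CharP.charP_iff_prime_eq_zero hq).mpr h
    haveI : ExpChar K q := ExpChar.prime hq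
    exact ringExpChar.eq K q

theorem ringExpChar_one_or_prime (K : Type*) [Field K] :
    ringExpChar K = 1 ∨ (ringExpChar K).Prime := by
  have h1 : ExpChar K (ringExpChar K) := inferInstance
  generalize ringExpChar K = q at h1
  cases h1 with
  | zero => left; rfl
  | prime hprime => right; exact hprime

/-- the locus where `d` is a power of the characteristic exponent of the residue field is
closed -/
theorem isClosed_powSet (S : Scheme.{u}) (d : ℕ) :
    IsClosed {s : S | ∃ h : ℕ, d = ringExpChar (S.residueField s) ^ h} := by
  by_cases hd1 : d = 1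
  · have : {s : S | ∃ h : ℕ, d = ringExpChar (S.residueField s) ^ h} = Set.univ := by
      ext s
      simp only [Set.mem_setOf_eq, Set.mem_univ, iff_true]
      exact ⟨0, by rw [hd1, pow_zero]⟩
    rw [this]
    exact isClosed_univ
  have hmin : d.minFac.Prime := Nat.minFac_prime hd1
  by_cases hex : ∃ h : ℕ, d = d.minFac ^ h
  · have : {s : S | ∃ h : ℕ, d = ringExpChar (S.residueField s) ^ h} =
        {s : S | ((d.minFac : ℕ) : S.residueField s) = 0} := by
      ext s
      simp only [Set.mem_setOf_eq]
      rw [← ringExpChar_eq_prime_iff _ _ hmin]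
      constructor
      · rintro ⟨h, hh⟩
        rcases ringExpChar_one_or_prime (S.residueField s) with h1 | hp
        · rw [h1, one_pow] at hh
          exact absurd hh hd1
        · have hh0 : h ≠ 0 := by
            rintro rfl
            rw [pow_zero] at hh
            exact hd1 hh
          have := Nat.Prime.pow_minFac hp hh0
          rw [← hh] at this
          exact this.symm
      · intro hs
        obtain ⟨h, hh⟩ := hex
        exact ⟨h, by rw [hs]; exact hh⟩
    rw [this]
    exact isClosed_charSet S _
  · have : {s : S | ∃ h : ℕ, d = ringExpChar (S.residueField s) ^ h} = ∅ := by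
      ext s
      simp only [Set.mem_setOf_eq, Set.mem_empty_iff_false, iff_false]
      rintro ⟨h, hh⟩
      apply hex
      rcases ringExpChar_one_or_prime (S.residueField s) with h1 | hp
      · rw [h1, one_pow] at hh
        exact absurd hh hd1
      · have hh0 : h ≠ 0 := by
          rintro rfl
          rw [pow_zero] at hh
          exact hd1 hh
        have := Nat.Prime.pow_minFac hp hh0
        rw [← hh] at this
        exact ⟨h, by rw [this]; exact hh⟩
    rw [this]
    exact isClosed_empty

variable {S : Scheme.{u}} [IsLocallyNoetherian S] (G : Over S) [GrpObj G] [IsCommMonObj G]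
  [LocallyOfFiniteType G.hom]

theorem isClosed_rho (h0 : IsClosed (SGA3x.neutralSet G)) :
    IsClosed {x : G.left | ∃ h m : ℕ, m = ringExpChar (S.residueField (G.hom.base x)) ^ h ∧
      ((𝟙 G : G ⟶ G) ^ m).left.base x ∈ SGA3x.neutralSet G} := by
  have key := TauF.isClosed_of_divisor_closed G h0
    (fun d => G.hom.base ⁻¹' {s : S | ∃ h : ℕ, d = ringExpChar (S.residueField s) ^ h})
    (fun d => (isClosed_powSet S d).preimage G.hom.continuous)
    (by
      rintro x n d hn ⟨h, hh⟩ hd
      show ∃ h' : ℕ, d = ringExpChar (S.residueField (G.hom.base x)) ^ h'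
      rcases ringExpChar_one_or_prime (S.residueField (G.hom.base x)) with h1 | hp
      · rw [h1, one_pow] at hh
        subst hh
        have : d = 1 := Nat.dvd_one.mp hd
        exact ⟨0, by rw [this, pow_zero]⟩
      · rw [hh] at hd
        obtain ⟨m, -, hm⟩ := (Nat.dvd_prime_pow hp).mp hd
        exact ⟨m, hm⟩)
  convert key using 1
  ext x
  simp only [Set.mem_setOf_eq, Set.mem_preimage]
  constructor
  · rintro ⟨h, m, hm, hmem⟩
    refine ⟨m, ?_, ⟨h, hm⟩, hmem⟩
    rw [hm]
    apply pow_pos
    unfold ringExpChar
    exact lt_of_lt_of_le Nat.one_pos (le_max_right _ _)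
  · rintro ⟨n, hn, ⟨h, hh⟩, hmem⟩
    exact ⟨h, n, hh, hmem⟩

end Groth.Agent.Helper3.TauG
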