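import Mathlib
import Groth.Agent.Helper3.TauD
import Groth.Agent.Helper3.NoethConn

set_option autoImplicit false
set_option linter.style.haveILetI false
set_option linter.unusedSectionVars false
set_option linter.unusedVariables false
set_option linter.deprecated false
set_option linter.style.haveILetI false
set_option linter.unusedSectionVars false
set_option linter.unusedVariables false

universe u
open CategoryTheory CategoryTheory.Limits AlgebraicGeometry TopologicalSpace Topology

namespace Groth.Agent.Helper3.TauH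

section top

variable {Y : Type*} [TopologicalSpace Y]

/-- a countable cover of a Noetherian quasi-sober space by constructible sets has a finite
subcover -/
theorem exists_finset_cover [NoetherianSpace Y] [QuasiSober Y] (C : ℕ → Set Y)
    (hC : ∀ n, IsConstructible (C n)) (hcov : ∀ y : Y, ∃ n, y ∈ C n) :
    ∃ I : Finset ℕ, ∀ y : Y, ∃ n ∈ I, y ∈ C n := by
  suffices hmain : ∀ Z : Closeds Y, ∃ I : Finset ℕ, ∀ y ∈ (Z : Set Y), ∃ n ∈ I, y ∈ C n by
    obtain ⟨I, hI⟩ := hmain ⊤
    exact ⟨I, fun y => hI y (Set.mem_univ y)⟩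
  intro Z
  induction Z using WellFoundedLT.induction with
  | ind Z ih =>
  by_cases hirr : IsIrreducible (Z : Set Y)
  · obtain ⟨y, hy⟩ := QuasiSober.sober hirr Z.isClosed
    have hyZ : y ∈ (Z : Set Y) := hy.mem
    have hcl : closure {y} = (Z : Set Y) := hy.def
    obtain ⟨n, hn⟩ := hcov y
    obtain ⟨O, hO, hyO, hsub⟩ := (TauD.constructible_aux (hC n)).1 y hn
    set Z' : Closeds Y := ⟨(Z : Set Y) ∩ Oᶜ, Z.isClosed.inter hO.isClosed_compl⟩ with hZ'
    have hlt : Z' < Z := by
      refine lt_of_le_of_ne (fun a ha => ha.1) ?_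
      intro heq
      have h1 : y ∈ (Z' : Set Y) := by rw [heq]; exact hyZ
      exact h1.2 hyO
    obtain ⟨I', hI'⟩ := ih Z' hlt
    refine ⟨insert n I', ?_⟩
    intro a ha
    by_cases haO : a ∈ O
    · exact ⟨n, Finset.mem_insert_self _ _, hsub ⟨haO, by rw [hcl]; exact ha⟩⟩
    · obtain ⟨m, hm, ham⟩ := hI' a ⟨ha, haO⟩
      exact ⟨m, Finset.mem_insert_of_mem hm, ham⟩
  · by_cases hne : (Z : Set Y).Nonempty
    · have hnp : ¬ IsPreirreducible (Z : Set Y) := fun h => hirr ⟨hne, h⟩
      unfold IsPreirreducible at hnp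
      push Not at hnp
      obtain ⟨U, V, hU, hV, hZU, hZV, hUV⟩ := hnp
      set Z1 : Closeds Y := ⟨(Z : Set Y) ∩ Uᶜ, Z.isClosed.inter hU.isClosed_compl⟩ with hZ1
      set Z2 : Closeds Y := ⟨(Z : Set Y) ∩ Vᶜ, Z.isClosed.inter hV.isClosed_compl⟩ with hZ2
      have hlt1 : Z1 < Z := by
        refine lt_of_le_of_ne (fun a ha => ha.1) ?_
        intro heq
        obtain ⟨a, haZ, haU⟩ := hZU
        have h1 : a ∈ (Z1 : Set Y) := by rw [heq]; exact haZ
        exact h1.2 haU
      have hlt2 : Z2 < Z := by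
        refine lt_of_le_of_ne (fun a ha => ha.1) ?_
        intro heq
        obtain ⟨a, haZ, haV⟩ := hZV
        have h1 : a ∈ (Z2 : Set Y) := by rw [heq]; exact haZ
        exact h1.2 haV
      obtain ⟨I1, hI1⟩ := ih Z1 hlt1
      obtain ⟨I2, hI2⟩ := ih Z2 hlt2
      refine ⟨I1 ∪ I2, ?_⟩
      intro a ha
      by_cases haU : a ∈ U
      · have haV : a ∉ V := by
          intro haV
          have : a ∈ (Z : Set Y) ∩ (U ∩ V) := ⟨ha, haU, haV⟩
          rw [hUV] at this
          exact this
        obtain ⟨m, hm, ham⟩ := hI2 a ⟨ha, haV⟩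
        exact ⟨m, Finset.mem_union_right _ hm, ham⟩
      · obtain ⟨m, hm, ham⟩ := hI1 a ⟨ha, haU⟩
        exact ⟨m, Finset.mem_union_left _ hm, ham⟩
    · rw [Set.not_nonempty_iff_eq_empty] at hne
      refine ⟨∅, ?_⟩
      intro a ha
      rw [hne] at ha
      exact absurd ha (Set.notMem_empty a)

end top

section sch

/-- in a locally Noetherian scheme, the connected component of a point in a subset contains a
relative neighbourhood of the point -/
theorem exists_isOpen_inter_subset_connectedComponentIn {X : Scheme.{u}} [IsLocallyNoetherian X]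
    (F : Set X) (z : X) (hz : z ∈ F) :
    ∃ O : Set X, IsOpen O ∧ z ∈ O ∧ O ∩ F ⊆ connectedComponentIn F z := by
  obtain ⟨U, hU, hzU, -⟩ := exists_isAffineOpen_mem_and_subset (X := X) (U := ⊤) (x := z)
    (by simp)
  haveI : IsAffine (U : Scheme.{u}) := hU
  haveI : IsNoetherian (U : Scheme.{u}) := ⟨⟩
  haveI : NoetherianSpace ↥U := inferInstanceAs (NoetherianSpace ↥(U : Scheme.{u}))
  set F' : Set ↥U := Subtype.val ⁻¹' F with hF'
  obtain ⟨O', hO', hOeq⟩ := NoethConn.exists_isOpen_inter_eq_connectedComponentIn F'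
    (⟨z, hzU⟩ : ↥U) hz
  refine ⟨Subtype.val '' O', U.isOpen.isOpenMap_subtype_val _ hO', ?_, ?_⟩
  · have : (⟨z, hzU⟩ : ↥U) ∈ O' ∩ F' := by
      rw [hOeq]; exact mem_connectedComponentIn hz
    exact ⟨_, this.1, rfl⟩
  · rintro _ ⟨⟨a, haO, rfl⟩, haF⟩
    have h1 : a ∈ connectedComponentIn F' (⟨z, hzU⟩ : ↥U) := by
      rw [← hOeq]; exact ⟨haO, haF⟩
    have h2 := (continuous_subtype_val (p := fun x => x ∈ U)).continuousOn.image_connectedComponentIn_subset
      (s := F') (a := ⟨z, hzU⟩) hz ⟨_, h1, rfl⟩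
    have h3 : Subtype.val '' F' ⊆ F := by
      rintro _ ⟨b, hb, rfl⟩
      exact hb
    exact connectedComponentIn_mono _ h3 h2

/-- an open map from a locally Noetherian scheme is generizing -/
theorem exists_specializes_of_isOpenMap {X Y : Scheme.{u}} [IsLocallyNoetherian X] (f : X ⟶ Y)
    (hf : IsOpenMap f.base) (x : X) (y' : Y) (hy : y' ⤳ f.base x) :
    ∃ x' : X, x' ⤳ x ∧ f.base x' = y' := by
  obtain ⟨U, hU, hxU, -⟩ := exists_isAffineOpen_mem_and_subset (X := X) (U := ⊤) (x := x)
    (by simp)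
  haveI : IsAffine (U : Scheme.{u}) := hU
  haveI : IsNoetherian (U : Scheme.{u}) := ⟨⟩
  haveI : NoetherianSpace ↥U := inferInstanceAs (NoetherianSpace ↥(U : Scheme.{u}))
  -- the fibre as a scheme, and its open part over `U`
  set ι := f.fiberι y' with hι
  set ZU : (f.fiber y').Opens := ι ⁻¹ᵁ U with hZU
  have hemb : IsEmbedding (fun w : ↥ZU => (⟨ι.base w.1, w.2⟩ : ↥U)) := by
    have h1 : IsEmbedding (fun w : ↥ZU => ι.base w.1) :=
      ι.isEmbedding.comp IsEmbedding.subtypeVal
    exact IsEmbedding.of_comp (by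
      refine Continuous.subtype_mk ?_ _
      exact ι.continuous.comp continuous_subtype_val) continuous_subtype_val h1
  haveI : NoetherianSpace ↥ZU := hemb.isInducing.noetherianSpace
  haveI : QuasiSober ↥ZU := inferInstanceAs (QuasiSober ↥(ZU : Scheme.{u}))
  have hfin := NoetherianSpace.finite_irreducibleComponents (α := ↥ZU)
  -- some irreducible component has `x` in the closure of its image
  have hex : ∃ D ∈ irreducibleComponents ↥ZU, x ∈ closure ((fun w : ↥ZU => ι.base w.1) '' D) := by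
    by_contra hcon
    push Not at hcon
    have hV : ∀ D ∈ irreducibleComponents ↥ZU,
        (closure ((fun w : ↥ZU => ι.base w.1) '' D))ᶜ ∈ nhds x :=
      fun D hD => isClosed_closure.isOpen_compl.mem_nhds (hcon D hD)
    have hV' : (⋂ D ∈ irreducibleComponents ↥ZU,
        (closure ((fun w : ↥ZU => ι.base w.1) '' D))ᶜ) ∈ nhds x :=
      (Filter.biInter_mem hfin).mpr hV
    have hUx : (U : Set X) ∈ nhds x := U.isOpen.mem_nhds hxU
    obtain ⟨V, hVsub, hVo, hxV⟩ := mem_nhds_iff.mp (Filter.inter_mem hUx hV')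
    have h1 : y' ∈ f.base '' V := hy.mem_open (hf V hVo) ⟨x, hxV, rfl⟩
    obtain ⟨v, hvV, hfv⟩ := h1
    have hvfib : v ∈ Set.range ι.base := by
      rw [hι, Scheme.Hom.range_fiberι]; exact hfv
    obtain ⟨w, rfl⟩ := hvfib
    have hwU : w ∈ ZU := (hVsub hvV).1
    have hcomp : (⟨w, hwU⟩ : ↥ZU) ∈ ⋃₀ irreducibleComponents ↥ZU := by
      rw [sUnion_irreducibleComponents]; exact Set.mem_univ _
    obtain ⟨D, hD, hwD⟩ := hcomp
    have h2 := (hVsub hvV).2
    rw [Set.mem_iInter₂] at h2
    exact h2 D hD (subset_closure ⟨⟨w, hwU⟩, hwD, rfl⟩)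
  obtain ⟨D, hD, hxD⟩ := hex
  obtain ⟨η, hη⟩ := QuasiSober.sober hD.1 (isClosed_of_mem_irreducibleComponents D hD)
  refine ⟨ι.base η.1, ?_, ?_⟩
  · rw [specializes_iff_mem_closure]
    have hcont : Continuous (fun w : ↥ZU => ι.base w.1) :=
      ι.continuous.comp continuous_subtype_val
    have h3 : (fun w : ↥ZU => ι.base w.1) '' D ⊆ closure {ι.base η.1} := by
      rw [← hη.def]
      refine (image_closure_subset_closure_image hcont).trans ?_
      rw [Set.image_singleton]
    exact (closure_minimal h3 isClosed_closure) hxD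
  · have : ι.base η.1 ∈ Set.range ι.base := ⟨_, rfl⟩
    rw [hι, Scheme.Hom.range_fiberι] at this
    exact this

end sch

end Groth.Agent.Helper3.TauH
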