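import Mathlib
import Groth.Prelude
import Groth.Agent.Helper3.TauE
import Groth.Agent.Helper3.TauH

set_option autoImplicit false
set_option linter.style.haveILetI false
set_option linter.unusedSectionVars false
set_option linter.unusedVariables false
set_option linter.deprecated false
set_option linter.style.haveILetI false
set_option linter.unusedSectionVars false
set_option linter.unusedVariables false

universe u
open CategoryTheory CategoryTheory.Limits MonoidalCategory CartesianMonoidalCategory MonObj GrpObj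
  AlgebraicGeometry TopologicalSpace Topology

namespace Groth.Agent.Helper3.TauI

open Groth.Agent.Helper5.Neut Groth.Agent.Helper3.TauE

section cart
variable {C : Type*} [Category C] [CartesianMonoidalCategory C]

theorem isPullback_whiskerRight {X Y : C} (f : X ⟶ Y) (Z : C) :
    IsPullback (f ▷ Z) (fst X Z) (fst Y Z) f := by
  refine ⟨⟨whiskerRight_fst f Z⟩, ⟨PullbackCone.IsLimit.mk _ (fun s => lift s.snd (s.fst ≫ snd Y Z))
    ?_ ?_ ?_⟩⟩
  · intro s
    apply CartesianMonoidalCategory.hom_ext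
    · rw [Category.assoc, whiskerRight_fst, ← Category.assoc, lift_fst, s.condition]
    · rw [Category.assoc, whiskerRight_snd, lift_snd]
  · intro s
    exact lift_fst _ _
  · intro s m h1 h2
    apply CartesianMonoidalCategory.hom_ext
    · rw [lift_fst]; exact h2
    · rw [lift_snd, ← h1, Category.assoc, whiskerRight_snd]

theorem isPullback_whiskerLeft {X Y : C} (Z : C) (f : X ⟶ Y) :
    IsPullback (Z ◁ f) (snd Z X) (snd Z Y) f := by
  refine ⟨⟨whiskerLeft_snd Z f⟩, ⟨PullbackCone.IsLimit.mk _ (fun s => lift (s.fst ≫ fst Z Y) s.snd)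
    ?_ ?_ ?_⟩⟩
  · intro s
    apply CartesianMonoidalCategory.hom_ext
    · rw [Category.assoc, whiskerLeft_fst, lift_fst]
    · rw [Category.assoc, whiskerLeft_snd, ← Category.assoc, lift_snd, s.condition]
  · intro s
    exact lift_snd _ _
  · intro s m h1 h2
    apply CartesianMonoidalCategory.hom_ext
    · rw [lift_fst, ← h1, Category.assoc, whiskerLeft_fst]
    · rw [lift_snd]; exact h2
end cart

theorem exists_preimage_of_isPullback {P X Y Z : Scheme.{u}} {fst : P ⟶ X} {snd : P ⟶ Y}
    {f : X ⟶ Z} {g : Y ⟶ Z} (sq : IsPullback fst snd f g) (x : X) (y : Y)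
    (h : f.base x = g.base y) : ∃ p : P, fst.base p = x ∧ snd.base p = y := by
  obtain ⟨z, hz1, hz2⟩ := Scheme.Pullback.exists_preimage_pullback x y h
  refine ⟨sq.isoPullback.inv.base z, ?_, ?_⟩
  · rw [← Scheme.Hom.comp_apply, sq.isoPullback_inv_fst]; exact hz1
  · rw [← Scheme.Hom.comp_apply, sq.isoPullback_inv_snd]; exact hz2

variable {S : Scheme.{u}}

instance isMonHom_pow (G : Over S) [GrpObj G] [IsCommMonObj G] (n : ℕ) :
    IsMonHom ((𝟙 G : G ⟶ G) ^ n) where
  one_hom := TauA.unit_pow G n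
  mul_hom := by
    rw [MonObj.comp_pow, Category.comp_id]
    have h1 : (μ[G] : G ⊗ G ⟶ G) = fst G G * snd G G := by
      rw [Hom.mul_def, lift_fst_snd, Category.id_comp]
    have h2 : (((𝟙 G : G ⟶ G) ^ n) ⊗ₘ ((𝟙 G : G ⟶ G) ^ n)) ≫ μ[G] =
        (fst G G ≫ (𝟙 G : G ⟶ G) ^ n) * (snd G G ≫ (𝟙 G : G ⟶ G) ^ n) := by
      rw [Hom.mul_def]
      congr 1
    rw [h2, MonObj.comp_pow, MonObj.comp_pow, Category.comp_id, Category.comp_id, h1, mul_pow]

variable [IsLocallyNoetherian S] (G : Over S) [GrpObj G] [IsCommMonObj G]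
  [LocallyOfFiniteType G.hom]

/-- if the `n`-th power map is open, every point of the neutral set is an `n`-th power of a
point of the neutral set -/
theorem exists_pow_eq_of_mem (n : ℕ) (hopen : IsOpenMap ((𝟙 G : G ⟶ G) ^ n).left.base)
    (x : G.left) (hx : x ∈ SGA3x.neutralSet G) :
    ∃ y : G.left, y ∈ SGA3x.neutralSet G ∧ ((𝟙 G : G ⟶ G) ^ n).left.base y = x := by
  haveI : IsLocallyNoetherian G.left := LocallyOfFiniteType.isLocallyNoetherian G.hom
  set P : G ⟶ G := (𝟙 G : G ⟶ G) ^ n with hP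
  set t := G.hom.base x with ht
  set F : Set G.left := G.hom.base ⁻¹' {t} with hF
  have het : e G t ∈ F := hom_e G t
  obtain ⟨V, hVo, heV, hVsub⟩ :=
    TauH.exists_isOpen_inter_subset_connectedComponentIn F (e G t) het
  have hUo : IsOpen (P.left.base '' V) := hopen V hVo
  have hPe : P.left.base (e G t) = e G t := by
    show P.left.base (η[G].left.base t) = η[G].left.base t
    rw [← Scheme.Hom.comp_apply, ← Over.comp_left, hP, TauA.unit_pow]
  have heU : e G t ∈ P.left.base '' V := ⟨e G t, heV, hPe⟩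
  have hPhom : ∀ a : G.left, G.hom.base (P.left.base a) = G.hom.base a := by
    intro a
    rw [← Scheme.Hom.comp_apply, Over.w P]
  -- points of the image over `t` are powers of points of the neutral set
  have hkey : ∀ u ∈ P.left.base '' V, G.hom.base u = t →
      ∃ a ∈ SGA3x.neutralSet G, P.left.base a = u := by
    rintro _ ⟨v, hvV, rfl⟩ hu
    rw [hPhom] at hu
    refine ⟨v, ?_, rfl⟩
    rw [mem_neutralSet_iff G hu]
    exact hVsub ⟨hvV, hu⟩
  obtain ⟨z, hz, ⟨hz1U, hz1N⟩, ⟨hz2U, hz2N⟩⟩ := exists_mul G x hx ⟨_, hUo⟩ heU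
  have hzt : (G ⊗ G).hom.base z = t := by
    rw [← hom_mul, hz]
  obtain ⟨a, haN, ha⟩ := hkey _ hz1U (by rw [hom_fst, hzt])
  obtain ⟨b, hbN, hb⟩ := hkey _ hz2U (by rw [hom_snd, hzt])
  -- lift `z` along `P ▷ G` and `G ◁ P`
  have sq1 : IsPullback (P ▷ G).left (fst G G).left (fst G G).left P.left :=
    (isPullback_whiskerRight P G).map (Over.forget S)
  have sq2 : IsPullback (G ◁ P).left (snd G G).left (snd G G).left P.left :=
    (isPullback_whiskerLeft G P).map (Over.forget S)
  obtain ⟨z1, hz1a, hz1b⟩ := exists_preimage_of_isPullback sq1 z a ha.symm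
  have hsnd1 : (snd G G).left.base z1 = (snd G G).left.base z := by
    rw [← hz1a, ← Scheme.Hom.comp_apply, ← Over.comp_left, whiskerRight_snd]
  obtain ⟨z2, hz2a, hz2b⟩ := exists_preimage_of_isPullback sq2 z1 b (by rw [hsnd1, hb])
  have hfst2 : (fst G G).left.base z2 = a := by
    rw [← hz1b, ← hz2a, ← Scheme.Hom.comp_apply, ← Over.comp_left, whiskerLeft_fst]
  refine ⟨μ[G].left.base z2, Groth.Agent.Helper5.Neut.mul_mem G z2 (by rw [hfst2]; exact haN)
    (by rw [hz2b]; exact hbN), ?_⟩
  haveI hPmon : IsMonHom P := isMonHom_pow G n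
  have hmul : μ[G] ≫ P = (P ⊗ₘ P) ≫ μ[G] := IsMonHom.mul_hom P
  have htens : (P ⊗ₘ P) = (G ◁ P) ≫ (P ▷ G) := by
    rw [tensorHom_def']
  rw [← Scheme.Hom.comp_apply, ← Over.comp_left, hmul, htens, Category.assoc, Over.comp_left,
    Over.comp_left, Scheme.Hom.comp_apply, Scheme.Hom.comp_apply, hz2a, hz1a, hz]

end Groth.Agent.Helper3.TauI
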