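import Mathlib
import Groth.Prelude
import Groth.Agent.Helper3.TauI
import Groth.Agent.Helper3.TauG

set_option autoImplicit false
set_option linter.style.haveILetI false
set_option linter.unusedSectionVars false
set_option linter.unusedVariables false
set_option linter.deprecated false
set_option linter.style.haveILetI false
set_option linter.unusedSectionVars false
set_option linter.unusedVariables false

universe u
open CategoryTheory CategoryTheory.Limits MonoidalCategory CartesianMonoidalCategory MonObj GrpObj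
  AlgebraicGeometry TopologicalSpace Topology

namespace Groth.Agent.Helper3.TauJ

open Groth.Agent.Helper5.Neut Groth.Agent.Helper3.TauE

/-- in a locally Noetherian scheme, a set stable under generization each of whose points lies in a
locally constructible subset of it is open -/
theorem isOpen_of_generalization_of_lc {X : Scheme.{u}} [IsLocallyNoetherian X] (E : Set X)
    (hgen : ∀ z x : X, z ⤳ x → x ∈ E → z ∈ E)
    (hC : ∀ a ∈ E, ∃ C : Set X, IsLocallyConstructible C ∧ a ∈ C ∧ C ⊆ E) : IsOpen E := by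
  rw [isOpen_iff_mem_nhds]
  intro x hx
  obtain ⟨U, hU, hxU, -⟩ := exists_isAffineOpen_mem_and_subset (X := X) (U := ⊤) (x := x)
    (by simp)
  haveI : IsAffine (U : Scheme.{u}) := hU
  haveI : IsNoetherian (U : Scheme.{u}) := ⟨⟩
  have hemb := U.ι.isOpenEmbedding
  set E' : Set (U : Scheme.{u}) := U.ι.base ⁻¹' E with hE'
  have hopen : IsOpen E' := by
    apply TauD.isOpen_of_generalization
    · intro a b hba ha
      exact hgen _ _ (hemb.isInducing.specializes_iff.mpr hba) ha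
    · intro a ha
      obtain ⟨C, hC1, hC2, hC3⟩ := hC _ ha
      exact ⟨_, (hC1.preimage_of_isOpenEmbedding hemb).isConstructible, hC2,
        fun b hb => hC3 hb⟩
  have h1 : U.ι.base '' E' ∈ nhds x := by
    refine (hemb.isOpenMap _ hopen).mem_nhds ?_
    exact ⟨⟨x, hxU⟩, hx, rfl⟩
  refine Filter.mem_of_superset h1 ?_
  rintro _ ⟨a, ha, rfl⟩
  exact ha

variable {S : Scheme.{u}} [IsLocallyNoetherian S] (G : Over S) [GrpObj G] [IsCommMonObj G]
  [LocallyOfFiniteType G.hom]

/-- the set of points of exact order `n` modulo the neutral set -/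
def ordSet (n : ℕ) : Set G.left :=
  {x | ((𝟙 G : G ⟶ G) ^ n).left.base x ∈ SGA3x.neutralSet G ∧
      ∀ d : ℕ, 0 < d → d < n → ((𝟙 G : G ⟶ G) ^ d).left.base x ∉ SGA3x.neutralSet G}

theorem exists_mem_ordSet (x : G.left) (hx : x ∈ tauSet G) :
    ∃ n : ℕ, 0 < n ∧ x ∈ ordSet G n := by
  classical
  have hex : ∃ n : ℕ, 0 < n ∧ ((𝟙 G : G ⟶ G) ^ n).left.base x ∈ SGA3x.neutralSet G := hx
  refine ⟨Nat.find hex, (Nat.find_spec hex).1, (Nat.find_spec hex).2, ?_⟩
  intro d hd0 hdn hmem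
  exact Nat.find_min hex hdn ⟨hd0, hmem⟩

/-- on a quasi-compact open the torsion-component set is cut out by a single exponent -/
theorem exists_bound' (W : G.left.Opens) (hW : IsCompact (W : Set G.left)) :
    ∃ M : ℕ, 0 < M ∧ ∀ a ∈ W, a ∈ tauSet G →
      ((𝟙 G : G ⟶ G) ^ M).left.base a ∈ SGA3x.neutralSet G := by
  haveI : IsLocallyNoetherian G.left := LocallyOfFiniteType.isLocallyNoetherian G.hom
  haveI : CompactSpace ↥(W : Scheme.{u}) := isCompact_iff_compactSpace.mp hW
  haveI : IsNoetherian (W : Scheme.{u}) := ⟨⟩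
  haveI : NoetherianSpace ↥W := inferInstanceAs (NoetherianSpace ↥(W : Scheme.{u}))
  set O : G.left.Opens := ⟨tauSet G ∩ (W : Set G.left), (isOpen_tauSet G).inter W.isOpen⟩ with hO
  have hOc : IsCompact (O : Set G.left) :=
    (noetherianSpace_set_iff (W : Set G.left)).mp inferInstance _ Set.inter_subset_right
  haveI : CompactSpace ↥(O : Scheme.{u}) := isCompact_iff_compactSpace.mp hOc
  haveI : IsNoetherian (O : Scheme.{u}) := ⟨⟩
  have hemb := O.ι.isOpenEmbedding
  set C : ℕ → Set (O : Scheme.{u}) := fun n => if 0 < n then O.ι.base ⁻¹' ordSet G n else ∅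
    with hCdef
  have hCc : ∀ n, IsConstructible (C n) := by
    intro n
    by_cases hn : 0 < n
    · simp only [hCdef, hn, if_true]
      exact ((Groth.Agent.S5693.result S G n hn).preimage_of_isOpenEmbedding hemb).isConstructible
    · simp only [hCdef, hn, if_false]
      exact IsConstructible.empty
  have hcov : ∀ y : (O : Scheme.{u}), ∃ n, y ∈ C n := by
    intro y
    have hy : O.ι.base y ∈ tauSet G := y.2.1
    obtain ⟨n, hn, hmem⟩ := exists_mem_ordSet G _ hy
    refine ⟨n, ?_⟩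
    simp only [hCdef, hn, if_true]
    exact hmem
  obtain ⟨I, hI⟩ := TauH.exists_finset_cover C hCc hcov
  have hpos : 0 < ∏ n ∈ I.erase 0, n :=
    Finset.prod_pos fun n hn => Nat.pos_of_ne_zero (Finset.ne_of_mem_erase hn)
  refine ⟨∏ n ∈ I.erase 0, n, hpos, ?_⟩
  intro a haW ha
  obtain ⟨n, hnI, hn⟩ := hI ⟨a, ha, haW⟩
  by_cases hn0 : 0 < n
  · simp only [hCdef, hn0, if_true] at hn
    have h1 : ((𝟙 G : G ⟶ G) ^ n).left.base a ∈ SGA3x.neutralSet G := hn.1
    obtain ⟨k, hk⟩ : n ∣ ∏ n ∈ I.erase 0, n :=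
      Finset.dvd_prod_of_mem (fun n => n) (Finset.mem_erase.mpr ⟨hn0.ne', hnI⟩)
    rw [hk]
    exact TauA.pow_mul_mem G n k a h1
  · simp only [hCdef, hn0, if_false] at hn
    exact absurd hn (Set.notMem_empty _)

/-- if `p` is the characteristic exponent of all residue fields and the prime-to-`p` power maps
are open, a generization of a point of the neutral set has a `p`-power power in the neutral set -/
theorem exists_ppow_mem_of_specializes (p : ℕ)
    (hS : ∀ s : ↥S, ringExpChar (S.residueField s) = p)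
    (hopen : ∀ n : ℕ, 0 < n → Nat.Coprime n p → IsOpenMap ((𝟙 G : G ⟶ G) ^ n).left.base)
    {z x : G.left} (hzx : z ⤳ x) (hx : x ∈ SGA3x.neutralSet G) :
    ∃ a : ℕ, ((𝟙 G : G ⟶ G) ^ (p ^ a)).left.base z ∈ SGA3x.neutralSet G := by
  haveI : IsLocallyNoetherian G.left := LocallyOfFiniteType.isLocallyNoetherian G.hom
  set t := G.hom.base x with ht
  have hp : p = 1 ∨ p.Prime := by
    rw [← hS t]; exact TauG.ringExpChar_one_or_prime _
  obtain ⟨Wt, htW, K, hK, hKsub⟩ := exists_isCompact_supset G t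
  obtain ⟨U, hUc, hKU⟩ := exists_isCompact_open_supset K hK
  obtain ⟨M, hM, hbound⟩ := exists_bound' G U hUc
  obtain ⟨a, n0, hn0pos, hcop, hMeq⟩ : ∃ a n0 : ℕ, 0 < n0 ∧ Nat.Coprime n0 p ∧ M = p ^ a * n0 := by
    rcases hp with rfl | hp
    · exact ⟨0, M, hM, Nat.coprime_one_right M, by simp⟩
    · obtain ⟨a, n0, hnd, hMeq⟩ := Nat.exists_eq_pow_mul_and_not_dvd hM.ne' p hp.ne_one
      refine ⟨a, n0, ?_, ((Nat.Prime.coprime_iff_not_dvd hp).mpr hnd).symm, hMeq⟩
      rcases Nat.eq_zero_or_pos n0 with rfl | h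
      · simp at hMeq; omega
      · exact h
  obtain ⟨x'', hx''N, hx''⟩ := TauI.exists_pow_eq_of_mem G n0 (hopen n0 hn0pos hcop) x hx
  obtain ⟨c, hcx'', hcz⟩ := TauH.exists_specializes_of_isOpenMap ((𝟙 G : G ⟶ G) ^ n0).left
    (hopen n0 hn0pos hcop) x'' z (by rw [hx'']; exact hzx)
  have hx''t : G.hom.base x'' = t := by
    rw [ht, ← hx'', ← Scheme.Hom.comp_apply, Over.w]
  have hx''U : x'' ∈ U := hKU (hKsub ⟨hx''N, by show G.hom.base x'' ∈ Wt; rw [hx''t]; exact htW⟩)
  have hcU : c ∈ U := hcx''.mem_open U.isOpen hx''U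
  obtain ⟨m, hm, hcm⟩ := TauC.exists_pow_mem_of_specializes G hcx'' hx''N
  have hcM := hbound c hcU ⟨m, hm, hcm⟩
  refine ⟨a, ?_⟩
  rw [← hcz, TauA.pow_pow_apply, mul_comm, ← hMeq]
  exact hcM

/-- the set of points some `p`-power power of which lies in the neutral set is open -/
theorem isOpen_rho (p : ℕ) (hS : ∀ s : ↥S, ringExpChar (S.residueField s) = p)
    (hopen : ∀ n : ℕ, 0 < n → Nat.Coprime n p → IsOpenMap ((𝟙 G : G ⟶ G) ^ n).left.base) :
    IsOpen {x : ↥G.left | ∃ h : ℕ, ((𝟙 G : G ⟶ G) ^ (p ^ h)).left.base x ∈ SGA3x.neutralSet G} := by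
  haveI : IsLocallyNoetherian G.left := LocallyOfFiniteType.isLocallyNoetherian G.hom
  apply isOpen_of_generalization_of_lc
  · rintro z x hzx ⟨h, hxh⟩
    have h1 : ((𝟙 G : G ⟶ G) ^ (p ^ h)).left.base z ⤳ ((𝟙 G : G ⟶ G) ^ (p ^ h)).left.base x :=
      hzx.map ((𝟙 G : G ⟶ G) ^ (p ^ h)).left.continuous
    obtain ⟨a, ha⟩ := exists_ppow_mem_of_specializes G p hS hopen h1 hxh
    refine ⟨h + a, ?_⟩
    rw [pow_add, ← TauA.pow_pow_apply]
    exact ha
  · rintro x ⟨h, hxh⟩
    have hp : p = 1 ∨ p.Prime := by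
      rw [← hS (G.hom.base x)]; exact TauG.ringExpChar_one_or_prime _
    have hppos : 0 < p ^ h := by
      rcases hp with rfl | hp
      · simp
      · exact pow_pos hp.pos h
    obtain ⟨n, hn, hxn⟩ := exists_mem_ordSet G x ⟨p ^ h, hppos, hxh⟩
    refine ⟨ordSet G n, Groth.Agent.S5693.result S G n hn, hxn, ?_⟩
    -- `n` divides `p ^ h`
    have hg := TauA.gcd_mem G x n (p ^ h) hxn.1 hxh
    have hgpos : 0 < Nat.gcd n (p ^ h) := Nat.gcd_pos_of_pos_left _ hn
    have hgle : Nat.gcd n (p ^ h) ≤ n := Nat.gcd_le_left _ hn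
    have hgeq : Nat.gcd n (p ^ h) = n := by
      by_contra hne
      exact hxn.2 _ hgpos (lt_of_le_of_ne hgle hne) hg
    have hdvd : n ∣ p ^ h := by
      rw [← hgeq]; exact Nat.gcd_dvd_right _ _
    obtain ⟨h', hn'⟩ : ∃ h' : ℕ, n = p ^ h' := by
      rcases hp with rfl | hp
      · rw [one_pow] at hdvd
        exact ⟨0, by rw [Nat.dvd_one.mp hdvd, pow_zero]⟩
      · obtain ⟨m, -, hm⟩ := (Nat.dvd_prime_pow hp).mp hdvd
        exact ⟨m, hm⟩
    rintro y ⟨hy, -⟩
    exact ⟨h', by rw [← hn']; exact hy⟩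

end Groth.Agent.Helper3.TauJ
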