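import Mathlib
import Groth.Prelude
import Groth.Agent.Helper5.NeutG
import Groth.Agent.Helper5.NeutM
import Groth.Agent.Helper5.NeutI
import Groth.Agent.Helper3.TauJ
import Groth.Agent.Helper3.TauK

set_option autoImplicit false
set_option linter.style.haveILetI false
set_option linter.unusedSectionVars false
set_option linter.unusedVariables false
set_option linter.deprecated false
set_option linter.style.haveILetI false
set_option linter.unusedSectionVars false
set_option linter.unusedVariables false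

universe u
open CategoryTheory CategoryTheory.Limits MonoidalCategory CartesianMonoidalCategory MonObj GrpObj
  AlgebraicGeometry TopologicalSpace Topology

namespace Groth.Agent.Helper3.TauL

open Groth.Agent.Helper5.Neut

variable {S : Scheme.{u}} [IsLocallyNoetherian S] (G : Over S) [GrpObj G]
  [LocallyOfFiniteType G.hom]

/-- over some nonempty open of the base the neutral set is open -/
theorem exists_open_isOpen_neutralSet [Nonempty ↥S] :
    ∃ U : S.Opens, (U : Set ↥S).Nonempty ∧
      IsOpen (SGA3x.neutralSet G ∩ G.hom.base ⁻¹' (U : Set ↥S)) := by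
  haveI : LocallyOfFinitePresentation G.hom :=
    LocallyOfFinitePresentation.iff_locallyOfFiniteType.mpr inferInstance
  haveI : IsLocallyNoetherian G.left := LocallyOfFiniteType.isLocallyNoetherian G.hom
  haveI : QuasiSeparated G.hom := inferInstance
  obtain ⟨s0⟩ := (inferInstance : Nonempty ↥S)
  obtain ⟨S1, hS1, hs0, K, hK, hKS1, hKsub⟩ := exists_isCompact_supset' G s0
  obtain ⟨W0, hW0c, hKW0⟩ := exists_isCompact_open_supset K hK
  haveI : CompactSpace ↥(W0 : Scheme.{u}) := isCompact_iff_compactSpace.mp hW0c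
  haveI : IsNoetherian (W0 : Scheme.{u}) := ⟨⟩
  haveI : NoetherianSpace ↥W0 := inferInstanceAs (NoetherianSpace ↥(W0 : Scheme.{u}))
  set W : G.left.Opens := W0 ⊓ (G.hom ⁻¹ᵁ S1) with hW
  have hWc : IsCompact (W : Set G.left) :=
    (noetherianSpace_set_iff (W0 : Set G.left)).mp inferInstance _ Set.inter_subset_left
  haveI : CompactSpace ↥(W : Scheme.{u}) := isCompact_iff_compactSpace.mp hWc
  haveI : IsNoetherian (W : Scheme.{u}) := ⟨⟩
  haveI : IsAffine (S1 : Scheme.{u}) := hS1
  haveI : IsNoetherian (S1 : Scheme.{u}) := ⟨⟩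
  have hNW : SGA3x.neutralSet G ∩ G.hom.base ⁻¹' (S1 : Set ↥S) ⊆ (W : Set G.left) :=
    fun x hx => ⟨hKW0 (hKsub hx), hx.2⟩
  -- the structure map of `W` to `S1`
  have hrange : Set.range (W.ι ≫ G.hom).base ⊆ Set.range S1.ι.base := by
    rintro _ ⟨w, rfl⟩
    rw [Scheme.Opens.range_ι]
    exact w.2.2
  set fW : (W : Scheme.{u}) ⟶ (S1 : Scheme.{u}) := IsOpenImmersion.lift S1.ι (W.ι ≫ G.hom) hrange
    with hfW
  have hfac : fW ≫ S1.ι = W.ι ≫ G.hom := IsOpenImmersion.lift_fac _ _ _
  haveI : LocallyOfFiniteType (fW ≫ S1.ι) := by rw [hfac]; infer_instance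
  haveI : LocallyOfFiniteType fW := locallyOfFiniteType_of_comp fW S1.ι
  haveI : LocallyOfFinitePresentation fW :=
    LocallyOfFinitePresentation.iff_locallyOfFiniteType.mpr inferInstance
  haveI : QuasiCompact fW := inferInstance
  have hfWapp : ∀ w : (W : Scheme.{u}), (S1.ι.base (fW.base w)) = G.hom.base (W.ι.base w) := by
    intro w
    rw [← Scheme.Hom.comp_apply, hfac, Scheme.Hom.comp_apply]
  -- the constructible sets
  have hembW := W.ι.isOpenEmbedding
  set N : Set (W : Scheme.{u}) := W.ι.base ⁻¹' SGA3x.neutralSet G with hN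
  have hNc : IsConstructible N :=
    ((isLocallyConstructible_neutralSet G).preimage_of_isOpenEmbedding hembW).isConstructible
  have hAc : IsConstructible Nᶜ := hNc.compl
  have hclc : IsConstructible (closure Nᶜ) := by
    have h1 : IsConstructible (closure Nᶜ)ᶜ :=
      (NoetherianSpace.isCompact _).isConstructible isClosed_closure.isOpen_compl
    exact h1.of_compl
  set B : Set (W : Scheme.{u}) := N ∩ closure Nᶜ with hB
  have hBc : IsConstructible B := hNc.inter hclc
  set C : Set (S1 : Scheme.{u}) := fW.base '' B with hC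
  have hCc : IsConstructible C := fW.isConstructible_image hBc
  -- `C` contains no maximal point
  have hCmax : ∀ ξ ∈ C, ¬ (∀ s : (S1 : Scheme.{u}), s ⤳ ξ → s = ξ) := by
    rintro _ ⟨b, ⟨hbN, hbcl⟩, rfl⟩ hmax
    obtain ⟨a, haA, hab⟩ := TauK.exists_specializes_of_mem_closure hAc hbcl
    have h1 : fW.base a = fW.base b := hmax _ (hab.map fW.continuous)
    set t := G.hom.base (W.ι.base b) with ht
    have hat : G.hom.base (W.ι.base a) = t := by
      rw [ht, ← hfWapp, ← hfWapp, h1]
    have hbN' : W.ι.base b ∈ connectedComponentIn (G.hom.base ⁻¹' {t}) (e G t) :=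
      (mem_neutralSet_iff G rfl).mp hbN
    obtain ⟨O, hO, hbO, hOsub⟩ := TauH.exists_isOpen_inter_subset_connectedComponentIn
      (G.hom.base ⁻¹' {t}) (W.ι.base b) rfl
    have hab' : W.ι.base a ⤳ W.ι.base b := hab.map W.ι.continuous
    have haO : W.ι.base a ∈ O := hab'.mem_open hO hbO
    have h2 := hOsub ⟨haO, hat⟩
    rw [← connectedComponentIn_eq hbN'] at h2
    exact haA ((mem_neutralSet_iff G hat).mpr h2)
  -- the open set
  haveI : Nonempty ↥(S1 : Scheme.{u}) := ⟨⟨s0, hs0⟩⟩
  obtain ⟨ξ, hξ⟩ := TauK.exists_maximal_point (Y := ↥(S1 : Scheme.{u}))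
  have hξC : ξ ∉ closure C := by
    intro h
    obtain ⟨c, hcC, hcξ⟩ := TauK.exists_specializes_of_mem_closure hCc h
    rw [hξ c hcξ] at hcC
    exact hCmax ξ hcC hξ
  set U1 : (S1 : Scheme.{u}).Opens := ⟨(closure C)ᶜ, isClosed_closure.isOpen_compl⟩ with hU1
  set U : S.Opens := S1.ι ''ᵁ U1 with hU
  refine ⟨U, ⟨S1.ι.base ξ, ξ, hξC, rfl⟩, ?_⟩
  -- openness, inside the open subscheme over `U`
  set V : G.left.Opens := G.hom ⁻¹ᵁ U with hV
  have hembV := V.ι.isOpenEmbedding
  set E' : Set (V : Scheme.{u}) := V.ι.base ⁻¹' SGA3x.neutralSet G with hE'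
  have hE'open : IsOpen E' := by
    apply TauJ.isOpen_of_generalization_of_lc
    · intro z x hzx hx
      by_contra hz
      have hzx1 : V.ι.base z ⤳ V.ι.base x := hzx.map V.ι.continuous
      have hxU : G.hom.base (V.ι.base x) ∈ U := x.2
      obtain ⟨u1, hu1, hu1x⟩ := hxU
      have hxS1 : G.hom.base (V.ι.base x) ∈ S1 := by
        rw [← hu1x]; exact u1.2
      have hxW : V.ι.base x ∈ W := hNW ⟨hx, hxS1⟩
      have hzW : V.ι.base z ∈ W := hzx1.mem_open W.isOpen hxW
      set xW : (W : Scheme.{u}) := ⟨V.ι.base x, hxW⟩ with hxWdef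
      set zW : (W : Scheme.{u}) := ⟨V.ι.base z, hzW⟩ with hzWdef
      have hzxW : zW ⤳ xW := hembW.isInducing.specializes_iff.mp hzx1
      have hzA : zW ∈ Nᶜ := hz
      have hxB : xW ∈ B :=
        ⟨hx, closure_mono (Set.singleton_subset_iff.mpr hzA) (specializes_iff_mem_closure.mp hzxW)⟩
      have hfx : fW.base xW ∈ closure C := subset_closure ⟨xW, hxB, rfl⟩
      have h3 : S1.ι.base (fW.base xW) = S1.ι.base u1 := by
        rw [hfWapp]; exact hu1x.symm
      have h4 : fW.base xW = u1 := S1.ι.isOpenEmbedding.injective h3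
      rw [h4] at hfx
      exact hu1 hfx
    · intro a ha
      exact ⟨E', (isLocallyConstructible_neutralSet G).preimage_of_isOpenEmbedding hembV, ha,
        subset_rfl⟩
  have hEeq : SGA3x.neutralSet G ∩ G.hom.base ⁻¹' (U : Set ↥S) = V.ι.base '' E' := by
    ext x
    constructor
    · rintro ⟨hx1, hx2⟩
      exact ⟨⟨x, hx2⟩, hx1, rfl⟩
    · rintro ⟨y, hy, rfl⟩
      exact ⟨hy, y.2⟩
  rw [hEeq]
  exact hembV.isOpenMap _ hE'open

end Groth.Agent.Helper3.TauL
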