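import Mathlib
import Groth.Prelude
import Groth.Agent.Helper3.TauL
import Groth.Agent.Helper3.FibQC

set_option autoImplicit false
set_option linter.style.haveILetI false
set_option linter.unusedSectionVars false
set_option linter.unusedVariables false
set_option linter.deprecated false
set_option linter.style.haveILetI false
set_option linter.unusedSectionVars false
set_option linter.unusedVariables false

universe u
open CategoryTheory CategoryTheory.Limits MonoidalCategory CartesianMonoidalCategory MonObj GrpObj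
  AlgebraicGeometry TopologicalSpace Topology

namespace Groth.Agent.Helper3.TauM

open Groth.Agent.Helper5.Neut

theorem main (S : Scheme.{u}) [IsLocallyNoetherian S] [Nonempty ↥S]
    (G : Over S) [GrpObj G] [LocallyOfFiniteType G.hom] :
    ∃ U : S.Opens, (U : Set ↥S).Nonempty ∧
      ∃ (H : Over (U : Scheme.{u})) (_ : GrpObj H) (i : H ⟶ Red.bc U.ι G), IsMonHom i ∧ IsOpenImmersion i.left ∧
        QuasiCompact H.hom ∧ LocallyOfFiniteType H.hom ∧
        (∀ u : ↥(U : Scheme.{u}), _root_.IsConnected (H.hom.base ⁻¹' {u})) ∧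
        Set.range (i.left ≫ pullback.fst G.hom U.ι).base = SGA3x.neutralSet G ∩ G.hom.base ⁻¹' (U : Set ↥S) := by
  obtain ⟨U, hUne, hUopen⟩ := TauL.exists_open_isOpen_neutralSet G
  refine ⟨U, hUne, ?_⟩
  set GU : Over (U : Scheme.{u}) := Red.bc U.ι G with hGU
  set pr : GU.left ⟶ G.left := pullback.fst G.hom U.ι with hpr
  have hprU : ∀ y : GU.left, G.hom.base (pr.base y) ∈ U := by
    intro y
    have h1 : pr ≫ G.hom = pullback.snd G.hom U.ι ≫ U.ι := pullback.condition
    rw [← Scheme.Hom.comp_apply, h1, Scheme.Hom.comp_apply]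
    exact ((pullback.snd G.hom U.ι).base y).2
  have hNeq : SGA3x.neutralSet GU = pr.base ⁻¹' SGA3x.neutralSet G := s5322 S _ U.ι G
  have hopen : IsOpen (SGA3x.neutralSet GU) := by
    have h1 : SGA3x.neutralSet GU =
        pr.base ⁻¹' (SGA3x.neutralSet G ∩ G.hom.base ⁻¹' (U : Set ↥S)) := by
      rw [hNeq]
      ext y
      exact ⟨fun h => ⟨h, hprU y⟩, fun h => h.1⟩
    rw [h1]
    exact hUopen.preimage pr.continuous
  letI := grp0 GU hopen
  haveI : LocallyOfFiniteType GU.hom := by
    show LocallyOfFiniteType (pullback.snd G.hom U.ι)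
    infer_instance
  haveI : LocallyOfFiniteType (G0 GU hopen).hom := by
    show LocallyOfFiniteType ((G0o GU hopen).ι ≫ GU.hom)
    infer_instance
  refine ⟨G0 GU hopen, grp0 GU hopen, i0 GU hopen, isMonHom_i0 GU hopen, inferInstance,
    Groth.Agent.Helper3.FibQC.main (G0 GU hopen) (isConnected_fiber_G0 GU hopen), inferInstance,
    isConnected_fiber_G0 GU hopen, ?_⟩
  have hr : Set.range (i0 GU hopen).left.base = SGA3x.neutralSet GU := range_i0 GU hopen
  have hrpr : Set.range pr.base = G.hom.base ⁻¹' (U : Set ↥S) := by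
    rw [hpr, Scheme.Pullback.range_fst, Scheme.Opens.range_ι]
  rw [Scheme.Hom.comp_base, TopCat.coe_comp, Set.range_comp, hr, hNeq,
    Set.image_preimage_eq_inter_range, hrpr]

end Groth.Agent.Helper3.TauM
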