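import Mathlib

/-!
# Colimits in the category of topological commutative rings
-/

namespace Groth.Agent.Helper3.TopCommRingColim

open CategoryTheory CategoryTheory.Limits

universe v u

variable {J : Type u} [Category.{v} J] {F : J ⥤ TopCommRingCat.{u}}

/-- ring topologies on the cocone point making all coprojections continuous -/
def topSet (c : Cocone (F ⋙ forget₂ TopCommRingCat CommRingCat)) : Set (TopologicalSpace c.pt) :=
  {t | @IsTopologicalRing c.pt t _ ∧
    ∀ j, @Continuous (F.obj j) c.pt (F.obj j).isTopologicalSpace t (c.ι.app j).hom}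

/-- the colimit topology -/
@[instance_reducible] def colimTop (c : Cocone (F ⋙ forget₂ TopCommRingCat CommRingCat)) : TopologicalSpace c.pt :=
  sInf (topSet c)

lemma isTopRing (c : Cocone (F ⋙ forget₂ TopCommRingCat CommRingCat)) :
    @IsTopologicalRing c.pt (colimTop c) _ :=
  letI := colimTop c
  { toContinuousAdd := continuousAdd_sInf fun t ht =>
      letI := t
      haveI := ht.1
      inferInstance
    toContinuousMul := continuousMul_sInf fun t ht =>
      letI := t
      haveI := ht.1
      inferInstance
    toContinuousNeg := continuousNeg_sInf fun t ht =>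
      letI := t
      haveI := ht.1
      inferInstance }

lemma continuous_ι (c : Cocone (F ⋙ forget₂ TopCommRingCat CommRingCat)) (j : J) :
    @Continuous (F.obj j) c.pt (F.obj j).isTopologicalSpace (colimTop c) (c.ι.app j).hom :=
  continuous_sInf_rng.2 fun _ ht => ht.2 j

/-- the cocone point as topological ring -/
def colimPt (c : Cocone (F ⋙ forget₂ TopCommRingCat CommRingCat)) : TopCommRingCat.{u} :=
  @TopCommRingCat.of c.pt _ (colimTop c) (isTopRing c)

/-- the colimit cocone -/
def colimCocone (c : Cocone (F ⋙ forget₂ TopCommRingCat CommRingCat)) : Cocone F where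
  pt := colimPt c
  ι :=
    { app := fun j => (⟨(c.ι.app j).hom, continuous_ι c j⟩ : F.obj j ⟶ colimPt c)
      naturality := by
        intro i j f
        apply Subtype.ext
        apply RingHom.ext
        intro x
        have := c.w f
        exact congrArg (fun g => g.hom x) this }

lemma continuous_desc {c : Cocone (F ⋙ forget₂ TopCommRingCat CommRingCat)} (hc : IsColimit c)
    (s : Cocone F) :
    @Continuous c.pt s.pt (colimTop c) s.pt.isTopologicalSpace
      (hc.desc ((forget₂ TopCommRingCat CommRingCat).mapCocone s)).hom := by
  let g : c.pt →+* s.pt := (hc.desc ((forget₂ TopCommRingCat CommRingCat).mapCocone s)).hom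
  change @Continuous c.pt s.pt (colimTop c) s.pt.isTopologicalSpace g
  refine continuous_iff_le_induced.mpr (sInf_le ⟨?_, fun j => ?_⟩)
  · let _ : TopologicalSpace c.pt := TopologicalSpace.induced g s.pt.isTopologicalSpace
    have hind : Topology.IsInducing g := ⟨rfl⟩
    exact
      { toContinuousAdd := hind.continuousAdd g
        toContinuousMul := hind.continuousMul g
        toContinuousNeg := hind.continuousNeg (map_neg g) }
  · refine continuous_induced_rng.2 ?_
    have h := hc.fac ((forget₂ TopCommRingCat CommRingCat).mapCocone s) j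
    have h2 : (g ∘ (c.ι.app j).hom : F.obj j → s.pt) = (s.ι.app j).val := by
      funext x
      exact congrArg (fun g => g.hom x) h
    rw [h2]
    exact (s.ι.app j).2

/-- the colimit property -/
def isColimit {c : Cocone (F ⋙ forget₂ TopCommRingCat CommRingCat)} (hc : IsColimit c) :
    IsColimit (colimCocone c) where
  desc s := (⟨(hc.desc ((forget₂ TopCommRingCat CommRingCat).mapCocone s)).hom,
    continuous_desc hc s⟩ : colimPt c ⟶ s.pt)
  fac s j := by
    apply Subtype.ext
    apply RingHom.ext
    intro x
    exact congrArg (fun g => g.hom x) (hc.fac ((forget₂ TopCommRingCat CommRingCat).mapCocone s) j)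
  uniq s m hm := by
    apply Subtype.ext
    apply RingHom.ext
    intro x
    refine congrArg (fun g => g.hom x) (hc.uniq ((forget₂ TopCommRingCat CommRingCat).mapCocone s)
      ((forget₂ TopCommRingCat CommRingCat).map m) fun j => ?_)
    ext y
    exact congrArg (fun g => g.val y) (hm j)

/-- the image in `CommRingCat` is the original cocone -/
def isColimitRing {c : Cocone (F ⋙ forget₂ TopCommRingCat CommRingCat)} (hc : IsColimit c) :
    IsColimit ((forget₂ TopCommRingCat CommRingCat).mapCocone (colimCocone c)) :=
  IsColimit.ofIsoColimit hc (Cocone.ext (Iso.refl _) (by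
    intro j
    ext x
    rfl))

theorem main :
    HasColimits TopCommRingCat.{u} ∧
    PreservesColimits (forget₂ TopCommRingCat.{u} CommRingCat.{u}) := by
  refine ⟨⟨fun {J} _ => ⟨fun {F} => ⟨⟨⟨colimCocone _, isColimit (colimit.isColimit
    (F ⋙ forget₂ TopCommRingCat CommRingCat))⟩⟩⟩⟩⟩, ?_⟩
  exact ⟨fun {J} _ => ⟨fun {F} =>
    preservesColimit_of_preserves_colimit_cocone
      (isColimit (colimit.isColimit (F ⋙ forget₂ TopCommRingCat CommRingCat)))
      (isColimitRing (colimit.isColimit (F ⋙ forget₂ TopCommRingCat CommRingCat)))⟩⟩

end Groth.Agent.Helper3.TopCommRingColim
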