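import Mathlib

/-!
# Limits in the category of topological commutative rings
-/

namespace Groth.Agent.Helper3.TopCommRingLim

open CategoryTheory CategoryTheory.Limits

universe v u

variable {J : Type u} [Category.{v} J] (F : J ⥤ TopCommRingCat.{u})

/-- the subring of compatible families -/
def secSubring : Subring (∀ j, F.obj j) where
  carrier := {x | ∀ ⦃i j : J⦄ (f : i ⟶ j), (F.map f).val (x i) = x j}
  mul_mem' := by
    intro a b ha hb i j f
    simp only [Pi.mul_apply, map_mul, ha f, hb f]
  one_mem' := by
    intro i j f
    simp only [Pi.one_apply, map_one]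
  add_mem' := by
    intro a b ha hb i j f
    simp only [Pi.add_apply, map_add, ha f, hb f]
  zero_mem' := by
    intro i j f
    simp only [Pi.zero_apply, map_zero]
  neg_mem' := by
    intro a ha i j f
    simp only [Pi.neg_apply, map_neg, ha f]

lemma mem_secSubring (x : ∀ j, F.obj j) :
    x ∈ secSubring F ↔ ∀ ⦃i j : J⦄ (f : i ⟶ j), (F.map f).val (x i) = x j := Iff.rfl

/-- the limit cone -/
def limCone : Cone F where
  pt := TopCommRingCat.of (secSubring F)
  π :=
    { app := fun j => ⟨(Pi.evalRingHom (fun j => F.obj j) j).comp (secSubring F).subtype,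
        (continuous_apply j).comp continuous_subtype_val⟩
      naturality := by
        intro i j f
        apply Subtype.ext
        apply RingHom.ext
        intro x
        exact (x.2 f).symm }

/-- the lift -/
def lift (s : Cone F) : s.pt ⟶ (limCone F).pt :=
  ⟨RingHom.codRestrict (RingHom.pi fun j => (s.π.app j).val) (secSubring F) (by
      intro x i j f
      have := s.w f
      have h2 := congrArg (fun g => g.val x) this
      exact h2),
    Continuous.subtype_mk (continuous_pi fun j => (s.π.app j).2) _⟩

def limConeIsLimit : IsLimit (limCone F) where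
  lift s := lift F s
  fac s j := by
    apply Subtype.ext
    apply RingHom.ext
    intro x
    rfl
  uniq s m hm := by
    apply Subtype.ext
    apply RingHom.ext
    intro x
    apply Subtype.ext
    funext j
    have h2 := congrArg (fun g => g.val x) (hm j)
    exact h2

lemma topCompat (s : Cone (F ⋙ forget₂ TopCommRingCat TopCat)) (x : s.pt) :
    (fun j => (s.π.app j) x : ∀ j, F.obj j) ∈ secSubring F := by
  intro i j f
  have := s.w f
  have h2 := congrArg (fun g => g x) this
  exact h2

/-- the image in `TopCat` is a limit cone -/
def isLimitTop : IsLimit ((forget₂ TopCommRingCat TopCat).mapCone (limCone F)) where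
  lift s := TopCat.ofHom
    ⟨fun x => (⟨fun j => (s.π.app j) x, topCompat F s x⟩ : secSubring F),
      Continuous.subtype_mk (continuous_pi fun j => (s.π.app j).hom.2) _⟩
  fac s j := by
    ext x
    rfl
  uniq s m hm := by
    ext x
    apply Subtype.ext
    funext j
    have h2 := congrArg (fun g => g x) (hm j)
    exact h2

/-- the image in `CommRingCat` is a limit cone -/
def isLimitRing : IsLimit ((forget₂ TopCommRingCat CommRingCat).mapCone (limCone F)) where
  lift s := CommRingCat.ofHom
    (RingHom.codRestrict (RingHom.pi fun j => (s.π.app j).hom) (secSubring F) (by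
      intro x i j f
      have := s.w f
      have h2 := congrArg (fun g => g.hom x) this
      exact h2))
  fac s j := by
    ext x
    rfl
  uniq s m hm := by
    ext x
    apply Subtype.ext
    funext j
    have h2 := congrArg (fun g => g.hom x) (hm j)
    exact h2

theorem main :
    HasLimits TopCommRingCat.{u} ∧
    PreservesLimits (forget₂ TopCommRingCat.{u} TopCat.{u}) ∧
    PreservesLimits (forget₂ TopCommRingCat.{u} CommRingCat.{u}) := by
  refine ⟨⟨fun {J} _ => ⟨fun {F} => ⟨⟨⟨limCone F, limConeIsLimit F⟩⟩⟩⟩⟩, ?_, ?_⟩
  · exact ⟨fun {J} _ => ⟨fun {F} =>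
      preservesLimit_of_preserves_limit_cone (limConeIsLimit F) (isLimitTop F)⟩⟩
  · exact ⟨fun {J} _ => ⟨fun {F} =>
      preservesLimit_of_preserves_limit_cone (limConeIsLimit F) (isLimitRing F)⟩⟩

end Groth.Agent.Helper3.TopCommRingLim
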