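import Mathlib
import Groth.Prelude.Def_DRing2
import Groth.Prelude.Def_DDual2
import Groth.Prelude.Def_MoreMor
import Groth.Agent.Helper3.TorDimA
import Groth.Agent.Helper1.TorCrit

/-! Finite tor dimension over a polynomial ring: if an `A[X]`-module has finite tor dimension
over `A` then it has finite tor dimension over `A[X]`. -/

set_option autoImplicit false
set_option linter.style.haveILetI false
set_option linter.unusedSectionVars false
set_option linter.unusedVariables false
set_option linter.style.haveILetI false
set_option linter.unusedSectionVars false
set_option linter.unusedVariables false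
universe u
open CategoryTheory CategoryTheory.Limits TensorProduct Polynomial

namespace Groth.Agent.Helper3.TorDim

attribute [local instance] HasDerivedCategory.standard

open Groth.Agent.Helper3.DRingLib DerivedCategory Groth.Agent.Helper1.TorLib

section OneVar

variable (A : Type u) [CommRing A] (M : Type u) [AddCommGroup M] [Module A M] [Module A[X] M]
  [IsScalarTower A A[X] M]

/-- multiplication by `X` as an `A`-linear endomorphism -/
noncomputable def mulX : M →ₗ[A] M where
  toFun m := (X : A[X]) • m
  map_add' := smul_add _
  map_smul' a m := by
    simp only [RingHom.id_apply]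
    exact smul_comm _ _ _

/-- evaluation `M[X] → M` -/
noncomputable def muA : PolynomialModule A M →ₗ[A] M :=
  ((PolynomialModule.eval (X : A[X])).restrictScalars A).comp
    (PolynomialModule.map A[X] (LinearMap.id : M →ₗ[A] M))

lemma muA_single (n : ℕ) (m : M) : muA A M (PolynomialModule.single A n m) = (X : A[X]) ^ n • m := by
  simp [muA]

noncomputable def mu : PolynomialModule A M →ₗ[A[X]] M where
  toFun := muA A M
  map_add' := map_add _
  map_smul' p q := by
    show PolynomialModule.eval X (PolynomialModule.map A[X] LinearMap.id (p • q)) =
      p • PolynomialModule.eval X (PolynomialModule.map A[X] LinearMap.id q)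
    rw [PolynomialModule.map_smul, PolynomialModule.eval_smul, Polynomial.eval_map,
      Polynomial.algebraMap_eq, Polynomial.eval₂_C_X]

lemma mu_single (n : ℕ) (m : M) : mu A M (PolynomialModule.single A n m) = (X : A[X]) ^ n • m :=
  muA_single A M n m

noncomputable def mapT : PolynomialModule A M →ₗ[A[X]] PolynomialModule A M where
  toFun := PolynomialModule.map A (mulX A M)
  map_add' := map_add _
  map_smul' p q := by
    rw [PolynomialModule.map_smul, Algebra.algebraMap_self, Polynomial.map_id]
    rfl

lemma mapT_single (n : ℕ) (m : M) :
    mapT A M (PolynomialModule.single A n m) = PolynomialModule.single A n ((X : A[X]) • m) := by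
  show PolynomialModule.map A (mulX A M) _ = _
  rw [PolynomialModule.map_single]
  rfl

noncomputable def phi : PolynomialModule A M →ₗ[A[X]] PolynomialModule A M :=
  (X : A[X]) • LinearMap.id - mapT A M

lemma X_smul_single (n : ℕ) (m : M) :
    (X : A[X]) • PolynomialModule.single A n m = PolynomialModule.single A (n + 1) m := by
  have := PolynomialModule.monomial_smul_single (R := A) 1 1 n m
  rw [Polynomial.monomial_one_one_eq_X, one_smul, add_comm] at this
  exact this

lemma phi_single (n : ℕ) (m : M) :
    phi A M (PolynomialModule.single A n m) =
      PolynomialModule.single A (n + 1) m - PolynomialModule.single A n ((X : A[X]) • m) := by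
  show (X : A[X]) • PolynomialModule.single A n m - mapT A M _ = _
  rw [X_smul_single, mapT_single]

lemma mu_phi (q : PolynomialModule A M) : mu A M (phi A M q) = 0 := by
  induction q using PolynomialModule.induction_linear with
  | zero => simp
  | add x y hx hy => rw [map_add, map_add, hx, hy, add_zero]
  | single n m =>
    rw [phi_single, map_sub, mu_single, mu_single, pow_succ, mul_smul, sub_self]

lemma mu_surjective : Function.Surjective (mu A M) := fun m =>
  ⟨PolynomialModule.single A 0 m, by rw [mu_single, pow_zero, one_smul]⟩

lemma coeff_phi_succ (q : PolynomialModule A M) (n : ℕ) :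
    (phi A M q).coeff (n + 1) = q.coeff n - (X : A[X]) • q.coeff (n + 1) := by
  induction q using PolynomialModule.induction_linear with
  | zero => simp
  | add x y hx hy =>
    rw [(phi A M).map_add x y, PolynomialModule.coeff_add, PolynomialModule.coeff_add,
      Finsupp.add_apply, Finsupp.add_apply, Finsupp.add_apply, hx, hy, smul_add]
    abel
  | single k m =>
    rw [phi_single]
    show (PolynomialModule.single A (k + 1) m).coeff (n + 1) -
      (PolynomialModule.single A k ((X : A[X]) • m)).coeff (n + 1) = _
    simp only [PolynomialModule.coeff_single, Finsupp.single_apply]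
    by_cases h1 : k = n
    · subst h1
      simp
    · by_cases h2 : k = n + 1
      · subst h2
        simp
      · have h3 : ¬ k + 1 = n + 1 := by omega
        simp [h1, h2, h3]

lemma phi_injective : Function.Injective (phi A M) := by
  rw [injective_iff_map_eq_zero]
  intro q hq
  have hrec : ∀ n, q.coeff n = (X : A[X]) • q.coeff (n + 1) := by
    intro n
    have := coeff_phi_succ A M q n
    rw [hq] at this
    have h0 : (0 : PolynomialModule A M).coeff (n + 1) = 0 := rfl
    rw [h0] at this
    exact (sub_eq_zero.mp this.symm)
  obtain ⟨N, hN⟩ : ∃ N : ℕ, ∀ n, N ≤ n → q.coeff n = 0 := by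
    refine ⟨q.coeff.support.sup id + 1, fun n hn => ?_⟩
    by_contra hne
    have hmem : n ∈ q.coeff.support := Finsupp.mem_support_iff.mpr hne
    have : n ≤ q.coeff.support.sup id := Finset.le_sup (f := id) hmem
    omega
  have key : ∀ k n, N ≤ n + k → q.coeff n = 0 := by
    intro k
    induction k with
    | zero => intro n hn; exact hN n (by omega)
    | succ k ih =>
      intro n hn
      rw [hrec n, ih (n + 1) (by omega), smul_zero]
  rw [← PolynomialModule.coeff_eq_zero]
  ext n
  exact key N n (by omega)

lemma sub_single_mem_range (q : PolynomialModule A M) :
    q - PolynomialModule.single A 0 (mu A M q) ∈ LinearMap.range (phi A M) := by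
  induction q using PolynomialModule.induction_linear with
  | zero => simp
  | add x y hx hy =>
    have : x + y - PolynomialModule.single A 0 (mu A M (x + y)) =
        (x - PolynomialModule.single A 0 (mu A M x)) +
          (y - PolynomialModule.single A 0 (mu A M y)) := by
      rw [map_add, PolynomialModule.single_add]
      abel
    rw [this]
    exact Submodule.add_mem _ hx hy
  | single n m =>
    induction n generalizing m with
    | zero =>
      rw [mu_single, pow_zero, one_smul, sub_self]
      exact Submodule.zero_mem _
    | succ n ih =>
      have h1 := ih ((X : A[X]) • m)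
      have h2 : PolynomialModule.single A (n + 1) m -
          PolynomialModule.single A 0 (mu A M (PolynomialModule.single A (n + 1) m)) =
          phi A M (PolynomialModule.single A n m) +
            (PolynomialModule.single A n ((X : A[X]) • m) -
              PolynomialModule.single A 0
                (mu A M (PolynomialModule.single A n ((X : A[X]) • m)))) := by
        rw [phi_single, mu_single, mu_single, pow_succ, mul_smul]
        abel
      rw [h2]
      exact Submodule.add_mem _ ⟨_, rfl⟩ h1

lemma exact_phi_mu : Function.Exact (phi A M) (mu A M) := by
  intro q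
  constructor
  · intro h
    have := sub_single_mem_range A M q
    rw [h] at this
    have h0 : PolynomialModule.single A 0 (0 : M) = 0 := PolynomialModule.single_zero 0
    rw [h0, sub_zero] at this
    exact this
  · rintro ⟨p, rfl⟩
    exact mu_phi A M p

variable {A M} in
/-- **one variable**: finite tor dimension over `A` implies finite tor dimension over `A[X]` -/
theorem hasFiniteTorDim_polynomial (h : DRing.HasFiniteTorDim A M) :
    DRing.HasFiniteTorDim A[X] M := by
  have h1 : DRing.HasFiniteTorDim A[X] (PolynomialModule A M) :=
    hasFiniteTorDim_of_linearEquiv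
      (PolynomialModule.polynomialTensorProductLEquivPolynomialModule A M)
      (hasFiniteTorDim_baseChange A[X] M h)
  rw [hasFiniteTorDim_iff] at h1
  obtain ⟨d, hd⟩ := h1
  have hS := scOfLinear_shortExact (phi A M) (mu A M) (phi_injective A M) (mu_surjective A M)
    (exact_phi_mu A M)
  refine hasFiniteTorDim_of_amp M (-((d + 1 : ℕ) : ℤ)) 0 ?_
  have h1' : DRing.HasTorAmplitudeIn A[X] (-((d + 1 : ℕ) : ℤ) + 1) (0 + 1)
      hS.singleTriangle.obj₁ :=
    hasTorAmplitudeIn_mono (by push_cast; omega) (by omega) hd
  have h2' : DRing.HasTorAmplitudeIn A[X] (-((d + 1 : ℕ) : ℤ)) 0 hS.singleTriangle.obj₂ :=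
    hasTorAmplitudeIn_mono (by push_cast; omega) (le_refl _) hd
  exact hasTorAmplitudeIn_obj₃ _ hS.singleTriangle_distinguished _ _ h1' h2'

end OneVar

end Groth.Agent.Helper3.TorDim
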