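import Mathlib
import Groth.Prelude.Def_DRing2
import Groth.Prelude.Def_DDual2
import Groth.Prelude.Def_MoreMor
import Groth.Agent.Helper3.TorDimPoly
import Groth.Agent.Helper3.TorDimC
import Groth.Agent.Helper3.DRingTor6

/-! Finite tor dimension over multivariate polynomial rings, and the module characterisation of
perfect ring maps. -/

set_option autoImplicit false
set_option linter.style.haveILetI false
set_option linter.unusedSectionVars false
set_option linter.unusedVariables false
set_option linter.style.haveILetI false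
set_option linter.unusedSectionVars false
set_option linter.unusedVariables false
universe u
open CategoryTheory CategoryTheory.Limits TensorProduct

namespace Groth.Agent.Helper3.TorDim

attribute [local instance] HasDerivedCategory.standard

open Groth.Agent.Helper3.DRingLib DerivedCategory

/-- transport of finite tor dimension along a ring isomorphism -/
lemma hasFiniteTorDim_of_ringEquiv {P P' : Type u} [CommRing P] [CommRing P'] (e : P ≃+* P')
    (M : Type u) [AddCommGroup M] [Module P M] [Module P' M]
    (hcompat : ∀ (p : P) (m : M), e p • m = p • m) (h : DRing.HasFiniteTorDim P' M) :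
    DRing.HasFiniteTorDim P M := by
  letI : Algebra P P' := e.toRingHom.toAlgebra
  haveI : IsScalarTower P P' M := IsScalarTower.of_algebraMap_smul (fun p m => hcompat p m)
  haveI : Module.Flat P P' := RingHom.Flat.of_bijective (f := e.toRingHom) e.bijective
  exact hasFiniteTorDim_trans (A := P) (B := P') (hasFiniteTorDim_of_flat P') M h

/-- finite tor dimension over `A` implies finite tor dimension over `A[x_1, …, x_n]` -/
theorem hasFiniteTorDim_mvPolynomial : ∀ (n : ℕ) (A : Type u) [CommRing A] (M : Type u)
    [AddCommGroup M] [Module (MvPolynomial (Fin n) A) M] [Module A M]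
    [IsScalarTower A (MvPolynomial (Fin n) A) M],
    DRing.HasFiniteTorDim A M → DRing.HasFiniteTorDim (MvPolynomial (Fin n) A) M := by
  intro n
  induction n with
  | zero =>
    intro A _ M _ _ _ _ h
    refine hasFiniteTorDim_of_ringEquiv (MvPolynomial.isEmptyRingEquiv A (Fin 0)) M
      (fun p m => ?_) h
    obtain ⟨a, rfl⟩ : ∃ a, p = MvPolynomial.C a :=
      ⟨MvPolynomial.isEmptyRingEquiv A (Fin 0) p, by
        rw [← MvPolynomial.isEmptyRingEquiv_symm_apply (R := A) (σ := Fin 0),
          RingEquiv.symm_apply_apply]⟩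
    have h1 : MvPolynomial.isEmptyRingEquiv A (Fin 0) (MvPolynomial.C a) = a := by
      rw [← MvPolynomial.isEmptyRingEquiv_symm_apply (R := A) (σ := Fin 0),
        RingEquiv.apply_symm_apply]
    rw [h1, ← MvPolynomial.algebraMap_eq, algebraMap_smul]
  | succ n ih =>
    intro A _ M _ _ _ _ h
    let e : MvPolynomial (Fin (n + 1)) A ≃ₐ[A] Polynomial (MvPolynomial (Fin n) A) :=
      MvPolynomial.finSuccEquiv A n
    letI m1 : Module (Polynomial (MvPolynomial (Fin n) A)) M :=
      Module.compHom M (e.symm.toRingEquiv.toRingHom : Polynomial (MvPolynomial (Fin n) A) →+* _)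
    letI m2 : Module (MvPolynomial (Fin n) A) M :=
      Module.compHom M ((e.symm.toRingEquiv.toRingHom :
        Polynomial (MvPolynomial (Fin n) A) →+* _).comp
        (Polynomial.C : MvPolynomial (Fin n) A →+* _))
    have hm1 : ∀ (p : Polynomial (MvPolynomial (Fin n) A)) (m : M), p • m = e.symm p • m :=
      fun _ _ => rfl
    have hm2 : ∀ (c : MvPolynomial (Fin n) A) (m : M), c • m = e.symm (Polynomial.C c) • m :=
      fun _ _ => rfl
    haveI t1 : IsScalarTower (MvPolynomial (Fin n) A) (Polynomial (MvPolynomial (Fin n) A)) M := by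
      constructor
      intro c p m
      rw [hm1, hm2, hm1, Polynomial.smul_eq_C_mul, map_mul, mul_smul]
    haveI t2 : IsScalarTower A (MvPolynomial (Fin n) A) M := by
      constructor
      intro a c m
      rw [hm2, hm2, ← Polynomial.smul_C, map_smul, smul_assoc]
    have h1 : DRing.HasFiniteTorDim (MvPolynomial (Fin n) A) M := ih A M h
    have h2 : DRing.HasFiniteTorDim (Polynomial (MvPolynomial (Fin n) A)) M :=
      hasFiniteTorDim_polynomial h1
    refine hasFiniteTorDim_of_ringEquiv e.toRingEquiv M (fun p m => ?_) h2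
    show e.symm (e p) • m = p • m
    rw [AlgEquiv.symm_apply_apply]

/-- **perfect ring maps via modules**: `A → B` is perfect iff `B` is a perfect module over some
polynomial presentation -/
theorem s7066 (A B : Type u) [CommRing A] [CommRing B] [Algebra A B] :
    MoreMor.IsPerfectHom A B ↔
      ∃ (n : ℕ) (φ : MvPolynomial (Fin n) A →ₐ[A] B), Function.Surjective φ ∧
        letI := φ.toRingHom.toAlgebra
        DRing.IsPerfectModule (MvPolynomial (Fin n) A) B := by
  constructor
  · rintro ⟨⟨n, φ, hφ, hpc⟩, hfd⟩
    refine ⟨n, φ, hφ, ?_⟩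
    letI : Algebra (MvPolynomial (Fin n) A) B := φ.toRingHom.toAlgebra
    haveI : IsScalarTower A (MvPolynomial (Fin n) A) B :=
      IsScalarTower.of_algebraMap_eq (fun a => (φ.commutes a).symm)
    have h1 := hasFiniteTorDim_mvPolynomial n A B hfd
    rw [hasFiniteTorDim_iff] at h1
    obtain ⟨d, hd⟩ := h1
    show DRing.IsPerfect _ _
    rw [isPerfect_iff_pc_and_torDim]
    exact ⟨hpc, ⟨_, _, hd⟩⟩
  · rintro ⟨n, φ, hφ, hperf⟩
    letI : Algebra (MvPolynomial (Fin n) A) B := φ.toRingHom.toAlgebra
    haveI : IsScalarTower A (MvPolynomial (Fin n) A) B :=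
      IsScalarTower.of_algebraMap_eq (fun a => (φ.commutes a).symm)
    have hperf' : DRing.IsPerfect (MvPolynomial (Fin n) A) (Dual.inD _ B) := hperf
    rw [isPerfect_iff_pc_and_torDim] at hperf'
    obtain ⟨hpc, a, b, hab⟩ := hperf'
    exact ⟨⟨n, φ, hφ, hpc⟩, KPerfC.hasFiniteTorDim_of_isPerfect (A := A) (P := MvPolynomial (Fin n) A) B a b hab⟩

end Groth.Agent.Helper3.TorDim
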