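import Mathlib
import Groth.Prelude.Def_AlgGrp
import Groth.Agent.Helper3.FibCodim1

set_option autoImplicit false
set_option linter.style.haveILetI false
set_option linter.unusedSectionVars false
set_option linter.unusedVariables false
set_option linter.deprecated false
set_option linter.style.haveILetI false
set_option linter.unusedSectionVars false
set_option linter.unusedVariables false

universe u

namespace Groth.Agent.Helper3.TorsCodim1

open AlgebraicGeometry CategoryTheory CategoryTheory.Limits TopologicalSpace Opposite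
open MonoidalCategory CartesianMonoidalCategory

theorem isIso_of_codim_one' {P Q S : Scheme.{u}} [IsLocallyNoetherian S] (Ψ : P ⟶ Q) (q : Q ⟶ S)
    (p : P ⟶ S) (hp : Ψ ≫ q = p)
    [IsFinite q] [Flat q] [IsFinite p] [Flat p]
    (hfib : ∀ s : S, ringKrullDim (S.presheaf.stalk s) ≤ 1 →
      ∀ e₁ e₂, IsIso (pullback.map p (S.fromSpecResidueField s) q
        (S.fromSpecResidueField s) Ψ (𝟙 _) (𝟙 S) e₁ e₂)) :
    IsIso Ψ := by
  subst hp
  exact FibCodim1.isIso_of_codim_one Ψ q hfib

/-- a closed map from a scheme whose range contains all points with zero-dimensional local ring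
is surjective -/
theorem surjective_of_closed {Y S : Scheme.{u}} (f : Y ⟶ S) (hcl : IsClosedMap f.base)
    (h : ∀ s : S, ringKrullDim (S.presheaf.stalk s) ≤ 0 → s ∈ Set.range f.base) :
    Function.Surjective f.base := by
  intro s
  obtain ⟨_, ⟨W, hW, rfl⟩, hsW, -⟩ := S.isBasis_affineOpens.exists_subset_of_mem_open
    (Set.mem_univ s) isOpen_univ
  replace hW : IsAffineOpen W := hW
  set 𝔭 := hW.primeIdealOf ⟨s, hsW⟩ with h𝔭
  obtain ⟨p₀, hp₀, hle⟩ := Ideal.exists_minimalPrimes_le (I := ⊥) (J := 𝔭.asIdeal) bot_le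
  haveI hp₀prime : p₀.IsPrime := hp₀.1.1
  obtain ⟨s₀, hs₀W, hdim, -, hs₀⟩ := FibCodim1.point_facts W hW p₀
  have hht : p₀.height = 0 := Ideal.height_eq_zero_iff.mpr (by simpa [minimalPrimes] using hp₀)
  have hs₀r : s₀ ∈ Set.range f.base := by
    apply h
    rw [hdim, hht]
    rfl
  have hspec : s₀ ⤳ s := by
    have h1 : (⟨p₀, hp₀prime⟩ : PrimeSpectrum Γ(S, W)) ⤳ 𝔭 :=
      (PrimeSpectrum.le_iff_specializes _ _).mp hle
    have h2 := h1.map hW.fromSpec.base.hom.2
    have h3 : hW.fromSpec 𝔭 = s := hW.fromSpec_primeIdealOf ⟨s, hsW⟩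
    rw [hs₀, ← h3]
    exact h2
  have hclosed : IsClosed (Set.range f.base) := by
    rw [← Set.image_univ]
    exact hcl _ isClosed_univ
  exact hspec.mem_closed hclosed hs₀r

theorem s15809
    (S : Scheme.{u}) [AlgebraicGeometry.IsNoetherian S]
    (G Y : Over S) [GrpObj G]
    [AlgebraicGeometry.IsFinite G.hom] [AlgebraicGeometry.Flat G.hom]
    [AlgebraicGeometry.IsFinite Y.hom] [AlgebraicGeometry.Flat Y.hom]
    (a : AlgGrp.Action G Y)
    (hfib : ∀ s : S, ringKrullDim (S.presheaf.stalk s) ≤ 1 →
      s ∈ Set.range Y.hom.base ∧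
      IsIso (pullback.map (G ⊗ Y).hom (S.fromSpecResidueField s) (Y ⊗ Y).hom (S.fromSpecResidueField s)
        (CartesianMonoidalCategory.lift a.act (CartesianMonoidalCategory.snd G Y)).left
        (𝟙 _) (𝟙 S)
        ((Category.comp_id _).trans
          (Over.w (CartesianMonoidalCategory.lift a.act (CartesianMonoidalCategory.snd G Y))).symm)
        ((Category.comp_id _).trans (Category.id_comp _).symm))) :
    IsIso (CartesianMonoidalCategory.lift a.act (CartesianMonoidalCategory.snd G Y)).left ∧
      Function.Surjective Y.hom.base := by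
  haveI : IsFinite (G ⊗ Y).hom := by
    rw [Over.tensorObj_hom]; infer_instance
  haveI : Flat (G ⊗ Y).hom := by
    rw [Over.tensorObj_hom]; infer_instance
  haveI : IsFinite (Y ⊗ Y).hom := by
    rw [Over.tensorObj_hom]; infer_instance
  haveI : Flat (Y ⊗ Y).hom := by
    rw [Over.tensorObj_hom]; infer_instance
  refine ⟨?_, ?_⟩
  · apply isIso_of_codim_one' _ (Y ⊗ Y).hom (G ⊗ Y).hom
      (Over.w (CartesianMonoidalCategory.lift a.act (CartesianMonoidalCategory.snd G Y)))
    intro s hs e₁ e₂
    exact (hfib s hs).2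
  · apply surjective_of_closed Y.hom
    · exact Y.hom.isClosedMap
    · intro s hs
      exact (hfib s (hs.trans (by norm_num))).1

end Groth.Agent.Helper3.TorsCodim1
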