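import Mathlib

set_option autoImplicit false
set_option linter.style.haveILetI false
set_option linter.unusedSectionVars false
set_option linter.unusedVariables false
set_option linter.style.haveILetI false
set_option linter.unusedSectionVars false
set_option linter.unusedVariables false

universe u

namespace Groth.Agent.Helper3.TraceLocal

section T
variable {R V : Type*} [CommRing R] [AddCommGroup V]
    [Module R V] [Module.Finite R V]
    (W : Submodule R V) [Module.Free R W] [Module.Finite R W] [Module.Free R (V ⧸ W)]

open Module.Basis in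
/-- additivity of the trace along an invariant submodule -/
theorem trace_eq_add (e : V →ₗ[R] V) (he : W ≤ W.comap e) :
    LinearMap.trace R V e =
      LinearMap.trace R W (e.restrict he) + LinearMap.trace R (V ⧸ W) (W.mapQ W e he) := by
  classical
  let m := Module.Free.ChooseBasisIndex R W
  let bW : Module.Basis m R W := Module.Free.chooseBasis R W
  let n := Module.Free.ChooseBasisIndex R (V ⧸ W)
  let bQ : Module.Basis n R (V ⧸ W) := Module.Free.chooseBasis R (V ⧸ W)
  let b := sumQuot bW bQ
  let A : Matrix m m R := LinearMap.toMatrix bW bW (e.restrict he)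
  let B : Matrix m n R := Matrix.of fun i l ↦
    ((sumQuot bW bQ).repr (e ((sumQuot bW bQ) (Sum.inr l)))) (Sum.inl i)
  let D : Matrix n n R := LinearMap.toMatrix bQ bQ (W.mapQ W e he)
  suffices LinearMap.toMatrix b b e = Matrix.fromBlocks A B 0 D by
    rw [LinearMap.trace_eq_matrix_trace R b, this, LinearMap.trace_eq_matrix_trace R bW,
      LinearMap.trace_eq_matrix_trace R bQ]
    simp [Matrix.trace, Fintype.sum_sum_type, A, D]
  ext u v
  cases u with
  | inl i =>
    cases v with
    | inl k =>
      simp only [b, sumQuot_inl, Matrix.fromBlocks_apply₁₁, A, LinearMap.toMatrix_apply]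
      apply sumQuot_repr_inl_of_mem
    | inr l => simp [b, LinearMap.toMatrix_apply, Matrix.fromBlocks_apply₁₂, B]
  | inr j =>
    cases v with
    | inl k =>
      suffices W.mkQ (e (bW k)) = 0 by simp [LinearMap.toMatrix_apply, b, this]
      rw [← LinearMap.mem_ker, Submodule.ker_mkQ]
      exact he (Submodule.coe_mem (bW k))
    | inr l =>
      simp only [LinearMap.toMatrix_apply, sumQuot_repr_inr,
        Matrix.fromBlocks_apply₂₂, b, D]
      rw [← sumQuot_inr bW bQ l, W.mapQ_apply]
      simp

end T

section Ind
variable (k A : Type u) [Field k] [CommRing A] [Algebra k A] [FiniteDimensional k A] [IsLocalRing A]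

/-- the action of `a` as a `k`-linear endomorphism -/
noncomputable def act (M : Type u) [AddCommGroup M] [Module A M] [Module k M] [IsScalarTower k A M]
    (a : A) : M →ₗ[k] M :=
  DistribMulAction.toLinearMap k M a

theorem act_apply (M : Type u) [AddCommGroup M] [Module A M] [Module k M] [IsScalarTower k A M]
    (a : A) (x : M) : act k A M a x = a • x := rfl

/-- trace of `a` on a simple module -/
theorem trace_simple (S : Type u) [AddCommGroup S] [Module A S] [Module k S] [IsScalarTower k A S]
    [IsSimpleModule A S] (a : A) :
    LinearMap.trace k S (act k A S a) =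
      Algebra.trace k (IsLocalRing.ResidueField A) (IsLocalRing.residue A a) := by
  obtain ⟨I, hI, ⟨e⟩⟩ := isSimpleModule_iff_quot_maximal.1 ‹IsSimpleModule A S›
  obtain rfl : I = IsLocalRing.maximalIdeal A := IsLocalRing.eq_maximalIdeal hI
  let e' : S ≃ₗ[k] IsLocalRing.ResidueField A := e.restrictScalars k
  have h : e'.conj (act k A S a) =
      Algebra.lmul k (IsLocalRing.ResidueField A) (IsLocalRing.residue A a) := by
    apply LinearMap.ext
    intro x
    change e (a • e.symm x) = IsLocalRing.residue A a * x
    rw [map_smul, LinearEquiv.apply_symm_apply]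
    obtain ⟨y, rfl⟩ := Ideal.Quotient.mk_surjective x
    rfl
  rw [Algebra.trace_apply, ← h, LinearMap.trace_conj']

theorem trace_module (n : ℕ) : ∀ (M : Type u) [AddCommGroup M] [Module A M] [Module k M]
    [IsScalarTower k A M] [Module.Finite k M], Module.finrank k M = n → ∀ a : A,
    LinearMap.trace k M (act k A M a) =
      (Module.length A M).toNat • Algebra.trace k (IsLocalRing.ResidueField A)
        (IsLocalRing.residue A a) := by
  induction n using Nat.strong_induction_on with
  | _ n ih =>
  intro M _ _ _ _ _ hn a
  by_cases hM : Subsingleton M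
  · have h1 : act k A M a = 0 := by
      apply LinearMap.ext; intro x; exact Subsingleton.elim _ _
    have h2 : Module.length A M = 0 := Module.length_eq_zero
    rw [h1, map_zero, h2]; simp
  · rw [not_subsingleton_iff_nontrivial] at hM
    haveI : IsArtinian A M := isArtinian_of_tower k inferInstance
    haveI : IsNoetherian A M := isNoetherian_of_tower k inferInstance
    obtain ⟨N, hN⟩ := IsAtomic.exists_atom (Submodule A M)
    haveI : IsSimpleModule A N := isSimpleModule_iff_isAtom.2 hN
    let W : Submodule k M := N.restrictScalars k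
    have he : W ≤ W.comap (act k A M a) := fun x hx => N.smul_mem a hx
    rw [trace_eq_add W _ he]
    -- the sub part
    let e1 : W ≃ₗ[k] N := (Submodule.restrictScalarsEquiv k A M N).restrictScalars k
    have h1 : e1.conj ((act k A M a).restrict he) = act k A N a := by
      apply LinearMap.ext
      intro x
      rfl
    have t1 : LinearMap.trace k W ((act k A M a).restrict he) =
        Algebra.trace k (IsLocalRing.ResidueField A) (IsLocalRing.residue A a) := by
      rw [← trace_simple k A N a, ← h1, LinearMap.trace_conj']
    -- the quotient part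
    let e2 : (M ⧸ W) ≃ₗ[k] (M ⧸ N) := Submodule.Quotient.restrictScalarsEquiv k N
    have h2 : e2.conj (W.mapQ W (act k A M a) he) = act k A (M ⧸ N) a := by
      apply LinearMap.ext
      intro x
      obtain ⟨y, rfl⟩ := Submodule.Quotient.mk_surjective N x
      rfl
    have hlt : Module.finrank k (M ⧸ N) < n := by
      have := Submodule.finrank_quotient_add_finrank W
      rw [hn] at this
      have h3 : Module.finrank k (M ⧸ N) = Module.finrank k (M ⧸ W) := e2.symm.finrank_eq
      have h4 : 0 < Module.finrank k W := by
        haveI : Nontrivial W := by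
          have : Nontrivial N := IsSimpleModule.nontrivial A N
          exact e1.symm.injective.nontrivial
        exact Module.finrank_pos
      omega
    have t2 : LinearMap.trace k (M ⧸ W) (W.mapQ W (act k A M a) he) =
        (Module.length A (M ⧸ N)).toNat • Algebra.trace k (IsLocalRing.ResidueField A)
          (IsLocalRing.residue A a) := by
      rw [← ih _ hlt (M ⧸ N) rfl a, ← h2, LinearMap.trace_conj']
    have hl : Module.length A M = 1 + Module.length A (M ⧸ N) := by
      rw [Module.length_eq_add_of_exact N.subtype N.mkQ N.subtype_injective N.mkQ_surjective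
        (LinearMap.exact_subtype_mkQ N), Module.length_eq_one]
    have hfin : Module.length A (M ⧸ N) ≠ ⊤ := Module.length_ne_top
    rw [t1, t2, hl]
    obtain ⟨m, hm⟩ := ENat.ne_top_iff_exists.1 hfin
    rw [← hm]
    have : (1 + (m : ℕ∞)).toNat = 1 + m := by
      rw [show (1 + (m : ℕ∞)) = ((1 + m : ℕ) : ℕ∞) by push_cast; rfl]
      exact ENat.toNat_coe _
    rw [this, ENat.toNat_coe, add_smul, one_smul]

theorem main : Algebra.trace k A ≠ 0 ↔
      (Algebra.IsSeparable k (IsLocalRing.ResidueField A) ∧
        ∀ p : ℕ, p.Prime → CharP k p → ¬ p ∣ (Module.length A A).toNat) := by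
  set ℓ := (Module.length A A).toNat with hℓ
  have key : ∀ a : A, Algebra.trace k A a =
      ℓ • Algebra.trace k (IsLocalRing.ResidueField A) (IsLocalRing.residue A a) := by
    intro a
    have h := trace_module k A _ A rfl a
    rw [← h, Algebra.trace_apply]
    congr 1
  haveI : IsArtinian A A := isArtinian_of_tower k (inferInstance : IsArtinian k A)
  haveI : IsNoetherian A A := isNoetherian_of_tower k (inferInstance : IsNoetherian k A)
  have hℓpos : ℓ ≠ 0 := by
    intro h0
    have hfin : Module.length A A ≠ ⊤ := Module.length_ne_top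
    obtain ⟨m, hm⟩ := ENat.ne_top_iff_exists.1 hfin
    rw [hℓ, ← hm, ENat.toNat_coe] at h0
    subst h0
    have : Module.length A A = 0 := by rw [← hm]; rfl
    rw [Module.length_eq_zero_iff] at this
    exact not_subsingleton A this
  have hsep : Algebra.IsSeparable k (IsLocalRing.ResidueField A) ↔
      Algebra.trace k (IsLocalRing.ResidueField A) ≠ 0 :=
    (traceForm_nondegenerate_tfae k (IsLocalRing.ResidueField A)).out 0 1
  have hchar : ((ℓ : k) ≠ 0) ↔ ∀ p : ℕ, p.Prime → CharP k p → ¬ p ∣ ℓ := by
    constructor
    · intro h p hp hc hd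
      exact h ((CharP.cast_eq_zero_iff k p ℓ).2 hd)
    · intro h h0
      obtain ⟨p, hc⟩ := CharP.exists k
      rcases CharP.char_is_prime_or_zero k p with hp | hp
      · exact h p hp hc ((CharP.cast_eq_zero_iff k p ℓ).1 h0)
      · subst hp
        haveI : CharZero k := CharP.charP_to_charZero k
        exact hℓpos (Nat.cast_eq_zero.1 h0)
  constructor
  · intro h
    obtain ⟨a, ha⟩ : ∃ a, Algebra.trace k A a ≠ 0 := by
      by_contra hc
      push Not at hc
      exact h (LinearMap.ext hc)
    rw [key, nsmul_eq_mul] at ha
    have h1 : (ℓ : k) ≠ 0 := left_ne_zero_of_mul ha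
    have h2 := right_ne_zero_of_mul ha
    exact ⟨hsep.2 (fun h0 => h2 (by rw [h0]; rfl)), hchar.1 h1⟩
  · rintro ⟨h1, h2⟩ h0
    have h3 := hsep.1 h1
    obtain ⟨b, hb⟩ : ∃ b, Algebra.trace k (IsLocalRing.ResidueField A) b ≠ 0 := by
      by_contra hc
      push Not at hc
      exact h3 (LinearMap.ext hc)
    obtain ⟨a, rfl⟩ := IsLocalRing.residue_surjective b
    have h4 := key a
    rw [h0, LinearMap.zero_apply, nsmul_eq_mul] at h4
    exact mul_ne_zero (hchar.2 h2) hb h4.symm

end Ind

end Groth.Agent.Helper3.TraceLocal
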