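import Mathlib
import Groth.Prelude.Def_QFDual

set_option autoImplicit false
set_option linter.style.haveILetI false
set_option linter.unusedSectionVars false
set_option linter.unusedVariables false
set_option linter.deprecated false
set_option linter.style.haveILetI false
set_option linter.unusedSectionVars false
set_option linter.unusedVariables false

universe u

namespace Groth.Agent.Helper3.TraceProj

open TensorProduct Module

section

variable {A K B L : Type u} [CommRing A] [CommRing K] [CommRing B] [CommRing L]
  [Algebra A K] [Algebra A B] [Algebra B L] [Algebra K L] [Algebra A L]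
  [IsScalarTower A K L] [IsScalarTower A B L]

/-- trace of multiplication by (the image of) `b` on `L = B ⊗ K`, computed through a dual basis of
the finite projective `A`-module `B` -/
theorem trace_mem_range [IsFractionRing A K]
    (hL : IsLocalization (Algebra.algebraMapSubmonoid B (nonZeroDivisors A)) L)
    [Module.Finite A B] [Module.Projective A B] [Module.Free K L] [Module.Finite K L] (b : B) :
    Algebra.trace K L (algebraMap B L b) ∈ (algebraMap A K).range := by
  classical
  obtain ⟨n, f, g, -, -, hfg⟩ := Module.Finite.exists_comp_eq_id_of_projective A B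
  let φB : B →ₗ[A] L := (IsScalarTower.toAlgHom A B L).toLinearMap
  haveI : IsLocalizedModule (nonZeroDivisors A) φB :=
    (isLocalizedModule_iff_isLocalization (S := nonZeroDivisors A) (A := B) (Aₛ := L)).2 hL
  let φA : A →ₗ[A] K := Algebra.linearMap A K
  haveI : IsLocalizedModule (nonZeroDivisors A) φA := inferInstance
  -- the dual basis
  let bb : Fin n → B := fun i => f (Pi.single i 1)
  let gg : Fin n → (B →ₗ[A] A) := fun i => LinearMap.proj i ∘ₗ g
  have hsum : ∀ x : B, x = ∑ i, gg i x • bb i := by
    intro x
    have h1 : f (g x) = x := LinearMap.congr_fun hfg x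
    conv_lhs => rw [← h1, ← Finset.univ_sum_single (g x)]
    rw [map_sum]
    refine Finset.sum_congr rfl fun i _ => ?_
    have : (Pi.single i (g x i) : Fin n → A) = g x i • Pi.single i 1 := by
      rw [← Pi.single_smul, smul_eq_mul, mul_one]
    rw [this, map_smul]
    rfl
  -- extension of the coordinate functionals
  let G : Fin n → (L →ₗ[K] K) := fun i =>
    (IsLocalizedModule.map (nonZeroDivisors A) φB φA (gg i)).extendScalarsOfIsLocalization
      (nonZeroDivisors A) K
  have hG : ∀ i (x : B), G i (algebraMap B L x) = algebraMap A K (gg i x) := by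
    intro i x
    exact IsLocalizedModule.map_apply (nonZeroDivisors A) φB φA (gg i) x
  let ι : L →ₗ[K] (Fin n → K) := LinearMap.pi G
  let π : (Fin n → K) →ₗ[K] L := ∑ i, (LinearMap.proj i).smulRight (algebraMap B L (bb i))
  have hπ : ∀ c : Fin n → K, π c = ∑ i, c i • algebraMap B L (bb i) := by
    intro c
    simp [π, LinearMap.sum_apply]
  have hπι : π ∘ₗ ι = LinearMap.id := by
    have h2 : (π ∘ₗ ι).restrictScalars A = (LinearMap.id : L →ₗ[K] L).restrictScalars A := by
      apply IsLocalizedModule.linearMap_ext (nonZeroDivisors A) φB φB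
      apply LinearMap.ext
      intro x
      show π (ι (algebraMap B L x)) = algebraMap B L x
      rw [hπ]
      conv_rhs => rw [hsum x, map_sum]
      refine Finset.sum_congr rfl fun i _ => ?_
      show G i (algebraMap B L x) • _ = _
      rw [hG, algebraMap_smul, Algebra.smul_def (gg i x) (bb i), map_mul,
        ← IsScalarTower.algebraMap_apply, Algebra.smul_def]
    apply LinearMap.ext
    intro x
    exact LinearMap.congr_fun h2 x
  let m : L →ₗ[K] L := LinearMap.mulLeft K (algebraMap B L b)
  have htr : Algebra.trace K L (algebraMap B L b) = LinearMap.trace K L m := rfl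
  have h3 : LinearMap.trace K L m = LinearMap.trace K (Fin n → K) (ι ∘ₗ (m ∘ₗ π)) := by
    rw [← LinearMap.trace_comp_comm' ι (m ∘ₗ π), LinearMap.comp_assoc, hπι, LinearMap.comp_id]
  rw [htr, h3, LinearMap.trace_eq_matrix_trace K (Pi.basisFun K (Fin n)), Matrix.trace]
  refine Subring.sum_mem _ fun i _ => ?_
  rw [Matrix.diag_apply, LinearMap.toMatrix_apply, Pi.basisFun_apply, Pi.basisFun_repr]
  show G i (algebraMap B L b * π (Pi.single i 1)) ∈ _
  rw [hπ]
  have h4 : ∑ j, (Pi.single i (1 : K) : Fin n → K) j • algebraMap B L (bb j) =
      algebraMap B L (bb i) := by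
    rw [Finset.sum_eq_single i]
    · rw [Pi.single_eq_same, one_smul]
    · intro j _ hj
      rw [Pi.single_eq_of_ne hj, zero_smul]
    · intro h; exact absurd (Finset.mem_univ i) h
  rw [h4, ← map_mul, hG]
  exact ⟨_, rfl⟩

end

end Groth.Agent.Helper3.TraceProj
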