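import Mathlib
import Groth.Prelude.Def_RegImm
import Groth.Agent.Helper2.T1CI
import Groth.Agent.Lead.QRegBCc
import Groth.Agent.Helper4.FlatExact

set_option autoImplicit false
set_option linter.style.haveILetI false
set_option linter.unusedSectionVars false
set_option linter.unusedVariables false
set_option linter.style.haveILetI false
set_option linter.unusedSectionVars false
set_option linter.unusedVariables false

/-!
# Flatness of `J^n/J^m` for an ideal generated by a transversally regular sequence
-/

namespace Groth.Agent.Helper3.TransFlat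
open Groth.Agent.Lead.QRegBCc CAlgX

universe u

section ses
variable {A : Type u} [CommRing A] {M : Type u} [AddCommGroup M] [Module A M]
  (N₁ N₂ : Submodule A M) (h : N₁ ≤ N₂)

/-- `N₂ / N₁ → M / N₁` -/
def gmap : (N₂ ⧸ Submodule.comap N₂.subtype N₁) →ₗ[A] (M ⧸ N₁) :=
  Submodule.mapQ _ _ N₂.subtype le_rfl

/-- `M / N₁ → M / N₂` -/
def fmap : (M ⧸ N₁) →ₗ[A] (M ⧸ N₂) :=
  Submodule.mapQ _ _ LinearMap.id h

lemma gmap_injective : Function.Injective (gmap N₁ N₂) := by
  rw [← LinearMap.ker_eq_bot, LinearMap.ker_eq_bot']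
  intro x hx
  obtain ⟨y, rfl⟩ := Submodule.Quotient.mk_surjective _ x
  have h1 : Submodule.Quotient.mk (p := N₁) (y : M) = 0 := hx
  rw [Submodule.Quotient.mk_eq_zero] at h1
  rw [Submodule.Quotient.mk_eq_zero]
  exact h1

lemma fmap_surjective : Function.Surjective (fmap N₁ N₂ h) := by
  intro x
  obtain ⟨y, rfl⟩ := Submodule.Quotient.mk_surjective _ x
  exact ⟨Submodule.Quotient.mk y, rfl⟩

lemma exact_gmap_fmap : Function.Exact (gmap N₁ N₂) (fmap N₁ N₂ h) := by
  intro x
  obtain ⟨y, rfl⟩ := Submodule.Quotient.mk_surjective _ x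
  constructor
  · intro hx
    have h1 : Submodule.Quotient.mk (p := N₂) y = 0 := hx
    rw [Submodule.Quotient.mk_eq_zero] at h1
    exact ⟨Submodule.Quotient.mk ⟨y, h1⟩, rfl⟩
  · rintro ⟨z, hz⟩
    obtain ⟨w, rfl⟩ := Submodule.Quotient.mk_surjective _ z
    rw [← hz]
    show Submodule.Quotient.mk (p := N₂) (w : M) = 0
    rw [Submodule.Quotient.mk_eq_zero]
    exact w.2

end ses

section loc
variable {A B : Type u} [CommRing A] [CommRing B] [Algebra A B]
  {M N : Type u} [AddCommGroup M] [Module B M] [Module A M] [IsScalarTower A B M]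
  [AddCommGroup N] [Module B N] [Module A N] [IsScalarTower A B N]

/-- localizing a `B`-module at a submonoid of `B` preserves flatness over `A` -/
theorem flat_of_localized (S : Submonoid B) (f : M →ₗ[B] N) [IsLocalizedModule S f]
    [hM : Module.Flat A M] : Module.Flat A N := by
  classical
  haveI : SMulCommClass A B N := IsScalarTower.to_smulCommClass
  haveI : SMulCommClass A B M := IsScalarTower.to_smulCommClass
  have hfA : ∀ (a : A) (m : M), f (a • m) = a • f m := fun a m => by
    rw [← algebraMap_smul B a m, map_smul, algebraMap_smul]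
  rw [Module.Flat.iff_forall_isTrivialRelation]
  intro l a x hax
  have hsurj : ∀ i, ∃ (m : M) (s : S), s • x i = f m := fun i => by
    obtain ⟨⟨m, s⟩, h⟩ := IsLocalizedModule.surj S f (x i)
    exact ⟨m, s, h⟩
  choose m s hms using hsurj
  let t : S := ∏ i, s i
  let m' : Fin l → M := fun i => (∏ j ∈ Finset.univ.erase i, s j : S) • m i
  have hx : ∀ i, t • x i = f (m' i) := by
    intro i
    have h1 : t = (∏ j ∈ Finset.univ.erase i, s j) * s i :=
      (Finset.prod_erase_mul _ _ (Finset.mem_univ i)).symm
    rw [h1, mul_smul, hms i]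
    simp only [m']
    rw [Submonoid.smul_def, Submonoid.smul_def, map_smul]
  have h1 : f (∑ i, a i • m' i) = 0 := by
    rw [map_sum]
    have h2 : ∀ i, f (a i • m' i) = t • (a i • x i) := by
      intro i
      rw [hfA, ← hx i, Submonoid.smul_def, smul_comm]
      rfl
    simp_rw [h2]
    rw [← Finset.smul_sum, hax, smul_zero]
  have h1' : f (∑ i, a i • m' i) = f 0 := by rw [h1, map_zero]
  obtain ⟨c, hc⟩ := IsLocalizedModule.exists_of_eq (S := S) h1'
  have h2 : ∑ i, a i • ((c : B) • m' i) = 0 := by
    rw [smul_zero, Submonoid.smul_def, Finset.smul_sum] at hc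
    rw [← hc]
    refine Finset.sum_congr rfl fun i _ => ?_
    rw [smul_comm]
  obtain ⟨κ, b, y, hy, hab⟩ := (Module.Flat.iff_forall_isTrivialRelation.mp hM) h2
  have hy' : ∀ i, (c : B) • m' i = ∑ j, b i j • y j := hy
  have hu := IsLocalizedModule.map_units f (c * t)
  obtain ⟨z, hz⟩ : ∃ z : Fin κ → N, ∀ j, ((c * t : S) : B) • z j = f (y j) := by
    have : ∀ j, ∃ z : N, ((c * t : S) : B) • z = f (y j) := by
      intro j
      exact ((Module.End.isUnit_iff _).mp hu).2 (f (y j))
    choose z hz using this
    exact ⟨z, hz⟩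
  refine ⟨κ, b, z, ?_, hab⟩
  intro i
  apply IsLocalizedModule.smul_injective f (c * t)
  show (c * t : S) • x i = (c * t : S) • ∑ j, b i j • z j
  rw [mul_smul, hx i, Submonoid.smul_def, ← map_smul, hy' i, map_sum, Submonoid.smul_def,
    Finset.smul_sum]
  refine Finset.sum_congr rfl fun j _ => ?_
  rw [hfA, smul_comm, hz j]

end loc

section main
variable (A : Type u) {B : Type u} [CommRing A] [CommRing B] [Algebra A B] {r : ℕ} (f : Fin r → B)

lemma J_le {n m : ℕ} (h : n ≤ m) : J A f m ≤ J A f n :=
  fun _ hx => Ideal.pow_le_pow_right h hx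

/-- all quotients `B/I^m` are flat over `A` -/
theorem flat_quot (hq : IsQuasiRegular f)
    (hflat : Module.Flat A (B ⧸ Ideal.span (Set.range f))) (m : ℕ) :
    Module.Flat A (B ⧸ J A f m) := by
  induction m with
  | zero =>
    have h0 : J A f 0 = ⊤ := by
      ext x
      rw [mem_J, pow_zero, Ideal.one_eq_top]
      simp
    haveI : Subsingleton (B ⧸ J A f 0) := by
      rw [h0]
      exact Submodule.Quotient.subsingleton_iff.mpr rfl
    infer_instance
  | succ m ih =>
    haveI := ih
    haveI : Module.Flat A (J A f m ⧸ Submodule.comap (J A f m).subtype (J A f (m + 1))) :=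
      flat_graded A f hq hflat m
    exact (Groth.Agent.Helper4.FlatExact.flat_iff_of_exact_of_flat
      (gmap (J A f (m + 1)) (J A f m)) (fmap _ _ (J_succ_le A f m)) (gmap_injective _ _)
      (fmap_surjective _ _ _) (exact_gmap_fmap _ _ _)).mpr inferInstance

theorem flat_pow_quot (hq : IsQuasiRegular f)
    (hflat : Module.Flat A (B ⧸ Ideal.span (Set.range f))) (n m : ℕ) (hnm : n ≤ m) :
    Module.Flat A (J A f n ⧸ Submodule.comap (J A f n).subtype (J A f m)) := by
  haveI := flat_quot A f hq hflat n
  haveI := flat_quot A f hq hflat m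
  exact (Groth.Agent.Helper4.FlatExact.flat_iff_of_exact_of_flat
    (gmap (J A f m) (J A f n)) (fmap _ _ (J_le A f hnm)) (gmap_injective _ _)
    (fmap_surjective _ _ _) (exact_gmap_fmap _ _ _)).mp inferInstance

theorem flat_pow (hq : IsQuasiRegular f)
    (hflat : Module.Flat A (B ⧸ Ideal.span (Set.range f))) (hB : Module.Flat A B) (n : ℕ) :
    Module.Flat A (J A f n) := by
  haveI := flat_quot A f hq hflat n
  exact (Groth.Agent.Helper4.FlatExact.flat_iff_of_exact_of_flat
    (J A f n).subtype (J A f n).mkQ Subtype.val_injective (Submodule.mkQ_surjective _)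
    (LinearMap.exact_subtype_mkQ _)).mp hB

/-- an ideal as an `A`-module, two ways -/
noncomputable def powEquiv (I₁ : Ideal B) :
    ↥(I₁.restrictScalars A) ≃ₗ[A] RestrictScalars A B ↥I₁ where
  toFun x := (RestrictScalars.addEquiv A B ↥I₁).symm ⟨x.1, x.2⟩
  invFun x := ⟨(RestrictScalars.addEquiv A B ↥I₁ x).1, (RestrictScalars.addEquiv A B ↥I₁ x).2⟩
  left_inv x := rfl
  right_inv x := rfl
  map_add' x y := rfl
  map_smul' a x := by
    apply (RestrictScalars.addEquiv A B ↥I₁).injective
    apply Subtype.ext
    show a • (x : B) = algebraMap A B a * (x : B)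
    rw [Algebra.smul_def]

/-- the quotient map, `A`-linearly -/
noncomputable def quotMap (I₁ I₂ : Ideal B) :
    ↥(I₁.restrictScalars A) →ₗ[A]
      RestrictScalars A B (↥I₁ ⧸ Submodule.comap I₁.subtype I₂) where
  toFun x := (RestrictScalars.addEquiv A B (↥I₁ ⧸ Submodule.comap I₁.subtype I₂)).symm
    (Submodule.Quotient.mk ⟨x.1, x.2⟩)
  map_add' x y := rfl
  map_smul' a x := by
    apply (RestrictScalars.addEquiv A B (↥I₁ ⧸ Submodule.comap I₁.subtype I₂)).injective
    show Submodule.Quotient.mk (p := Submodule.comap I₁.subtype I₂)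
        (⟨a • (x : B), (I₁.restrictScalars A).smul_mem a x.2⟩ : ↥I₁) =
      algebraMap A B a • Submodule.Quotient.mk (p := Submodule.comap I₁.subtype I₂)
        (⟨(x : B), x.2⟩ : ↥I₁)
    rw [← Submodule.Quotient.mk_smul]
    congr 1
    apply Subtype.ext
    show a • (x : B) = algebraMap A B a * (x : B)
    rw [Algebra.smul_def]

lemma quotMap_surjective (I₁ I₂ : Ideal B) : Function.Surjective (quotMap A I₁ I₂) := by
  intro y
  obtain ⟨z, hz⟩ := Submodule.Quotient.mk_surjective _
    (RestrictScalars.addEquiv A B (↥I₁ ⧸ Submodule.comap I₁.subtype I₂) y)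
  refine ⟨⟨z.1, z.2⟩, ?_⟩
  apply (RestrictScalars.addEquiv A B (↥I₁ ⧸ Submodule.comap I₁.subtype I₂)).injective
  exact hz

lemma ker_quotMap (I₁ I₂ : Ideal B) :
    LinearMap.ker (quotMap A I₁ I₂) =
      Submodule.comap (I₁.restrictScalars A).subtype (I₂.restrictScalars A) := by
  ext x
  rw [LinearMap.mem_ker]
  constructor
  · intro hx
    have h1 := congrArg (RestrictScalars.addEquiv A B (↥I₁ ⧸ Submodule.comap I₁.subtype I₂)) hx
    have h2 : Submodule.Quotient.mk (p := Submodule.comap I₁.subtype I₂)
        (⟨x.1, x.2⟩ : ↥I₁) = 0 := h1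
    rw [Submodule.Quotient.mk_eq_zero] at h2
    exact h2
  · intro hx
    apply (RestrictScalars.addEquiv A B (↥I₁ ⧸ Submodule.comap I₁.subtype I₂)).injective
    show Submodule.Quotient.mk (p := Submodule.comap I₁.subtype I₂)
        (⟨x.1, x.2⟩ : ↥I₁) = 0
    rw [Submodule.Quotient.mk_eq_zero]
    exact hx

set_option backward.isDefEq.respectTransparency false in
theorem main' (I : Ideal B) (hI : I = Ideal.span (Set.range f)) (hq : IsQuasiRegular f)
    (hflat : Module.Flat A (B ⧸ Ideal.span (Set.range f))) (hB : Module.Flat A B) (n m : ℕ)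
    (hnm : n ≤ m) :
    Module.Flat A (RestrictScalars A B
      (↥(I ^ n) ⧸ (Submodule.comap (I ^ n).subtype (I ^ m)))) ∧
      ∀ (q : Ideal B) [q.IsPrime],
        Module.Flat A (RestrictScalars A B (LocalizedModule q.primeCompl ↥(I ^ n))) := by
  subst hI
  constructor
  · have h1 : Module.Flat A (↥((Ideal.span (Set.range f) ^ n).restrictScalars A) ⧸
        Submodule.comap ((Ideal.span (Set.range f) ^ n).restrictScalars A).subtype
          ((Ideal.span (Set.range f) ^ m).restrictScalars A)) :=
      flat_pow_quot A f hq hflat n m hnm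
    let e1 := (quotMap A (Ideal.span (Set.range f) ^ n)
      (Ideal.span (Set.range f) ^ m)).quotKerEquivOfSurjective
        (quotMap_surjective A (Ideal.span (Set.range f) ^ n) (Ideal.span (Set.range f) ^ m))
    let e2 := Submodule.quotEquivOfEq _ _
      (ker_quotMap A (Ideal.span (Set.range f) ^ n) (Ideal.span (Set.range f) ^ m))
    exact Module.Flat.of_linearEquiv (e1.symm ≪≫ₗ e2)
  · intro q _
    have h1 : Module.Flat A ↥((Ideal.span (Set.range f) ^ n).restrictScalars A) :=
      flat_pow A f hq hflat hB n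
    haveI : Module.Flat A (RestrictScalars A B ↥(Ideal.span (Set.range f) ^ n)) :=
      Module.Flat.of_linearEquiv (powEquiv A (Ideal.span (Set.range f) ^ n)).symm
    letI : Module B (RestrictScalars A B ↥(Ideal.span (Set.range f) ^ n)) :=
      RestrictScalars.moduleOrig A B _
    letI : Module B (RestrictScalars A B
        (LocalizedModule q.primeCompl ↥(Ideal.span (Set.range f) ^ n))) :=
      RestrictScalars.moduleOrig A B _
    haveI : IsScalarTower A B (RestrictScalars A B ↥(Ideal.span (Set.range f) ^ n)) :=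
      IsScalarTower.of_algebraMap_smul (by intro r x; rfl)
    haveI : IsScalarTower A B (RestrictScalars A B
        (LocalizedModule q.primeCompl ↥(Ideal.span (Set.range f) ^ n))) :=
      IsScalarTower.of_algebraMap_smul (by intro r x; rfl)
    let g : RestrictScalars A B ↥(Ideal.span (Set.range f) ^ n) →ₗ[B]
        RestrictScalars A B (LocalizedModule q.primeCompl ↥(Ideal.span (Set.range f) ^ n)) :=
      LocalizedModule.mkLinearMap q.primeCompl ↥(Ideal.span (Set.range f) ^ n)
    haveI : IsLocalizedModule q.primeCompl g :=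
      inferInstanceAs (IsLocalizedModule q.primeCompl
        (LocalizedModule.mkLinearMap q.primeCompl ↥(Ideal.span (Set.range f) ^ n)))
    exact flat_of_localized q.primeCompl g

end main

/-- **flatness of `J^n/J^m` and of `(J^n)_q` for a transversally regular sequence** -/
theorem main (A B : Type u) [CommRing A] [CommRing B] [Algebra A B]
    (rs : List B) (hrs : RegImm.IsTransRegularSeq A B rs) (n m : ℕ) (hnm : n < m) :
    Module.Flat A (RestrictScalars A B
      (↥(Ideal.ofList rs ^ n) ⧸ (Submodule.comap (Ideal.ofList rs ^ n).subtype (Ideal.ofList rs ^ m)))) ∧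
      ∀ (q : Ideal B) [q.IsPrime], Ideal.ofList rs ≤ q →
        Module.Flat A (RestrictScalars A B (LocalizedModule q.primeCompl ↥(Ideal.ofList rs ^ n))) := by
  obtain ⟨hreg, hfl⟩ := hrs
  have hI : Ideal.ofList rs = Ideal.span (Set.range rs.get) := by
    show Ideal.span {x | x ∈ rs} = _
    rw [Set.range_list_get]
  have hq : IsQuasiRegular rs.get :=
    Groth.Agent.Helper2.T1CI.isQuasiRegular_of_isWeaklyRegular rs.get (by rwa [List.ofFn_get])
  have hflat : Module.Flat A (B ⧸ Ideal.span (Set.range rs.get)) := by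
    have h1 := hfl rs.length le_rfl
    rw [List.take_length, hI] at h1
    exact h1
  have hB : Module.Flat A B := by
    have h1 := hfl 0 (Nat.zero_le _)
    rw [List.take_zero] at h1
    have h0 : Ideal.ofList ([] : List B) = ⊥ := Ideal.ofList_nil
    have hbij : Function.Bijective (Ideal.Quotient.mkₐ A (Ideal.ofList ([] : List B))).toLinearMap := by
      constructor
      · rw [← LinearMap.ker_eq_bot, LinearMap.ker_eq_bot']
        intro x hx
        have h2 : Ideal.Quotient.mk (Ideal.ofList ([] : List B)) x = 0 := hx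
        rw [Ideal.Quotient.eq_zero_iff_mem, h0] at h2
        exact h2
      · exact Ideal.Quotient.mkₐ_surjective A _
    exact Module.Flat.of_linearEquiv (LinearEquiv.ofBijective _ hbij)
  obtain ⟨h1, h2⟩ := main' A rs.get (Ideal.ofList rs) hI hq hflat hB n m hnm.le
  exact ⟨h1, fun q _ _ => h2 q⟩

end Groth.Agent.Helper3.TransFlat
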