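import Mathlib
import Groth.Prelude.Def_AlgGrp
import Groth.Agent.Helper3.RatPtsMulInv

set_option autoImplicit false
set_option linter.style.haveILetI false
set_option linter.unusedSectionVars false
set_option linter.unusedVariables false
set_option linter.style.haveILetI false
set_option linter.unusedSectionVars false
set_option linter.unusedVariables false
universe u
open scoped TensorProduct
open CategoryTheory CategoryTheory.Limits MonoidalCategory CartesianMonoidalCategory MonObj AlgebraicGeometry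

namespace Groth.Agent.Helper3.TranslAvoid

open Groth.Agent.Helper3.SepClosedEq Groth.Agent.Helper3.RatPtsMulInv

section Tr
variable {C : Type*} [Category C] [CartesianMonoidalCategory C] {H : C} [GrpObj H]

/-- right translation by a point -/
noncomputable def rtr (h : 𝟙_ C ⟶ H) : H ⟶ H := 𝟙 H * (toUnit H ≫ h)

lemma rtr_comp_rtr_inv (h : 𝟙_ C ⟶ H) : rtr h ≫ rtr h⁻¹ = 𝟙 H := by
  unfold rtr
  rw [MonObj.comp_mul, Category.comp_id, ← Category.assoc, toUnit_unique (_ ≫ toUnit H) (toUnit H),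
    GrpObj.comp_inv]
  exact mul_inv_cancel_right _ _

lemma pt_comp_rtr (h u : 𝟙_ C ⟶ H) : u ≫ rtr h = u * h := by
  unfold rtr
  rw [MonObj.comp_mul, Category.comp_id, ← Category.assoc, toUnit_unique (u ≫ toUnit H) (𝟙 _),
    Category.id_comp]

lemma inv_eq_comp_inv (u : 𝟙_ C ⟶ H) : u⁻¹ = u ≫ ι[H] := by
  rw [Hom.inv_def]

end Tr

theorem main
    (K : Type u) [Field K] [IsAlgClosed K] (A : Over (Spec (CommRingCat.of K)))
    [GrpObj A] [IsProper A.hom] [Smooth A.hom] [IrreducibleSpace A.left]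
    (Z : Set A.left) (hZ : IsClosed Z) (hZne : Z ≠ Set.univ)
    (z : 𝟙_ (Over (Spec (CommRingCat.of K))) ⟶ A) :
    ∃ x : 𝟙_ (Over (Spec (CommRingCat.of K))) ⟶ A,
      Disjoint (Set.range z.left.base)
        ((𝟙 A * (toUnit A ≫ x)).left.base '' Z ∪ (𝟙 A * (toUnit A ≫ x)⁻¹).left.base '' Z) := by
  haveI : GeometricallyReduced A.hom :=
    Groth.Agent.Helper2.SmoothRegSch.geometricallyReduced_of_smooth K _ _
  -- translation is a homeomorphism
  have hsurj1 : Function.Surjective (tr z).left.base := by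
    have e2 : (tr z⁻¹).left ≫ (tr z).left = 𝟙 _ := by
      rw [← Over.comp_left, tr_inv_comp_tr]; rfl
    intro a
    refine ⟨(tr z⁻¹).left.base a, ?_⟩
    rw [← Scheme.Hom.comp_apply, e2]; rfl
  have hsurj2 : Function.Surjective (ι[A] ≫ tr z).left.base := by
    have e2 : (tr z⁻¹ ≫ ι[A]).left ≫ (ι[A] ≫ tr z).left = 𝟙 _ := by
      rw [← Over.comp_left, Category.assoc, GrpObj.inv_comp_inv_assoc, tr_inv_comp_tr]; rfl
    intro a
    refine ⟨(tr z⁻¹ ≫ ι[A]).left.base a, ?_⟩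
    rw [← Scheme.Hom.comp_apply, e2]; rfl
  have hZc : (Zᶜ : Set A.left).Nonempty := by
    rw [Set.nonempty_compl]; exact hZne
  let O₁ : A.left.Opens := (tr z).left ⁻¹ᵁ ⟨Zᶜ, hZ.isOpen_compl⟩
  let O₂ : A.left.Opens := (ι[A] ≫ tr z).left ⁻¹ᵁ ⟨Zᶜ, hZ.isOpen_compl⟩
  have hO₁ : (O₁ : Set A.left).Nonempty := by
    obtain ⟨a, ha⟩ := hZc
    obtain ⟨b, rfl⟩ := hsurj1 a
    exact ⟨b, ha⟩
  have hO₂ : (O₂ : Set A.left).Nonempty := by
    obtain ⟨a, ha⟩ := hZc
    obtain ⟨b, rfl⟩ := hsurj2 a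
    exact ⟨b, ha⟩
  have hO : ((O₁ ⊓ O₂ : A.left.Opens) : Set A.left).Nonempty :=
    nonempty_preirreducible_inter O₁.isOpen O₂.isOpen hO₁ hO₂
  obtain ⟨y, hy, hyV⟩ := exists_point_mem K K A.hom (O₁ ⊓ O₂) hO
  have hy' : y ≫ A.hom = (𝟙_ (Over (Spec (CommRingCat.of K)))).hom := by
    rw [hy, Algebra.algebraMap_self]
    exact Spec.map_id _
  let x : 𝟙_ (Over (Spec (CommRingCat.of K))) ⟶ A := Over.homMk y hy'
  have hsub : ∀ p : Spec (CommRingCat.of K), p = IsLocalRing.closedPoint K :=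
    fun p => Subsingleton.elim (α := PrimeSpectrum K) _ _
  have h1 : ∀ p, (z * x).left.base p ∉ Z := by
    intro p
    rw [hsub p, ← pt_comp_tr, Over.comp_left]
    exact hyV.1
  have h2 : ∀ p, (z * x⁻¹).left.base p ∉ Z := by
    intro p
    rw [hsub p, ← pt_comp_tr, inv_eq_comp_inv, Category.assoc, Over.comp_left]
    exact hyV.2
  refine ⟨x, ?_⟩
  rw [Set.disjoint_left]
  rintro _ ⟨p, rfl⟩ (⟨a, ha, hpa⟩ | ⟨a, ha, hpa⟩)
  · -- z p = (rtr x) a ⇒ a = (z * x⁻¹) p
    apply h2 p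
    have e : a = (z * x⁻¹).left.base p := by
      rw [← pt_comp_rtr, Over.comp_left, Scheme.Hom.comp_apply, ← hpa]
      change a = ((rtr x).left ≫ (rtr x⁻¹).left).base a
      rw [← Over.comp_left, rtr_comp_rtr_inv]; rfl
    rwa [← e]
  · apply h1 p
    have e : a = (z * x).left.base p := by
      rw [← pt_comp_rtr, Over.comp_left, Scheme.Hom.comp_apply, ← hpa]
      change a = ((𝟙 A * (toUnit A ≫ x)⁻¹).left ≫ (rtr x).left).base a
      have : (𝟙 A * (toUnit A ≫ x)⁻¹) = rtr x⁻¹ := by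
        unfold rtr; rw [GrpObj.comp_inv]
      rw [this, ← Over.comp_left]
      have := rtr_comp_rtr_inv x⁻¹
      rw [inv_inv] at this
      rw [this]; rfl
    rwa [← e]

end Groth.Agent.Helper3.TranslAvoid
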