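import Mathlib

/-! Retracts and binary sums of distinguished triangles. -/

set_option autoImplicit false
universe v u

open CategoryTheory CategoryTheory.Limits CategoryTheory.Pretriangulated

namespace Groth.Agent.Helper3.TriRetract

variable {D : Type u} [Category.{v} D] [Preadditive D] [HasZeroObject D] [HasShift D ℤ]
  [∀ n : ℤ, (shiftFunctor D n).Additive] [Pretriangulated D]

/-- exactness for maps out of `obj₁⟦1⟧`. -/
lemma yoneda_exact₁ (T : Triangle D) (hT : T ∈ distTriang D) {A : D}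
    (u : (shiftFunctor D (1 : ℤ)).obj T.obj₁ ⟶ A) (hu : T.mor₃ ≫ u = 0) :
    ∃ v : (shiftFunctor D (1 : ℤ)).obj T.obj₂ ⟶ A,
      u = (shiftFunctor D (1 : ℤ)).map T.mor₁ ≫ v := by
  obtain ⟨(v : (shiftFunctor D (1 : ℤ)).obj T.obj₂ ⟶ A),
    (hv : u = (-(shiftFunctor D (1 : ℤ)).map T.mor₁) ≫ v)⟩ := Triangle.yoneda_exact₂ _
    (rot_of_distTriang _ (rot_of_distTriang _ hT)) u hu
  refine ⟨-v, ?_⟩
  rw [hv, Preadditive.neg_comp, Preadditive.comp_neg]

/-- A retract of a distinguished triangle is distinguished. -/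
theorem distinguished_of_retract (T S : Triangle D) (hS : S ∈ distTriang D)
    (i : T ⟶ S) (p : S ⟶ T) (hip : i ≫ p = 𝟙 T) : T ∈ distTriang D := by
  have ip₁ : i.hom₁ ≫ p.hom₁ = 𝟙 _ := by
    have := congrArg TriangleMorphism.hom₁ hip
    exact this
  have ip₂ : i.hom₂ ≫ p.hom₂ = 𝟙 _ := by
    have := congrArg TriangleMorphism.hom₂ hip
    exact this
  have ip₃ : i.hom₃ ≫ p.hom₃ = 𝟙 _ := by
    have := congrArg TriangleMorphism.hom₃ hip
    exact this
  obtain ⟨Z₁, g₁, h₁, hT₁⟩ := distinguished_cocone_triangle T.mor₁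
  obtain ⟨(c : Z₁ ⟶ S.obj₃), (hc₂ : g₁ ≫ c = i.hom₂ ≫ S.mor₂),
    (hc₃ : h₁ ≫ (shiftFunctor D (1 : ℤ)).map i.hom₁ = c ≫ S.mor₃)⟩ :=
    complete_distinguished_triangle_morphism _ S hT₁ hS i.hom₁ i.hom₂ i.comm₁
  let θ : Z₁ ⟶ T.obj₃ := c ≫ p.hom₃
  have hθ₂ : g₁ ≫ θ = T.mor₂ := by
    simp only [θ]
    rw [← Category.assoc, hc₂, Category.assoc, p.comm₂, ← Category.assoc, ip₂, Category.id_comp]
  have hθ₃ : θ ≫ T.mor₃ = h₁ := by
    simp only [θ]
    rw [Category.assoc, ← p.comm₃, ← Category.assoc, ← hc₃, Category.assoc, ← Functor.map_comp,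
      ip₁, CategoryTheory.Functor.map_id, Category.comp_id]
  have h31 : T.mor₃ ≫ (shiftFunctor D (1 : ℤ)).map T.mor₁ = 0 := by
    have e1 : T.mor₁ = i.hom₁ ≫ S.mor₁ ≫ p.hom₂ := by
      rw [p.comm₁, ← Category.assoc, ip₁, Category.id_comp]
    rw [e1, Functor.map_comp, Functor.map_comp, ← Category.assoc, i.comm₃, Category.assoc,
      ← Category.assoc S.mor₃, comp_distTriang_mor_zero₃₁ _ hS, Limits.zero_comp,
      Limits.comp_zero]
  have hmono : Mono θ := by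
    apply Preadditive.mono_of_cancel_zero
    intro A t ht
    have h1 : t ≫ h₁ = 0 := by rw [← hθ₃, ← Category.assoc, ht, Limits.zero_comp]
    obtain ⟨(s : A ⟶ T.obj₂), (hs : t = s ≫ g₁)⟩ := Triangle.coyoneda_exact₃ _ hT₁ t h1
    have h2 : s ≫ T.mor₂ = 0 := by rw [← hθ₂, ← Category.assoc, ← hs, ht]
    have h3 : (s ≫ i.hom₂) ≫ S.mor₂ = 0 := by
      rw [Category.assoc, ← i.comm₂, ← Category.assoc, h2, Limits.zero_comp]
    obtain ⟨w', hw'⟩ := Triangle.coyoneda_exact₂ _ hS _ h3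
    have h4 : s = (w' ≫ p.hom₁) ≫ T.mor₁ := by
      calc s = (s ≫ i.hom₂) ≫ p.hom₂ := by rw [Category.assoc, ip₂, Category.comp_id]
        _ = (w' ≫ p.hom₁) ≫ T.mor₁ := by
          rw [hw', Category.assoc, p.comm₁, Category.assoc]
    have h5 : T.mor₁ ≫ g₁ = 0 := comp_distTriang_mor_zero₁₂ _ hT₁
    rw [hs, h4, Category.assoc, h5, Limits.comp_zero]
  have hepi : Epi θ := by
    apply Preadditive.epi_of_cancel_zero
    intro A t ht
    have h1 : T.mor₂ ≫ t = 0 := by rw [← hθ₂, Category.assoc, ht, Limits.comp_zero]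
    have h2 : S.mor₂ ≫ (p.hom₃ ≫ t) = 0 := by
      rw [← Category.assoc, p.comm₂, Category.assoc, h1, Limits.comp_zero]
    obtain ⟨u, hu⟩ := Triangle.yoneda_exact₃ _ hS _ h2
    have h3 : t = T.mor₃ ≫ ((shiftFunctor D (1 : ℤ)).map i.hom₁ ≫ u) := by
      calc t = i.hom₃ ≫ (p.hom₃ ≫ t) := by rw [← Category.assoc, ip₃, Category.id_comp]
        _ = T.mor₃ ≫ ((shiftFunctor D (1 : ℤ)).map i.hom₁ ≫ u) := by
          rw [hu, ← Category.assoc, ← i.comm₃, Category.assoc]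
    have h4 : h₁ ≫ ((shiftFunctor D (1 : ℤ)).map i.hom₁ ≫ u) = 0 := by
      rw [← hθ₃, Category.assoc, ← h3, ht]
    obtain ⟨(v : (shiftFunctor D (1 : ℤ)).obj T.obj₂ ⟶ A),
      (hv : (shiftFunctor D (1 : ℤ)).map i.hom₁ ≫ u = (shiftFunctor D (1 : ℤ)).map T.mor₁ ≫ v)⟩ :=
      yoneda_exact₁ _ hT₁ _ h4
    rw [h3, hv, ← Category.assoc, h31, Limits.zero_comp]
  have hse : IsSplitEpi θ := isSplitEpi_of_epi θ
  have hiso : IsIso θ := isIso_of_mono_of_isSplitEpi θ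
  let ψ : Triangle.mk T.mor₁ g₁ h₁ ⟶ T :=
    { hom₁ := 𝟙 _
      hom₂ := 𝟙 _
      hom₃ := θ
      comm₁ := (Category.comp_id _).trans (Category.id_comp _).symm
      comm₂ := by
        change g₁ ≫ θ = 𝟙 _ ≫ T.mor₂
        rw [hθ₂, Category.id_comp]
      comm₃ := by
        change h₁ ≫ (shiftFunctor D (1 : ℤ)).map (𝟙 _) = θ ≫ T.mor₃
        rw [CategoryTheory.Functor.map_id, Category.comp_id, hθ₃] }
  have i1 : IsIso ψ.hom₁ := (inferInstance : IsIso (𝟙 T.obj₁))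
  have i2 : IsIso ψ.hom₂ := (inferInstance : IsIso (𝟙 T.obj₂))
  have i3 : IsIso ψ.hom₃ := hiso
  have : IsIso ψ := by
    apply Triangle.isIso_of_isIsos
    all_goals infer_instance
  exact isomorphic_distinguished _ hT₁ _ (asIso ψ).symm


/-- The binary sum of two distinguished triangles is distinguished. -/
theorem biprod_distinguished (T T' : Triangle D) (hT : T ∈ distTriang D)
    (hT' : T' ∈ distTriang D) :
    Triangle.mk (biprod.map T.mor₁ T'.mor₁) (biprod.map T.mor₂ T'.mor₂)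
      (biprod.desc (T.mor₃ ≫ (shiftFunctor D (1 : ℤ)).map biprod.inl)
        (T'.mor₃ ≫ (shiftFunctor D (1 : ℤ)).map biprod.inr)) ∈ distTriang D := by
  let Sh := shiftFunctor D (1 : ℤ)
  let f₁ : T.obj₁ ⊞ T'.obj₁ ⟶ T.obj₂ ⊞ T'.obj₂ := biprod.map T.mor₁ T'.mor₁
  let g₁ : T.obj₂ ⊞ T'.obj₂ ⟶ T.obj₃ ⊞ T'.obj₃ := biprod.map T.mor₂ T'.mor₂
  let h₁ : T.obj₃ ⊞ T'.obj₃ ⟶ Sh.obj (T.obj₁ ⊞ T'.obj₁) :=
    biprod.desc (T.mor₃ ≫ Sh.map biprod.inl) (T'.mor₃ ≫ Sh.map biprod.inr)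
  change Triangle.mk f₁ g₁ h₁ ∈ distTriang D
  obtain ⟨Z, f₂, f₃, hS⟩ := distinguished_cocone_triangle f₁
  obtain ⟨(c₁ : T.obj₃ ⟶ Z), (hc₂ : T.mor₂ ≫ c₁ = biprod.inl ≫ f₂),
    (hc₃ : T.mor₃ ≫ Sh.map biprod.inl = c₁ ≫ f₃)⟩ :=
    complete_distinguished_triangle_morphism T _ hT hS biprod.inl biprod.inl
      (biprod.inl_map _ _).symm
  obtain ⟨(c₂ : T'.obj₃ ⟶ Z), (hc₂' : T'.mor₂ ≫ c₂ = biprod.inr ≫ f₂),
    (hc₃' : T'.mor₃ ≫ Sh.map biprod.inr = c₂ ≫ f₃)⟩ :=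
    complete_distinguished_triangle_morphism T' _ hT' hS biprod.inr biprod.inr
      (biprod.inr_map _ _).symm
  let g : T.obj₃ ⊞ T'.obj₃ ⟶ Z := biprod.desc c₁ c₂
  have comm₂ : g₁ ≫ g = f₂ := by
    apply biprod.hom_ext'
    · simp only [g₁, g, biprod.inl_map_assoc, biprod.inl_desc, hc₂]
    · simp only [g₁, g, biprod.inr_map_assoc, biprod.inr_desc, hc₂']
  have comm₃ : h₁ = g ≫ f₃ := by
    apply biprod.hom_ext'
    · simp only [h₁, g, biprod.inl_desc, biprod.inl_desc_assoc, hc₃]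
    · simp only [h₁, g, biprod.inr_desc, biprod.inr_desc_assoc, hc₃']
  -- maps out of shifted biproducts
  have shl_fst : ∀ (X X' : D), Sh.map (biprod.inl : X ⟶ X ⊞ X') ≫ Sh.map biprod.fst = 𝟙 _ :=
    fun X X' => by rw [← Functor.map_comp, biprod.inl_fst, CategoryTheory.Functor.map_id]
  have shl_snd : ∀ (X X' : D), Sh.map (biprod.inl : X ⟶ X ⊞ X') ≫ Sh.map biprod.snd = 0 :=
    fun X X' => by rw [← Functor.map_comp, biprod.inl_snd, Functor.map_zero]
  have shr_fst : ∀ (X X' : D), Sh.map (biprod.inr : X' ⟶ X ⊞ X') ≫ Sh.map biprod.fst = 0 :=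
    fun X X' => by rw [← Functor.map_comp, biprod.inr_fst, Functor.map_zero]
  have shr_snd : ∀ (X X' : D), Sh.map (biprod.inr : X' ⟶ X ⊞ X') ≫ Sh.map biprod.snd = 𝟙 _ :=
    fun X X' => by rw [← Functor.map_comp, biprod.inr_snd, CategoryTheory.Functor.map_id]
  have sh_total : ∀ (X X' : D), Sh.map (biprod.fst : X ⊞ X' ⟶ X) ≫ Sh.map biprod.inl +
      Sh.map (biprod.snd : X ⊞ X' ⟶ X') ≫ Sh.map biprod.inr = 𝟙 _ := fun X X' => by
    rw [← Functor.map_comp, ← Functor.map_comp, ← Functor.map_add, biprod.total,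
      CategoryTheory.Functor.map_id]
  have ext_sh : ∀ (X X' : D) {A : D} (β β' : Sh.obj (X ⊞ X') ⟶ A),
      Sh.map biprod.inl ≫ β = Sh.map biprod.inl ≫ β' →
      Sh.map biprod.inr ≫ β = Sh.map biprod.inr ≫ β' → β = β' := fun X X' {A} β β' e1 e2 => by
    calc β = (Sh.map biprod.fst ≫ Sh.map biprod.inl + Sh.map biprod.snd ≫ Sh.map biprod.inr) ≫ β := by
          rw [sh_total, Category.id_comp]
      _ = (Sh.map biprod.fst ≫ Sh.map biprod.inl + Sh.map biprod.snd ≫ Sh.map biprod.inr) ≫ β' := by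
          simp only [Preadditive.add_comp, Category.assoc, e1, e2]
      _ = β' := by rw [sh_total, Category.id_comp]
  suffices IsIso g by
    let ψ : Triangle.mk f₁ g₁ h₁ ⟶ Triangle.mk f₁ f₂ f₃ :=
      { hom₁ := 𝟙 _
        hom₂ := 𝟙 _
        hom₃ := g
        comm₁ := (Category.comp_id _).trans (Category.id_comp _).symm
        comm₂ := by
          change g₁ ≫ g = 𝟙 _ ≫ f₂
          rw [comm₂, Category.id_comp]
        comm₃ := by
          change h₁ ≫ Sh.map (𝟙 _) = g ≫ f₃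
          rw [CategoryTheory.Functor.map_id, Category.comp_id, comm₃] }
    have i1 : IsIso ψ.hom₁ := (inferInstance : IsIso (𝟙 (T.obj₁ ⊞ T'.obj₁)))
    have i2 : IsIso ψ.hom₂ := (inferInstance : IsIso (𝟙 (T.obj₂ ⊞ T'.obj₂)))
    have i3 : IsIso ψ.hom₃ := this
    have : IsIso ψ := by
      apply Triangle.isIso_of_isIsos
      all_goals infer_instance
    exact isomorphic_distinguished _ hS _ (asIso ψ)
  refine isIso_of_coyoneda_map_bijective _ (fun A => ⟨?_, ?_⟩)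
  · suffices ∀ a : Z ⟶ A, g ≫ a = 0 → a = 0 by
      intro a₁ a₂ ha
      have := this (a₁ - a₂) (by rw [Preadditive.comp_sub, sub_eq_zero]; exact ha)
      exact sub_eq_zero.1 this
    intro a ha
    have h2 : f₂ ≫ a = 0 := by
      rw [← comm₂, Category.assoc, ha, Limits.comp_zero]
    obtain ⟨(b : Sh.obj (T.obj₁ ⊞ T'.obj₁) ⟶ A), (hb : a = f₃ ≫ b)⟩ :=
      Triangle.yoneda_exact₃ _ hS a h2
    have hj₁ : T.mor₃ ≫ (Sh.map biprod.inl ≫ b) = 0 := by
      rw [← Category.assoc, hc₃, Category.assoc, ← hb]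
      have : c₁ = biprod.inl ≫ g := by simp [g]
      rw [this, Category.assoc, ha, Limits.comp_zero]
    have hj₂ : T'.mor₃ ≫ (Sh.map biprod.inr ≫ b) = 0 := by
      rw [← Category.assoc, hc₃', Category.assoc, ← hb]
      have : c₂ = biprod.inr ≫ g := by simp [g]
      rw [this, Category.assoc, ha, Limits.comp_zero]
    obtain ⟨v₁, hv₁⟩ := yoneda_exact₁ T hT _ hj₁
    obtain ⟨v₂, hv₂⟩ := yoneda_exact₁ T' hT' _ hj₂
    let β : Sh.obj (T.obj₂ ⊞ T'.obj₂) ⟶ A := Sh.map biprod.fst ≫ v₁ + Sh.map biprod.snd ≫ v₂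
    have hβ₁ : Sh.map biprod.inl ≫ β = v₁ := by
      simp only [β, Preadditive.comp_add, reassoc_of% (shl_fst T.obj₂ T'.obj₂),
        reassoc_of% (shl_snd T.obj₂ T'.obj₂), Limits.zero_comp, add_zero]
    have hβ₂ : Sh.map biprod.inr ≫ β = v₂ := by
      simp only [β, Preadditive.comp_add, reassoc_of% (shr_fst T.obj₂ T'.obj₂),
        reassoc_of% (shr_snd T.obj₂ T'.obj₂), Limits.zero_comp, zero_add]
    have hb' : b = Sh.map f₁ ≫ β := by
      apply ext_sh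
      · rw [hv₁, ← hβ₁, ← Category.assoc, ← Category.assoc, ← Functor.map_comp,
          ← Functor.map_comp]
        congr 2
        simp [f₁]
      · rw [hv₂, ← hβ₂, ← Category.assoc, ← Category.assoc, ← Functor.map_comp,
          ← Functor.map_comp]
        congr 2
        simp [f₁]
    rw [hb, hb', ← Category.assoc]
    have : f₃ ≫ Sh.map f₁ = 0 := comp_distTriang_mor_zero₃₁ _ hS
    rw [this, Limits.zero_comp]
  · intro x
    have h0 : f₁ ≫ (g₁ ≫ x) = 0 := by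
      rw [← Category.assoc]
      have : f₁ ≫ g₁ = 0 := by
        apply biprod.hom_ext'
        · simp only [f₁, g₁]
          rw [biprod.inl_map_assoc, biprod.inl_map, ← Category.assoc,
            comp_distTriang_mor_zero₁₂ _ hT, Limits.zero_comp, Limits.comp_zero]
        · simp only [f₁, g₁]
          rw [biprod.inr_map_assoc, biprod.inr_map, ← Category.assoc,
            comp_distTriang_mor_zero₁₂ _ hT', Limits.zero_comp, Limits.comp_zero]
      rw [this, Limits.zero_comp]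
    obtain ⟨(y : Z ⟶ A), (hy : g₁ ≫ x = f₂ ≫ y)⟩ := Triangle.yoneda_exact₂ _ hS (g₁ ≫ x) h0
    have hz : g₁ ≫ (x - g ≫ y) = 0 := by
      rw [Preadditive.comp_sub, hy, ← Category.assoc, comm₂, sub_self]
    have hj₁ : T.mor₂ ≫ (biprod.inl ≫ (x - g ≫ y)) = 0 := by
      have e1 : T.mor₂ ≫ (biprod.inl : T.obj₃ ⟶ T.obj₃ ⊞ T'.obj₃) = biprod.inl ≫ g₁ := by
        simp [g₁]
      rw [← Category.assoc, e1, Category.assoc, hz, Limits.comp_zero]
    have hj₂ : T'.mor₂ ≫ (biprod.inr ≫ (x - g ≫ y)) = 0 := by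
      have e1 : T'.mor₂ ≫ (biprod.inr : T'.obj₃ ⟶ T.obj₃ ⊞ T'.obj₃) = biprod.inr ≫ g₁ := by
        simp [g₁]
      rw [← Category.assoc, e1, Category.assoc, hz, Limits.comp_zero]
    obtain ⟨b₁, hb₁⟩ := Triangle.yoneda_exact₃ _ hT _ hj₁
    obtain ⟨b₂, hb₂⟩ := Triangle.yoneda_exact₃ _ hT' _ hj₂
    let β : Sh.obj (T.obj₁ ⊞ T'.obj₁) ⟶ A := Sh.map biprod.fst ≫ b₁ + Sh.map biprod.snd ≫ b₂
    have hβ₁ : Sh.map biprod.inl ≫ β = b₁ := by
      simp only [β, Preadditive.comp_add, reassoc_of% (shl_fst T.obj₁ T'.obj₁),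
        reassoc_of% (shl_snd T.obj₁ T'.obj₁), Limits.zero_comp, add_zero]
    have hβ₂ : Sh.map biprod.inr ≫ β = b₂ := by
      simp only [β, Preadditive.comp_add, reassoc_of% (shr_fst T.obj₁ T'.obj₁),
        reassoc_of% (shr_snd T.obj₁ T'.obj₁), Limits.zero_comp, zero_add]
    have hx : x - g ≫ y = h₁ ≫ β := by
      apply biprod.hom_ext'
      · rw [hb₁]
        simp only [h₁, biprod.inl_desc_assoc, Category.assoc, hβ₁]
      · rw [hb₂]
        simp only [h₁, biprod.inr_desc_assoc, Category.assoc, hβ₂]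
    refine ⟨y + f₃ ≫ β, ?_⟩
    change g ≫ (y + f₃ ≫ β) = x
    rw [Preadditive.comp_add, ← Category.assoc, ← comm₃, ← hx]
    abel

end Groth.Agent.Helper3.TriRetract
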