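import Mathlib
import Groth.Agent.Helper4.QAffSec
import Groth.Agent.Helper4.AmpleLocal
import Groth.Agent.Helper4.AmpleFinite

set_option autoImplicit false
set_option linter.style.haveILetI false
set_option linter.unusedSectionVars false
set_option linter.unusedVariables false
set_option linter.deprecated false
set_option linter.style.haveILetI false
set_option linter.unusedSectionVars false
set_option linter.unusedVariables false

universe u

open CategoryTheory CategoryTheory.Limits AlgebraicGeometry TopologicalSpace Opposite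

namespace Groth.Agent.Helper3.TrivFin

open Groth.Agent.Helper4.TensorInv

/-- On a scheme with an ample invertible module, every invertible module is trivial on an open
neighbourhood of any given finite set of points. -/
theorem main {X : Scheme.{u}} (M : X.Modules) (hM : CohB1.IsAmple M)
    (L : X.Modules) (hL : PicF.IsInvertible L) (E : Set X) (hE : E.Finite) :
    ∃ U : X.Opens, E ⊆ U ∧ Nonempty (L.restrict U.ι ≅ Coh.structureModule (U : Scheme.{u})) := by
  obtain ⟨n, s, hEs, -, hW⟩ :=
    Groth.Agent.Helper4.AmpleFinite.exists_affine_genLocus_of_finite hM E hE ⊤ (fun _ _ => trivial)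
  obtain ⟨W, hWdef⟩ : ∃ W : X.Opens, W = CohB1.genLocus _ s := ⟨_, rfl⟩
  rw [← hWdef] at hEs hW
  haveI : IsAffine (↑W : Scheme.{u}) := hW
  let L₀ := L.restrict W.ι
  have hL₀ : PicF.IsInvertible L₀ := Groth.Agent.Helper4.QAffSec.isInvertible_restrict W.ι hL
  let E' : Set (↑W : Scheme.{u}) := W.ι ⁻¹' E
  have hE' : E'.Finite := hE.preimage W.ι.isOpenEmbedding.injective.injOn
  obtain ⟨f, -, hEf, -, ⟨i⟩⟩ := Groth.Agent.Helper4.QAffSec.exists_basicOpen_triv L₀ hL₀ ⊤ E' hE'
    (fun _ _ => trivial)
  let B : (↑W : Scheme.{u}).Opens := (↑W : Scheme.{u}).basicOpen f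
  have h2 : IsTrivAlong L (B.ι ≫ W.ι) :=
    ⟨(Scheme.Modules.restrictFunctorComp B.ι W.ι).app L ≪≫ i⟩
  have h3 := Groth.Agent.Helper4.AmpleLocal.IsTrivAlong.opensRange' _ h2
  refine ⟨(B.ι ≫ W.ι).opensRange, ?_, h3⟩
  intro y hy
  have hyW : y ∈ W := hEs hy
  have hyB : (⟨y, hyW⟩ : (↑W : Scheme.{u})) ∈ B := hEf hy
  exact ⟨⟨⟨y, hyW⟩, hyB⟩, rfl⟩

end Groth.Agent.Helper3.TrivFin
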