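import Mathlib

set_option autoImplicit false

namespace Groth.Agent.Helper3.TruncFin

open CategoryTheory Limits Opposite

instance truncFinite (m : ℕ) : Finite (SimplexCategory.Truncated m) := by
  let f : SimplexCategory.Truncated m → Fin (m + 1) := fun a => ⟨a.obj.len, Nat.lt_succ_of_le a.property⟩
  refine Finite.of_injective f ?_
  intro a b h
  have h' : a.obj.len = b.obj.len := congrArg Fin.val h
  obtain ⟨a, ha⟩ := a
  obtain ⟨b, hb⟩ := b
  have : a = b := SimplexCategory.ext h'
  subst this
  rfl

instance truncHomFinite (m : ℕ) (a b : SimplexCategory.Truncated m) : Finite (a ⟶ b) := by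
  refine Finite.of_injective (fun f => f.hom) ?_
  intro f g h
  exact ObjectProperty.hom_ext _ h

/-- a finite category in `Type` has limits in a category with finite limits -/
lemma hasLimitsOfShape_of_finite {C : Type*} [Category C] [HasFiniteLimits C]
    (K : Type) [SmallCategory K] [Finite K] [∀ a b : K, Finite (a ⟶ b)] :
    HasLimitsOfShape K C := by
  classical
  let _ : FinCategory K :=
    { fintypeObj := Fintype.ofFinite _, fintypeHom := fun _ _ => Fintype.ofFinite _ }
  infer_instance

lemma hasColimitsOfShape_of_finite {C : Type*} [Category C] [HasFiniteColimits C]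
    (K : Type) [SmallCategory K] [Finite K] [∀ a b : K, Finite (a ⟶ b)] :
    HasColimitsOfShape K C := by
  classical
  let _ : FinCategory K :=
    { fintypeObj := Fintype.ofFinite _, fintypeHom := fun _ _ => Fintype.ofFinite _ }
  infer_instance

section

variable {A B : Type} [SmallCategory A] [SmallCategory B] (L : A ⥤ B)
  [Finite A] [∀ a b : A, Finite (a ⟶ b)] [∀ a b : B, Finite (a ⟶ b)]

instance structuredFinite (Y : B) : Finite (StructuredArrow Y L) := by
  let f : StructuredArrow Y L → Σ (Z : A), (Y ⟶ L.obj Z) := fun x => ⟨x.right, x.hom⟩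
  refine Finite.of_injective f ?_
  rintro ⟨⟨⟨⟩⟩, Z, h⟩ ⟨⟨⟨⟩⟩, Z', h'⟩ e
  simp only [f, Sigma.mk.injEq] at e
  obtain ⟨rfl, e2⟩ := e
  have := eq_of_heq e2
  subst this
  rfl

instance structuredHomFinite (Y : B) (x y : StructuredArrow Y L) : Finite (x ⟶ y) := by
  refine Finite.of_injective (fun f => f.right) ?_
  intro f g h
  exact StructuredArrow.ext _ _ h

instance costructuredFinite (Y : B) : Finite (CostructuredArrow L Y) := by
  let f : CostructuredArrow L Y → Σ (Z : A), (L.obj Z ⟶ Y) := fun x => ⟨x.left, x.hom⟩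
  refine Finite.of_injective f ?_
  rintro ⟨Z, ⟨⟨⟩⟩, h⟩ ⟨Z', ⟨⟨⟩⟩, h'⟩ e
  simp only [f, Sigma.mk.injEq] at e
  obtain ⟨rfl, e2⟩ := e
  have := eq_of_heq e2
  subst this
  rfl

instance costructuredHomFinite (Y : B) (x y : CostructuredArrow L Y) : Finite (x ⟶ y) := by
  refine Finite.of_injective (fun f => f.left) ?_
  intro f g h
  exact CostructuredArrow.ext _ _ h

end

end Groth.Agent.Helper3.TruncFin
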