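import Mathlib
import Groth.Agent.Helper3.EquivOver

set_option autoImplicit false
set_option linter.style.haveILetI false
set_option linter.unusedVariables false
universe v₃ u₃ v₂ u₂ v u

namespace Groth.Agent.Helper3.TwoYoneda
open CategoryTheory Functor FibCat

variable {C : Type u} [Category.{v} C]

/-- A based category with a "terminal section": an object `T` and a coherent family of morphisms to it. -/
structure TermData (𝒪 : BasedCategory.{v₃, u₃} C) where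
  /-- the terminal-like object -/
  T : 𝒪.obj
  /-- the canonical morphisms -/
  toT : ∀ X : 𝒪.obj, X ⟶ T
  comp_toT : ∀ {X Y : 𝒪.obj} (k : X ⟶ Y), k ≫ toT Y = toT X
  toT_T : toT T = 𝟙 T

variable {𝒪 : BasedCategory.{v₃, u₃} C} (D : TermData 𝒪) {𝒳 : BasedCategory.{v₂, u₂} C}

/-- the hypothesis on `H`: the images of the canonical morphisms are strongly cartesian -/
def Good (H : 𝒪 ⥤ᵇ 𝒳) : Prop :=
  ∀ X : 𝒪.obj, 𝒳.p.IsStronglyCartesian (𝒪.p.map (D.toT X)) (H.map (D.toT X))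

variable {D}

theorem eq_of_app_eq {G H : 𝒪 ⥤ᵇ 𝒳} (hH : Good D H) (α β : G ⟶ H)
    (h : α.toNatTrans.app D.T = β.toNatTrans.app D.T) : α = β := by
  apply BasedNatTrans.homCategory.ext
  ext X
  haveI := hH X
  haveI : 𝒳.p.IsHomLift (𝟙 (𝒪.p.obj X)) (α.toNatTrans.app X) := α.isHomLift' X
  haveI : 𝒳.p.IsHomLift (𝟙 (𝒪.p.obj X)) (β.toNatTrans.app X) := β.isHomLift' X
  apply IsStronglyCartesian.ext 𝒳.p (𝒪.p.map (D.toT X)) (H.map (D.toT X)) (𝟙 (𝒪.p.obj X))
  have h1 := α.toNatTrans.naturality (D.toT X)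
  have h2 := β.toNatTrans.naturality (D.toT X)
  rw [← h1, ← h2, h]

/-- the component of the natural transformation extending `t` -/
noncomputable def extApp {G H : 𝒪 ⥤ᵇ 𝒳} (hH : Good D H)
    (t : G.obj D.T ⟶ H.obj D.T) [𝒳.p.IsHomLift (𝟙 (𝒪.p.obj D.T)) t] (X : 𝒪.obj) :
    G.obj X ⟶ H.obj X :=
  haveI := hH X
  IsStronglyCartesian.map 𝒳.p (𝒪.p.map (D.toT X)) (H.map (D.toT X)) (Category.id_comp _).symm
    (G.map (D.toT X) ≫ t)

theorem extApp_fac {G H : 𝒪 ⥤ᵇ 𝒳} (hH : Good D H)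
    (t : G.obj D.T ⟶ H.obj D.T) [𝒳.p.IsHomLift (𝟙 (𝒪.p.obj D.T)) t] (X : 𝒪.obj) :
    extApp hH t X ≫ H.map (D.toT X) = G.map (D.toT X) ≫ t := by
  haveI := hH X
  exact IsStronglyCartesian.fac 𝒳.p (𝒪.p.map (D.toT X)) (H.map (D.toT X)) (Category.id_comp _).symm
    (G.map (D.toT X) ≫ t)

instance extApp_isHomLift {G H : 𝒪 ⥤ᵇ 𝒳} (hH : Good D H)
    (t : G.obj D.T ⟶ H.obj D.T) [𝒳.p.IsHomLift (𝟙 (𝒪.p.obj D.T)) t] (X : 𝒪.obj) :
    𝒳.p.IsHomLift (𝟙 (𝒪.p.obj X)) (extApp hH t X) := by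
  haveI := hH X
  exact IsStronglyCartesian.map_isHomLift 𝒳.p (𝒪.p.map (D.toT X)) (H.map (D.toT X))
    (Category.id_comp _).symm (G.map (D.toT X) ≫ t)

/-- the natural transformation extending `t` -/
noncomputable def ext {G H : 𝒪 ⥤ᵇ 𝒳} (hH : Good D H)
    (t : G.obj D.T ⟶ H.obj D.T) [𝒳.p.IsHomLift (𝟙 (𝒪.p.obj D.T)) t] : G ⟶ H where
  toNatTrans :=
    { app := extApp hH t
      naturality := by
        intro X Y k
        haveI := hH Y
        haveI : 𝒳.p.IsHomLift (𝒪.p.map k) (G.map k ≫ extApp hH t Y) := inferInstance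
        haveI : 𝒳.p.IsHomLift (𝒪.p.map k) (extApp hH t X ≫ H.map k) := inferInstance
        apply IsStronglyCartesian.ext 𝒳.p (𝒪.p.map (D.toT Y)) (H.map (D.toT Y)) (𝒪.p.map k)
        rw [Category.assoc, extApp_fac, ← Category.assoc, ← G.map_comp, D.comp_toT, Category.assoc,
          ← H.map_comp, D.comp_toT, extApp_fac] }
  isHomLift' := fun X => extApp_isHomLift hH t X

theorem ext_app_T {G H : 𝒪 ⥤ᵇ 𝒳} (hH : Good D H)
    (t : G.obj D.T ⟶ H.obj D.T) [𝒳.p.IsHomLift (𝟙 (𝒪.p.obj D.T)) t] :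
    (ext hH t).toNatTrans.app D.T = t := by
  have := extApp_fac hH t D.T
  rw [D.toT_T, H.map_id, G.map_id, Category.comp_id, Category.id_comp] at this
  exact this


section construct
variable (D) (x : 𝒳.obj)
  (L : ∀ X : 𝒪.obj, ∃ (y : 𝒳.obj) (φ : y ⟶ x), 𝒳.p.IsStronglyCartesian (𝒪.p.map (D.toT X)) φ)

/-- chosen pullback object -/
noncomputable def gObj (X : 𝒪.obj) : 𝒳.obj := (L X).choose

/-- chosen lift -/
noncomputable def gLift (X : 𝒪.obj) : gObj D x L X ⟶ x := (L X).choose_spec.choose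

instance gLift_sc (X : 𝒪.obj) :
    𝒳.p.IsStronglyCartesian (𝒪.p.map (D.toT X)) (gLift D x L X) :=
  (L X).choose_spec.choose_spec

theorem gObj_base (X : 𝒪.obj) : 𝒳.p.obj (gObj D x L X) = 𝒪.p.obj X :=
  IsHomLift.domain_eq 𝒳.p (𝒪.p.map (D.toT X)) (gLift D x L X)

theorem base_comp {X Y : 𝒪.obj} (k : X ⟶ Y) :
    𝒪.p.map (D.toT X) = 𝒪.p.map k ≫ 𝒪.p.map (D.toT Y) := by
  rw [← 𝒪.p.map_comp, D.comp_toT]

/-- induced morphism -/
noncomputable def gMap {X Y : 𝒪.obj} (k : X ⟶ Y) : gObj D x L X ⟶ gObj D x L Y :=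
  IsStronglyCartesian.map 𝒳.p (𝒪.p.map (D.toT Y)) (gLift D x L Y) (base_comp D k) (gLift D x L X)

theorem gMap_fac {X Y : 𝒪.obj} (k : X ⟶ Y) : gMap D x L k ≫ gLift D x L Y = gLift D x L X :=
  IsStronglyCartesian.fac 𝒳.p _ _ _ _

instance gMap_isHomLift {X Y : 𝒪.obj} (k : X ⟶ Y) : 𝒳.p.IsHomLift (𝒪.p.map k) (gMap D x L k) :=
  IsStronglyCartesian.map_isHomLift 𝒳.p _ _ _ _

/-- the functor -/
noncomputable def gFun : 𝒪.obj ⥤ 𝒳.obj where
  obj := gObj D x L
  map k := gMap D x L k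
  map_id X := by
    haveI : 𝒳.p.IsHomLift (𝒪.p.map (𝟙 X)) (𝟙 (gObj D x L X)) := by
      rw [𝒪.p.map_id]; exact IsHomLift.id (gObj_base D x L X)
    apply IsStronglyCartesian.ext 𝒳.p (𝒪.p.map (D.toT X)) (gLift D x L X) (𝒪.p.map (𝟙 X))
    rw [gMap_fac, Category.id_comp]
  map_comp {X Y Z} k l := by
    haveI : 𝒳.p.IsHomLift (𝒪.p.map (k ≫ l)) (gMap D x L k ≫ gMap D x L l) := by
      rw [𝒪.p.map_comp]; infer_instance
    apply IsStronglyCartesian.ext 𝒳.p (𝒪.p.map (D.toT Z)) (gLift D x L Z) (𝒪.p.map (k ≫ l))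
    rw [gMap_fac, Category.assoc, gMap_fac, gMap_fac]

/-- the based functor -/
noncomputable def gBased : 𝒪 ⥤ᵇ 𝒳 where
  toFunctor := gFun D x L
  w := by
    refine CategoryTheory.Functor.ext (fun X => gObj_base D x L X) (fun X Y k => ?_)
    exact IsHomLift.fac' 𝒳.p (𝒪.p.map k) (gMap D x L k)

theorem gBased_map_sc {X Y : 𝒪.obj} (k : X ⟶ Y) :
    𝒳.p.IsStronglyCartesian (𝒪.p.map k) ((gBased D x L).map k) := by
  change 𝒳.p.IsStronglyCartesian (𝒪.p.map k) (gMap D x L k)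
  haveI : 𝒳.p.IsStronglyCartesian (𝒪.p.map k ≫ 𝒪.p.map (D.toT Y))
      (gMap D x L k ≫ gLift D x L Y) := by
    rw [gMap_fac, ← base_comp]; infer_instance
  exact IsStronglyCartesian.of_comp 𝒳.p (f := 𝒪.p.map k) (g := 𝒪.p.map (D.toT Y))
    (φ := gMap D x L k) (ψ := gLift D x L Y)

theorem good_gBased : Good D (gBased D x L) := fun X => gBased_map_sc D x L (D.toT X)

theorem gLift_T_isIso : IsIso (gLift D x L D.T) := by
  haveI : IsIso (𝒪.p.map (D.toT D.T)) := by rw [D.toT_T]; infer_instance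
  exact IsStronglyCartesian.isIso_of_base_isIso 𝒳.p (𝒪.p.map (D.toT D.T)) (gLift D x L D.T)

theorem gLift_T_isHomLift : 𝒳.p.IsHomLift (𝟙 (𝒪.p.obj D.T)) (gLift D x L D.T) := by
  have : 𝒳.p.IsHomLift (𝒪.p.map (D.toT D.T)) (gLift D x L D.T) := inferInstance
  rwa [D.toT_T, 𝒪.p.map_id] at this

end construct


section overSec
variable (U : C)

/-- the terminal data of the slice -/
def overData : TermData (overCat U) where
  T := Over.mk (𝟙 U)
  toT X := Over.homMk (U := (X : Over U)) (V := Over.mk (𝟙 U)) (X : Over U).hom (by simp)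
  comp_toT {X Y} k := by
    apply Over.OverMorphism.ext
    exact Over.w k
  toT_T := by
    apply Over.OverMorphism.ext
    rfl

theorem overData_base (X : (overCat U).obj) :
    (overCat U).p.map ((overData U).toT X) = (X : Over U).hom := rfl

/-- For `𝒳` fibred in groupoids every based functor is good. -/
theorem good_of_isFibGrpd (h𝒳 : IsFibGrpd 𝒳.p) (H : overCat U ⥤ᵇ 𝒳) : Good (overData U) H :=
  fun X => FibGrpd.isStronglyCartesian h𝒳 _ _

theorem evalAtId_faithful_of_good {G H : overCat U ⥤ᵇ 𝒳} (hH : Good (overData U) H) (α β : G ⟶ H)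
    (h : (evalAtId 𝒳 U).map α = (evalAtId 𝒳 U).map β) : α = β := by
  apply eq_of_app_eq hH
  exact congrArg Subtype.val h

theorem evalAtId_full_of_good {G H : overCat U ⥤ᵇ 𝒳} (hH : Good (overData U) H)
    (t : (evalAtId 𝒳 U).obj G ⟶ (evalAtId 𝒳 U).obj H) : ∃ α : G ⟶ H, (evalAtId 𝒳 U).map α = t := by
  let t₀ : G.obj (overData U).T ⟶ H.obj (overData U).T := t.1
  haveI : 𝒳.p.IsHomLift (𝟙 ((overCat U).p.obj (overData U).T)) t₀ := t.2
  refine ⟨ext hH t₀, ?_⟩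
  apply Functor.Fiber.hom_ext
  exact ext_app_T hH t₀

theorem evalAtId_essSurj_aux (x : 𝒳.p.Fiber U)
    (L : ∀ X : (overCat U).obj, ∃ (y : 𝒳.obj) (φ : y ⟶ x.1),
      𝒳.p.IsStronglyCartesian ((overCat U).p.map ((overData U).toT X)) φ) :
    Nonempty ((evalAtId 𝒳 U).obj (gBased (overData U) x.1 L) ≅ x) := by
  let l : gObj (overData U) x.1 L (overData U).T ⟶ x.1 := gLift (overData U) x.1 L (overData U).T
  haveI : IsIso l := gLift_T_isIso (overData U) x.1 L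
  haveI hl : 𝒳.p.IsHomLift (𝟙 U) l := gLift_T_isHomLift (overData U) x.1 L
  let li : x.1 ⟶ gObj (overData U) x.1 L (overData U).T := CategoryTheory.inv l
  have h1 : l ≫ li = 𝟙 _ := IsIso.hom_inv_id l
  have h2 : li ≫ l = 𝟙 _ := IsIso.inv_hom_id l
  have hl' : 𝒳.p.IsHomLift (𝟙 U) li := inferInstance
  let m : (evalAtId 𝒳 U).obj (gBased (overData U) x.1 L) ⟶ x := ⟨l, hl⟩
  let m' : x ⟶ (evalAtId 𝒳 U).obj (gBased (overData U) x.1 L) := ⟨li, hl'⟩
  refine ⟨⟨m, m', ?_, ?_⟩⟩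
  · apply Functor.Fiber.hom_ext
    exact h1
  · apply Functor.Fiber.hom_ext
    exact h2

theorem evalAtId_isEquivalence_of_isFibGrpd (h𝒳 : IsFibGrpd 𝒳.p) :
    (evalAtId 𝒳 U).IsEquivalence where
  faithful := ⟨fun {G H} α β h => evalAtId_faithful_of_good U (good_of_isFibGrpd U h𝒳 H) α β h⟩
  full := ⟨fun {G H} t => evalAtId_full_of_good U (good_of_isFibGrpd U h𝒳 H) t⟩
  essSurj := ⟨fun x => by
    have L : ∀ X : (overCat U).obj, ∃ (y : 𝒳.obj) (φ : y ⟶ x.1),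
        𝒳.p.IsStronglyCartesian ((overCat U).p.map ((overData U).toT X)) φ := by
      intro X
      obtain ⟨y, φ, hφ⟩ := FibGrpd.exists_lift' h𝒳 x.2 ((overCat U).p.map ((overData U).toT X))
      exact ⟨y, φ, @FibGrpd.isStronglyCartesian _ _ _ _ _ h𝒳 _ _ _ _ _ φ hφ⟩
    obtain ⟨e⟩ := evalAtId_essSurj_aux U x L
    exact ⟨_, ⟨e⟩⟩⟩


theorem over_aux {X Y Z : Over U} (k : X ⟶ Y) (g : Z.left ⟶ X.left) (ψ : Z ⟶ Y)
    (hψ' : ψ.left = g ≫ k.left) : ∃! χ : Z ⟶ X, χ.left = g ∧ χ ≫ k = ψ := by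
  have hw : g ≫ X.hom = Z.hom := by
    have h1 : ψ.left ≫ Y.hom = Z.hom := Over.w ψ
    have h2 : k.left ≫ Y.hom = X.hom := Over.w k
    rw [← h1, hψ', Category.assoc, h2]
  refine ⟨Over.homMk g hw, ⟨rfl, ?_⟩, ?_⟩
  · apply Over.OverMorphism.ext
    exact hψ'.symm
  · rintro χ' ⟨h1, -⟩
    apply Over.OverMorphism.ext
    exact h1

theorem over_isHomLift_iff {Z X : Over U} (g : Z.left ⟶ X.left) (χ : Z ⟶ X) :
    (Over.forget U).IsHomLift g χ ↔ χ.left = g := by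
  constructor
  · intro h
    exact (@IsHomLift.eq_of_isHomLift _ _ _ _ (Over.forget U) _ _ g χ h).symm
  · rintro rfl
    exact Functor.IsHomLift.map (p := Over.forget U) χ

/-- every morphism of the slice is strongly cartesian over its image -/
theorem over_map_sc' {X Y : Over U} (k : X ⟶ Y) :
    (Over.forget U).IsStronglyCartesian k.left k := by
  refine { toIsHomLift := Functor.IsHomLift.map (p := Over.forget U) k, universal_property' := ?_ }
  intro Z g ψ hψ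
  have hψ' : ψ.left = g ≫ k.left := (over_isHomLift_iff U (g ≫ k.left) ψ).1 hψ
  obtain ⟨χ, ⟨h1, h2⟩, huniq⟩ := over_aux U k g ψ hψ'
  refine ⟨χ, ⟨(over_isHomLift_iff U g χ).2 h1, h2⟩, ?_⟩
  rintro χ' ⟨h1', h2'⟩
  exact huniq χ' ⟨(over_isHomLift_iff U g χ').1 h1', h2'⟩

theorem over_map_sc {X Y : (overCat U).obj} (k : X ⟶ Y) :
    (overCat U).p.IsStronglyCartesian ((overCat U).p.map k) k :=
  over_map_sc' U (X := (X : Over U)) (Y := (Y : Over U)) k

theorem good_of_preserves (H : overCat U ⥤ᵇ 𝒳) (hH : PreservesStronglyCartesian H) :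
    Good (overData U) H :=
  fun X => hH _ _ (over_map_sc U _)

theorem preserves_gBased (x : 𝒳.obj)
    (L : ∀ X : (overCat U).obj, ∃ (y : 𝒳.obj) (φ : y ⟶ x),
      𝒳.p.IsStronglyCartesian ((overCat U).p.map ((overData U).toT X)) φ) :
    PreservesStronglyCartesian (gBased (overData U) x L) := by
  intro R S f a b k hk
  have := hk.toIsHomLift
  subst_hom_lift (overCat U).p f k
  exact gBased_map_sc (overData U) x L k

theorem evalAtId_restrict_isEquivalence [𝒳.p.IsFibered] :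
    ((ObjectProperty.ι (PreservesStronglyCartesian (𝒳 := overCat U) (𝒴 := 𝒳))) ⋙
      evalAtId 𝒳 U).IsEquivalence where
  faithful := ⟨fun {G H} α β h => by
    apply ObjectProperty.hom_ext
    exact evalAtId_faithful_of_good U (good_of_preserves U H.obj H.property) α.hom β.hom h⟩
  full := ⟨fun {G H} t => by
    obtain ⟨α, hα⟩ := evalAtId_full_of_good U (good_of_preserves U H.obj H.property)
      (G := G.obj) (H := H.obj) t
    exact ⟨ObjectProperty.homMk α, hα⟩⟩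
  essSurj := ⟨fun x => by
    have L : ∀ X : (overCat U).obj, ∃ (y : 𝒳.obj) (φ : y ⟶ x.1),
        𝒳.p.IsStronglyCartesian ((overCat U).p.map ((overData U).toT X)) φ := by
      intro X
      obtain ⟨y, φ, hφ⟩ := IsPreFibered.exists_isCartesian 𝒳.p x.2
        ((overCat U).p.map ((overData U).toT X))
      exact ⟨y, φ, @IsFibered.isStronglyCartesian_of_isCartesian _ _ _ _ 𝒳.p _ _ _ _ _ _ φ hφ⟩
    obtain ⟨e⟩ := evalAtId_essSurj_aux U x L
    exact ⟨⟨gBased (overData U) x.1 L, preserves_gBased U x.1 L⟩, ⟨e⟩⟩⟩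

end overSec

end Groth.Agent.Helper3.TwoYoneda
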