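import Mathlib
import Groth.Prelude

set_option autoImplicit false
set_option linter.style.haveILetI false
set_option linter.unusedSectionVars false
set_option linter.unusedVariables false
set_option linter.deprecated false
set_option linter.style.haveILetI false
set_option linter.unusedSectionVars false
set_option linter.unusedVariables false

universe u

open TensorProduct

namespace Groth.Agent.Helper3.UFO

section Weil

variable {A : Type u} [CommRing A] {C : Type u} [CommRing C] [Algebra A C]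

/-- The ring hom `C → A' ⊗[A] C`. -/
noncomputable abbrev incR (A' : Type u) [CommRing A'] [Algebra A A'] : C →+* A' ⊗[A] C :=
  (Algebra.TensorProduct.includeRight : C →ₐ[A] A' ⊗[A] C).toRingHom

/-- evaluation of a polynomial with coefficients in `C` at a tuple of `A' ⊗ C`. -/
noncomputable def ev (A' : Type u) [CommRing A'] [Algebra A A'] {σ : Type} (z : σ → A' ⊗[A] C)
    (p : MvPolynomial σ C) : A' ⊗[A] C :=
  MvPolynomial.eval₂ (incR (A := A) (C := C) A') z p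

/-- base change map -/
noncomputable abbrev bcm {A₁ A₂ : Type u} [CommRing A₁] [Algebra A A₁] [CommRing A₂] [Algebra A A₂]
    (ψ : A₁ →ₐ[A] A₂) : A₁ ⊗[A] C →ₐ[A] A₂ ⊗[A] C :=
  Algebra.TensorProduct.map ψ (AlgHom.id A C)

lemma bcm_ev {A₁ A₂ : Type u} [CommRing A₁] [Algebra A A₁] [CommRing A₂] [Algebra A A₂]
    (ψ : A₁ →ₐ[A] A₂) {σ : Type} (z : σ → A₁ ⊗[A] C) (p : MvPolynomial σ C) :
    bcm ψ (ev A₁ z p) = ev A₂ (fun s => bcm ψ (z s)) p := by
  unfold ev
  have h := MvPolynomial.eval₂_comp_left (bcm (C := C) ψ).toRingHom (incR (A := A) (C := C) A₁) z p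
  refine h.trans ?_
  congr 1
  ext c
  simp [incR]

lemma sum_repr_tmul (A' : Type u) [CommRing A'] [Algebra A A'] {ι : Type u} [Fintype ι]
    (b : Module.Basis ι A C) (x : A' ⊗[A] C) :
    ∑ k, ((b.baseChange A').repr x k) ⊗ₜ[A] b k = x := by
  conv_rhs => rw [← (b.baseChange A').sum_repr x]
  refine Finset.sum_congr rfl fun k _ => ?_
  rw [Module.Basis.baseChange_apply, TensorProduct.smul_tmul', smul_eq_mul, mul_one]

lemma bcm_sum_tmul {A₁ A₂ : Type u} [CommRing A₁] [Algebra A A₁] [CommRing A₂] [Algebra A A₂]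
    (ψ : A₁ →ₐ[A] A₂) {ι : Type u} [Fintype ι] (c : ι → C) (r : ι → A₁) :
    bcm (C := C) ψ (∑ k, r k ⊗ₜ[A] c k) = ∑ k, ψ (r k) ⊗ₜ[A] c k := by
  simp [map_sum]

theorem exists_weil [Module.Free A C] [Module.Finite A C] (σ : Type) [Finite σ]
    (P : Finset (MvPolynomial σ C)) :
    ∃ (Au : Type u) (_ : CommRing Au) (_ : Algebra A Au) (_ : Algebra.FinitePresentation A Au)
      (ζ : σ → Au ⊗[A] C),
      (∀ p ∈ P, ev Au ζ p = 0) ∧
      ∀ (A' : Type u) [CommRing A'] [Algebra A A'] (z : σ → A' ⊗[A] C),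
        (∀ p ∈ P, ev A' z p = 0) →
        ∃ ψ : Au →ₐ[A] A', ∀ s, bcm ψ (ζ s) = z s := by
  classical
  let ι := Module.Free.ChooseBasisIndex A C
  let b : Module.Basis ι A C := Module.Free.chooseBasis A C
  haveI : Fintype ι := inferInstance
  let R := MvPolynomial (σ × ι) A
  let bR : Module.Basis ι R (R ⊗[A] C) := b.baseChange R
  let Z : σ → R ⊗[A] C := fun s => ∑ k, (MvPolynomial.X (s, k) : R) ⊗ₜ[A] b k
  let E : MvPolynomial σ C → R ⊗[A] C := fun p => ev R Z p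
  let gens : Set R := ⋃ p ∈ P, Set.range (fun k => bR.repr (E p) k)
  have hgens : gens.Finite :=
    Set.Finite.biUnion P.finite_toSet fun p _ => Set.finite_range _
  let 𝔞 : Ideal R := Ideal.span gens
  have h𝔞 : 𝔞.FG := ⟨hgens.toFinset, by simp [𝔞]⟩
  let q : R →ₐ[A] (R ⧸ 𝔞) := Ideal.Quotient.mkₐ A 𝔞
  have hq : ∀ p ∈ P, ∀ k, q (bR.repr (E p) k) = 0 := by
    intro p hp k
    refine Ideal.Quotient.eq_zero_iff_mem.mpr (Ideal.subset_span ?_)
    exact Set.mem_biUnion hp ⟨k, rfl⟩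
  refine ⟨R ⧸ 𝔞, inferInstance, inferInstance, Algebra.FinitePresentation.quotient h𝔞,
    fun s => bcm q (Z s), ?_, ?_⟩
  · intro p hp
    rw [← bcm_ev, ← sum_repr_tmul R b (ev R Z p), bcm_sum_tmul]
    refine Finset.sum_eq_zero fun k _ => ?_
    rw [hq p hp k, zero_tmul]
  · intro A' _ _ z hz
    let bA' : Module.Basis ι A' (A' ⊗[A] C) := b.baseChange A'
    let ψ₀ : R →ₐ[A] A' := MvPolynomial.aeval (fun sk : σ × ι => bA'.repr (z sk.1) sk.2)
    have hZ : ∀ s, bcm ψ₀ (Z s) = z s := by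
      intro s
      rw [bcm_sum_tmul]
      have hX : ∀ k, ψ₀ (MvPolynomial.X (s, k)) = bA'.repr (z s) k := fun k =>
        MvPolynomial.aeval_X (fun sk : σ × ι => bA'.repr (z sk.1) sk.2) (s, k)
      simp only [hX]
      exact sum_repr_tmul A' b (z s)
    have hE : ∀ p ∈ P, bcm ψ₀ (E p) = 0 := by
      intro p hp
      rw [bcm_ev]
      simp only [hZ]
      exact hz p hp
    have hker : 𝔞 ≤ RingHom.ker (ψ₀ : R →+* A') := by
      refine Ideal.span_le.mpr ?_
      intro x hx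
      obtain ⟨p, hp, k, rfl⟩ : ∃ p ∈ P, ∃ k, bR.repr (E p) k = x := by
        simpa [gens] using hx
      have h1 := hE p hp
      rw [← sum_repr_tmul R b (E p), bcm_sum_tmul] at h1
      have h2 : ∑ k, ψ₀ (bR.repr (E p) k) • bA' k = 0 := by
        rw [← h1]
        refine Finset.sum_congr rfl fun k _ => ?_
        rw [Module.Basis.baseChange_apply, TensorProduct.smul_tmul', smul_eq_mul, mul_one]
      have h3 := Fintype.linearIndependent_iff.mp bA'.linearIndependent _ h2 k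
      exact h3
    let ψ : (R ⧸ 𝔞) →ₐ[A] A' := Ideal.Quotient.liftₐ 𝔞 ψ₀ (fun a ha => hker ha)
    refine ⟨ψ, fun s => ?_⟩
    have : (bcm (C := C) ψ).comp (bcm q) = bcm ψ₀ := by
      ext x <;> simp [ψ, q]
    rw [← hZ s, ← this]
    rfl

end Weil

section Versal

variable {A : Type u} [CommRing A] {C₀ : Type u} [CommRing C₀] [Algebra A C₀]
  {C₁ : Type u} [CommRing C₁] [Algebra A C₁]

/-- the base change of `κ : C₀ → C₁` -/
noncomputable abbrev rho (κ : C₀ →ₐ[A] C₁) (A' : Type u) [CommRing A'] [Algebra A A'] :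
    A' ⊗[A] C₀ →ₐ[A] A' ⊗[A] C₁ :=
  Algebra.TensorProduct.map (AlgHom.id A A') κ

lemma rho_surjective (κ : C₀ →ₐ[A] C₁) (hκ : Function.Surjective κ)
    (A' : Type u) [CommRing A'] [Algebra A A'] : Function.Surjective (rho κ A') :=
  Algebra.TensorProduct.map_surjective (AlgHom.id A A') κ Function.surjective_id hκ

lemma mem_ker_rho {s : ℕ} (κ : C₀ →ₐ[A] C₁) (hκ : Function.Surjective κ) (q : Fin s → C₀)
    (hq : RingHom.ker (κ : C₀ →+* C₁) = Ideal.span (Set.range q))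
    (A' : Type u) [CommRing A'] [Algebra A A'] (x : A' ⊗[A] C₀) (hx : rho κ A' x = 0) :
    ∃ w : Fin s → A' ⊗[A] C₀, x = ∑ j, ((1 : A') ⊗ₜ[A] q j) * w j := by
  have h1 : x ∈ RingHom.ker (rho κ A') := hx
  rw [Algebra.TensorProduct.lTensor_ker (A := A') κ hκ] at h1
  have h2 : RingHom.ker κ = Ideal.span (Set.range q) := hq
  rw [h2, Ideal.map_span, ← Set.range_comp] at h1
  obtain ⟨w, hw⟩ := (Ideal.mem_span_range_iff_exists_fun).mp h1
  refine ⟨w, ?_⟩
  rw [← hw]
  refine Finset.sum_congr rfl fun j _ => ?_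
  simp [mul_comm]

lemma rho_bcm (κ : C₀ →ₐ[A] C₁) {A₁ A₂ : Type u} [CommRing A₁] [Algebra A A₁] [CommRing A₂]
    [Algebra A A₂] (ψ : A₁ →ₐ[A] A₂) (x : A₁ ⊗[A] C₀) :
    rho κ A₂ (bcm ψ x) = bcm ψ (rho κ A₁ x) := by
  have : (rho κ A₂).comp (bcm ψ) = (bcm (C := C₁) ψ).comp (rho κ A₁) := by
    ext x <;> simp
  exact congrArg (fun F => F x) this

/-- the index type of unknowns -/
abbrev Var (s m : ℕ) : Type := Unit ⊕ (Fin s ⊕ (Fin m ⊕ Fin s))

open MvPolynomial in
/-- first equation : `e² - e = Σ q_j u_j` -/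
noncomputable def pol1 {s m : ℕ} (q : Fin s → C₀) : MvPolynomial (Var s m) C₀ :=
  X (Sum.inl ()) * X (Sum.inl ()) - X (Sum.inl ()) - ∑ j, C (q j) * X (Sum.inr (Sum.inl j))

open MvPolynomial in
/-- second equation : `e = Σ g_i h_i + Σ q_j v_j` -/
noncomputable def pol2 {s m : ℕ} (q : Fin s → C₀) (g : Fin m → C₀) : MvPolynomial (Var s m) C₀ :=
  X (Sum.inl ()) - ∑ i, C (g i) * X (Sum.inr (Sum.inr (Sum.inl i)))
    - ∑ j, C (q j) * X (Sum.inr (Sum.inr (Sum.inr j)))

lemma ev_pol1 {s m : ℕ} (q : Fin s → C₀) (A' : Type u) [CommRing A'] [Algebra A A']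
    (z : Var s m → A' ⊗[A] C₀) :
    ev A' z (pol1 (m := m) q) = z (Sum.inl ()) * z (Sum.inl ()) - z (Sum.inl ())
      - ∑ j, ((1 : A') ⊗ₜ[A] q j) * z (Sum.inr (Sum.inl j)) := by
  simp [ev, pol1, MvPolynomial.eval₂_sub, MvPolynomial.eval₂_mul, MvPolynomial.eval₂_sum, incR]

lemma ev_pol2 {s m : ℕ} (q : Fin s → C₀) (g : Fin m → C₀) (A' : Type u) [CommRing A']
    [Algebra A A'] (z : Var s m → A' ⊗[A] C₀) :
    ev A' z (pol2 q g) = z (Sum.inl ())
      - ∑ i, ((1 : A') ⊗ₜ[A] g i) * z (Sum.inr (Sum.inr (Sum.inl i)))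
      - ∑ j, ((1 : A') ⊗ₜ[A] q j) * z (Sum.inr (Sum.inr (Sum.inr j))) := by
  simp [ev, pol2, MvPolynomial.eval₂_sub, MvPolynomial.eval₂_mul, MvPolynomial.eval₂_sum, incR]

theorem exists_versal_idem [Module.Free A C₀] [Module.Finite A C₀] {s m : ℕ}
    (κ : C₀ →ₐ[A] C₁) (hκ : Function.Surjective κ) (q : Fin s → C₀)
    (hq : RingHom.ker (κ : C₀ →+* C₁) = Ideal.span (Set.range q)) (g : Fin m → C₁) :
    ∃ (Au : Type u) (_ : CommRing Au) (_ : Algebra A Au) (_ : Algebra.FinitePresentation A Au)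
      (eu : Au ⊗[A] C₁),
      IsIdempotentElem eu ∧
      eu ∈ Ideal.span (Set.range fun i => (1 : Au) ⊗ₜ[A] g i) ∧
      ∀ (A' : Type u) [CommRing A'] [Algebra A A'] (e : A' ⊗[A] C₁),
        IsIdempotentElem e → e ∈ Ideal.span (Set.range fun i => (1 : A') ⊗ₜ[A] g i) →
        ∃ ψ : Au →ₐ[A] A', bcm ψ eu = e := by
  classical
  choose g₀ hg₀ using fun i => hκ (g i)
  have hρq : ∀ (A' : Type u) [CommRing A'] [Algebra A A'] (j : Fin s),
      rho κ A' ((1 : A') ⊗ₜ[A] q j) = 0 := by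
    intro A' _ _ j
    have : κ (q j) = 0 := by
      have : q j ∈ RingHom.ker (κ : C₀ →+* C₁) := by
        rw [hq]; exact Ideal.subset_span ⟨j, rfl⟩
      exact this
    simp [this]
  have hρg : ∀ (A' : Type u) [CommRing A'] [Algebra A A'] (i : Fin m),
      rho κ A' ((1 : A') ⊗ₜ[A] g₀ i) = (1 : A') ⊗ₜ[A] g i := by
    intro A' _ _ i
    simp [hg₀]
  obtain ⟨Au, _, _, hfp, ζ, hζ, huniv⟩ :=
    exists_weil (A := A) (C := C₀) (Var s m) {pol1 (m := m) q, pol2 q g₀}
  refine ⟨Au, inferInstance, inferInstance, hfp, rho κ Au (ζ (Sum.inl ())), ?_, ?_, ?_⟩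
  · have h1 := hζ (pol1 (m := m) q) (by simp)
    rw [ev_pol1] at h1
    have h2 := congrArg (rho κ Au) h1
    simp only [map_sub, map_mul, map_sum, hρq, zero_mul, Finset.sum_const_zero, sub_zero,
      map_zero] at h2
    exact sub_eq_zero.mp h2
  · have h1 := hζ (pol2 q g₀) (by simp)
    rw [ev_pol2] at h1
    have h2 := congrArg (rho κ Au) h1
    simp only [map_sub, map_mul, map_sum, hρq, hρg, zero_mul, Finset.sum_const_zero, sub_zero,
      map_zero] at h2
    rw [sub_eq_zero.mp h2]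
    refine Ideal.sum_mem _ fun i _ => Ideal.mul_mem_right _ _ (Ideal.subset_span ⟨i, rfl⟩)
  · intro A' _ _ e he hmem
    obtain ⟨e₀, he₀⟩ := rho_surjective κ hκ A' e
    obtain ⟨h, hh⟩ := (Ideal.mem_span_range_iff_exists_fun).mp hmem
    choose h₀ hh₀ using fun i => rho_surjective κ hκ A' (h i)
    obtain ⟨uu, huu⟩ := mem_ker_rho κ hκ q hq A' (e₀ * e₀ - e₀) (by
      rw [map_sub, map_mul, he₀, he.eq, sub_self])
    obtain ⟨vv, hvv⟩ := mem_ker_rho κ hκ q hq A'
      (e₀ - ∑ i, ((1 : A') ⊗ₜ[A] g₀ i) * h₀ i) (by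
      rw [map_sub, map_sum, he₀]
      simp only [map_mul, hρg, hh₀]
      rw [← hh]
      simp [mul_comm])
    let z : Var s m → A' ⊗[A] C₀ := Sum.elim (fun _ => e₀) (Sum.elim uu (Sum.elim h₀ vv))
    obtain ⟨ψ, hψ⟩ := huniv A' z (by
      intro p hp
      simp only [Finset.mem_insert, Finset.mem_singleton] at hp
      rcases hp with rfl | rfl
      · rw [ev_pol1]
        simp only [z, Sum.elim_inl, Sum.elim_inr]
        rw [huu, sub_self]
      · rw [ev_pol2]
        simp only [z, Sum.elim_inl, Sum.elim_inr]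
        rw [sub_eq_zero]
        exact hvv)
    refine ⟨ψ, ?_⟩
    rw [← rho_bcm, hψ]
    exact he₀

end Versal

end Groth.Agent.Helper3.UFO
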