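import Mathlib
import Groth.Prelude

set_option autoImplicit false
set_option linter.style.haveILetI false
set_option linter.unusedSectionVars false
set_option linter.unusedVariables false
set_option linter.deprecated false
set_option linter.style.haveILetI false
set_option linter.unusedSectionVars false
set_option linter.unusedVariables false

universe u

open TensorProduct

namespace Groth.Agent.Helper3.UFO

section ZMT

variable {A B : Type u} [CommRing A] [CommRing B] [Algebra A B]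

/-- Ring-theoretic Zariski main theorem, global form: a quasi-finite algebra of finite type
contains a finite subalgebra `C` and finitely many `r ∈ C` generating the unit ideal of `B`
with `C_r = B_r`. -/
theorem exists_finite_subalgebra [Algebra.FiniteType A B] [Algebra.QuasiFinite A B] :
    ∃ (C : Subalgebra A B) (G : Finset B), C.toSubmodule.FG ∧ (∀ r ∈ G, r ∈ C) ∧
      Ideal.span (G : Set B) = ⊤ ∧ ∀ r ∈ G, ∀ b : B, ∃ n : ℕ, r ^ n * b ∈ C := by
  classical
  have key : ∀ p : PrimeSpectrum B, ∃ r : B, r ∉ p.asIdeal ∧ IsIntegral A r ∧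
      ∀ x, ∃ m, IsIntegral A (r ^ m * x) := by
    intro p
    have := Algebra.ZariskisMainProperty.of_finiteType (R := A) p.asIdeal
    exact Algebra.zariskisMainProperty_iff.mp this
  choose r hrp hrint hr using key
  -- finite subcover
  have hcover : (⊤ : Ideal B) = Ideal.span (Set.range r) := by
    by_contra hne
    obtain ⟨M, hM, hle⟩ := Ideal.exists_le_maximal _ (Ne.symm hne)
    exact hrp ⟨M, hM.isPrime⟩ (hle (Ideal.subset_span ⟨_, rfl⟩))
  obtain ⟨G, hG, hGtop⟩ : ∃ G : Finset B, (G : Set B) ⊆ Set.range r ∧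
      Ideal.span (G : Set B) = ⊤ := by
    have h1 : (1 : B) ∈ Ideal.span (Set.range r) := by rw [← hcover]; trivial
    obtain ⟨G, hG, h1G⟩ := Submodule.mem_span_finite_of_mem_span h1
    exact ⟨G, hG, (Ideal.eq_top_iff_one _).mpr h1G⟩
  obtain ⟨s, hs⟩ := Algebra.FiniteType.out (R := A) (A := B)
  -- for r ∈ G and x ∈ s pick exponent
  have hex : ∀ g : B, g ∈ G → ∃ m : B → ℕ, IsIntegral A g ∧ ∀ x, IsIntegral A (g ^ m x * x) := by
    intro g hg
    obtain ⟨p, rfl⟩ := hG hg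
    choose m hm using hr p
    exact ⟨m, hrint p, hm⟩
  choose! m hgint hm using hex
  let t : Set B := (G : Set B) ∪ ⋃ g ∈ G, (fun x => g ^ m g x * x) '' (s : Set B)
  have htfin : t.Finite :=
    G.finite_toSet.union (Set.Finite.biUnion G.finite_toSet fun g _ => s.finite_toSet.image _)
  have htint : ∀ x ∈ t, IsIntegral A x := by
    rintro x (hx | hx)
    · exact hgint x hx
    · simp only [Set.mem_iUnion, Set.mem_image, Finset.mem_coe, exists_prop] at hx
      obtain ⟨g, hg, y, _, rfl⟩ := hx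
      exact hm g hg y
  refine ⟨Algebra.adjoin A t, G, fg_adjoin_of_finite htfin htint,
    fun g hg => Algebra.subset_adjoin (Or.inl hg), hGtop, ?_⟩
  intro g hg b
  have hb : b ∈ Algebra.adjoin A (s : Set B) := by rw [hs]; trivial
  induction hb using Algebra.adjoin_induction with
  | mem x hx =>
    refine ⟨m g x, Algebra.subset_adjoin (Or.inr ?_)⟩
    simp only [Set.mem_iUnion, Set.mem_image, Finset.mem_coe, exists_prop]
    exact ⟨g, hg, x, hx, rfl⟩
  | algebraMap a =>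
    exact ⟨0, by simpa using Subalgebra.algebraMap_mem _ a⟩
  | add x y _ _ hx hy =>
    obtain ⟨n₁, h₁⟩ := hx
    obtain ⟨n₂, h₂⟩ := hy
    have hgm : g ∈ Algebra.adjoin A t := Algebra.subset_adjoin (Or.inl hg)
    refine ⟨n₁ + n₂, ?_⟩
    have : g ^ (n₁ + n₂) * (x + y) = g ^ n₂ * (g ^ n₁ * x) + g ^ n₁ * (g ^ n₂ * y) := by ring
    rw [this]
    exact add_mem (mul_mem (pow_mem hgm _) h₁) (mul_mem (pow_mem hgm _) h₂)
  | mul x y _ _ hx hy =>
    obtain ⟨n₁, h₁⟩ := hx
    obtain ⟨n₂, h₂⟩ := hy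
    refine ⟨n₁ + n₂, ?_⟩
    have : g ^ (n₁ + n₂) * (x * y) = (g ^ n₁ * x) * (g ^ n₂ * y) := by ring
    rw [this]
    exact mul_mem h₁ h₂

end ZMT

section Approx

lemma exists_finset_ker {A C₀ B : Type u} [CommRing A] [CommRing C₀] [CommRing B]
    [Algebra A C₀] [Algebra A B] [Algebra.FinitePresentation A C₀]
    [Algebra.FinitePresentation A B] (φ₀ : C₀ →ₐ[A] B) (g : C₀)
    (hsurj : ∀ b, ∃ c n, φ₀ c = φ₀ g ^ n * b) :
    ∃ S : Finset C₀, (∀ x ∈ S, φ₀ x = 0) ∧
      ∀ c, φ₀ c = 0 → ∃ n : ℕ, g ^ n * c ∈ Ideal.span (S : Set C₀) := by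
  classical
  let Cg := Localization.Away g
  let Bg := Localization.Away (φ₀ g)
  let ψ : Cg →ₐ[A] Bg := Localization.awayMapₐ φ₀ g
  have hψ : Function.Surjective ψ := by
    have := (Localization.awayMap_surjective_iff (f := (φ₀ : C₀ →+* B)) (r := g)).mpr hsurj
    exact this
  haveI : Algebra.FinitePresentation C₀ Cg := IsLocalization.Away.finitePresentation g
  haveI : Algebra.FinitePresentation B Bg := IsLocalization.Away.finitePresentation (φ₀ g)
  haveI : Algebra.FinitePresentation A Cg := Algebra.FinitePresentation.trans A C₀ Cg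
  haveI : Algebra.FinitePresentation A Bg := Algebra.FinitePresentation.trans A B Bg
  have hfg : (RingHom.ker ψ.toRingHom).FG := Algebra.FinitePresentation.ker_fG_of_surjective ψ hψ
  have hker : RingHom.ker ψ.toRingHom =
      (RingHom.ker (φ₀ : C₀ →+* B)).map (algebraMap C₀ Cg) :=
    IsLocalization.ker_map (S := Cg) (M := Submonoid.powers g)
      (T := Submonoid.powers (φ₀ g)) Bg (φ₀ : C₀ →+* B)
      (Submonoid.map_powers (φ₀ : C₀ →+* B) g)
  rw [hker, Ideal.map, Ideal.span] at hfg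
  obtain ⟨s', hs', hspan⟩ := (Submodule.fg_span_iff_fg_span_finset_subset _).mp hfg
  obtain ⟨S, hS, rfl⟩ := Finset.subset_set_image_iff.mp hs'
  refine ⟨S, fun x hx => hS hx, fun c hc => ?_⟩
  have h1 : algebraMap C₀ Cg c ∈ (Ideal.span (S : Set C₀)).map (algebraMap C₀ Cg) := by
    rw [Ideal.map_span]
    have : algebraMap C₀ Cg c ∈ Submodule.span Cg
        ((algebraMap C₀ Cg) '' (RingHom.ker (φ₀ : C₀ →+* B) : Set C₀)) :=
      Submodule.subset_span ⟨c, hc, rfl⟩
    rw [hspan] at this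
    simpa using this
  obtain ⟨⟨⟨a, ha⟩, ⟨_, n, rfl⟩⟩, hx⟩ :=
    (IsLocalization.mem_map_algebraMap_iff (Submonoid.powers g) Cg).mp h1
  simp only at hx
  rw [← map_mul] at hx
  obtain ⟨⟨_, k, rfl⟩, hk⟩ := (IsLocalization.eq_iff_exists (Submonoid.powers g) Cg).mp hx
  simp only at hk
  refine ⟨k + n, ?_⟩
  have : g ^ (k + n) * c = g ^ k * a := by rw [← hk]; ring
  rw [this]
  exact Ideal.mul_mem_left _ _ ha

end Approx

section Model

variable {A B : Type u} [CommRing A] [CommRing B] [Algebra A B]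

lemma exists_fin_enum {α : Type u} (S : Finset α) :
    ∃ (n : ℕ) (q : Fin n → α), Set.range q = (S : Set α) := by
  classical
  refine ⟨S.card, fun j => (S.equivFin.symm j : α), ?_⟩
  ext x
  constructor
  · rintro ⟨j, rfl⟩
    exact (S.equivFin.symm j).2
  · intro hx
    exact ⟨S.equivFin ⟨x, hx⟩, by simp⟩

theorem exists_finite_free_model [Algebra.FinitePresentation A B] [Algebra.QuasiFinite A B] :
    ∃ (C₀ : Type u) (_ : CommRing C₀) (_ : Algebra A C₀) (_ : Module.Finite A C₀)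
      (_ : Module.Free A C₀) (φ₀ : C₀ →ₐ[A] B) (s m : ℕ) (q : Fin s → C₀) (g : Fin m → C₀),
      (∀ j, φ₀ (q j) = 0) ∧ Ideal.span (Set.range (φ₀ ∘ g)) = ⊤ ∧
      (∀ i b, ∃ c n, φ₀ c = φ₀ (g i) ^ n * b) ∧
      (∀ i c, φ₀ c = 0 → ∃ n : ℕ, g i ^ n * c ∈ Ideal.span (Set.range q)) := by
  classical
  obtain ⟨C, G, hCfg, hGC, hGtop, hG⟩ := exists_finite_subalgebra (A := A) (B := B)
  haveI : Module.Finite A C := ⟨(Submodule.fg_top _).mpr hCfg⟩
  obtain ⟨C₀, _, _, _, _, hfp, f, hf⟩ := Module.Finite.exists_free_surjective A C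
  let φ₀ : C₀ →ₐ[A] B := C.val.comp f
  obtain ⟨m, r, hr⟩ := exists_fin_enum G
  have hrG : ∀ i, r i ∈ G := fun i => by
    have : r i ∈ (G : Set B) := hr ▸ ⟨i, rfl⟩
    exact this
  choose g hg using fun i => hf ⟨r i, hGC _ (hrG i)⟩
  have hφg : ∀ i, φ₀ (g i) = r i := fun i => by
    simp [φ₀, hg]
  have hsurj : ∀ i b, ∃ c n, φ₀ c = φ₀ (g i) ^ n * b := by
    intro i b
    obtain ⟨n, hn⟩ := hG (r i) (hrG i) b
    obtain ⟨c, hc⟩ := hf ⟨_, hn⟩
    refine ⟨c, n, ?_⟩
    simp [φ₀, hc, hφg]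
  choose S hS0 hS using fun i => exists_finset_ker φ₀ (g i) (hsurj i)
  obtain ⟨s, q, hq⟩ := exists_fin_enum (Finset.univ.biUnion S)
  refine ⟨C₀, inferInstance, inferInstance, inferInstance, inferInstance, φ₀, s, m, q, g,
    ?_, ?_, hsurj, ?_⟩
  · intro j
    have : q j ∈ ((Finset.univ.biUnion S : Finset C₀) : Set C₀) := hq ▸ ⟨j, rfl⟩
    simp only [Finset.coe_biUnion, Finset.coe_univ, Set.mem_univ, Set.iUnion_true,
      Set.mem_iUnion, Finset.mem_coe] at this
    obtain ⟨i, hi⟩ := this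
    exact hS0 i _ hi
  · have : Set.range (φ₀ ∘ g) = (G : Set B) := by
      rw [← hr]
      ext x
      simp [hφg]
    rw [this, hGtop]
  · intro i c hc
    obtain ⟨n, hn⟩ := hS i c hc
    refine ⟨n, Ideal.span_mono ?_ hn⟩
    rw [hq]
    intro x hx
    simp only [Finset.coe_biUnion, Finset.coe_univ, Set.mem_univ, Set.iUnion_true,
      Set.mem_iUnion, Finset.mem_coe]
    exact ⟨i, hx⟩

theorem exists_finite_fp_model [Algebra.FinitePresentation A B] [Algebra.QuasiFinite A B] :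
    ∃ (C₀ : Type u) (_ : CommRing C₀) (_ : Algebra A C₀) (_ : Module.Finite A C₀)
      (_ : Module.Free A C₀) (C₁ : Type u) (_ : CommRing C₁) (_ : Algebra A C₁)
      (_ : Module.Finite A C₁)
      (κ : C₀ →ₐ[A] C₁) (φ₁ : C₁ →ₐ[A] B) (s m : ℕ) (q : Fin s → C₀) (g : Fin m → C₁),
      Function.Surjective κ ∧ RingHom.ker (κ : C₀ →+* C₁) = Ideal.span (Set.range q) ∧
      Ideal.span (Set.range (φ₁ ∘ g)) = ⊤ ∧
      (∀ i b, ∃ c n, φ₁ c = φ₁ (g i) ^ n * b) ∧
      (∀ i c, φ₁ c = 0 → ∃ n : ℕ, g i ^ n * c = 0) := by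
  classical
  obtain ⟨C₀, _, _, _, _, φ₀, s, m, q, g, hq0, hspan, hsurj, hinj⟩ :=
    exists_finite_free_model (A := A) (B := B)
  let I : Ideal C₀ := Ideal.span (Set.range q)
  have hI : ∀ a ∈ I, φ₀ a = 0 := by
    intro a ha
    have : I ≤ RingHom.ker (φ₀ : C₀ →+* B) := by
      refine Ideal.span_le.mpr ?_
      rintro _ ⟨j, rfl⟩
      exact hq0 j
    exact this ha
  let κ : C₀ →ₐ[A] C₀ ⧸ I := Ideal.Quotient.mkₐ A I
  have hκ : Function.Surjective κ := Ideal.Quotient.mkₐ_surjective A I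
  let φ₁ : (C₀ ⧸ I) →ₐ[A] B := Ideal.Quotient.liftₐ I φ₀ hI
  have hφ : ∀ c, φ₁ (κ c) = φ₀ c := fun c => by simp [φ₁, κ]
  refine ⟨C₀, inferInstance, inferInstance, inferInstance, inferInstance, C₀ ⧸ I, inferInstance,
    inferInstance, Module.Finite.of_surjective κ.toLinearMap hκ, κ, φ₁, s, m, q, κ ∘ g,
    hκ, ?_, ?_, ?_, ?_⟩
  · show RingHom.ker (κ : C₀ →+* C₀ ⧸ I) = I
    exact Ideal.mk_ker
  · have : φ₁ ∘ (κ ∘ g) = φ₀ ∘ g := by
      ext i; exact hφ _
    rw [this, hspan]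
  · intro i b
    obtain ⟨c, n, hc⟩ := hsurj i b
    exact ⟨κ c, n, by simp only [Function.comp_apply, hφ]; exact hc⟩
  · intro i c hc
    obtain ⟨c, rfl⟩ := hκ c
    rw [hφ] at hc
    obtain ⟨n, hn⟩ := hinj i c hc
    refine ⟨n, ?_⟩
    simp only [Function.comp_apply]
    rw [← map_pow, ← map_mul]
    exact Ideal.Quotient.eq_zero_iff_mem.mpr hn

end Model

end Groth.Agent.Helper3.UFO
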