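import Mathlib
import Groth.Prelude

set_option autoImplicit false
set_option linter.style.haveILetI false
set_option linter.unusedSectionVars false
set_option linter.unusedVariables false
set_option linter.deprecated false
set_option linter.style.haveILetI false
set_option linter.unusedSectionVars false
set_option linter.unusedVariables false

universe u

open TensorProduct AlgebraicGeometry CategoryTheory CategoryTheory.Limits

namespace Groth.Agent.Helper3.UFO

section OpenImm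

variable {A B C₁ : Type u} [CommRing A] [CommRing B] [CommRing C₁] [Algebra A B] [Algebra A C₁]

lemma specMap_injective_of_local {m : ℕ} (φ₁ : C₁ →+* B) (g : Fin m → C₁)
    (hspan : Ideal.span (Set.range (φ₁ ∘ g)) = ⊤)
    (hsurj : ∀ i b, ∃ c n, φ₁ c = φ₁ (g i) ^ n * b) :
    Function.Injective (Spec.map (CommRingCat.ofHom φ₁)) := by
  have key : ∀ x y : PrimeSpectrum B, x.comap φ₁ = y.comap φ₁ → x.asIdeal ≤ y.asIdeal := by
    intro x y hxy b hb
    have : ∃ i, φ₁ (g i) ∉ x.asIdeal := by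
      by_contra hne
      push Not at hne
      have : Ideal.span (Set.range (φ₁ ∘ g)) ≤ x.asIdeal :=
        Ideal.span_le.mpr (by rintro _ ⟨i, rfl⟩; exact hne i)
      rw [hspan] at this
      exact x.2.ne_top (top_le_iff.mp this)
    obtain ⟨i, hi⟩ := this
    have hi' : φ₁ (g i) ∉ y.asIdeal := by
      intro h
      have h1 : g i ∈ (y.comap φ₁).asIdeal := h
      rw [← hxy] at h1
      exact hi h1
    obtain ⟨c, n, hc⟩ := hsurj i b
    have h1 : c ∈ (x.comap φ₁).asIdeal := by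
      show φ₁ c ∈ x.asIdeal
      rw [hc]; exact Ideal.mul_mem_left _ _ hb
    rw [hxy] at h1
    have h2 : φ₁ (g i) ^ n * b ∈ y.asIdeal := hc ▸ h1
    rcases y.2.mem_or_mem h2 with h3 | h3
    · exact absurd (y.2.mem_of_pow_mem _ h3) hi'
    · exact h3
  intro x y hxy
  have hxy' : PrimeSpectrum.comap φ₁ x = PrimeSpectrum.comap φ₁ y := hxy
  exact PrimeSpectrum.ext (le_antisymm (key x y hxy') (key y x hxy'.symm))

theorem isOpenImmersion_of_local {m : ℕ} (φ₁ : C₁ →+* B) (g : Fin m → C₁)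
    (hspan : Ideal.span (Set.range (φ₁ ∘ g)) = ⊤)
    (hsurj : ∀ i b, ∃ c n, φ₁ c = φ₁ (g i) ^ n * b)
    (hinj : ∀ i c, φ₁ c = 0 → ∃ n : ℕ, g i ^ n * c = 0) :
    IsOpenImmersion (Spec.map (CommRingCat.ofHom φ₁)) := by
  refine IsOpenImmersion.of_forall_source_exists _
    (specMap_injective_of_local φ₁ g hspan hsurj) ?_
  intro x
  have : ∃ i, φ₁ (g i) ∉ x.asIdeal := by
    by_contra hne
    push Not at hne
    have : Ideal.span (Set.range (φ₁ ∘ g)) ≤ x.asIdeal :=
      Ideal.span_le.mpr (by rintro _ ⟨i, rfl⟩; exact hne i)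
    rw [hspan] at this
    exact x.2.ne_top (top_le_iff.mp this)
  obtain ⟨i, hi⟩ := this
  let Bg := Localization.Away (φ₁ (g i))
  let Cg := Localization.Away (g i)
  have hbij : Function.Bijective (Localization.awayMap φ₁ (g i)) :=
    ⟨Localization.awayMap_injective_iff.mpr (hinj i),
      Localization.awayMap_surjective_iff.mpr (hsurj i)⟩
  let e : Cg ≃+* Bg := RingEquiv.ofBijective _ hbij
  haveI : IsOpenImmersion (Spec.map (CommRingCat.ofHom (algebraMap B Bg))) :=
    IsOpenImmersion.of_isLocalization (φ₁ (g i))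
  haveI : IsOpenImmersion (Spec.map (CommRingCat.ofHom (algebraMap C₁ Cg))) :=
    IsOpenImmersion.of_isLocalization (g i)
  refine ⟨Spec (CommRingCat.of Bg), Spec.map (CommRingCat.ofHom (algebraMap B Bg)),
    inferInstance, ?_, ?_⟩
  · rw [Scheme.Hom.opensRange_localizationAway (R := CommRingCat.of B)]
    exact hi
  · have hcomp : Spec.map (CommRingCat.ofHom (algebraMap B Bg)) ≫ Spec.map (CommRingCat.ofHom φ₁) =
        Spec.map (CommRingCat.ofHom (e : Cg →+* Bg)) ≫
          Spec.map (CommRingCat.ofHom (algebraMap C₁ Cg)) := by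
      rw [← Spec.map_comp, ← Spec.map_comp, ← CommRingCat.ofHom_comp, ← CommRingCat.ofHom_comp]
      congr 2
      ext c
      simp [e, Localization.awayMap, IsLocalization.Away.map]
      rfl
    rw [hcomp]
    haveI : IsIso (Spec.map (CommRingCat.ofHom (e : Cg →+* Bg))) := by
      haveI : IsIso (CommRingCat.ofHom (e : Cg →+* Bg)) :=
        inferInstanceAs (IsIso e.toCommRingCatIso.hom)
      infer_instance
    infer_instance

end OpenImm

section BaseChange

variable {A B C₁ : Type u} [CommRing A] [CommRing B] [CommRing C₁] [Algebra A B] [Algebra A C₁]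

/-- the base change `C₁ ⊗ A' → B ⊗ A'` of `φ₁`. -/
noncomputable abbrev Phi (φ₁ : C₁ →ₐ[A] B) (A' : Type u) [CommRing A'] [Algebra A A'] :
    C₁ ⊗[A] A' →ₐ[A] B ⊗[A] A' :=
  Algebra.TensorProduct.map φ₁ (AlgHom.id A A')

theorem isOpenImmersion_baseChange (φ₁ : C₁ →ₐ[A] B)
    [IsOpenImmersion (Spec.map (CommRingCat.ofHom (φ₁ : C₁ →+* B)))]
    (A' : Type u) [CommRing A'] [Algebra A A'] :
    IsOpenImmersion (Spec.map (CommRingCat.ofHom (Phi φ₁ A' : C₁ ⊗[A] A' →+* B ⊗[A] A'))) := by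
  have hj : Spec.map (CommRingCat.ofHom (φ₁ : C₁ →+* B)) ≫
      Spec.map (CommRingCat.ofHom (algebraMap A C₁)) =
      Spec.map (CommRingCat.ofHom (algebraMap A B)) := by
    rw [← Spec.map_comp, ← CommRingCat.ofHom_comp]
    congr 2
    exact φ₁.comp_algebraMap
  have key : Spec.map (CommRingCat.ofHom (Phi φ₁ A' : C₁ ⊗[A] A' →+* B ⊗[A] A')) =
      (pullbackSpecIso A B A').inv ≫
        pullback.map (Spec.map (CommRingCat.ofHom (algebraMap A B)))
          (Spec.map (CommRingCat.ofHom (algebraMap A A')))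
          (Spec.map (CommRingCat.ofHom (algebraMap A C₁)))
          (Spec.map (CommRingCat.ofHom (algebraMap A A')))
          (Spec.map (CommRingCat.ofHom (φ₁ : C₁ →+* B))) (𝟙 _) (𝟙 _)
          (by rw [Category.comp_id, hj]) (by rw [Category.comp_id, Category.id_comp]) ≫
        (pullbackSpecIso A C₁ A').hom := by
    rw [← Category.assoc, ← Iso.comp_inv_eq]
    apply pullback.hom_ext
    · simp only [Category.assoc, pullbackSpecIso_inv_fst, pullback.lift_fst,
        pullback.map, pullbackSpecIso_inv_fst_assoc]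
      rw [← Spec.map_comp, ← Spec.map_comp, ← CommRingCat.ofHom_comp, ← CommRingCat.ofHom_comp]
      congr 2
    · simp only [Category.assoc, pullbackSpecIso_inv_snd, pullback.lift_snd,
        pullback.map, Category.comp_id]
      rw [← Spec.map_comp, ← CommRingCat.ofHom_comp]
      congr 2
      ext c
      simp
  rw [key]
  infer_instance

end BaseChange

section FinAlg

variable {A B C₁ : Type u} [CommRing A] [CommRing B] [CommRing C₁] [Algebra A B] [Algebra A C₁]

lemma exists_Phi_eq_pow_mul {m : ℕ} (φ₁ : C₁ →ₐ[A] B) (g : Fin m → C₁)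
    (hsurj : ∀ i b, ∃ c n, φ₁ c = φ₁ (g i) ^ n * b)
    (A' : Type u) [CommRing A'] [Algebra A A'] (i : Fin m) (x : B ⊗[A] A') :
    ∃ (n : ℕ) (p : C₁ ⊗[A] A'), Phi φ₁ A' p = Phi φ₁ A' (g i ⊗ₜ[A] 1) ^ n * x := by
  induction x using TensorProduct.induction_on with
  | zero => exact ⟨0, 0, by simp⟩
  | tmul b a =>
    obtain ⟨c, n, hc⟩ := hsurj i b
    refine ⟨n, c ⊗ₜ[A] a, ?_⟩
    simp [Algebra.TensorProduct.tmul_pow, hc]
  | add x y hx hy =>
    obtain ⟨n₁, p₁, h₁⟩ := hx
    obtain ⟨n₂, p₂, h₂⟩ := hy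
    refine ⟨n₁ + n₂, (g i ⊗ₜ[A] 1) ^ n₂ * p₁ + (g i ⊗ₜ[A] 1) ^ n₁ * p₂, ?_⟩
    rw [map_add, map_mul, map_mul, h₁, h₂, map_pow, map_pow]
    ring

theorem exists_Phi_eq_idem_mul {m : ℕ} (φ₁ : C₁ →ₐ[A] B) (g : Fin m → C₁)
    (hsurj : ∀ i b, ∃ c n, φ₁ c = φ₁ (g i) ^ n * b)
    (A' : Type u) [CommRing A'] [Algebra A A'] (e : C₁ ⊗[A] A') (he : IsIdempotentElem e)
    (hmem : e ∈ Ideal.span (Set.range fun i => g i ⊗ₜ[A] (1 : A'))) (x : B ⊗[A] A') :
    ∃ p : C₁ ⊗[A] A', Phi φ₁ A' p = Phi φ₁ A' e * x := by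
  let 𝔟 : Ideal (C₁ ⊗[A] A') :=
    { carrier := {p | ∃ p', Phi φ₁ A' p' = Phi φ₁ A' p * x}
      add_mem' := by
        rintro p₁ p₂ ⟨q₁, h₁⟩ ⟨q₂, h₂⟩
        exact ⟨q₁ + q₂, by rw [map_add, map_add, h₁, h₂, add_mul]⟩
      zero_mem' := ⟨0, by simp⟩
      smul_mem' := by
        rintro c p ⟨q₁, h₁⟩
        exact ⟨c * q₁, by rw [smul_eq_mul, map_mul, map_mul, h₁, mul_assoc]⟩ }
  have hrad : Ideal.span (Set.range fun i => g i ⊗ₜ[A] (1 : A')) ≤ 𝔟.radical := by
    refine Ideal.span_le.mpr ?_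
    rintro _ ⟨i, rfl⟩
    obtain ⟨n, p, hp⟩ := exists_Phi_eq_pow_mul φ₁ g hsurj A' i x
    exact ⟨n, p, by rw [hp, map_pow]⟩
  obtain ⟨n, hn⟩ := hrad hmem
  have he𝔟 : e ∈ 𝔟 := by
    rcases n with _ | n
    · have : 𝔟 = ⊤ := (Ideal.eq_top_iff_one _).mpr (by simpa using hn)
      rw [this]; trivial
    · rwa [he.pow_succ_eq] at hn
  exact he𝔟

theorem finite_quotient_idem {m : ℕ} [Module.Finite A C₁] (φ₁ : C₁ →ₐ[A] B) (g : Fin m → C₁)
    (hsurj : ∀ i b, ∃ c n, φ₁ c = φ₁ (g i) ^ n * b)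
    (A' : Type u) [CommRing A'] [Algebra A A'] (e : C₁ ⊗[A] A') (he : IsIdempotentElem e)
    (hmem : e ∈ Ideal.span (Set.range fun i => g i ⊗ₜ[A] (1 : A'))) :
    ((Ideal.Quotient.mk (Ideal.span {1 - Phi φ₁ A' e})).comp
      (Algebra.TensorProduct.includeRight : A' →ₐ[A] B ⊗[A] A').toRingHom).Finite := by
  -- factor through `P = C₁ ⊗ A'`
  have hfac : (Ideal.Quotient.mk (Ideal.span {1 - Phi φ₁ A' e})).comp
      (Algebra.TensorProduct.includeRight : A' →ₐ[A] B ⊗[A] A').toRingHom =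
      ((Ideal.Quotient.mk (Ideal.span {1 - Phi φ₁ A' e})).comp
        (Phi φ₁ A' : C₁ ⊗[A] A' →+* B ⊗[A] A')).comp
        (Algebra.TensorProduct.includeRight : A' →ₐ[A] C₁ ⊗[A] A').toRingHom := by
    ext a
    simp
  rw [hfac]
  refine RingHom.Finite.comp ?_ ?_
  · refine RingHom.Finite.of_surjective _ ?_
    intro y
    obtain ⟨x, rfl⟩ := Ideal.Quotient.mk_surjective y
    obtain ⟨p, hp⟩ := exists_Phi_eq_idem_mul φ₁ g hsurj A' e he hmem x
    refine ⟨p, ?_⟩
    simp only [RingHom.coe_comp, RingHom.coe_coe, Function.comp_apply]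
    rw [hp, Ideal.Quotient.eq]
    have : Phi φ₁ A' e * x - x = -(x * (1 - Phi φ₁ A' e)) := by ring
    rw [this]
    exact neg_mem (Ideal.mul_mem_left _ _ (Ideal.subset_span rfl))
  · -- `A' → C₁ ⊗ A'` is finite
    have h1 : (Algebra.TensorProduct.includeRight : A' →ₐ[A] C₁ ⊗[A] A').toRingHom =
        ((Algebra.TensorProduct.comm A A' C₁ : A' ⊗[A] C₁ ≃ₐ[A] C₁ ⊗[A] A') :
          A' ⊗[A] C₁ →+* C₁ ⊗[A] A').comp (algebraMap A' (A' ⊗[A] C₁)) := by
      ext a
      simp
    rw [h1]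
    refine RingHom.Finite.comp ?_ ?_
    · exact RingHom.Finite.of_surjective _
        (Algebra.TensorProduct.comm A A' C₁).surjective
    · rw [RingHom.finite_algebraMap]
      infer_instance

end FinAlg

section FinSch

variable {A B Au : Type u} [CommRing A] [CommRing B] [CommRing Au] [Algebra A B] [Algebra A Au]

/-- the open of the pullback defined by an element of the tensor product -/
noncomputable def opensOf (ε : B ⊗[A] Au) :
    (pullback (Spec.map (CommRingCat.ofHom (algebraMap A B)))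
      (Spec.map (CommRingCat.ofHom (algebraMap A Au)))).Opens :=
  (pullbackSpecIso A B Au).hom ⁻¹ᵁ
    (PrimeSpectrum.basicOpen ε : (Spec (CommRingCat.of (B ⊗[A] Au))).Opens)

theorem isFinite_opensOf (ε : B ⊗[A] Au) (hε : IsIdempotentElem ε)
    (hfin : ((Ideal.Quotient.mk (Ideal.span {1 - ε})).comp
      (Algebra.TensorProduct.includeRight : Au →ₐ[A] B ⊗[A] Au).toRingHom).Finite) :
    IsFinite ((opensOf ε).ι ≫ pullback.snd (Spec.map (CommRingCat.ofHom (algebraMap A B)))
      (Spec.map (CommRingCat.ofHom (algebraMap A Au)))) := by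
  let Q := B ⊗[A] Au
  let R := Q ⧸ Ideal.span {1 - ε}
  haveI : IsLocalization.Away ε R := IsLocalization.Away.quotient_of_isIdempotentElem hε
  haveI : IsOpenImmersion (Spec.map (CommRingCat.ofHom (algebraMap Q R))) :=
    IsOpenImmersion.of_isLocalization ε
  let k' := Spec.map (CommRingCat.ofHom (algebraMap Q R)) ≫ (pullbackSpecIso A B Au).inv
  have hrange : Set.range (opensOf ε).ι = Set.range k' := by
    rw [Scheme.Opens.range_ι]
    simp only [k', Scheme.Hom.comp_base, TopCat.hom_comp, ContinuousMap.coe_comp, Set.range_comp]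
    have h1 : Set.range (Spec.map (CommRingCat.ofHom (algebraMap Q R))) =
        (PrimeSpectrum.basicOpen ε : Set (PrimeSpectrum Q)) :=
      PrimeSpectrum.localization_away_comap_range R ε
    rw [h1]
    ext x
    simp only [opensOf, Scheme.Hom.coe_preimage, Set.mem_preimage, Set.mem_image]
    constructor
    · intro hx
      exact ⟨_, hx, by simp [← Scheme.Hom.comp_apply]⟩
    · rintro ⟨y, hy, rfl⟩
      have : (pullbackSpecIso A B Au).hom ((pullbackSpecIso A B Au).inv y) = y := by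
        simp [← Scheme.Hom.comp_apply]
      rw [this]
      exact hy
  let θ := IsOpenImmersion.isoOfRangeEq (opensOf ε).ι k' hrange
  have hθ : (opensOf ε).ι = θ.hom ≫ k' := (IsOpenImmersion.isoOfRangeEq_hom_fac _ _ hrange).symm
  rw [hθ]
  simp only [k', Category.assoc, pullbackSpecIso_inv_snd]
  rw [← Spec.map_comp, ← CommRingCat.ofHom_comp]
  haveI : IsFinite (Spec.map (CommRingCat.ofHom ((algebraMap Q R).comp
      (Algebra.TensorProduct.includeRight : Au →ₐ[A] B ⊗[A] Au).toRingHom))) := by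
    rw [IsFinite.SpecMap_iff]
    exact hfin
  exact (MorphismProperty.cancel_left_of_respectsIso @IsFinite θ.hom _).mpr this

end FinSch

section Versal

variable {A B C₁ : Type u} [CommRing A] [CommRing B] [CommRing C₁] [Algebra A B] [Algebra A C₁]

theorem preimage_opensOf {Au A' : Type u} [CommRing Au] [Algebra A Au] [CommRing A'] [Algebra A A']
    (ψ : Au →ₐ[A] A') (ε : B ⊗[A] Au)
    (m : pullback (Spec.map (CommRingCat.ofHom (algebraMap A B)))
        (Spec.map (CommRingCat.ofHom (algebraMap A A'))) ⟶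
      pullback (Spec.map (CommRingCat.ofHom (algebraMap A B)))
        (Spec.map (CommRingCat.ofHom (algebraMap A Au))))
    (hm₁ : m ≫ pullback.fst _ _ = pullback.fst _ _)
    (hm₂ : m ≫ pullback.snd _ _ = pullback.snd _ _ ≫ Spec.map (CommRingCat.ofHom (ψ : Au →+* A'))) :
    m ⁻¹ᵁ (opensOf ε) = opensOf (Algebra.TensorProduct.map (AlgHom.id A B) ψ ε) := by
  have key : m ≫ (pullbackSpecIso A B Au).hom = (pullbackSpecIso A B A').hom ≫
      Spec.map (CommRingCat.ofHom
        (Algebra.TensorProduct.map (AlgHom.id A B) ψ : B ⊗[A] Au →+* B ⊗[A] A')) := by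
    rw [← Iso.eq_comp_inv]
    apply pullback.hom_ext
    · simp only [Category.assoc, pullbackSpecIso_inv_fst, hm₁]
      rw [← pullbackSpecIso_hom_fst, ← Spec.map_comp, ← CommRingCat.ofHom_comp]
      congr 3
      ext c
      simp
    · simp only [Category.assoc, pullbackSpecIso_inv_snd, hm₂]
      rw [← pullbackSpecIso_hom_snd, Category.assoc, ← Spec.map_comp, ← Spec.map_comp,
        ← CommRingCat.ofHom_comp, ← CommRingCat.ofHom_comp]
      congr 3
  unfold opensOf
  rw [← Scheme.Hom.comp_preimage, key, Scheme.Hom.comp_preimage]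
  congr 1

theorem exists_idem_of_finite {m : ℕ} (φ₁ : C₁ →ₐ[A] B) (g : Fin m → C₁)
    (hspan : Ideal.span (Set.range ((φ₁ : C₁ →+* B) ∘ g)) = ⊤)
    [IsOpenImmersion (Spec.map (CommRingCat.ofHom (φ₁ : C₁ →+* B)))]
    (A' : Type u) [CommRing A'] [Algebra A A']
    (U' : (pullback (Spec.map (CommRingCat.ofHom (algebraMap A B)))
      (Spec.map (CommRingCat.ofHom (algebraMap A A')))).Opens)
    (hfin : IsFinite (U'.ι ≫ pullback.snd (Spec.map (CommRingCat.ofHom (algebraMap A B)))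
      (Spec.map (CommRingCat.ofHom (algebraMap A A'))))) :
    ∃ e' : C₁ ⊗[A] A', IsIdempotentElem e' ∧
      e' ∈ Ideal.span (Set.range fun i => g i ⊗ₜ[A] (1 : A')) ∧
      U' = opensOf (Phi φ₁ A' e') := by
  haveI := isOpenImmersion_baseChange φ₁ A'
  let ν : U'.toScheme ⟶ Spec (CommRingCat.of (C₁ ⊗[A] A')) :=
    U'.ι ≫ (pullbackSpecIso A B A').hom ≫
      Spec.map (CommRingCat.ofHom (Phi φ₁ A' : C₁ ⊗[A] A' →+* B ⊗[A] A'))
  have hν : ν ≫ Spec.map (CommRingCat.ofHom
      (Algebra.TensorProduct.includeRight : A' →ₐ[A] C₁ ⊗[A] A').toRingHom) =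
      U'.ι ≫ pullback.snd _ _ := by
    simp only [ν, Category.assoc]
    rw [← Spec.map_comp, ← CommRingCat.ofHom_comp]
    have : (Phi φ₁ A' : C₁ ⊗[A] A' →+* B ⊗[A] A').comp
        (Algebra.TensorProduct.includeRight : A' →ₐ[A] C₁ ⊗[A] A').toRingHom =
        (Algebra.TensorProduct.includeRight : A' →ₐ[A] B ⊗[A] A').toRingHom := by
      ext a
      simp
    rw [this]
    exact congrArg (U'.ι ≫ ·) (pullbackSpecIso_hom_snd A B A')
  haveI : UniversallyClosed (ν ≫ Spec.map (CommRingCat.ofHom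
      (Algebra.TensorProduct.includeRight : A' →ₐ[A] C₁ ⊗[A] A').toRingHom)) := by
    rw [hν]; infer_instance
  haveI : UniversallyClosed ν := UniversallyClosed.of_comp_of_isSeparated ν
    (Spec.map (CommRingCat.ofHom
      (Algebra.TensorProduct.includeRight : A' →ₐ[A] C₁ ⊗[A] A').toRingHom))
  have hclosed : IsClosed (Set.range ν) := ν.isClosedMap.isClosed_range
  have hopen : IsOpen (Set.range ν) := ν.isOpenEmbedding.isOpen_range
  obtain ⟨e', he', hrange⟩ := PrimeSpectrum.isClopen_iff.mp ⟨hclosed, hopen⟩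
  -- points of the range avoid some `g i ⊗ 1`
  have hQtop : ∀ y : PrimeSpectrum (B ⊗[A] A'), ∃ i, Phi φ₁ A' (g i ⊗ₜ[A] 1) ∉ y.asIdeal := by
    intro y
    by_contra hne
    push Not at hne
    have h1 : Ideal.map (Algebra.TensorProduct.includeLeft : B →ₐ[A] B ⊗[A] A')
        (Ideal.span (Set.range ((φ₁ : C₁ →+* B) ∘ g))) ≤ y.asIdeal := by
      rw [Ideal.map_span]
      refine Ideal.span_le.mpr ?_
      rintro _ ⟨_, ⟨i, rfl⟩, rfl⟩
      simpa using hne i
    rw [hspan, Ideal.map_top] at h1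
    exact y.2.ne_top (top_le_iff.mp h1)
  have hmemrange : ∀ p : PrimeSpectrum (C₁ ⊗[A] A'), p ∈ Set.range ν →
      ∃ i, g i ⊗ₜ[A] (1 : A') ∉ p.asIdeal := by
    rintro _ ⟨u, rfl⟩
    obtain ⟨i, hi⟩ := hQtop ((pullbackSpecIso A B A').hom (U'.ι u))
    exact ⟨i, hi⟩
  refine ⟨e', he', ?_, ?_⟩
  · -- e' ∈ span
    have hrad : e' ∈ (Ideal.span (Set.range fun i => g i ⊗ₜ[A] (1 : A'))).radical := by
      rw [Ideal.radical_eq_sInf, Ideal.mem_sInf]
      rintro p ⟨hle, hp⟩
      by_contra hep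
      have : (⟨p, hp⟩ : PrimeSpectrum (C₁ ⊗[A] A')) ∈ Set.range ν := by
        rw [hrange]; exact hep
      obtain ⟨i, hi⟩ := hmemrange _ this
      exact hi (hle (Ideal.subset_span ⟨i, rfl⟩))
    obtain ⟨n, hn⟩ := hrad
    rcases n with _ | n
    · have : Ideal.span (Set.range fun i => g i ⊗ₜ[A] (1 : A')) = ⊤ :=
        (Ideal.eq_top_iff_one _).mpr (by simpa using hn)
      rw [this]; trivial
    · rwa [he'.pow_succ_eq] at hn
  · -- U' = opensOf
    have hinj : Function.Injective ((pullbackSpecIso A B A').hom ≫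
        Spec.map (CommRingCat.ofHom (Phi φ₁ A' : C₁ ⊗[A] A' →+* B ⊗[A] A'))) :=
      (Scheme.Hom.isOpenEmbedding _).injective
    ext x
    simp only [opensOf, Scheme.Hom.coe_preimage, Set.mem_preimage, SetLike.mem_coe]
    have hx : ((pullbackSpecIso A B A').hom ≫
        Spec.map (CommRingCat.ofHom (Phi φ₁ A' : C₁ ⊗[A] A' →+* B ⊗[A] A'))) x ∈ Set.range ν ↔
        x ∈ U' := by
      constructor
      · rintro ⟨u, hu⟩
        have : U'.ι u = x := hinj (by simpa [ν, Scheme.Hom.comp_apply] using hu)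
        rw [← this]; exact u.2
      · intro hx
        exact ⟨⟨x, hx⟩, by simp [ν, Scheme.Hom.comp_apply]⟩
    rw [← hx, hrange]
    rfl

end Versal

end Groth.Agent.Helper3.UFO
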