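import Mathlib
import Groth.Prelude
import Groth.Agent.Helper3.UFOa
import Groth.Agent.Helper3.UFOb
import Groth.Agent.Helper3.UFOc

set_option autoImplicit false
set_option linter.style.haveILetI false
set_option linter.unusedSectionVars false
set_option linter.unusedVariables false
set_option linter.deprecated false
set_option linter.style.haveILetI false
set_option linter.unusedSectionVars false
set_option linter.unusedVariables false

universe u

open TensorProduct AlgebraicGeometry CategoryTheory CategoryTheory.Limits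

namespace Groth.Agent.Helper3.UFO

section MainSpec

variable {A B : Type u} [CommRing A] [CommRing B] [Algebra A B]

lemma comm_mem_span {C₁ A' : Type u} [CommRing C₁] [Algebra A C₁] [CommRing A'] [Algebra A A']
    {m : ℕ} (g : Fin m → C₁) (e : A' ⊗[A] C₁)
    (he : e ∈ Ideal.span (Set.range fun i => (1 : A') ⊗ₜ[A] g i)) :
    Algebra.TensorProduct.comm A A' C₁ e ∈ Ideal.span (Set.range fun i => g i ⊗ₜ[A] (1 : A')) := by
  have h1 := Ideal.mem_map_of_mem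
    ((Algebra.TensorProduct.comm A A' C₁ : A' ⊗[A] C₁ ≃ₐ[A] C₁ ⊗[A] A') :
      A' ⊗[A] C₁ →+* C₁ ⊗[A] A') he
  rw [Ideal.map_span, ← Set.range_comp] at h1
  convert h1 using 3
  · ext i; simp
  · rfl

lemma comm_symm_mem_span {C₁ A' : Type u} [CommRing C₁] [Algebra A C₁] [CommRing A']
    [Algebra A A'] {m : ℕ} (g : Fin m → C₁) (e : C₁ ⊗[A] A')
    (he : e ∈ Ideal.span (Set.range fun i => g i ⊗ₜ[A] (1 : A'))) :
    (Algebra.TensorProduct.comm A A' C₁).symm e ∈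
      Ideal.span (Set.range fun i => (1 : A') ⊗ₜ[A] g i) := by
  have h1 := Ideal.mem_map_of_mem
    (((Algebra.TensorProduct.comm A A' C₁).symm : C₁ ⊗[A] A' ≃ₐ[A] A' ⊗[A] C₁) :
      C₁ ⊗[A] A' →+* A' ⊗[A] C₁) he
  rw [Ideal.map_span, ← Set.range_comp] at h1
  convert h1 using 3
  · ext i; simp
  · rfl

theorem main_spec [Algebra.FinitePresentation A B] [Algebra.QuasiFinite A B] :
    ∃ (Au : Type u) (_ : CommRing Au) (_ : Algebra A Au) (_ : Algebra.FinitePresentation A Au)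
      (Uu : (pullback (Spec.map (CommRingCat.ofHom (algebraMap A B)))
        (Spec.map (CommRingCat.ofHom (algebraMap A Au)))).Opens),
      IsFinite (Uu.ι ≫ pullback.snd _ _) ∧
      ∀ (A' : Type u) [CommRing A'] [Algebra A A']
        (U' : (pullback (Spec.map (CommRingCat.ofHom (algebraMap A B)))
          (Spec.map (CommRingCat.ofHom (algebraMap A A')))).Opens),
        IsFinite (U'.ι ≫ pullback.snd _ _) →
        ∃ ψ : Au →ₐ[A] A', ∀ (m : pullback (Spec.map (CommRingCat.ofHom (algebraMap A B)))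
            (Spec.map (CommRingCat.ofHom (algebraMap A A'))) ⟶
          pullback (Spec.map (CommRingCat.ofHom (algebraMap A B)))
            (Spec.map (CommRingCat.ofHom (algebraMap A Au)))),
          m ≫ pullback.fst _ _ = pullback.fst _ _ →
          m ≫ pullback.snd _ _ = pullback.snd _ _ ≫
            Spec.map (CommRingCat.ofHom (ψ : Au →+* A')) →
          m ⁻¹ᵁ Uu = U' := by
  obtain ⟨C₀, _, _, _, _, C₁, _, _, _, κ, φ₁, s, m, q, g, hκ, hker, hspan, hsurj, hinj⟩ :=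
    exists_finite_fp_model (A := A) (B := B)
  haveI : IsOpenImmersion (Spec.map (CommRingCat.ofHom (φ₁ : C₁ →+* B))) :=
    isOpenImmersion_of_local (φ₁ : C₁ →+* B) g hspan hsurj hinj
  obtain ⟨Au, _, _, hfp, eu, heu, heumem, huniv⟩ := exists_versal_idem κ hκ q hker g
  let cu := Algebra.TensorProduct.comm A Au C₁
  let eu' : C₁ ⊗[A] Au := cu eu
  have heu' : IsIdempotentElem eu' := heu.map cu
  have heumem' : eu' ∈ Ideal.span (Set.range fun i => g i ⊗ₜ[A] (1 : Au)) :=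
    comm_mem_span g eu heumem
  refine ⟨Au, inferInstance, inferInstance, hfp, opensOf (Phi φ₁ Au eu'), ?_, ?_⟩
  · exact isFinite_opensOf _ (heu'.map _) (finite_quotient_idem φ₁ g hsurj Au eu' heu' heumem')
  · intro A' _ _ U' hfin
    obtain ⟨e', he', he'mem, hU'⟩ := exists_idem_of_finite φ₁ g hspan A' U' hfin
    let c' := Algebra.TensorProduct.comm A A' C₁
    obtain ⟨ψ, hψ⟩ := huniv A' (c'.symm e') (he'.map c'.symm) (comm_symm_mem_span g e' he'mem)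
    refine ⟨ψ, fun mm hm₁ hm₂ => ?_⟩
    rw [preimage_opensOf ψ _ mm hm₁ hm₂, hU']
    congr 1
    have h1 : (Algebra.TensorProduct.map (AlgHom.id A B) ψ).comp (Phi φ₁ Au) =
        (Phi φ₁ A').comp (Algebra.TensorProduct.map (AlgHom.id A C₁) ψ) := by
      ext x <;> simp
    have h2 : (Algebra.TensorProduct.map (AlgHom.id A C₁) ψ).comp (cu : Au ⊗[A] C₁ →ₐ[A] C₁ ⊗[A] Au)
        = (c' : A' ⊗[A] C₁ →ₐ[A] C₁ ⊗[A] A').comp (bcm ψ) := by
      ext x <;> simp [cu, c']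
    have h3 : Algebra.TensorProduct.map (AlgHom.id A C₁) ψ eu' = e' := by
      have := congrArg (fun F => F eu) h2
      simp only [AlgHom.coe_comp, Function.comp_apply, AlgHom.coe_coe] at this
      rw [hψ] at this
      simpa [eu', c'] using this
    have := congrArg (fun F => F eu') h1
    simp only [AlgHom.coe_comp, Function.comp_apply] at this
    rw [this, h3]

end MainSpec

section Transport

lemma transport_opens {P P₀ S S₀ : Scheme.{u}} (Ξ : P ⟶ P₀) [IsIso Ξ] (s : P ⟶ S)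
    (s₀ : P₀ ⟶ S₀) (t : S ⟶ S₀) [IsIso t] (h : Ξ ≫ s₀ = s ≫ t) (U' : P.Opens)
    (hfin : IsFinite (U'.ι ≫ s)) :
    ∃ U'₀ : P₀.Opens, Ξ ⁻¹ᵁ U'₀ = U' ∧ IsFinite (U'₀.ι ≫ s₀) := by
  obtain ⟨U'₀, rfl⟩ : ∃ U'₀ : P₀.Opens, Ξ ⁻¹ᵁ U'₀ = U' :=
    ⟨(inv Ξ) ⁻¹ᵁ U', by rw [← Scheme.Hom.comp_preimage, IsIso.hom_inv_id, Scheme.Hom.id_preimage]⟩
  refine ⟨U'₀, rfl, ?_⟩
  have e1 : (Ξ ∣_ U'₀) ≫ U'₀.ι = (Ξ ⁻¹ᵁ U'₀).ι ≫ Ξ := morphismRestrict_ι Ξ U'₀
  have e2 : (Ξ ∣_ U'₀) ≫ (U'₀.ι ≫ s₀) = ((Ξ ⁻¹ᵁ U'₀).ι ≫ s) ≫ t := by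
    rw [← Category.assoc, e1, Category.assoc, h, Category.assoc]
  have h3 : IsFinite (((Ξ ⁻¹ᵁ U'₀).ι ≫ s) ≫ t) :=
    (MorphismProperty.cancel_right_of_respectsIso @IsFinite _ t).mpr hfin
  rw [← e2] at h3
  exact (MorphismProperty.cancel_left_of_respectsIso @IsFinite (Ξ ∣_ U'₀) _).mp h3

end Transport

/-- The strong form of the conclusion of S1445. -/
def Goal {X Y : Scheme.{u}} (f : X ⟶ Y) : Prop :=
  ∃ (Yu : Scheme.{u}) (a : Yu ⟶ Y) (Uu : (pullback f a).Opens),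
    LocallyOfFinitePresentation a ∧ QuasiCompact a ∧ QuasiSeparated a ∧
    IsFinite (Uu.ι ≫ pullback.snd f a) ∧
    ∀ (Y' : Scheme.{u}) (b : Y' ⟶ Y) (U' : (pullback f b).Opens), IsAffine Y' →
      IsFinite (U'.ι ≫ pullback.snd f b) →
      ∃ (c : Y' ⟶ Yu), c ≫ a = b ∧
        ∀ m : pullback f b ⟶ pullback f a, m ≫ pullback.fst f a = pullback.fst f b →
          m ≫ pullback.snd f a = pullback.snd f b ≫ c → m ⁻¹ᵁ Uu = U'

theorem goal_of_iso {X Y X₀ Y₀ : Scheme.{u}} (f : X ⟶ Y) (f₀ : X₀ ⟶ Y₀) (iX : X ≅ X₀)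
    (iY : Y ≅ Y₀) (w : f ≫ iY.hom = iX.hom ≫ f₀) (h : Goal f₀) : Goal f := by
  obtain ⟨Yu, a₀, Uu₀, hlfp, hqc, hqs, hfin, huniv⟩ := h
  have wa : (a₀ ≫ iY.inv) ≫ iY.hom = 𝟙 Yu ≫ a₀ := by simp
  let Θ := pullback.map f (a₀ ≫ iY.inv) f₀ a₀ iX.hom (𝟙 Yu) iY.hom w wa
  have hΘ₁ : Θ ≫ pullback.fst f₀ a₀ = pullback.fst f (a₀ ≫ iY.inv) ≫ iX.hom := by
    simp only [Θ, pullback.map, pullback.lift_fst]
  have hΘ₂ : Θ ≫ pullback.snd f₀ a₀ = pullback.snd f (a₀ ≫ iY.inv) ≫ 𝟙 Yu := by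
    simp only [Θ, pullback.map, pullback.lift_snd]
  refine ⟨Yu, a₀ ≫ iY.inv, Θ ⁻¹ᵁ Uu₀, inferInstance, inferInstance, inferInstance, ?_, ?_⟩
  · have e1 : (Θ ∣_ Uu₀) ≫ Uu₀.ι = (Θ ⁻¹ᵁ Uu₀).ι ≫ Θ := morphismRestrict_ι Θ Uu₀
    have e2 : (Θ ⁻¹ᵁ Uu₀).ι ≫ pullback.snd f (a₀ ≫ iY.inv) =
        (Θ ∣_ Uu₀) ≫ (Uu₀.ι ≫ pullback.snd f₀ a₀) := by
      rw [← Category.assoc, e1, Category.assoc, hΘ₂, Category.comp_id]
    rw [e2]
    exact (MorphismProperty.cancel_left_of_respectsIso @IsFinite (Θ ∣_ Uu₀) _).mpr hfin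
  · intro Y' b U' hY' hU'
    have wb : b ≫ iY.hom = 𝟙 Y' ≫ (b ≫ iY.hom) := by simp
    let Θ' := pullback.map f b f₀ (b ≫ iY.hom) iX.hom (𝟙 Y') iY.hom w wb
    have hΘ'₁ : Θ' ≫ pullback.fst f₀ (b ≫ iY.hom) = pullback.fst f b ≫ iX.hom := by
      simp only [Θ', pullback.map, pullback.lift_fst]
    have hΘ'₂ : Θ' ≫ pullback.snd f₀ (b ≫ iY.hom) = pullback.snd f b ≫ 𝟙 Y' := by
      simp only [Θ', pullback.map, pullback.lift_snd]
    obtain ⟨U'₀, hU'₀, hfin₀⟩ := transport_opens Θ' (pullback.snd f b)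
      (pullback.snd f₀ (b ≫ iY.hom)) (𝟙 Y') hΘ'₂ U' hU'
    obtain ⟨c, hc, hm⟩ := huniv Y' (b ≫ iY.hom) U'₀ hY' hfin₀
    refine ⟨c, by rw [← Category.assoc, hc, Category.assoc, Iso.hom_inv_id, Category.comp_id], ?_⟩
    intro m hm₁ hm₂
    have := hm (inv Θ' ≫ m ≫ Θ) ?_ ?_
    · rw [← hU'₀, ← this, ← Scheme.Hom.comp_preimage, ← Scheme.Hom.comp_preimage,
        IsIso.hom_inv_id_assoc]
    · rw [Category.assoc, Category.assoc, hΘ₁, ← Category.assoc m, hm₁, IsIso.inv_comp_eq, hΘ'₁]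
    · rw [Category.assoc, Category.assoc, hΘ₂, Category.comp_id, hm₂, IsIso.inv_comp_eq,
        ← Category.assoc, hΘ'₂, Category.comp_id]


section GoalSpec

variable {A B : Type u} [CommRing A] [CommRing B] [Algebra A B]

theorem goal_spec [Algebra.FinitePresentation A B] [Algebra.QuasiFinite A B] :
    Goal (Spec.map (CommRingCat.ofHom (algebraMap A B))) := by
  obtain ⟨Au, _, _, hfp, Uu, hfin, huniv⟩ := main_spec (A := A) (B := B)
  refine ⟨Spec (CommRingCat.of Au), Spec.map (CommRingCat.ofHom (algebraMap A Au)), Uu,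
    ?_, inferInstance, inferInstance, hfin, ?_⟩
  · rw [HasRingHomProperty.Spec_iff (P := @LocallyOfFinitePresentation)]
    exact RingHom.finitePresentation_algebraMap.mpr hfp
  · intro Y' b U' hY' hU'
    let i := Y'.isoSpec
    let β : CommRingCat.of A ⟶ Γ(Y', ⊤) := Spec.preimage (i.inv ≫ b)
    have hβ : Spec.map β = i.inv ≫ b := Spec.map_preimage _
    letI : Algebra A Γ(Y', ⊤) := β.hom.toAlgebra
    have hβ' : Spec.map (CommRingCat.ofHom (algebraMap A Γ(Y', ⊤))) = i.inv ≫ b := hβ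
    have hb : b = i.hom ≫ Spec.map (CommRingCat.ofHom (algebraMap A Γ(Y', ⊤))) := by
      rw [hβ', Iso.hom_inv_id_assoc]
    have wb : b ≫ 𝟙 _ = i.hom ≫ Spec.map (CommRingCat.ofHom (algebraMap A Γ(Y', ⊤))) := by
      rw [Category.comp_id]; exact hb
    have wf : Spec.map (CommRingCat.ofHom (algebraMap A B)) ≫ 𝟙 _ =
        𝟙 _ ≫ Spec.map (CommRingCat.ofHom (algebraMap A B)) := by simp
    let Ξ := pullback.map (Spec.map (CommRingCat.ofHom (algebraMap A B))) b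
      (Spec.map (CommRingCat.ofHom (algebraMap A B)))
      (Spec.map (CommRingCat.ofHom (algebraMap A Γ(Y', ⊤)))) (𝟙 _) i.hom (𝟙 _) wf wb
    have hΞ₁ : Ξ ≫ pullback.fst _ _ = pullback.fst _ _ ≫ 𝟙 _ := by
      simp only [Ξ, pullback.map, pullback.lift_fst]
    have hΞ₂ : Ξ ≫ pullback.snd _ _ = pullback.snd _ _ ≫ i.hom := by
      simp only [Ξ, pullback.map, pullback.lift_snd]
    obtain ⟨U'₀, hU'₀, hfin₀⟩ := transport_opens Ξ (pullback.snd _ _) (pullback.snd _ _) i.hom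
      hΞ₂ U' hU'
    obtain ⟨ψ, hψ⟩ := huniv Γ(Y', ⊤) U'₀ hfin₀
    refine ⟨i.hom ≫ Spec.map (CommRingCat.ofHom (ψ : Au →+* Γ(Y', ⊤))), ?_, ?_⟩
    · rw [Category.assoc, ← Spec.map_comp, ← CommRingCat.ofHom_comp, hb]
      congr 3
      exact ψ.comp_algebraMap
    · intro m hm₁ hm₂
      have := hψ (inv Ξ ≫ m) ?_ ?_
      · rw [← hU'₀, ← this, ← Scheme.Hom.comp_preimage, IsIso.hom_inv_id_assoc]
      · rw [Category.assoc, hm₁, IsIso.inv_comp_eq, hΞ₁, Category.comp_id]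
      · rw [Category.assoc, hm₂, ← Category.assoc (pullback.snd _ _), ← hΞ₂, Category.assoc,
          IsIso.inv_hom_id_assoc]

end GoalSpec

theorem goal_of_affine {X Y : Scheme.{u}} (f : X ⟶ Y) [IsAffine X] [IsAffine Y]
    [LocallyQuasiFinite f] [LocallyOfFinitePresentation f] : Goal f := by
  letI : Algebra Γ(Y, ⊤) Γ(X, ⊤) := f.appTop.hom.toAlgebra
  have hf₀ : Spec.map (CommRingCat.ofHom (algebraMap Γ(Y, ⊤) Γ(X, ⊤))) = Spec.map f.appTop := rfl
  have w : f ≫ Y.isoSpec.hom = X.isoSpec.hom ≫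
      Spec.map (CommRingCat.ofHom (algebraMap Γ(Y, ⊤) Γ(X, ⊤))) := by
    rw [hf₀]
    exact (Scheme.isoSpec_hom_naturality f).symm
  refine goal_of_iso f _ X.isoSpec Y.isoSpec w ?_
  haveI : Algebra.FinitePresentation Γ(Y, ⊤) Γ(X, ⊤) := by
    have h := (HasRingHomProperty.iff_of_isAffine (P := @LocallyOfFinitePresentation)
      (f := f)).mp inferInstance
    exact h
  haveI : Algebra.QuasiFinite Γ(Y, ⊤) Γ(X, ⊤) := by
    have h := (HasRingHomProperty.iff_of_isAffine (P := @LocallyQuasiFinite)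
      (f := f)).mp inferInstance
    exact h
  exact goal_spec

theorem universal_finite_open {X Y : Scheme.{u}} (f : X ⟶ Y) [IsAffine X] [IsAffine Y]
    [LocallyQuasiFinite f] [LocallyOfFinitePresentation f] :
    ∃ (Yu : Scheme.{u}) (a : Yu ⟶ Y) (Uu : (pullback f a).Opens),
      LocallyOfFinitePresentation a ∧ QuasiCompact a ∧ QuasiSeparated a ∧
      IsFinite (Uu.ι ≫ pullback.snd f a) ∧
      ∀ (Y' : Scheme.{u}) (b : Y' ⟶ Y) (U' : (pullback f b).Opens), IsAffine Y' →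
        IsFinite (U'.ι ≫ pullback.snd f b) →
        ∃ (c : Y' ⟶ Yu) (hc : c ≫ a = b),
          (pullback.map f b f a (𝟙 X) c (𝟙 Y)
            ((Category.comp_id f).trans (Category.id_comp f).symm)
            ((Category.comp_id b).trans hc.symm)) ⁻¹ᵁ Uu = U' := by
  obtain ⟨Yu, a, Uu, h1, h2, h3, h4, h5⟩ := goal_of_affine f
  refine ⟨Yu, a, Uu, h1, h2, h3, h4, fun Y' b U' hY' hU' => ?_⟩
  obtain ⟨c, hc, hm⟩ := h5 Y' b U' hY' hU'
  refine ⟨c, hc, hm _ ?_ ?_⟩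
  · simp only [pullback.map, pullback.lift_fst, Category.comp_id]
  · simp only [pullback.map, pullback.lift_snd]

end Groth.Agent.Helper3.UFO
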