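import Mathlib

set_option linter.style.haveILetI false
set_option linter.unusedSectionVars false
set_option linter.unusedVariables false

namespace Groth.Agent.Helper3.UfdCl

universe u

open AlgebraicGeometry Order WithZero

section ring

/-- order of vanishing of a generator of the maximal ideal is one -/
theorem ord_eq_one_of_isMaximal {R : Type*} [CommRing R] {ϖ : R}
    (h : (Ideal.span {ϖ}).IsMaximal) : Ring.ord R ϖ = 1 := by
  rw [Ring.ord, Module.length_eq_one_iff]
  rw [isSimpleModule_iff_isSimpleModule_of_algebraMap_surjective (S := R ⧸ Ideal.span {ϖ})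
    Ideal.Quotient.mk_surjective]
  let := Ideal.Quotient.field (Ideal.span {ϖ})
  exact instIsSimpleModule _

end ring

variable (A : Type u) [CommRing A] [IsDomain A] [IsNoetherianRing A]

/-- the map `A → K` -/
noncomputable def ι : A →+* (Spec (CommRingCat.of A)).functionField :=
  (StructureSheaf.toStalk A (genericPoint (Spec (CommRingCat.of A)))).hom

/-- the tower `A → 𝒪_x → K` -/
theorem algebraMap_stalk (x : ↥(Spec (CommRingCat.of A))) (a : A) :
    algebraMap ((Spec (CommRingCat.of A)).presheaf.stalk x)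
      (Spec (CommRingCat.of A)).functionField
      ((StructureSheaf.toStalk A x).hom a) = ι A a := by
  have h := StructureSheaf.toStalk_stalkSpecializes (R := A)
    ((genericPoint_spec (Spec (CommRingCat.of A))).specializes (Set.mem_univ x))
  exact congrArg (fun φ => φ.hom a) h

theorem ι_injective : Function.Injective (ι A) := by
  have := StructureSheaf.IsLocalization.to_stalk A (genericPoint (Spec (CommRingCat.of A)))
  exact IsLocalization.injective (M := (genericPoint (Spec (CommRingCat.of A))).asIdeal.primeCompl)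
    ((Spec.structureSheaf A).presheaf.stalk (genericPoint (Spec (CommRingCat.of A))))
    (Ideal.primeCompl_le_nonZeroDivisors _)

/-- the algebra structure of the stalk -/
noncomputable abbrev stalkAlg (x : ↥(Spec (CommRingCat.of A))) :
    Algebra A ((Spec (CommRingCat.of A)).presheaf.stalk x) :=
  (StructureSheaf.toStalk A x).hom.toAlgebra

attribute [local instance] stalkAlg

theorem isLoc (x : ↥(Spec (CommRingCat.of A))) :
    IsLocalization.AtPrime ((Spec (CommRingCat.of A)).presheaf.stalk x) x.asIdeal :=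
  StructureSheaf.IsLocalization.to_stalk A x

theorem toStalk_injective (x : ↥(Spec (CommRingCat.of A))) :
    Function.Injective (algebraMap A ((Spec (CommRingCat.of A)).presheaf.stalk x)) := by
  have := isLoc A x
  exact IsLocalization.injective (M := x.asIdeal.primeCompl)
    ((Spec (CommRingCat.of A)).presheaf.stalk x)
    (Ideal.primeCompl_le_nonZeroDivisors _)

theorem ordHom_ι (x : ↥(Spec (CommRingCat.of A))) (hx : coheight x = 1) (a : A) (ha : a ≠ 0) :
    Scheme.ordHom x hx (ι A a) =
      Ring.ordMonoidWithZeroHom ((Spec (CommRingCat.of A)).presheaf.stalk x)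
        (algebraMap A ((Spec (CommRingCat.of A)).presheaf.stalk x) a) := by
  rw [← algebraMap_stalk A x a]
  unfold Scheme.ordHom
  haveI : Ring.KrullDimLE 1 ((Spec (CommRingCat.of A)).presheaf.stalk x) :=
    krullDimLE_of_coheight_le hx.le
  refine Ring.ordFrac_eq_ord _ ?_
  intro h
  exact ha (toStalk_injective A x (h.trans (map_zero _).symm))

theorem ordHom_ι_of_notMem (x : ↥(Spec (CommRingCat.of A))) (hx : coheight x = 1) (a : A)
    (ha : a ∉ x.asIdeal) : Scheme.ordHom x hx (ι A a) = 1 := by
  rw [← algebraMap_stalk A x a]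
  unfold Scheme.ordHom
  haveI : Ring.KrullDimLE 1 ((Spec (CommRingCat.of A)).presheaf.stalk x) :=
    krullDimLE_of_coheight_le hx.le
  refine Ring.ordFrac_of_isUnit ?_
  have := isLoc A x
  exact IsLocalization.map_units (M := x.asIdeal.primeCompl)
    ((Spec (CommRingCat.of A)).presheaf.stalk x) ⟨a, ha⟩

theorem ordHom_ι_of_span (x : ↥(Spec (CommRingCat.of A))) (hx : coheight x = 1) (a : A)
    (ha : x.asIdeal = Ideal.span {a}) :
    Scheme.ordHom x hx (ι A a) = ((Multiplicative.ofAdd (1 : ℤ) : Multiplicative ℤ) : ℤᵐ⁰) := by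
  have hne : x.asIdeal ≠ ⊥ := by
    intro h
    have h1 := idealHeight_eq_coheight (CommRingCat.of A) x
    rw [hx] at h1
    have h2 : x.asIdeal.height = 0 := by
      rw [Ideal.height_eq_zero_iff_eq_bot]; exact h
    rw [h2] at h1
    exact zero_ne_one h1
  have ha0 : a ≠ 0 := by
    rintro rfl
    apply hne
    rw [ha]; simp
  rw [ordHom_ι A x hx a ha0]
  haveI : Ring.KrullDimLE 1 ((Spec (CommRingCat.of A)).presheaf.stalk x) :=
    krullDimLE_of_coheight_le hx.le
  have hloc := isLoc A x
  have hmax : (Ideal.span {algebraMap A ((Spec (CommRingCat.of A)).presheaf.stalk x) a}).IsMaximal := by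
    have h1 := IsLocalization.AtPrime.map_eq_maximalIdeal x.asIdeal
      ((Spec (CommRingCat.of A)).presheaf.stalk x)
    rw [ha, Ideal.map_span, Set.image_singleton] at h1
    rw [h1]
    exact IsLocalRing.maximalIdeal.isMaximal _
  have h3 := ord_eq_one_of_isMaximal hmax
  have hnzd : algebraMap A ((Spec (CommRingCat.of A)).presheaf.stalk x) a ∈
      nonZeroDivisors ((Spec (CommRingCat.of A)).presheaf.stalk x) := by
    rw [mem_nonZeroDivisors_iff_ne_zero]
    intro h
    exact ha0 (toStalk_injective A x (h.trans (map_zero _).symm))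
  exact Ring.ordMonoidWithZeroHom_eq_coe _ hnzd (n := 1) (by exact_mod_cast h3)

theorem exists_prime_gen [UniqueFactorizationMonoid A] (x : ↥(Spec (CommRingCat.of A)))
    (hx : coheight x = 1) : ∃ π : A, Prime π ∧ x.asIdeal = Ideal.span {π} := by
  have h1 : x.asIdeal.height = 1 := by rw [idealHeight_eq_coheight (CommRingCat.of A) x, hx]
  have hne : x.asIdeal ≠ ⊥ := Ideal.ne_bot_of_height_eq_one h1
  obtain ⟨π, hπmem, hπ⟩ := Ideal.IsPrime.exists_mem_prime_of_ne_bot x.isPrime hne
  refine ⟨π, hπ, ?_⟩
  have hle : Ideal.span {π} ≤ x.asIdeal := (Ideal.span_singleton_le_iff_mem _).2 hπmem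
  haveI : (Ideal.span {π}).IsPrime := (Ideal.span_singleton_prime hπ.ne_zero).2 hπ
  symm
  apply Ideal.eq_of_le_of_height_le _ hle
  rw [h1, ENat.one_le_iff_ne_zero, Ne, Ideal.height_eq_zero_iff_eq_bot]
  simp [hπ.ne_zero]

theorem main [UniqueFactorizationMonoid A]
    (D : ↥(Spec (CommRingCat.of A)) → ℤ) (hD : ∀ x, Order.coheight x ≠ 1 → D x = 0)
    (hfin : {x | D x ≠ 0}.Finite) :
    ∃ f : ↑(Spec (CommRingCat.of A)).functionField, f ≠ 0 ∧
      ∀ x : ↥(Spec (CommRingCat.of A)), Order.coheight x = 1 → Scheme.ord f x = D x := by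
  classical
  have hπ : ∀ x : ↥(Spec (CommRingCat.of A)), ∃ π : A, π ≠ 0 ∧
      (coheight x = 1 → x.asIdeal = Ideal.span {π}) := by
    intro x
    by_cases hx : coheight x = 1
    · obtain ⟨π, h1, h2⟩ := exists_prime_gen A x hx
      exact ⟨π, h1.ne_zero, fun _ => h2⟩
    · exact ⟨1, one_ne_zero, fun h => absurd h hx⟩
  choose π hπ0 hπs using hπ
  let f : (Spec (CommRingCat.of A)).functionField := ∏ x ∈ hfin.toFinset, (ι A (π x)) ^ (D x)
  have hfac : ∀ x, ι A (π x) ≠ 0 := fun x => (map_ne_zero_iff _ (ι_injective A)).2 (hπ0 x)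
  have hf : f ≠ 0 := Finset.prod_ne_zero_iff.2 fun x _ => zpow_ne_zero _ (hfac x)
  refine ⟨f, hf, fun z hz => ?_⟩
  rw [Scheme.ord_eq_iff hz hf]
  simp only [f, map_prod, map_zpow₀]
  have hfactor : ∀ x ∈ hfin.toFinset, x ≠ z → Scheme.ordHom z hz (ι A (π x)) ^ D x = 1 := by
    intro x hxm hxz
    have hxc : coheight x = 1 := by
      by_contra h
      exact (Set.Finite.mem_toFinset _).1 hxm (hD x h)
    rw [ordHom_ι_of_notMem A z hz (π x), one_zpow]
    intro hmem
    have hle : x.asIdeal ≤ z.asIdeal := by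
      rw [hπs x hxc]; exact (Ideal.span_singleton_le_iff_mem _).2 hmem
    have h1 : x.asIdeal.height = 1 := by rw [idealHeight_eq_coheight (CommRingCat.of A) x, hxc]
    have h2 : z.asIdeal.height = 1 := by rw [idealHeight_eq_coheight (CommRingCat.of A) z, hz]
    have := Ideal.eq_of_le_of_height_le _ hle (by rw [h1, h2])
    exact hxz (PrimeSpectrum.ext this)
  by_cases hzm : z ∈ hfin.toFinset
  · rw [Finset.prod_eq_single_of_mem z hzm (fun x hx hxz => hfactor x hx hxz)]
    rw [ordHom_ι_of_span A z hz (π z) (hπs z hz)]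
    rw [← WithZero.coe_zpow, ← ofAdd_zsmul]
    simp
  · rw [Finset.prod_eq_one (fun x hx => hfactor x hx (fun h => hzm (h ▸ hx)))]
    have : D z = 0 := by
      by_contra h
      exact hzm ((Set.Finite.mem_toFinset _).2 h)
    rw [this]
    rfl

end Groth.Agent.Helper3.UfdCl
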