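import Mathlib

set_option autoImplicit false
set_option linter.style.haveILetI false
set_option linter.unusedSectionVars false
set_option linter.unusedVariables false
set_option linter.style.haveILetI false
set_option linter.unusedSectionVars false
set_option linter.unusedVariables false

open Cardinal

universe u

namespace Groth.Agent.Helper3.Uncount

/-- a field extension of countable dimension over an uncountable field is algebraic -/
theorem isAlgebraic_of_rank_le_aleph0 (k L : Type u) [Field k] [Uncountable k] [Field L]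
    [Algebra k L] (h : Module.rank k L ≤ ℵ₀) : Algebra.IsAlgebraic k L := by
  by_contra hna
  rw [← Algebra.transcendental_iff_not_isAlgebraic] at hna
  have h1 := Algebra.Transcendental.rank_eq_cardinalMk k L
  have h2 : #k ≤ #L := Cardinal.mk_le_of_injective (algebraMap k L).injective
  have h3 : ℵ₀ < #k := Cardinal.aleph0_lt_mk_iff.mpr inferInstance
  rw [h1] at h
  exact absurd (h3.trans_le (h2.trans h)) (lt_irrefl _)

/-- a finitely generated algebra over a field has countable dimension -/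
theorem rank_le_aleph0_of_finiteType (k A : Type u) [Field k] [CommRing A] [Algebra k A]
    [Algebra.FiniteType k A] : Module.rank k A ≤ ℵ₀ := by
  obtain ⟨n, f, hf⟩ := Algebra.FiniteType.iff_quotient_mvPolynomial''.mp
    (inferInstance : Algebra.FiniteType k A)
  have h1 := f.toLinearMap.rank_le_of_surjective hf
  rw [MvPolynomial.rank_eq_lift] at h1
  exact h1.trans (Cardinal.lift_le_aleph0.mpr Cardinal.mk_le_aleph0)

theorem exists_maximal_avoiding (k : Type u) [Field k] [Uncountable k] (A : Type u) [CommRing A]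
    [Algebra k A] [Algebra.FiniteType k A] (p₀ : Ideal A) [p₀.IsPrime] (f : ℕ → A)
    (hf : ∀ n, f n ∉ p₀) : ∃ m : Ideal A, m.IsMaximal ∧ ∀ n, f n ∉ m := by
  haveI : Nontrivial A := ⟨0, 1, fun h => (Ideal.IsPrime.ne_top ‹p₀.IsPrime›)
    ((Ideal.eq_top_iff_one _).mpr (h ▸ p₀.zero_mem))⟩
  let P := MvPolynomial ℕ A
  let I : Ideal P := Ideal.span (Set.range fun n => MvPolynomial.X n * MvPolynomial.C (f n) - 1)
  -- `I ≠ ⊤`
  have hu : ∀ n, IsUnit (algebraMap A (Localization.AtPrime p₀) (f n)) := fun n =>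
    IsLocalization.map_units (Localization.AtPrime p₀) (⟨f n, hf n⟩ : p₀.primeCompl)
  let φ : P →ₐ[A] Localization.AtPrime p₀ := MvPolynomial.aeval fun n => ((hu n).unit⁻¹ : _)
  have hφX : ∀ n, φ (MvPolynomial.X n) = ((hu n).unit⁻¹ : _) :=
    fun n => MvPolynomial.aeval_X _ n
  have hφC : ∀ a, φ (MvPolynomial.C a) = algebraMap A _ a := fun a => MvPolynomial.aeval_C _ a
  have hIφ : I ≤ RingHom.ker φ.toRingHom := by
    rw [Ideal.span_le]
    rintro _ ⟨n, rfl⟩
    change φ _ = 0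
    rw [map_sub, map_mul, map_one, hφX, hφC, sub_eq_zero]
    exact (hu n).val_inv_mul
  have hI : I ≠ ⊤ := by
    intro h
    have h1 : (1 : P) ∈ RingHom.ker φ.toRingHom := hIφ (h ▸ Submodule.mem_top)
    have h2 : φ 1 = 0 := h1
    rw [map_one] at h2
    exact one_ne_zero h2
  obtain ⟨𝔐, h𝔐, hI𝔐⟩ := Ideal.exists_le_maximal I hI
  letI : Field (P ⧸ 𝔐) := Ideal.Quotient.field 𝔐
  -- rank of `P` over `k`
  have hrP : Module.rank k P ≤ ℵ₀ := by
    have h1 := rank_mul_rank k A P
    rw [MvPolynomial.rank_eq_lift] at h1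
    rw [← h1]
    calc Module.rank k A * Cardinal.lift.{u} #(ℕ →₀ ℕ) ≤ ℵ₀ * ℵ₀ :=
          mul_le_mul' (rank_le_aleph0_of_finiteType k A)
            (Cardinal.lift_le_aleph0.mpr Cardinal.mk_le_aleph0)
      _ = ℵ₀ := Cardinal.aleph0_mul_aleph0
  let π : P →ₐ[k] (P ⧸ 𝔐) := Ideal.Quotient.mkₐ k 𝔐
  have hπ : Function.Surjective π := Ideal.Quotient.mk_surjective
  have hrL : Module.rank k (P ⧸ 𝔐) ≤ ℵ₀ := (π.toLinearMap.rank_le_of_surjective hπ).trans hrP
  haveI halg : Algebra.IsAlgebraic k (P ⧸ 𝔐) := isAlgebraic_of_rank_le_aleph0 k (P ⧸ 𝔐) hrL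
  let ψ : A →ₐ[k] (P ⧸ 𝔐) := π.comp (IsScalarTower.toAlgHom k A P)
  let m : Ideal A := RingHom.ker ψ.toRingHom
  have hψf : ∀ n, ψ (f n) ≠ 0 := by
    intro n h0
    have h1 : (MvPolynomial.X n * MvPolynomial.C (f n) - 1 : P) ∈ 𝔐 :=
      hI𝔐 (Ideal.subset_span ⟨n, rfl⟩)
    have h2 : π (MvPolynomial.X n * MvPolynomial.C (f n) - 1) = 0 :=
      Ideal.Quotient.eq_zero_iff_mem.mpr h1
    rw [map_sub, map_mul, map_one] at h2
    have h3 : π (MvPolynomial.C (f n)) = ψ (f n) := rfl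
    rw [h3, h0, mul_zero, zero_sub, neg_eq_zero] at h2
    exact one_ne_zero h2
  haveI hmp : m.IsPrime := RingHom.ker_isPrime ψ.toRingHom
  have hint : Algebra.IsIntegral k (A ⧸ m) := by
    haveI : Algebra.IsIntegral k (P ⧸ 𝔐) := Algebra.IsAlgebraic.isIntegral
    exact Algebra.IsIntegral.of_injective (Ideal.kerLiftAlg ψ) (Ideal.kerLiftAlg_injective ψ)
  have hfield : IsField (A ⧸ m) := isField_of_isIntegral_of_isField' (Field.toIsField k)
  refine ⟨m, Ideal.Quotient.maximal_of_isField m hfield, fun n hn => hψf n hn⟩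

end Groth.Agent.Helper3.Uncount

namespace Groth.Agent.Helper3.Uncount

open AlgebraicGeometry CategoryTheory TopologicalSpace

theorem core (k : Type u) [Field k] [Uncountable k]
    (X : Scheme.{u}) (sX : X ⟶ Spec (CommRingCat.of k)) [IrreducibleSpace X]
    [LocallyOfFiniteType sX] (W : X.Opens) (hW : (W : Set X).Nonempty)
    (Z : ℕ → TopologicalSpace.Closeds X) (hZ : ∀ n, (Z n : Set X) ≠ Set.univ) :
    ∃ x : X, x ∈ W ∧ IsClosed ({x} : Set X) ∧ ∀ n, x ∉ Z n := by
  haveI : JacobsonSpace X := LocallyOfFiniteType.jacobsonSpace sX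
  let η : X := genericPoint X
  have hgen : IsGenericPoint η (Set.univ : Set X) := genericPoint_spec X
  have hηW : η ∈ W := by
    have := (hgen.mem_open_set_iff W.isOpen).mpr (by simpa using hW)
    exact this
  have hηZ : ∀ n, η ∉ Z n := by
    intro n hn
    have := (hgen.mem_closed_set_iff (Z n).isClosed).mp hn
    exact hZ n (Set.eq_univ_of_univ_subset this)
  obtain ⟨_, ⟨U, hU, rfl⟩, hηU, hUW⟩ :=
    X.isBasis_affineOpens.exists_subset_of_mem_open hηW W.isOpen
  obtain ⟨U', hU'⟩ : ∃ U' : X.Opens, U' = U := ⟨U, rfl⟩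
  subst hU'
  let A := Γ(X, U')
  let φ : k →+* A := (sX.appLE ⊤ U' (by simp)).hom.comp
    (Scheme.ΓSpecIso (CommRingCat.of k)).inv.hom
  letI : Algebra k A := φ.toAlgebra
  haveI : Algebra.FiniteType k A := by
    have h1 : (sX.appLE ⊤ U' (by simp)).hom.FiniteType :=
      sX.finiteType_appLE (isAffineOpen_top _) hU _
    have h2 : ((Scheme.ΓSpecIso (CommRingCat.of k)).inv.hom).FiniteType :=
      RingHom.FiniteType.of_surjective _
        (ConcreteCategory.bijective_of_isIso (Scheme.ΓSpecIso (CommRingCat.of k)).inv).2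
    exact h1.comp h2
  let p₀ : PrimeSpectrum A := hU.primeIdealOf ⟨η, hηU⟩
  have hp₀ : hU.fromSpec p₀ = η := hU.fromSpec_primeIdealOf ⟨η, hηU⟩
  have hT : ∀ n, ∃ g : A, g ∉ p₀.asIdeal ∧
      ∀ q : PrimeSpectrum A, hU.fromSpec q ∈ Z n → g ∈ q.asIdeal := by
    intro n
    have hcl : IsClosed (hU.fromSpec ⁻¹' (Z n : Set X)) :=
      (Z n).isClosed.preimage hU.fromSpec.continuous
    obtain ⟨I, hI⟩ := (PrimeSpectrum.isClosed_iff_zeroLocus_ideal _).mp hcl
    have hp₀n : p₀ ∉ PrimeSpectrum.zeroLocus (I : Set A) := by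
      intro hmem
      rw [← hI] at hmem
      apply hηZ n
      rw [← hp₀]
      exact hmem
    rw [PrimeSpectrum.mem_zeroLocus, Set.not_subset] at hp₀n
    obtain ⟨g, hgI, hgp⟩ := hp₀n
    refine ⟨g, hgp, fun q hq => ?_⟩
    have : q ∈ PrimeSpectrum.zeroLocus (I : Set A) := by rw [← hI]; exact hq
    exact this hgI
  choose f hf1 hf2 using hT
  obtain ⟨m, hm, hfm⟩ := exists_maximal_avoiding k A p₀.asIdeal f hf1
  let x' : PrimeSpectrum A := ⟨m, hm.isPrime⟩
  refine ⟨hU.fromSpec x', ?_, ?_, ?_⟩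
  · apply hUW
    have : hU.fromSpec x' ∈ Set.range hU.fromSpec := ⟨x', rfl⟩
    rw [hU.range_fromSpec] at this
    exact this
  · have hemb : Topology.IsOpenEmbedding hU.fromSpec := hU.fromSpec.isOpenEmbedding
    have hx' : x' ∈ hU.fromSpec ⁻¹' closedPoints X := by
      rw [hemb.preimage_closedPoints]
      exact (PrimeSpectrum.isClosed_singleton_iff_isMaximal x').mpr hm
    exact hx'
  · intro n hn
    exact hfm n (hf2 n x' hn)

end Groth.Agent.Helper3.Uncount

namespace Groth.Agent.Helper3.Uncount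

open AlgebraicGeometry CategoryTheory TopologicalSpace

theorem s15237 (k : Type u) [Field k] [Uncountable k]
    (X : Scheme.{u}) (sX : X ⟶ Spec (CommRingCat.of k)) [IrreducibleSpace X]
    [LocallyOfFiniteType sX] [QuasiCompact sX]
    (Z : ℕ → TopologicalSpace.Closeds X) (hZ : ∀ n, (Z n : Set X) ≠ Set.univ) :
    ∃ x : X, IsClosed ({x} : Set X) ∧ ∀ n, x ∉ Z n := by
  obtain ⟨x, -, h1, h2⟩ := core k X sX ⊤ (by
    obtain ⟨x⟩ := (inferInstance : Nonempty X)
    exact ⟨x, trivial⟩) Z hZ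
  exact ⟨x, h1, h2⟩

theorem s16920 (k : Type u) [Field k] [IsAlgClosed k]
    [Uncountable k] (V : Scheme.{u}) (sV : V ⟶ Spec (CommRingCat.of k)) [IrreducibleSpace V]
    [LocallyOfFiniteType sV] [QuasiCompact sV] (Z : ℕ → TopologicalSpace.Closeds V)
    (hZ : ∀ n, (Z n : Set V) ≠ Set.univ) :
    Dense {x : V | IsClosed ({x} : Set V) ∧ ∀ n, x ∉ Z n} := by
  rw [dense_iff_inter_open]
  intro U hU hne
  obtain ⟨x, hxU, h1, h2⟩ := core k V sV ⟨U, hU⟩ hne Z hZ
  exact ⟨x, hxU, h1, h2⟩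

end Groth.Agent.Helper3.Uncount
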