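import Mathlib
import Groth.Prelude
import Groth.Agent.Helper3.UnitsP
import Groth.Agent.Helper3.UnitsV
import Groth.Agent.Helper3.UnitsH

set_option autoImplicit false
set_option linter.style.haveILetI false
set_option linter.unusedSectionVars false
set_option linter.unusedVariables false
set_option linter.deprecated false
set_option linter.style.haveILetI false
set_option linter.unusedSectionVars false
set_option linter.unusedVariables false

universe u

open CategoryTheory CategoryTheory.Limits AlgebraicGeometry TopologicalSpace Opposite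
open MonoidalCategory CartesianMonoidalCategory
open scoped WithZero

namespace Groth.Agent.Helper3.UnitsQ

open Groth.Agent.Helper3.UnitsE Groth.Agent.Helper3.UnitsF Groth.Agent.Helper3.UnitsV
  Groth.Agent.Helper3.UnitsP

variable {S : Scheme.{u}}

/-- pullback of global functions along a morphism of `S`-schemes -/
noncomputable def pb {P Q : Over S} (φ : P ⟶ Q) : Γ(Q.left, ⊤) →+* Γ(P.left, ⊤) :=
  φ.left.appTop.hom

theorem pb_comp {P Q R : Over S} (φ : P ⟶ Q) (ψ : Q ⟶ R) :
    pb (φ ≫ ψ) = (pb φ).comp (pb ψ) := by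
  unfold pb
  rw [Over.comp_left, Scheme.Hom.comp_appTop, CommRingCat.hom_comp]

theorem pb_comp_apply {P Q R : Over S} (φ : P ⟶ Q) (ψ : Q ⟶ R) (z : Γ(R.left, ⊤)) :
    pb (φ ≫ ψ) z = pb φ (pb ψ z) := by
  rw [pb_comp]; rfl

theorem pb_id (P : Over S) : pb (𝟙 P) = RingHom.id _ := by
  unfold pb
  rw [Over.id_left, Scheme.Hom.id_appTop, CommRingCat.hom_id]

theorem pb_id_apply (P : Over S) (z : Γ(P.left, ⊤)) : pb (𝟙 P) z = z := by
  rw [pb_id]; rfl

/-- the section `x ↦ (x, y₀)` -/
noncomputable def sA (X Y : Over S) (y₀ : 𝟙_ (Over S) ⟶ Y) : X ⟶ X ⊗ Y :=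
  lift (𝟙 X) (toUnit X ≫ y₀)

/-- the section `y ↦ (x₀, y)` -/
noncomputable def sB (X Y : Over S) (x₀ : 𝟙_ (Over S) ⟶ X) : Y ⟶ X ⊗ Y :=
  lift (toUnit Y ≫ x₀) (𝟙 Y)

/-- the product formula `f(x,y) f(x₀,y₀) = f(x,y₀) f(x₀,y)` -/
def Pform (X Y : Over S) (x₀ : 𝟙_ (Over S) ⟶ X) (y₀ : 𝟙_ (Over S) ⟶ Y)
    (f : Γ((X ⊗ Y).left, ⊤)) : Prop :=
  f * pb (fst X Y) (pb (toUnit X) (pb x₀ (pb (sA X Y y₀) f))) =
    pb (fst X Y) (pb (sA X Y y₀) f) * pb (snd X Y) (pb (sB X Y x₀) f)

theorem finiteType_strMap (k : Type u) [Field k] {X : Scheme.{u}} [IsAffine X]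
    (f : X ⟶ Spec (CommRingCat.of k)) [LocallyOfFiniteType f] : (strMap k f).FiniteType := by
  unfold strMap
  refine RingHom.FiniteType.comp ?_ ?_
  · exact (HasRingHomProperty.iff_of_isAffine (P := @LocallyOfFiniteType)).mp inferInstance
  · exact RingHom.FiniteType.of_surjective _
      (ConcreteCategory.bijective_of_isIso (Scheme.ΓSpecIso (CommRingCat.of k)).inv).2

/-- the product formula holds for integral affine schemes of finite type over an algebraically
closed field -/
theorem pform_affine (k : Type u) [Field k] [IsAlgClosed k]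
    (U V : Over (Spec (CommRingCat.of k)))
    [IsAffine U.left] [IsIntegral U.left] [LocallyOfFiniteType U.hom]
    [IsAffine V.left] [IsIntegral V.left] [LocallyOfFiniteType V.hom]
    (x₀ : 𝟙_ (Over (Spec (CommRingCat.of k))) ⟶ U) (y₀ : 𝟙_ (Over (Spec (CommRingCat.of k))) ⟶ V)
    (f : Γ((U ⊗ V).left, ⊤)) (hf : IsUnit f) : Pform U V x₀ y₀ f := by
  let A : Type u := Γ(U.left, ⊤)
  let B : Type u := Γ(V.left, ⊤)
  let C : Type u := Γ((U ⊗ V).left, ⊤)
  letI algA : Algebra k A := (strMap k U.hom).toAlgebra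
  letI algB : Algebra k B := (strMap k V.hom).toAlgebra
  haveI : Algebra.FiniteType k A := finiteType_strMap k U.hom
  haveI : IsDomain A := inferInstance
  haveI : IsDomain B := inferInstance
  obtain ⟨T, hT, w, hw, hker⟩ := exists_val_integral k V.left V.hom
  have hker' : ∀ u : Bˣ, (∀ t, w t (u : B) = 1) → (u : B) ∈ Set.range (algebraMap k B) :=
    fun u hu => Groth.Agent.Helper3.UnitsH.mem_range_of_isIntegralElem (strMap k V.hom) (u : B)
      (hker u hu)
  let eK := Scheme.ΓSpecIso (CommRingCat.of k)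
  have hpb : IsPullback (fst U V).left (snd U V).left U.hom V.hom :=
    IsPullback.of_hasPullback U.hom V.hom
  have hPO0 := isPushout_appTop_of_isPullback hpb
  have hPO : IsPushout (CommRingCat.ofHom (algebraMap k A)) (CommRingCat.ofHom (algebraMap k B))
      (CommRingCat.ofHom (pb (fst U V))) (CommRingCat.ofHom (pb (snd U V))) := by
    refine hPO0.of_iso eK (Iso.refl _) (Iso.refl _) (Iso.refl _) ?_ ?_ ?_ ?_
    · ext z
      show U.hom.appTop.hom z = (strMap k U.hom) (eK.hom.hom z)
      unfold strMap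
      rw [RingHom.comp_apply]
      congr 1
      exact (congr($(eK.hom_inv_id).hom z)).symm
    · ext z
      show V.hom.appTop.hom z = (strMap k V.hom) (eK.hom.hom z)
      unfold strMap
      rw [RingHom.comp_apply]
      congr 1
      exact (congr($(eK.hom_inv_id).hom z)).symm
    · rfl
    · rfl
  -- the points as algebra maps
  have hx₀ : x₀ ≫ toUnit U = 𝟙 _ := toUnit_unique _ _
  have hy₀ : y₀ ≫ toUnit V = 𝟙 _ := toUnit_unique _ _
  have htU : ∀ z, pb (toUnit U) z = U.hom.appTop.hom z := fun z => rfl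
  have htV : ∀ z, pb (toUnit V) z = V.hom.appTop.hom z := fun z => rfl
  have halgA : ∀ c : k, algebraMap k A c = pb (toUnit U) (eK.inv.hom c) := fun c => rfl
  have halgB : ∀ c : k, algebraMap k B c = pb (toUnit V) (eK.inv.hom c) := fun c => rfl
  let ξ : A →ₐ[k] k :=
    { toRingHom := eK.hom.hom.comp (pb x₀)
      commutes' := fun c => by
        show eK.hom.hom (pb x₀ (algebraMap k A c)) = c
        rw [halgA, ← pb_comp_apply, hx₀, pb_id_apply]
        exact congr($(eK.inv_hom_id).hom c) }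
  let υ : B →ₐ[k] k :=
    { toRingHom := eK.hom.hom.comp (pb y₀)
      commutes' := fun c => by
        show eK.hom.hom (pb y₀ (algebraMap k B c)) = c
        rw [halgB, ← pb_comp_apply, hy₀, pb_id_apply]
        exact congr($(eK.inv_hom_id).hom c) }
  have hcA : ∀ q : Γ(Spec (CommRingCat.of k), ⊤), algebraMap k A (eK.hom.hom q) =
      pb (toUnit U) q := by
    intro q
    rw [halgA]
    congr 1
    exact congr($(eK.hom_inv_id).hom q)
  have hcB : ∀ q : Γ(Spec (CommRingCat.of k), ⊤), algebraMap k B (eK.hom.hom q) =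
      pb (toUnit V) q := by
    intro q
    rw [halgB]
    congr 1
    exact congr($(eK.hom_inv_id).hom q)
  have hA1 : (pb (sA U V y₀)).comp (pb (fst U V)) = RingHom.id A := by
    rw [← pb_comp, sA, lift_fst, pb_id]
  have hA2 : (pb (sA U V y₀)).comp (pb (snd U V)) = (algebraMap k A).comp (υ : B →+* k) := by
    rw [← pb_comp, sA, lift_snd]
    ext z
    rw [pb_comp_apply]
    exact (hcA (pb y₀ z)).symm
  have hB2 : (pb (sB U V x₀)).comp (pb (snd U V)) = RingHom.id B := by
    rw [← pb_comp, sB, lift_snd, pb_id]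
  have hB1 : (pb (sB U V x₀)).comp (pb (fst U V)) = (algebraMap k B).comp (ξ : A →+* k) := by
    rw [← pb_comp, sB, lift_fst]
    ext z
    rw [pb_comp_apply]
    exact (hcB (pb x₀ z)).symm
  have main := prod_form_abstract (K := k) (A := A) (B := B) (C := C) w hw hker'
    (pb (fst U V)) (pb (snd U V)) hPO ξ υ (pb (sA U V y₀)) (pb (sB U V x₀)) hA1 hA2 hB1 hB2 f hf
  unfold Pform
  rw [← main]
  congr 2
  exact (hcA (pb x₀ (pb (sA U V y₀) f))).symm

end Groth.Agent.Helper3.UnitsQ
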