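import Mathlib
import Groth.Prelude
import Groth.Agent.Helper3.UnitsQ
import Groth.Agent.Helper3.GrpTransl
import Groth.Agent.Helper3.LocTrivIrr
import Groth.Agent.Helper5.RedGrp

set_option autoImplicit false
set_option linter.style.haveILetI false
set_option linter.unusedSectionVars false
set_option linter.unusedVariables false
set_option linter.deprecated false
set_option linter.style.haveILetI false
set_option linter.unusedSectionVars false
set_option linter.unusedVariables false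

universe u

open CategoryTheory CategoryTheory.Limits AlgebraicGeometry TopologicalSpace Opposite
open MonoidalCategory CartesianMonoidalCategory

namespace Groth.Agent.Helper3.UnitsR

open Groth.Agent.Helper3.UnitsQ

/-- pullback of global functions along an open immersion with nonempty source into an integral
scheme is injective -/
theorem appTop_injective_of_isOpenImmersion {W Z : Scheme.{u}} (j : W ⟶ Z) [IsOpenImmersion j]
    [IsIntegral Z] [Nonempty W] : Function.Injective j.appTop.hom := by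
  let U : Z.Opens := j ''ᵁ ⊤
  obtain ⟨x₀⟩ : Nonempty W := inferInstance
  haveI hUne : Nonempty U := ⟨⟨j x₀, ⟨x₀, trivial, rfl⟩⟩⟩
  have e₀ : (⊤ : W.Opens) ≤ j ⁻¹ᵁ (⊤ : Z.Opens) := le_rfl
  have happ : j.appLE ⊤ ⊤ e₀ = j.appTop := by
    simp [Scheme.Hom.appLE]
  have hres : ∀ z : Γ(Z, ⊤), (j.appIso ⊤).inv.hom (j.appTop.hom z) =
      Z.presheaf.map (homOfLE (le_top : U ≤ ⊤)).op z := by
    intro z
    have := j.appLE_appIso_inv e₀
    rw [happ] at this
    exact congr($(this).hom z)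
  intro z z' h
  have h1 : Z.presheaf.map (homOfLE (le_top : U ≤ ⊤)).op z =
      Z.presheaf.map (homOfLE (le_top : U ≤ ⊤)).op z' := by
    rw [← hres, ← hres, h]
  exact AlgebraicGeometry.map_injective_of_isIntegral Z (homOfLE (le_top : U ≤ ⊤)) h1

variable (k : Type u) [Field k] [IsAlgClosed k]

/-- the product of two integral schemes over an algebraically closed field is integral -/
theorem isIntegral_tensor (X Y : Over (Spec (CommRingCat.of k))) [IsIntegral X.left]
    [IsIntegral Y.left] : IsIntegral (X ⊗ Y).left := by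
  show IsIntegral (pullback X.hom Y.hom)
  haveI : IsReduced (pullback X.hom Y.hom) :=
    Groth.Agent.Helper5.RedGrp.isReduced_pullback_of_perfectField k X.hom Y.hom
  haveI : IrreducibleSpace ↥(pullback X.hom Y.hom) :=
    Groth.Agent.Helper3.LocTrivIrr.irreducibleSpace_pullback k X.hom Y.hom
  exact isIntegral_of_irreducibleSpace_of_isReduced _

/-- a nonempty integral scheme locally of finite type over an algebraically closed field contains
a pointed integral affine open -/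
theorem exists_affine_point (X : Over (Spec (CommRingCat.of k))) [IsIntegral X.left]
    [LocallyOfFiniteType X.hom] :
    ∃ (U : Over (Spec (CommRingCat.of k))) (i : U ⟶ X)
      (x : 𝟙_ (Over (Spec (CommRingCat.of k))) ⟶ U),
      IsAffine U.left ∧ IsIntegral U.left ∧ LocallyOfFiniteType U.hom ∧ IsOpenImmersion i.left := by
  obtain ⟨x⟩ : Nonempty X.left := inferInstance
  obtain ⟨W, hWaff, hxW, -⟩ : ∃ W : X.left.Opens, IsAffineOpen W ∧ x ∈ W ∧ W ≤ ⊤ :=
    Opens.isBasis_iff_nbhd.mp X.left.isBasis_affineOpens (U := ⊤) (x := x) trivial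
  haveI : Nonempty W := ⟨⟨x, hxW⟩⟩
  let U : Over (Spec (CommRingCat.of k)) := Over.mk (W.ι ≫ X.hom)
  let i : U ⟶ X := Over.homMk W.ι rfl
  haveI : IsAffine U.left := hWaff
  haveI : IsIntegral U.left := (inferInstance : IsIntegral W.toScheme)
  haveI : LocallyOfFiniteType U.hom := (inferInstance : LocallyOfFiniteType (W.ι ≫ X.hom))
  haveI : JacobsonSpace ↥(Spec (CommRingCat.of k)) := inferInstance
  haveI : JacobsonSpace U.left := LocallyOfFiniteType.jacobsonSpace U.hom
  obtain ⟨w, -, hw⟩ := nonempty_inter_closedPoints (X := U.left) (Z := Set.univ)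
    ⟨⟨x, hxW⟩, trivial⟩ isOpen_univ.isLocallyClosed
  obtain ⟨σ, hσ, -⟩ := Groth.Agent.Helper3.GrpTransl.exists_section_of_closed k U.hom w hw
  exact ⟨U, i, Over.homMk σ hσ, inferInstance, inferInstance, inferInstance,
    (inferInstance : IsOpenImmersion W.ι)⟩

variable {k}

/-- naturality of the product formula -/
theorem pform_of_restrict {X Y U V : Over (Spec (CommRingCat.of k))} (iU : U ⟶ X) (iV : V ⟶ Y)
    (x₀ : 𝟙_ (Over (Spec (CommRingCat.of k))) ⟶ U) (y₀ : 𝟙_ (Over (Spec (CommRingCat.of k))) ⟶ V)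
    (hinj : Function.Injective (pb (iU ⊗ₘ iV))) (f : Γ((X ⊗ Y).left, ⊤))
    (h : Pform U V x₀ y₀ (pb (iU ⊗ₘ iV) f)) : Pform X Y (x₀ ≫ iU) (y₀ ≫ iV) f := by
  unfold Pform at h ⊢
  apply hinj
  have e1 : (iU ⊗ₘ iV) ≫ fst X Y = fst U V ≫ iU := tensorHom_fst _ _
  have e2 : (iU ⊗ₘ iV) ≫ snd X Y = snd U V ≫ iV := tensorHom_snd _ _
  have e3 : sA U V y₀ ≫ (iU ⊗ₘ iV) = iU ≫ sA X Y (y₀ ≫ iV) := by
    apply CartesianMonoidalCategory.hom_ext
    · simp [sA]
    · simp [sA]
  have e4 : sB U V x₀ ≫ (iU ⊗ₘ iV) = iV ≫ sB X Y (x₀ ≫ iU) := by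
    apply CartesianMonoidalCategory.hom_ext
    · simp [sB]
    · simp [sB]
  have e5 : iU ≫ toUnit X = toUnit U := toUnit_unique _ _
  have hA : pb iU (pb (sA X Y (y₀ ≫ iV)) f) = pb (sA U V y₀) (pb (iU ⊗ₘ iV) f) := by
    rw [← pb_comp_apply, ← pb_comp_apply, e3]
  have hB : pb iV (pb (sB X Y (x₀ ≫ iU)) f) = pb (sB U V x₀) (pb (iU ⊗ₘ iV) f) := by
    rw [← pb_comp_apply, ← pb_comp_apply, e4]
  have h1 : ∀ a, pb (iU ⊗ₘ iV) (pb (fst X Y) a) = pb (fst U V) (pb iU a) := by
    intro a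
    rw [← pb_comp_apply, ← pb_comp_apply, e1]
  have h2 : ∀ a, pb (iU ⊗ₘ iV) (pb (snd X Y) a) = pb (snd U V) (pb iV a) := by
    intro a
    rw [← pb_comp_apply, ← pb_comp_apply, e2]
  have h3 : ∀ c, pb iU (pb (toUnit X) c) = pb (toUnit U) c := by
    intro c
    rw [← pb_comp_apply, e5]
  rw [map_mul, map_mul, h1, h1, h2, h3, pb_comp_apply x₀ iU, hA, hB]
  exact h

variable (k)

/-- the product formula holds at some pair of points -/
theorem exists_pform (X Y : Over (Spec (CommRingCat.of k))) [IsIntegral X.left]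
    [LocallyOfFiniteType X.hom] [IsIntegral Y.left] [LocallyOfFiniteType Y.hom]
    (f : Γ((X ⊗ Y).left, ⊤)) (hf : IsUnit f) :
    ∃ (x₀ : 𝟙_ (Over (Spec (CommRingCat.of k))) ⟶ X)
      (y₀ : 𝟙_ (Over (Spec (CommRingCat.of k))) ⟶ Y), Pform X Y x₀ y₀ f := by
  obtain ⟨U, iU, x₀, hU1, hU2, hU3, hU4⟩ := exists_affine_point k X
  obtain ⟨V, iV, y₀, hV1, hV2, hV3, hV4⟩ := exists_affine_point k Y
  haveI := isIntegral_tensor k X Y
  haveI := isIntegral_tensor k U V
  haveI : IsOpenImmersion (iU ⊗ₘ iV).left := by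
    rw [Over.tensorHom_left]; infer_instance
  have hinj : Function.Injective (pb (iU ⊗ₘ iV)) :=
    appTop_injective_of_isOpenImmersion (iU ⊗ₘ iV).left
  refine ⟨x₀ ≫ iU, y₀ ≫ iV, pform_of_restrict iU iV x₀ y₀ hinj f ?_⟩
  exact pform_affine k U V x₀ y₀ _ (hf.map (pb (iU ⊗ₘ iV)))

/-- **Units on a product**: over an algebraically closed field every unit on a product of integral
schemes locally of finite type is a product of units of the factors. -/
theorem exists_decomp (X Y : Over (Spec (CommRingCat.of k))) [IsIntegral X.left]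
    [LocallyOfFiniteType X.hom] [IsIntegral Y.left] [LocallyOfFiniteType Y.hom]
    (f : Γ((X ⊗ Y).left, ⊤)) (hf : IsUnit f) :
    ∃ (g : Γ(X.left, ⊤)) (h : Γ(Y.left, ⊤)), IsUnit g ∧ IsUnit h ∧
      f = pb (fst X Y) g * pb (snd X Y) h := by
  obtain ⟨x₀, y₀, hP⟩ := exists_pform k X Y f hf
  unfold Pform at hP
  set g₀ := pb (sA X Y y₀) f with hg₀
  set h₀ := pb (sB X Y x₀) f with hh₀
  set c := pb x₀ g₀ with hc
  have hg₀U : IsUnit g₀ := hf.map _
  have hh₀U : IsUnit h₀ := hf.map _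
  have hcU : IsUnit c := hg₀U.map _
  obtain ⟨d, hd⟩ := hcU.exists_right_inv
  have hdU : IsUnit d := IsUnit.of_mul_eq_one c (by rw [mul_comm]; exact hd)
  refine ⟨g₀ * pb (toUnit X) d, h₀, hg₀U.mul (hdU.map _), hh₀U, ?_⟩
  rw [map_mul, mul_right_comm, ← hP, mul_assoc, ← map_mul, ← map_mul, hd, map_one, map_one, mul_one]

/-- the product formula holds at every pair of points -/
theorem pform_all (X Y : Over (Spec (CommRingCat.of k))) [IsIntegral X.left]
    [LocallyOfFiniteType X.hom] [IsIntegral Y.left] [LocallyOfFiniteType Y.hom]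
    (f : Γ((X ⊗ Y).left, ⊤)) (hf : IsUnit f)
    (x₀ : 𝟙_ (Over (Spec (CommRingCat.of k))) ⟶ X)
    (y₀ : 𝟙_ (Over (Spec (CommRingCat.of k))) ⟶ Y) : Pform X Y x₀ y₀ f := by
  obtain ⟨g, h, -, -, rfl⟩ := exists_decomp k X Y f hf
  unfold Pform
  have e1 : sA X Y y₀ ≫ fst X Y = 𝟙 X := by simp [sA]
  have e2 : sA X Y y₀ ≫ snd X Y = toUnit X ≫ y₀ := by simp [sA]
  have e3 : sB X Y x₀ ≫ fst X Y = toUnit Y ≫ x₀ := by simp [sB]
  have e4 : sB X Y x₀ ≫ snd X Y = 𝟙 Y := by simp [sB]
  have e5 : x₀ ≫ toUnit X = 𝟙 _ := toUnit_unique _ _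
  have e6 : snd X Y ≫ toUnit Y = fst X Y ≫ toUnit X := toUnit_unique _ _
  have hA : pb (sA X Y y₀) (pb (fst X Y) g * pb (snd X Y) h) = g * pb (toUnit X) (pb y₀ h) := by
    rw [map_mul, ← pb_comp_apply, ← pb_comp_apply, e1, e2, pb_id_apply, pb_comp_apply]
  have hB : pb (sB X Y x₀) (pb (fst X Y) g * pb (snd X Y) h) = pb (toUnit Y) (pb x₀ g) * h := by
    rw [map_mul, ← pb_comp_apply, ← pb_comp_apply, e3, e4, pb_id_apply, pb_comp_apply]
  have hC : pb x₀ (pb (toUnit X) (pb y₀ h)) = pb y₀ h := by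
    rw [← pb_comp_apply, e5, pb_id_apply]
  have hD : ∀ z, pb (snd X Y) (pb (toUnit Y) z) = pb (fst X Y) (pb (toUnit X) z) := by
    intro z
    rw [← pb_comp_apply, e6, pb_comp_apply]
  rw [hA, hB]
  simp only [map_mul, hC, hD]
  ring

end Groth.Agent.Helper3.UnitsR
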