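import Mathlib
import Groth.Prelude
import Groth.Agent.Helper3.UnitsR
import Groth.Agent.Helper4.SN42

set_option autoImplicit false
set_option linter.style.haveILetI false
set_option linter.unusedSectionVars false
set_option linter.unusedVariables false
set_option linter.deprecated false
set_option linter.style.haveILetI false
set_option linter.unusedSectionVars false
set_option linter.unusedVariables false

universe u

open CategoryTheory CategoryTheory.Limits AlgebraicGeometry TopologicalSpace Opposite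
open MonoidalCategory CartesianMonoidalCategory MonObj GrpObj

namespace Groth.Agent.Helper3.UnitsS

open Groth.Agent.Helper3.UnitsQ Groth.Agent.Helper3.UnitsR

variable (k : Type u) [Field k] [IsAlgClosed k]

/-- a smooth connected quasi-compact scheme over a field is integral -/
theorem isIntegral_of_smooth_connected (G : Over (Spec (CommRingCat.of k))) [Smooth G.hom]
    [QuasiCompact G.hom] [ConnectedSpace ↥G.left] : IsIntegral G.left := by
  haveI : IsLocallyNoetherian G.left := LocallyOfFiniteType.isLocallyNoetherian G.hom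
  haveI : CompactSpace G.left := QuasiCompact.compactSpace_of_compactSpace G.hom
  haveI : IsNoetherian G.left := {}
  apply Groth.Agent.Helper4.SN.isIntegral_of_connected_of_isDomain_stalk G.left
  intro x
  haveI := Groth.Agent.Helper2.SmoothRegSch.stalk_regular_of_smooth k G.left G.hom x
  exact Groth.Agent.Lead.RegLocal.isDomain_of_isRegularLocalRing _

/-- pointed decomposition of a unit on a product -/
theorem exists_decomp_pointed (X Y : Over (Spec (CommRingCat.of k))) [IsIntegral X.left]
    [LocallyOfFiniteType X.hom] [IsIntegral Y.left] [LocallyOfFiniteType Y.hom]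
    (f : Γ((X ⊗ Y).left, ⊤)) (hf : IsUnit f)
    (x₀ : 𝟙_ (Over (Spec (CommRingCat.of k))) ⟶ X)
    (y₀ : 𝟙_ (Over (Spec (CommRingCat.of k))) ⟶ Y) :
    ∃ (g : Γ(X.left, ⊤)), IsUnit g ∧ pb x₀ g = 1 ∧
      f = pb (fst X Y) g * pb (snd X Y) (pb (sB X Y x₀) f) := by
  have hP := pform_all k X Y f hf x₀ y₀
  unfold Pform at hP
  set g₀ := pb (sA X Y y₀) f with hg₀
  set h₀ := pb (sB X Y x₀) f with hh₀
  set c := pb x₀ g₀ with hc
  have hg₀U : IsUnit g₀ := hf.map _
  have hcU : IsUnit c := hg₀U.map _
  obtain ⟨d, hd⟩ := hcU.exists_right_inv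
  have hdU : IsUnit d := IsUnit.of_mul_eq_one c (by rw [mul_comm]; exact hd)
  have e5 : x₀ ≫ toUnit X = 𝟙 _ := toUnit_unique _ _
  refine ⟨g₀ * pb (toUnit X) d, hg₀U.mul (hdU.map _), ?_, ?_⟩
  · have h1 : pb x₀ (pb (toUnit X) d) = d := by rw [← pb_comp_apply, e5, pb_id_apply]
    rw [map_mul, h1]
    exact hd
  · rw [map_mul, mul_right_comm, ← hP, _root_.mul_assoc, ← map_mul, ← map_mul, hd, map_one,
      map_one, _root_.mul_one]

variable (G : Over (Spec (CommRingCat.of k))) [GrpObj G] [Smooth G.hom] [QuasiCompact G.hom]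
  [ConnectedSpace ↥G.left]

/-- **S16114**: a unit on a connected algebraic group with value one at the identity is a
character -/
theorem character_of_unit (f : Γ(G.left, ⊤)) (hf : IsUnit f) (he : pb η[G] f = 1) :
    pb μ[G] f = pb (fst G G) f * pb (snd G G) f := by
  haveI := isIntegral_of_smooth_connected k G
  have hF : IsUnit (pb μ[G] f) := hf.map _
  have hP := pform_all k G G (pb μ[G] f) hF η[G] η[G]
  unfold Pform at hP
  have e1 : sA G G η[G] ≫ μ[G] = 𝟙 G := by
    unfold sA; exact lift_comp_one_right _ _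
  have e2 : sB G G η[G] ≫ μ[G] = 𝟙 G := by
    unfold sB; exact lift_comp_one_left _ _
  rw [← pb_comp_apply (sA G G η[G]), ← pb_comp_apply (sB G G η[G]), e1, e2, pb_id_apply, he,
    map_one, map_one, _root_.mul_one] at hP
  exact hP

/-- **S16115**: units on `G × X` are products of a character and a unit -/
theorem exists_character_mul_unit (X : Over (Spec (CommRingCat.of k))) [IsIntegral X.left]
    [LocallyOfFiniteType X.hom] (f : Γ((G ⊗ X).left, ⊤)) (hf : IsUnit f) :
    ∃ (χ : Γ(G.left, ⊤)), IsUnit χ ∧ pb η[G] χ = 1 ∧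
      pb μ[G] χ = pb (fst G G) χ * pb (snd G G) χ ∧
      f = pb (fst G X) χ * pb (snd G X) (pb (sB G X η[G]) f) := by
  haveI := isIntegral_of_smooth_connected k G
  obtain ⟨U, i, x, -, -, -, -⟩ := exists_affine_point k X
  obtain ⟨χ, hχU, hχ1, hχ⟩ := exists_decomp_pointed k G X f hf η[G] (x ≫ i)
  exact ⟨χ, hχU, hχ1, character_of_unit k G χ hχU hχ1, hχ⟩

/-- **S16116**: units are semi-invariants -/
theorem existsUnique_character (X : Over (Spec (CommRingCat.of k))) [IsIntegral X.left]
    [LocallyOfFiniteType X.hom] (a : AlgGrp.Action G X) (f : Γ(X.left, ⊤)) (hf : IsUnit f) :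
    ∃! χ : Γ(G.left, ⊤), IsUnit χ ∧ pb η[G] χ = 1 ∧
      pb μ[G] χ = pb (fst G G) χ * pb (snd G G) χ ∧
      pb a.act f = pb (fst G X) χ * pb (snd G X) f := by
  haveI := isIntegral_of_smooth_connected k G
  have hF : IsUnit (pb a.act f) := hf.map _
  obtain ⟨χ, hχU, hχ1, hχm, hχ⟩ := exists_character_mul_unit k G X (pb a.act f) hF
  have e1 : sB G X η[G] ≫ a.act = 𝟙 X := by
    have h1 : sB G X η[G] = lift (toUnit X) (𝟙 X) ≫ (η[G] ▷ X) := by
      unfold sB; rw [lift_whiskerRight]
    rw [h1, Category.assoc, a.one_act, lift_leftUnitor_hom]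
  rw [← pb_comp_apply (sB G X η[G]), e1, pb_id_apply] at hχ
  refine ⟨χ, ⟨hχU, hχ1, hχm, hχ⟩, ?_⟩
  rintro χ' ⟨-, -, -, hχ'⟩
  obtain ⟨U, i, x, -, -, -, -⟩ := exists_affine_point k X
  have hsU : IsUnit (pb (snd G X) f) := hf.map _
  have h2 : pb (fst G X) χ' = pb (fst G X) χ := by
    have := hχ'.symm.trans hχ
    exact hsU.mul_left_injective this
  have e2 : sA G X (x ≫ i) ≫ fst G X = 𝟙 G := by simp [sA]
  have h3 := congrArg (pb (sA G X (x ≫ i))) h2
  rwa [← pb_comp_apply, ← pb_comp_apply, e2, pb_id_apply, pb_id_apply] at h3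

end Groth.Agent.Helper3.UnitsS
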