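import Mathlib

set_option linter.style.haveILetI false
set_option linter.unusedSectionVars false
set_option linter.unusedVariables false

namespace Groth.Agent.Helper3.UnivHomeo

open Polynomial

universe u

variable {R S : Type u} [CommRing R] [CommRing S] [Algebra R S]

/-- two ring homs to a domain agreeing on `R` agree. -/
theorem hom_ext {Ω : Type*} [CommRing Ω] [IsDomain Ω] (G : Set S)
    (hG : Algebra.adjoin R G = ⊤)
    (hpow : ∀ x ∈ G, ∃ (n : ℕ) (P : Polynomial R), 0 < n ∧
      Polynomial.map (algebraMap R S) P = (Polynomial.X - Polynomial.C x) ^ n)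
    (φ₁ φ₂ : S →+* Ω) (h : φ₁.comp (algebraMap R S) = φ₂.comp (algebraMap R S)) : φ₁ = φ₂ := by
  ext s
  have hs : s ∈ Algebra.adjoin R G := hG ▸ Algebra.mem_top
  induction hs using Algebra.adjoin_induction with
  | mem x hx =>
    obtain ⟨n, P, hn, hP⟩ := hpow x hx
    have h1 : ∀ φ : S →+* Ω, (P.map (φ.comp (algebraMap R S))) = (X - C (φ x)) ^ n := by
      intro φ
      rw [← Polynomial.map_map, hP]
      simp
    have h2 : (X - C (φ₁ x)) ^ n = (X - C (φ₂ x)) ^ n := by
      rw [← h1 φ₁, ← h1 φ₂, h]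
    have h3 := congrArg (Polynomial.eval (φ₁ x)) h2
    simp only [eval_pow, eval_sub, eval_X, eval_C, sub_self] at h3
    rw [zero_pow hn.ne'] at h3
    exact sub_eq_zero.mp (eq_zero_of_pow_eq_zero h3.symm)
  | algebraMap r => exact RingHom.congr_fun h r
  | add x y _ _ hx hy => rw [map_add, map_add, hx, hy]
  | mul x y _ _ hx hy => rw [map_mul, map_mul, hx, hy]

theorem isIntegral (G : Set S) (hG : Algebra.adjoin R G = ⊤)
    (hpow : ∀ x ∈ G, ∃ (n : ℕ) (P : Polynomial R), 0 < n ∧
      Polynomial.map (algebraMap R S) P = (Polynomial.X - Polynomial.C x) ^ n) :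
    Algebra.IsIntegral R S := by
  rcases subsingleton_or_nontrivial S with hS | hS
  · exact ⟨fun x => by rw [Subsingleton.elim x 0]; exact isIntegral_zero⟩
  have h1 : ∀ x ∈ G, IsIntegral R x := by
    intro x hx
    obtain ⟨n, P, hn, hP⟩ := hpow x hx
    have hm : ((X - C x) ^ n : S[X]).Monic := (monic_X_sub_C x).pow n
    obtain ⟨Q, hQ, -, hQm⟩ := lifts_and_degree_eq_and_monic
      ((Polynomial.mem_lifts _).mpr ⟨P, hP⟩) hm
    refine ⟨Q, hQm, ?_⟩
    rw [← eval_map, hQ]
    simp [zero_pow hn.ne']
  have h2 : Algebra.adjoin R G ≤ integralClosure R S := Algebra.adjoin_le h1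
  rw [hG] at h2
  exact ⟨fun x => h2 Algebra.mem_top⟩

theorem main
    (hker : ∀ r : R, algebraMap R S r = 0 → IsNilpotent r) (G : Set S) (hG : Algebra.adjoin R G = ⊤)
    (hpow : ∀ x ∈ G, ∃ (n : ℕ) (P : Polynomial R), 0 < n ∧
      Polynomial.map (algebraMap R S) P = (Polynomial.X - Polynomial.C x) ^ n) :
    IsHomeomorph (PrimeSpectrum.comap (algebraMap R S)) ∧
      ∀ (q : Ideal S) [q.IsPrime] (p : Ideal R) [p.IsPrime] [q.LiesOver p],
        @IsPurelyInseparable p.ResidueField q.ResidueField _ _
          (Ideal.ResidueField.mapₐ p q (Algebra.ofId R S) (q.over_def p)).toRingHom.toAlgebra := by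
  haveI hint : Algebra.IsIntegral R S := isIntegral G hG hpow
  -- general fact: embeddings
  have key : ∀ (q₁ q₂ : Ideal S) [q₁.IsPrime] [q₂.IsPrime] (p : Ideal R) [p.IsPrime]
      (h₁ : p = q₁.comap (algebraMap R S)) (h₂ : p = q₂.comap (algebraMap R S))
      (Ω : Type u) [Field Ω] [IsAlgClosed Ω] (j₁ : q₁.ResidueField →+* Ω),
      ∃ j₂ : q₂.ResidueField →+* Ω,
        j₂.comp (Ideal.ResidueField.map p q₂ (algebraMap R S) h₂) =
          j₁.comp (Ideal.ResidueField.map p q₁ (algebraMap R S) h₁) := by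
    intro q₁ q₂ _ _ p _ h₁ h₂ Ω _ _ j₁
    letI : Algebra p.ResidueField q₂.ResidueField :=
      (Ideal.ResidueField.map p q₂ (algebraMap R S) h₂).toAlgebra
    letI : Algebra p.ResidueField Ω :=
      (j₁.comp (Ideal.ResidueField.map p q₁ (algebraMap R S) h₁)).toAlgebra
    haveI : IsScalarTower R p.ResidueField q₂.ResidueField := by
      refine IsScalarTower.of_algebraMap_eq (fun r => ?_)
      rw [RingHom.algebraMap_toAlgebra, Ideal.ResidueField.map_algebraMap,
        ← IsScalarTower.algebraMap_apply]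
    haveI : Algebra.IsAlgebraic p.ResidueField q₂.ResidueField := by
      refine ⟨fun x => ?_⟩
      obtain ⟨a, b, hb, rfl⟩ := IsFractionRing.div_surjective (A := S ⧸ q₂) x
      have hS : ∀ s : S ⧸ q₂, IsIntegral p.ResidueField (algebraMap (S ⧸ q₂) q₂.ResidueField s) := by
        intro s
        obtain ⟨s, rfl⟩ := Ideal.Quotient.mk_surjective s
        have h3 : IsIntegral R (algebraMap S q₂.ResidueField s) :=
          (Algebra.IsIntegral.isIntegral s).algebraMap
        exact h3.tower_top
      exact ((hS a).mul (hS b).inv).isAlgebraic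
    let j₂ : q₂.ResidueField →ₐ[p.ResidueField] Ω := IsAlgClosed.lift
    exact ⟨j₂.toRingHom, RingHom.ext (fun x => j₂.commutes x)⟩
  -- consequence: injectivity-type statement
  have key2 : ∀ (q₁ q₂ : Ideal S) [q₁.IsPrime] [q₂.IsPrime] (p : Ideal R) [p.IsPrime]
      (h₁ : p = q₁.comap (algebraMap R S)) (h₂ : p = q₂.comap (algebraMap R S)), q₁ = q₂ := by
    intro q₁ q₂ _ _ p _ h₁ h₂
    obtain ⟨j₂, hj⟩ := key q₁ q₂ p h₁ h₂ (AlgebraicClosure q₁.ResidueField)
      (algebraMap _ _)
    have h3 := hom_ext G hG hpow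
      ((algebraMap q₁.ResidueField (AlgebraicClosure q₁.ResidueField)).comp
        (algebraMap S q₁.ResidueField))
      (j₂.comp (algebraMap S q₂.ResidueField)) (by
        ext r
        have := RingHom.congr_fun hj (algebraMap R p.ResidueField r)
        simp only [RingHom.comp_apply, Ideal.ResidueField.map_algebraMap] at this ⊢
        exact this.symm)
    rw [← Ideal.ker_algebraMap_residueField q₁, ← Ideal.ker_algebraMap_residueField q₂]
    ext s
    have h4 := RingHom.congr_fun h3 s
    simp only [RingHom.comp_apply] at h4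
    rw [RingHom.mem_ker, RingHom.mem_ker]
    constructor
    · intro hs
      rw [hs, map_zero] at h4
      exact (map_eq_zero j₂).mp h4.symm
    · intro hs
      rw [hs, map_zero] at h4
      exact (map_eq_zero _).mp h4
  refine ⟨?_, ?_⟩
  · rw [isHomeomorph_iff_continuous_isClosedMap_bijective]
    refine ⟨PrimeSpectrum.continuous_comap (algebraMap R S), ?_, ?_, ?_⟩
    · exact PrimeSpectrum.isClosedMap_comap_of_isIntegral _ (algebraMap_isIntegral_iff.mpr hint)
    · intro q₁ q₂ h
      apply PrimeSpectrum.ext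
      have h' := congrArg PrimeSpectrum.asIdeal h
      exact key2 q₁.asIdeal q₂.asIdeal (q₁.asIdeal.comap (algebraMap R S)) rfl h'
    · intro p
      obtain ⟨Q, -, hQ, hQp⟩ := Ideal.exists_ideal_over_prime_of_isIntegral
        (S := S) p.asIdeal ⊥ (fun r hr => by
          obtain ⟨n, hn⟩ := hker r (by simpa using hr)
          exact p.2.mem_of_pow_mem n (hn ▸ zero_mem _))
      exact ⟨⟨Q, hQ⟩, PrimeSpectrum.ext hQp⟩
  · intro q _ p _ _
    letI : Algebra p.ResidueField q.ResidueField :=
      (Ideal.ResidueField.mapₐ p q (Algebra.ofId R S) (q.over_def p)).toRingHom.toAlgebra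
    rw [isPurelyInseparable_iff_subsingleton_emb]
    refine ⟨fun σ τ => ?_⟩
    have h3 := hom_ext G hG hpow
      (σ.toRingHom.comp (algebraMap S q.ResidueField))
      (τ.toRingHom.comp (algebraMap S q.ResidueField)) (by
        ext r
        have h4 : algebraMap S q.ResidueField (algebraMap R S r) =
            algebraMap p.ResidueField q.ResidueField (algebraMap R p.ResidueField r) := by
          rw [RingHom.algebraMap_toAlgebra]
          change _ = Ideal.ResidueField.map p q _ _ _
          rw [Ideal.ResidueField.map_algebraMap]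
          rfl
        simp only [RingHom.comp_apply, AlgHom.toRingHom_eq_coe, RingHom.coe_coe]
        rw [h4, σ.commutes, τ.commutes])
    have h5 : σ.toRingHom = τ.toRingHom := by
      apply IsLocalization.ringHom_ext (nonZeroDivisors (S ⧸ q))
      apply Ideal.Quotient.ringHom_ext
      rw [RingHom.comp_assoc, RingHom.comp_assoc]
      exact h3
    exact DFunLike.ext _ _ (fun x => RingHom.congr_fun h5 x)

end Groth.Agent.Helper3.UnivHomeo
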