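import Mathlib

/-! Tensor products over a localization vs. over the base ring. -/

set_option autoImplicit false
universe u

open TensorProduct

namespace Groth.Agent.Helper3.UnivInjLoc

variable {R A : Type u} [CommRing R] [CommRing A] [Algebra R A] (S : Submonoid R) [IsLocalization S A]

section
variable (M Q : Type u) [AddCommGroup M] [AddCommGroup Q] [Module A M] [Module R M]
  [IsScalarTower R A M] [Module A Q] [Module R Q] [IsScalarTower R A Q]

/-- `A ⊗[R] Q ≃ Q` for a module over a localization `A` of `R`. -/
noncomputable def selfEquiv : A ⊗[R] Q ≃ₗ[A] Q := by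
  haveI h : IsLocalizedModule S (LinearMap.id : Q →ₗ[R] Q) := isLocalizedModule_id S Q A
  exact (IsLocalizedModule.isBaseChange S A (LinearMap.id : Q →ₗ[R] Q)).equiv

lemma selfEquiv_symm_apply (q : Q) : (selfEquiv S Q).symm q = (1 : A) ⊗ₜ[R] q := by
  haveI h : IsLocalizedModule S (LinearMap.id : Q →ₗ[R] Q) := isLocalizedModule_id S Q A
  exact (IsLocalizedModule.isBaseChange S A (LinearMap.id : Q →ₗ[R] Q)).equiv_symm_apply q

/-- `M ⊗[A] Q ≃ M ⊗[R] Q` for modules over a localization `A` of `R`. -/
noncomputable def tensorEquiv : M ⊗[A] Q ≃ₗ[A] M ⊗[R] Q :=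
  (LinearEquiv.lTensor M (selfEquiv S Q).symm) ≪≫ₗ
    (TensorProduct.AlgebraTensorModule.cancelBaseChange R A A M Q)

lemma tensorEquiv_tmul (m : M) (q : Q) : tensorEquiv S M Q (m ⊗ₜ[A] q) = m ⊗ₜ[R] q := by
  simp only [tensorEquiv, LinearEquiv.trans_apply, LinearEquiv.lTensor_tmul,
    selfEquiv_symm_apply, TensorProduct.AlgebraTensorModule.cancelBaseChange_tmul, one_smul]

end

variable {M M' : Type u} [AddCommGroup M] [AddCommGroup M'] [Module A M] [Module R M]
  [IsScalarTower R A M] [Module A M'] [Module R M'] [IsScalarTower R A M']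

include S in
lemma rTensor_injective_iff (Q : Type u) [AddCommGroup Q] [Module A Q] [Module R Q]
    [IsScalarTower R A Q] (f : M →ₗ[A] M') :
    Function.Injective ((f.restrictScalars R).rTensor Q) ↔ Function.Injective (f.rTensor Q) := by
  have hnat : ∀ z : M ⊗[A] Q, tensorEquiv S M' Q (f.rTensor Q z) =
      (f.restrictScalars R).rTensor Q (tensorEquiv S M Q z) := by
    intro z
    induction z using TensorProduct.induction_on with
    | zero => simp
    | tmul m q => simp [tensorEquiv_tmul]
    | add x y hx hy => simp only [map_add, hx, hy]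
  constructor
  · intro h x y hxy
    apply (tensorEquiv S M Q).injective
    apply h
    rw [← hnat, ← hnat, hxy]
  · intro h x y hxy
    obtain ⟨x', rfl⟩ := (tensorEquiv (A := A) S M Q).surjective x
    obtain ⟨y', rfl⟩ := (tensorEquiv (A := A) S M Q).surjective y
    rw [← hnat, ← hnat] at hxy
    rw [h ((tensorEquiv S M' Q).injective hxy)]

omit [IsLocalization S A] in
lemma rTensor_injective_of_baseChange (Q : Type u) [AddCommGroup Q] [Module R Q] (f : M →ₗ[A] M')
    (h : Function.Injective (f.rTensor (A ⊗[R] Q))) :
    Function.Injective ((f.restrictScalars R).rTensor Q) := by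
  have hnat : ∀ z : M ⊗[A] (A ⊗[R] Q),
      TensorProduct.AlgebraTensorModule.cancelBaseChange R A A M' Q (f.rTensor (A ⊗[R] Q) z) =
      (f.restrictScalars R).rTensor Q
        (TensorProduct.AlgebraTensorModule.cancelBaseChange R A A M Q z) := by
    intro z
    induction z using TensorProduct.induction_on with
    | zero => simp
    | tmul m w =>
      induction w using TensorProduct.induction_on with
      | zero => simp
      | tmul a q => simp
      | add x y hx hy =>
        simp only [TensorProduct.tmul_add, map_add] at hx hy ⊢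
        rw [hx, hy]
    | add x y hx hy => simp only [map_add, hx, hy]
  intro x y hxy
  obtain ⟨x', rfl⟩ := (TensorProduct.AlgebraTensorModule.cancelBaseChange R A A M Q).surjective x
  obtain ⟨y', rfl⟩ := (TensorProduct.AlgebraTensorModule.cancelBaseChange R A A M Q).surjective y
  rw [← hnat, ← hnat] at hxy
  rw [h ((TensorProduct.AlgebraTensorModule.cancelBaseChange R A A M' Q).injective hxy)]

end Groth.Agent.Helper3.UnivInjLoc
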