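import Mathlib

set_option autoImplicit false
set_option linter.style.haveILetI false
set_option linter.unusedSectionVars false
set_option linter.unusedVariables false
set_option linter.style.haveILetI false
set_option linter.unusedSectionVars false
set_option linter.unusedVariables false

universe u
open CategoryTheory CategoryTheory.Limits AlgebraicGeometry

namespace Groth.Agent.Helper3.UnrMono

/-- an unramified morphism which is injective on geometric points is a monomorphism -/
theorem mono_of_unramified_of_injective {R P : Scheme.{u}} (j : R ⟶ P) [FormallyUnramified j]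
    [LocallyOfFiniteType j]
    (h : ∀ (k : Type u) [Field k] [IsAlgClosed k],
      Function.Injective (fun r : Spec (CommRingCat.of k) ⟶ R => r ≫ j)) : Mono j := by
  rw [← pullback.isIso_diagonal_iff, isIso_iff_isOpenImmersion_and_surjective]
  refine ⟨inferInstance, ⟨fun z => ?_⟩⟩
  let W : Scheme.{u} := pullback j j
  let z' : W := z
  let K := AlgebraicClosure (W.residueField z')
  let pt : Spec (CommRingCat.of K) ⟶ W :=
    Spec.map (CommRingCat.ofHom (algebraMap (W.residueField z') K)) ≫ W.fromSpecResidueField z'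
  have e : pt ≫ pullback.fst j j = pt ≫ pullback.snd j j :=
    h K (by simp only [Category.assoc, pullback.condition])
  have hpt : pt = (pt ≫ pullback.fst j j) ≫ pullback.diagonal j := by
    apply pullback.hom_ext <;> simp [e]
  obtain ⟨s⟩ : Nonempty (Spec (CommRingCat.of K)) := inferInstance
  refine ⟨(pt ≫ pullback.fst j j) s, ?_⟩
  have h1 : pt s = z' := by
    simp only [pt, Scheme.Hom.comp_apply]
    exact Scheme.fromSpecResidueField_apply _ _
  have h2 : pt s = ((pt ≫ pullback.fst j j) ≫ pullback.diagonal j) s := congr($hpt s)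
  exact h2.symm.trans h1

theorem main {S U R : Scheme.{u}} (pU : U ⟶ S) (j : R ⟶ pullback pU pU)
    [FormallyUnramified (j ≫ pullback.fst pU pU)] [LocallyOfFiniteType (j ≫ pullback.fst pU pU)]
    (h₂ : ∀ (k : Type u) [Field k] [IsAlgClosed k],
      Function.Injective (fun r : Spec (CommRingCat.of k) ⟶ R => r ≫ j))
    (e : U ⟶ R) (he : e ≫ j = pullback.lift (𝟙 U) (𝟙 U) rfl) (i : R ⟶ R)
    (hi : i ≫ j = j ≫ (pullbackSymmetry pU pU).hom)
    (c : pullback (j ≫ pullback.snd pU pU) (j ≫ pullback.fst pU pU) ⟶ R)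
    (hc₁ : c ≫ j ≫ pullback.fst pU pU =
      pullback.fst (j ≫ pullback.snd pU pU) (j ≫ pullback.fst pU pU) ≫ j ≫ pullback.fst pU pU)
    (hc₂ : c ≫ j ≫ pullback.snd pU pU =
      pullback.snd (j ≫ pullback.snd pU pU) (j ≫ pullback.fst pU pU) ≫ j ≫ pullback.snd pU pU) :
    Mono j ∧ ∀ T : Scheme.{u}, Equivalence (fun a b : T ⟶ U =>
      ∃ r : T ⟶ R, r ≫ j ≫ pullback.fst pU pU = a ∧ r ≫ j ≫ pullback.snd pU pU = b) := by
  haveI : FormallyUnramified j := FormallyUnramified.of_comp j (pullback.fst pU pU)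
  haveI : LocallyOfFiniteType j := locallyOfFiniteType_of_comp j (pullback.fst pU pU)
  refine ⟨mono_of_unramified_of_injective j h₂, fun T => ⟨?_, ?_, ?_⟩⟩
  · intro a
    refine ⟨a ≫ e, ?_, ?_⟩
    · rw [Category.assoc, reassoc_of% he, pullback.lift_fst, Category.comp_id]
    · rw [Category.assoc, reassoc_of% he, pullback.lift_snd, Category.comp_id]
  · rintro a b ⟨r, rfl, rfl⟩
    refine ⟨r ≫ i, ?_, ?_⟩
    · rw [Category.assoc, reassoc_of% hi, pullbackSymmetry_hom_comp_fst]
    · rw [Category.assoc, reassoc_of% hi, pullbackSymmetry_hom_comp_snd]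
  · rintro a b d ⟨r₁, rfl, hb⟩ ⟨r₂, hb', rfl⟩
    refine ⟨pullback.lift r₁ r₂ (by rw [hb, hb']) ≫ c, ?_, ?_⟩
    · rw [Category.assoc, hc₁, pullback.lift_fst_assoc]
    · rw [Category.assoc, hc₂, pullback.lift_snd_assoc]

end Groth.Agent.Helper3.UnrMono
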