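import Mathlib
import Groth.Prelude.Def_ModelsG
import Groth.Agent.Lead.RegLocal

set_option autoImplicit false
set_option linter.style.haveILetI false
set_option linter.unusedSectionVars false
set_option linter.unusedVariables false
set_option linter.deprecated false
set_option linter.style.haveILetI false
set_option linter.unusedSectionVars false
set_option linter.unusedVariables false

universe u

namespace Groth.Agent.Helper3.UnrPt

open AlgebraicGeometry CategoryTheory IsLocalRing

/-- algebraic core -/
theorem alg_core (R O V : Type u) [CommRing R] [IsDomain R] [IsDiscreteValuationRing R]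
    [CommRing O] [IsRegularLocalRing O]
    [CommRing V] [IsDomain V] [IsDiscreteValuationRing V] [Algebra R V]
    (hV : Ideal.map (algebraMap R V) (maximalIdeal R) = maximalIdeal V)
    (φ : R →+* O) (ψ : O →+* V) [IsLocalHom ψ] (hc : ψ.comp φ = algebraMap R V) :
    IsRegularLocalRing (O ⧸ Ideal.map φ (maximalIdeal R)) := by
  obtain ⟨π, hπ⟩ := IsDiscreteValuationRing.exists_irreducible R
  have hm : maximalIdeal R = Ideal.span {π} := hπ.maximalIdeal_eq
  have hmap : Ideal.map φ (maximalIdeal R) = Ideal.span {φ π} := by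
    rw [hm, Ideal.map_span, Set.image_singleton]
  have hVm : maximalIdeal V = Ideal.span {algebraMap R V π} := by
    rw [← hV, hm, Ideal.map_span, Set.image_singleton]
  have hψ : ψ (φ π) = algebraMap R V π := by
    rw [← hc]; rfl
  have hirr : Irreducible (algebraMap R V π) :=
    (IsDiscreteValuationRing.irreducible_iff_uniformizer _).mpr hVm
  have h1 : φ π ∈ maximalIdeal O := by
    rw [mem_maximalIdeal, mem_nonunits_iff]
    intro hu
    have := hu.map ψ
    rw [hψ] at this
    exact hirr.not_isUnit this
  have h2 : φ π ∉ maximalIdeal O ^ 2 := by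
    intro hmem
    have h3 : ψ (φ π) ∈ (maximalIdeal O ^ 2).map ψ := Ideal.mem_map_of_mem _ hmem
    rw [Ideal.map_pow] at h3
    have h4 : (maximalIdeal O).map ψ ≤ maximalIdeal V :=
      ((IsLocalRing.local_hom_TFAE ψ).out 0 2).mp ‹IsLocalHom ψ›
    have h5 := Ideal.pow_right_mono h4 2 h3
    rw [hψ, hVm, Ideal.span_singleton_pow, Ideal.mem_span_singleton] at h5
    obtain ⟨c, hc⟩ := h5
    have : algebraMap R V π * 1 = algebraMap R V π * (algebraMap R V π * c) := by
      rw [mul_one, ← mul_assoc, ← pow_two]; exact hc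
    have h6 := mul_left_cancel₀ hirr.ne_zero this
    exact hirr.not_isUnit (IsUnit.of_mul_eq_one _ h6.symm)
  rw [hmap]
  exact (Groth.Agent.Lead.RegLocal.quotient_isRegularLocalRing h1 h2).1

end Groth.Agent.Helper3.UnrPt

namespace Groth.Agent.Helper3.UnrPt

open AlgebraicGeometry CategoryTheory IsLocalRing

theorem comp_eq (R : Type u) [CommRing R]
    (YR : Over (Spec (CommRingCat.of R)))
    (V : Type u) [CommRing V] [IsLocalRing V] [Algebra R V]
    (σ : Spec (CommRingCat.of V) ⟶ YR.left)
    (hσ : σ ≫ YR.hom = Spec.map (CommRingCat.ofHom (algebraMap R V))) :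
    (Scheme.stalkClosedPointTo σ).hom.comp
      (Models.stalkHom R YR (σ.base (IsLocalRing.closedPoint V))) = algebraMap R V := by
  have key : YR.left.presheaf.germ ⊤ _ trivial ≫ Scheme.stalkClosedPointTo σ =
      σ.appTop ≫ (Scheme.ΓSpecIso (CommRingCat.of V)).hom := by
    rw [Scheme.germ_stalkClosedPointTo σ ⊤ trivial]
    simp
  have h2 : (Scheme.ΓSpecIso (CommRingCat.of R)).inv ≫ YR.hom.appTop ≫ σ.appTop ≫
      (Scheme.ΓSpecIso (CommRingCat.of V)).hom = CommRingCat.ofHom (algebraMap R V) := by
    rw [← Category.assoc YR.hom.appTop, ← Scheme.Hom.comp_appTop, hσ,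
      ← Scheme.ΓSpecIso_inv_naturality_assoc, Iso.inv_hom_id, Category.comp_id]
  ext r
  have := congrArg (fun f => f.hom r) h2
  simp only [CommRingCat.hom_comp, RingHom.comp_apply, CommRingCat.hom_ofHom] at this
  rw [← this]
  have k2 := congrArg (fun f => f.hom (YR.hom.appTop.hom ((Scheme.ΓSpecIso (CommRingCat.of R)).inv.hom r))) key
  simp only [CommRingCat.hom_comp, RingHom.comp_apply] at k2
  simp only [RingHom.comp_apply, Models.stalkHom, Coh.toGlobal]
  exact k2

theorem s19912
    (R : Type u) [CommRing R] [IsDomain R] [IsDiscreteValuationRing R]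
    (YR : Over (Spec (CommRingCat.of R)))
    (V : Type u) [CommRing V] [IsDomain V] [IsDiscreteValuationRing V] [Algebra R V]
    (hV : Ideal.map (algebraMap R V) (IsLocalRing.maximalIdeal R) = IsLocalRing.maximalIdeal V)
    (σ : Spec (CommRingCat.of V) ⟶ YR.left)
    (hσ : σ ≫ YR.hom = Spec.map (CommRingCat.ofHom (algebraMap R V)))
    (y : YR.left) (hy : σ.base (IsLocalRing.closedPoint V) = y)
    (hreg : IsRegularLocalRing (YR.left.presheaf.stalk y)) :
    IsRegularLocalRing (YR.left.presheaf.stalk y ⧸
      Ideal.map (Models.stalkHom R YR y) (IsLocalRing.maximalIdeal R)) := by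
  subst hy
  haveI : IsLocalHom (Scheme.stalkClosedPointTo σ).hom := Scheme.isLocalHom_stalkClosedPointTo' σ
  exact alg_core R _ V hV (Models.stalkHom R YR _) (Scheme.stalkClosedPointTo σ).hom
    (comp_eq R YR V σ hσ)

end Groth.Agent.Helper3.UnrPt
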