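import Mathlib

open TensorProduct KaehlerDifferential

namespace Groth.Agent.Helper3.UnramChart

universe u

/-- the classes `1 ⊗ d b` span the fibre of the differentials -/
theorem span_fibre (A B : Type u) [CommRing A] [CommRing B] [Algebra A B] (q : Ideal B)
    [q.IsPrime] :
    Submodule.span q.ResidueField
      (Set.range fun b : B => (1 : q.ResidueField) ⊗ₜ[B] D A B b) = ⊤ := by
  rw [eq_top_iff]
  rintro t -
  induction t using TensorProduct.induction_on with
  | zero => exact zero_mem _
  | add x y hx hy => exact add_mem hx hy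
  | tmul c ω =>
    have h3 : c ⊗ₜ[B] ω = c • ((1 : q.ResidueField) ⊗ₜ[B] ω) := by
      rw [smul_tmul', smul_eq_mul, mul_one]
    rw [h3]
    refine Submodule.smul_mem _ _ ?_
    have hω : ω ∈ Submodule.span B (Set.range (D A B)) := by
      rw [KaehlerDifferential.span_range_derivation]; trivial
    clear h3
    induction hω using Submodule.span_induction with
    | mem x hx =>
      obtain ⟨a, rfl⟩ := hx
      exact Submodule.subset_span ⟨a, rfl⟩
    | zero => simp
    | add x y _ _ hx hy => rw [tmul_add]; exact add_mem hx hy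
    | smul r x _ hx =>
      have h4 : (1 : q.ResidueField) ⊗ₜ[B] (r • x) =
          algebraMap B q.ResidueField r • ((1 : q.ResidueField) ⊗ₜ[B] x) := by
        rw [← smul_tmul, smul_tmul', Algebra.smul_def, mul_one, smul_eq_mul, mul_one]
      rw [h4]
      exact Submodule.smul_mem _ _ hx

theorem main (A B : Type u) [CommRing A] [CommRing B] [Algebra A B] [Algebra.FiniteType A B]
    (q : Ideal B) [q.IsPrime] (r : ℕ)
    (hr : Module.finrank q.ResidueField (q.ResidueField ⊗[B] Ω[B⁄A]) = r) :
    ∃ φ : MvPolynomial (Fin r) A →ₐ[A] B,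
      letI := φ.toRingHom.toAlgebra
      Algebra.IsUnramifiedAt (MvPolynomial (Fin r) A) q := by
  classical
  let v : B → q.ResidueField ⊗[B] Ω[B⁄A] := fun b => (1 : q.ResidueField) ⊗ₜ[B] D A B b
  obtain ⟨s, -, -, hspan, hli⟩ := exists_linearIndepOn_extension
    (linearIndepOn_empty q.ResidueField v) (Set.empty_subset (Set.univ : Set B))
  have hspan' : Submodule.span q.ResidueField (Set.range fun x : s => v x) = ⊤ := by
    have h1 : (Set.range fun x : s => v x) = v '' s := by
      ext y; simp
    rw [h1, eq_top_iff, ← span_fibre A B q, Submodule.span_le]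
    rintro _ ⟨b, rfl⟩
    exact hspan ⟨b, trivial, rfl⟩
  let 𝓑 : Module.Basis s q.ResidueField (q.ResidueField ⊗[B] Ω[B⁄A]) :=
    Module.Basis.mk hli hspan'.ge
  haveI : Finite s := Module.Finite.finite_basis 𝓑
  haveI : Fintype s := Fintype.ofFinite s
  have hcard : Fintype.card s = r := by
    rw [← hr, Module.finrank_eq_card_basis 𝓑]
  let e : s ≃ Fin r := Fintype.equivFinOfCardEq hcard
  let b : Fin r → B := fun i => (e.symm i : B)
  have hspb : Submodule.span q.ResidueField (Set.range fun i => v (b i)) = ⊤ := by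
    rw [← hspan']
    congr 1
    ext y
    constructor
    · rintro ⟨i, rfl⟩; exact ⟨e.symm i, rfl⟩
    · rintro ⟨x, rfl⟩; exact ⟨e x, by simp [b]⟩
  refine ⟨MvPolynomial.aeval b, ?_⟩
  letI : Algebra (MvPolynomial (Fin r) A) B :=
    (MvPolynomial.aeval b : MvPolynomial (Fin r) A →ₐ[A] B).toRingHom.toAlgebra
  haveI : IsScalarTower A (MvPolynomial (Fin r) A) B :=
    IsScalarTower.of_algebraMap_eq'
      (MvPolynomial.aeval b : MvPolynomial (Fin r) A →ₐ[A] B).comp_algebraMap.symm
  haveI : Algebra.FiniteType (MvPolynomial (Fin r) A) B :=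
    Algebra.FiniteType.of_restrictScalars_finiteType A _ _
  have hX : ∀ i, algebraMap (MvPolynomial (Fin r) A) B (MvPolynomial.X i) = b i := fun i =>
    MvPolynomial.aeval_X b i
  show (⟨q, inferInstance⟩ : PrimeSpectrum B) ∈
    Algebra.unramifiedLocus (MvPolynomial (Fin r) A) B
  rw [Algebra.unramifiedLocus_eq_compl_support, Set.mem_compl_iff,
    Module.mem_support_iff_nontrivial_residueField_tensorProduct, not_nontrivial_iff_subsingleton]
  let ψ : q.ResidueField ⊗[B] Ω[B⁄A] →ₗ[q.ResidueField]
      q.ResidueField ⊗[B] Ω[B⁄MvPolynomial (Fin r) A] :=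
    (KaehlerDifferential.map A (MvPolynomial (Fin r) A) B B).baseChange q.ResidueField
  have hψsurj : Function.Surjective ψ :=
    LinearMap.lTensor_surjective _ (KaehlerDifferential.map_surjective A (MvPolynomial (Fin r) A) B)
  have hψ0 : ∀ x, ψ x = 0 := by
    have hker : LinearMap.ker ψ = ⊤ := by
      rw [eq_top_iff, ← hspb, Submodule.span_le]
      rintro _ ⟨i, rfl⟩
      show ψ (v (b i)) = 0
      simp only [ψ, v, LinearMap.baseChange_tmul, KaehlerDifferential.map_D,
        Algebra.algebraMap_self, RingHom.id_apply]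
      rw [← hX i, Derivation.map_algebraMap, tmul_zero]
    intro x
    have : x ∈ LinearMap.ker ψ := by rw [hker]; trivial
    exact this
  refine ⟨fun x y => ?_⟩
  obtain ⟨x', rfl⟩ := hψsurj x
  obtain ⟨y', rfl⟩ := hψsurj y
  rw [hψ0, hψ0]


end Groth.Agent.Helper3.UnramChart

-- Restored (helper3): the original scheme-level content of this module (used by S5063),
-- which had been overwritten by the ring-level content above.
namespace Groth.Agent.Helper3.UnramChart
section SchemeChart
universe u


open AlgebraicGeometry CategoryTheory Limits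


set_option backward.isDefEq.respectTransparency.types false in
theorem exists_etale_closedImmersion_chart {X Y : Scheme.{u}} (f : X ⟶ Y)
    [LocallyOfFinitePresentation f] [FormallyUnramified f] (x : X) :
    ∃ (Y' : Scheme.{u}) (g : Y' ⟶ Y) (U : (pullback f g).Opens), Etale g ∧
      x ∈ (pullback.fst f g).base '' (U : Set ↥(pullback f g)) ∧
      IsClosedImmersion (U.ι ≫ pullback.snd f g) := by
  obtain ⟨V, hV, hfx, _⟩ := TopologicalSpace.Opens.isBasis_iff_nbhd.mp Y.isBasis_affineOpens
    (TopologicalSpace.Opens.mem_top <| f x)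
  obtain ⟨W, hW, hx, e⟩ := TopologicalSpace.Opens.isBasis_iff_nbhd.mp X.isBasis_affineOpens
    (show x ∈ f ⁻¹ᵁ V from hfx)
  have hV : IsAffineOpen V := hV
  have hW : IsAffineOpen W := hW
  have hft : (f.appLE V W e).hom.FiniteType := f.finiteType_appLE hV hW e
  have hfu : (f.appLE V W e).hom.FormallyUnramified := f.formallyUnramified_appLE hV hW e
  algebraize [(f.appLE V W e).hom]
  let q := hW.primeIdealOf ⟨x, hx⟩
  have : Algebra.IsUnramifiedAt Γ(Y, V) q.asIdeal :=
    Algebra.FormallyUnramified.comp Γ(Y, V) Γ(X, W) _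
  obtain ⟨r, hr, P, ψ, hψ⟩ :=
    Algebra.IsUnramifiedAt.exists_hasStandardEtaleSurjectionOn (R := Γ(Y, V)) q.asIdeal
  let g : Spec (.of P.Ring) ⟶ Y :=
    Spec.map (CommRingCat.ofHom (algebraMap Γ(Y, V) P.Ring)) ≫ hV.fromSpec
  have hg1 : Etale (Spec.map (CommRingCat.ofHom (algebraMap Γ(Y, V) P.Ring))) := by
    rw [HasRingHomProperty.Spec_iff (P := @Etale)]
    exact RingHom.etale_algebraMap.mpr inferInstance
  have hg : Etale g := inferInstance
  let j : Spec (.of (Localization.Away r)) ⟶ X :=
    Spec.map (CommRingCat.ofHom (algebraMap Γ(X, W) (Localization.Away r))) ≫ hW.fromSpec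
  let c : Spec (.of (Localization.Away r)) ⟶ Spec (.of P.Ring) :=
    Spec.map (CommRingCat.ofHom ψ.toRingHom)
  have hc : IsClosedImmersion c := IsClosedImmersion.spec_of_surjective _ hψ
  have hjc : j ≫ f = c ≫ g := by
    simp only [j, c, g, Category.assoc]
    rw [← hV.SpecMap_appLE_fromSpec f hW e, ← Spec.map_comp_assoc, ← Spec.map_comp_assoc]
    congr 2
    ext a
    simp only [CommRingCat.hom_comp, CommRingCat.hom_ofHom, RingHom.comp_apply]
    change algebraMap Γ(X, W) (Localization.Away r) (algebraMap Γ(Y, V) Γ(X, W) a) =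
      ψ (algebraMap Γ(Y, V) P.Ring a)
    rw [ψ.commutes, ← IsScalarTower.algebraMap_apply]
  let s := pullback.lift j c hjc
  have hs1 : s ≫ pullback.fst f g = j := pullback.lift_fst _ _ _
  have hs2 : s ≫ pullback.snd f g = c := pullback.lift_snd _ _ _
  have : Etale (s ≫ pullback.fst f g) := by rw [hs1]; infer_instance
  have hse : Etale s := Etale.of_comp s (pullback.fst f g)
  have hsm : Mono s := mono_of_mono_fac hs1
  have hso : IsOpenImmersion s := IsOpenImmersion.of_flat_of_mono s
  refine ⟨_, g, s.opensRange, hg, ?_, ?_⟩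
  · have hxj : x ∈ Set.range j := by
      have h1 : q ∈ Set.range (PrimeSpectrum.comap
          (algebraMap Γ(X, W) (Localization.Away r))) := by
        rw [PrimeSpectrum.localization_away_comap_range (Localization.Away r) r]
        exact hr
      obtain ⟨t, ht⟩ := h1
      refine ⟨t, ?_⟩
      change hW.fromSpec ((Spec.map (CommRingCat.ofHom
        (algebraMap Γ(X, W) (Localization.Away r)))) t) = x
      have : (Spec.map (CommRingCat.ofHom
          (algebraMap Γ(X, W) (Localization.Away r)))) t = q := ht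
      rw [this]
      exact hW.fromSpec_primeIdealOf ⟨x, hx⟩
    obtain ⟨t, rfl⟩ := hxj
    refine ⟨s t, ⟨t, rfl⟩, ?_⟩
    rw [← hs1]
    rfl
  · have : s.opensRange.ι ≫ pullback.snd f g = s.isoOpensRange.inv ≫ c := by
      rw [← hs2, ← Category.assoc, Scheme.Hom.isoOpensRange_inv_comp]
    rw [this]
    infer_instance


end SchemeChart
end Groth.Agent.Helper3.UnramChart
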