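import Mathlib
set_option autoImplicit false
set_option linter.style.haveILetI false
set_option linter.unusedSectionVars false
set_option linter.unusedVariables false
set_option linter.style.haveILetI false
set_option linter.unusedSectionVars false
set_option linter.unusedVariables false

universe u
open TensorProduct KaehlerDifferential

namespace Groth.Agent.Helper3.UnramDesc

/-- `1 ⊗ D q = ∑ mk (∂_l q) ⊗ D X_l`. -/
lemma tmul_D {A : Type*} [CommRing A] {n : ℕ} {B : Type*} [CommRing B]
    [Algebra (MvPolynomial (Fin n) A) B] (q : MvPolynomial (Fin n) A) :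
    (1 : B) ⊗ₜ[MvPolynomial (Fin n) A] (D A (MvPolynomial (Fin n) A) q) =
      ∑ l, (algebraMap _ B (MvPolynomial.pderiv l q)) ⊗ₜ[MvPolynomial (Fin n) A]
        (D A (MvPolynomial (Fin n) A) (MvPolynomial.X l)) := by
  have h := (mvPolynomialBasis A (Fin n)).sum_repr (D A (MvPolynomial (Fin n) A) q)
  conv_lhs => rw [← h]
  rw [TensorProduct.tmul_sum]
  refine Finset.sum_congr rfl fun l _ => ?_
  rw [mvPolynomialBasis_repr_apply, mvPolynomialBasis_apply, TensorProduct.tmul_smul,
    TensorProduct.smul_tmul', Algebra.smul_def, mul_one]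

theorem core (A : Type*) [CommRing A] (n : ℕ) (I₀ : Ideal (MvPolynomial (Fin n) A))
    (k : Fin n → MvPolynomial (Fin n) A) (hk : ∀ i, k i ∈ I₀)
    (hd : ∀ i l, MvPolynomial.pderiv l (k i) - (if i = l then 1 else 0) ∈ I₀) :
    Algebra.FormallyUnramified A (MvPolynomial (Fin n) A ⧸ I₀) := by
  constructor
  have hsurj : Function.Surjective
      (algebraMap (MvPolynomial (Fin n) A) (MvPolynomial (Fin n) A ⧸ I₀)) :=
    Ideal.Quotient.mk_surjective
  have hex := exact_kerCotangentToTensor_mapBaseChange A (MvPolynomial (Fin n) A)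
    (MvPolynomial (Fin n) A ⧸ I₀) hsurj
  have hms := mapBaseChange_surjective A (MvPolynomial (Fin n) A)
    (MvPolynomial (Fin n) A ⧸ I₀) hsurj
  -- every `1 ⊗ D X_i` is in the range
  have hker : ∀ i, (1 : MvPolynomial (Fin n) A ⧸ I₀) ⊗ₜ[MvPolynomial (Fin n) A]
      (D A (MvPolynomial (Fin n) A) (MvPolynomial.X i)) ∈
      LinearMap.ker (mapBaseChange A (MvPolynomial (Fin n) A) (MvPolynomial (Fin n) A ⧸ I₀)) := by
    intro i
    have hki : k i ∈ RingHom.ker
        (algebraMap (MvPolynomial (Fin n) A) (MvPolynomial (Fin n) A ⧸ I₀)) := by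
      rw [Ideal.Quotient.algebraMap_eq, Ideal.mk_ker]; exact hk i
    have h1 : (1 : MvPolynomial (Fin n) A ⧸ I₀) ⊗ₜ[MvPolynomial (Fin n) A]
        (D A (MvPolynomial (Fin n) A) (k i)) =
        (1 : MvPolynomial (Fin n) A ⧸ I₀) ⊗ₜ[MvPolynomial (Fin n) A]
        (D A (MvPolynomial (Fin n) A) (MvPolynomial.X i)) := by
      rw [tmul_D (k i), Finset.sum_eq_single i]
      · have := hd i i
        rw [if_pos rfl] at this
        have h2 : algebraMap (MvPolynomial (Fin n) A) (MvPolynomial (Fin n) A ⧸ I₀)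
            (MvPolynomial.pderiv i (k i)) = 1 := by
          rw [Ideal.Quotient.algebraMap_eq, ← map_one (Ideal.Quotient.mk I₀)]
          exact Ideal.Quotient.eq.2 this
        rw [h2]
      · intro l _ hl
        have := hd i l
        rw [if_neg (Ne.symm hl), sub_zero] at this
        have h2 : algebraMap (MvPolynomial (Fin n) A) (MvPolynomial (Fin n) A ⧸ I₀)
            (MvPolynomial.pderiv l (k i)) = 0 := by
          rw [Ideal.Quotient.algebraMap_eq]
          exact Ideal.Quotient.eq_zero_iff_mem.2 this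
        rw [h2, TensorProduct.zero_tmul]
      · intro h; exact absurd (Finset.mem_univ i) h
    rw [← h1]
    exact (hex _).2 ⟨Ideal.toCotangent _ ⟨k i, hki⟩, rfl⟩
  -- hence mapBaseChange = 0
  have hzero : ∀ t, mapBaseChange A (MvPolynomial (Fin n) A) (MvPolynomial (Fin n) A ⧸ I₀) t = 0 := by
    intro t
    induction t using TensorProduct.induction_on with
    | zero => simp
    | add x y hx hy => rw [map_add, hx, hy, add_zero]
    | tmul b w =>
      have hw : w ∈ Submodule.span (MvPolynomial (Fin n) A)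
          (Set.range (mvPolynomialBasis A (Fin n))) := by
        rw [(mvPolynomialBasis A (Fin n)).span_eq]; trivial
      revert b
      induction hw using Submodule.span_induction with
      | mem w hw =>
        intro b
        obtain ⟨i, rfl⟩ := hw
        rw [mvPolynomialBasis_apply]
        have : b ⊗ₜ[MvPolynomial (Fin n) A] (D A (MvPolynomial (Fin n) A) (MvPolynomial.X i)) =
            b • ((1 : MvPolynomial (Fin n) A ⧸ I₀) ⊗ₜ[MvPolynomial (Fin n) A]
              (D A (MvPolynomial (Fin n) A) (MvPolynomial.X i))) := by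
          rw [TensorProduct.smul_tmul', smul_eq_mul, mul_one]
        rw [this, map_smul, LinearMap.mem_ker.1 (hker i), smul_zero]
      | zero => intro b; simp
      | add x y _ _ hx hy => intro b; rw [TensorProduct.tmul_add, map_add, hx, hy, add_zero]
      | smul a x _ hx =>
        intro b
        rw [← TensorProduct.smul_tmul]
        exact hx _
  exact ⟨fun x y => by
    obtain ⟨x', rfl⟩ := hms x
    obtain ⟨y', rfl⟩ := hms y
    rw [hzero, hzero]⟩


theorem data (R S : Type u) [CommRing R] [CommRing S] [Algebra R S]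
    [Algebra.FormallyUnramified R S] (n : ℕ)
    (π : MvPolynomial (Fin n) R →ₐ[R] S) (hπ : Function.Surjective π) :
    ∃ k : Fin n → MvPolynomial (Fin n) R, (∀ i, k i ∈ RingHom.ker π) ∧
      ∀ i l, MvPolynomial.pderiv l (k i) - (if i = l then 1 else 0) ∈ RingHom.ker π := by
  classical
  letI := π.toAlgebra
  haveI : IsScalarTower R (MvPolynomial (Fin n) R) S :=
    IsScalarTower.of_algebraMap_eq' π.comp_algebraMap.symm
  have hsurj : Function.Surjective (algebraMap (MvPolynomial (Fin n) R) S) := hπ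
  have hex := exact_kerCotangentToTensor_mapBaseChange R (MvPolynomial (Fin n) R) S hsurj
  have hk : ∀ i, ∃ k : MvPolynomial (Fin n) R, k ∈ RingHom.ker π ∧
      (1 : S) ⊗ₜ[MvPolynomial (Fin n) R] (D R (MvPolynomial (Fin n) R) k) =
      (1 : S) ⊗ₜ[MvPolynomial (Fin n) R] (D R (MvPolynomial (Fin n) R) (MvPolynomial.X i)) := by
    intro i
    obtain ⟨c, hc⟩ := (hex ((1 : S) ⊗ₜ[MvPolynomial (Fin n) R]
      (D R (MvPolynomial (Fin n) R) (MvPolynomial.X i)))).1 (Subsingleton.elim _ _)
    obtain ⟨⟨k, hk⟩, rfl⟩ := Ideal.toCotangent_surjective _ c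
    exact ⟨k, hk, hc⟩
  choose k hk1 hk2 using hk
  refine ⟨k, hk1, fun i l => ?_⟩
  have h := congrArg (fun t => ((mvPolynomialBasis R (Fin n)).baseChange S).repr t l) (hk2 i)
  simp only [Module.Basis.baseChange_repr_tmul, mvPolynomialBasis_repr_apply,
    MvPolynomial.pderiv_X] at h
  rw [RingHom.mem_ker, map_sub]
  rw [Algebra.smul_def, Algebra.smul_def, mul_one, mul_one] at h
  change π (MvPolynomial.pderiv l (k i)) =
    π ((Pi.single l 1 : Fin n → MvPolynomial (Fin n) R) i) at h
  rw [h, sub_eq_zero]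
  congr 1
  by_cases hil : i = l
  · subst hil; simp
  · simp [hil]


theorem main (R : Type u) [CommRing R] (S : Type u) [CommRing S] [Algebra R S]
    [Algebra.Unramified R S] :
    ∃ (R₀ : Type u) (_ : CommRing R₀) (_ : Algebra.FiniteType ℤ R₀) (S₀ : Type u) (_ : CommRing S₀)
      (_ : Algebra R₀ S₀) (_ : Algebra.Unramified R₀ S₀) (_ : Algebra R₀ R)
      (ψ : R ⊗[R₀] S₀ →ₐ[R] S), Function.Surjective ψ := by
  classical
  obtain ⟨n, π, hπ⟩ := (Algebra.FiniteType.iff_quotient_mvPolynomial'' (R := R) (S := S)).mp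
    inferInstance
  obtain ⟨k, hk1, hk2⟩ := data R S n π hπ
  -- the coefficient ring
  let cs : Finset R := Finset.univ.biUnion fun i => (k i).coeffs
  let R₀ : Subalgebra ℤ R := Algebra.adjoin ℤ (cs : Set R)
  have hFT : Algebra.FiniteType ℤ R₀ := by
    have h := (Subalgebra.fg_iff_finiteType R₀).1 (Subalgebra.fg_adjoin_finset cs)
    convert h
  have hlift : ∀ i, ∃ kz : MvPolynomial (Fin n) R₀, MvPolynomial.map (algebraMap R₀ R) kz = k i := by
    intro i
    have : k i ∈ (MvPolynomial.map (algebraMap R₀ R)).range := by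
      rw [RingHom.mem_range, ← Set.mem_range, MvPolynomial.mem_range_map_iff_coeffs_subset]
      intro c hc
      refine ⟨⟨c, Algebra.subset_adjoin ?_⟩, rfl⟩
      exact Finset.mem_biUnion.2 ⟨i, Finset.mem_univ _, hc⟩
    exact this
  choose kz hkz using hlift
  let I₀ : Ideal (MvPolynomial (Fin n) R₀) := Ideal.span
    (Set.range kz ∪ Set.range (fun il : Fin n × Fin n =>
      MvPolynomial.pderiv il.2 (kz il.1) - (if il.1 = il.2 then 1 else 0)))
  have hFU : Algebra.FormallyUnramified R₀ (MvPolynomial (Fin n) R₀ ⧸ I₀) :=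
    core R₀ n I₀ kz (fun i => Ideal.subset_span (Or.inl ⟨i, rfl⟩))
      (fun i l => Ideal.subset_span (Or.inr ⟨(i, l), rfl⟩))
  have hFT' : Algebra.FiniteType R₀ (MvPolynomial (Fin n) R₀ ⧸ I₀) :=
    Algebra.FiniteType.of_surjective (Ideal.Quotient.mkₐ R₀ I₀) (Ideal.Quotient.mkₐ_surjective R₀ I₀)
  have hU : Algebra.Unramified R₀ (MvPolynomial (Fin n) R₀ ⧸ I₀) := ⟨hFU, hFT'⟩
  -- the map
  let π₀ : MvPolynomial (Fin n) R₀ →ₐ[R₀] S := MvPolynomial.aeval (fun i => π (MvPolynomial.X i))
  have hπ₀ : ∀ q, π₀ q = π (MvPolynomial.map (algebraMap R₀ R) q) := by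
    intro q
    have h1 : π = MvPolynomial.aeval (fun i => π (MvPolynomial.X i)) := MvPolynomial.aeval_unique π
    rw [h1, MvPolynomial.aeval_map_algebraMap]
  have hI₀ : ∀ a ∈ I₀, π₀ a = 0 := by
    intro a ha
    have : I₀ ≤ RingHom.ker π₀.toRingHom := by
      rw [Ideal.span_le]
      rintro _ (⟨i, rfl⟩ | ⟨⟨i, l⟩, rfl⟩)
      · change π₀ (kz i) = 0
        rw [hπ₀, hkz]
        exact hk1 i
      · change π₀ _ = 0
        rw [hπ₀, map_sub, ← MvPolynomial.pderiv_map, hkz]
        have := hk2 i l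
        rw [RingHom.mem_ker] at this
        convert this using 3
        split_ifs <;> simp
    exact this ha
  let φ₀ : (MvPolynomial (Fin n) R₀ ⧸ I₀) →ₐ[R₀] S := Ideal.Quotient.liftₐ I₀ π₀ hI₀
  let ψ : R ⊗[R₀] (MvPolynomial (Fin n) R₀ ⧸ I₀) →ₐ[R] S :=
    Algebra.TensorProduct.lift (Algebra.ofId R S) φ₀ (fun _ _ => Commute.all _ _)
  refine ⟨R₀, inferInstance, hFT, MvPolynomial (Fin n) R₀ ⧸ I₀, inferInstance, inferInstance, hU,
    inferInstance, ψ, ?_⟩
  intro s
  obtain ⟨p, rfl⟩ := hπ s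
  change π p ∈ Set.range ψ
  rw [← AlgHom.coe_range]
  induction p using MvPolynomial.induction_on with
  | C r =>
    refine ⟨r ⊗ₜ 1, ?_⟩
    simp [ψ, Algebra.ofId_apply]
  | add p q hp hq => rw [map_add]; exact add_mem hp hq
  | mul_X p i hp =>
    rw [map_mul]
    refine mul_mem hp ⟨1 ⊗ₜ (Ideal.Quotient.mk I₀ (MvPolynomial.X i)), ?_⟩
    simp [ψ, φ₀, π₀]

end Groth.Agent.Helper3.UnramDesc
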