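import Mathlib
import Groth.Agent.Helper3.UnramDesc
set_option autoImplicit false
set_option linter.style.haveILetI false
set_option linter.unusedSectionVars false
set_option linter.unusedVariables false
set_option linter.style.haveILetI false
set_option linter.unusedSectionVars false
set_option linter.unusedVariables false

universe u
open TensorProduct KaehlerDifferential Groth.Agent.Helper3.UnramDesc

namespace Groth.Agent.Helper3.UnramDesc2

theorem iso {A R S : Type u} [CommRing A] [CommRing R] [CommRing S] [Algebra R S] [Algebra A R]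
    [Algebra A S] [IsScalarTower A R S] (n r : ℕ)
    (π : MvPolynomial (Fin n) R →ₐ[R] S) (hπ : Function.Surjective π)
    (gz : Fin r → MvPolynomial (Fin n) A)
    (hg : Ideal.span (Set.range fun j => MvPolynomial.map (algebraMap A R) (gz j)) =
      RingHom.ker π) (I₀ : Ideal (MvPolynomial (Fin n) A))
    (hI₀def : I₀ = Ideal.span (Set.range gz)) :
    Nonempty (R ⊗[A] (MvPolynomial (Fin n) A ⧸ I₀) ≃ₐ[R] S) := by
  have hgzI : ∀ j, gz j ∈ I₀ := fun j => hI₀def ▸ Ideal.subset_span ⟨j, rfl⟩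
  let π₀ : MvPolynomial (Fin n) A →ₐ[A] S := MvPolynomial.aeval (fun i => π (MvPolynomial.X i))
  have hπ₀ : ∀ q, π₀ q = π (MvPolynomial.map (algebraMap A R) q) := by
    intro q
    have h1 : π = MvPolynomial.aeval (fun i => π (MvPolynomial.X i)) := MvPolynomial.aeval_unique π
    rw [h1, MvPolynomial.aeval_map_algebraMap]
  have hgker : ∀ j, MvPolynomial.map (algebraMap A R) (gz j) ∈ RingHom.ker π := by
    intro j; rw [← hg]; exact Ideal.subset_span ⟨j, rfl⟩
  have hI₀ : ∀ a ∈ I₀, π₀ a = 0 := by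
    intro a ha
    have : I₀ ≤ RingHom.ker π₀.toRingHom := by
      rw [hI₀def, Ideal.span_le]
      rintro _ ⟨j, rfl⟩
      change π₀ (gz j) = 0
      rw [hπ₀]
      exact hgker j
    exact this ha
  let φ₀ : (MvPolynomial (Fin n) A ⧸ I₀) →ₐ[A] S := Ideal.Quotient.liftₐ I₀ π₀ hI₀
  let ψ : R ⊗[A] (MvPolynomial (Fin n) A ⧸ I₀) →ₐ[R] S :=
    Algebra.TensorProduct.lift (Algebra.ofId R S) φ₀ (fun _ _ => Commute.all _ _)
  let θ₀ : MvPolynomial (Fin n) R →ₐ[R] R ⊗[A] (MvPolynomial (Fin n) A ⧸ I₀) :=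
    MvPolynomial.aeval (fun i => (1 : R) ⊗ₜ[A] (Ideal.Quotient.mk I₀ (MvPolynomial.X i)))
  have hθ₀ : ∀ q : MvPolynomial (Fin n) A, θ₀ (MvPolynomial.map (algebraMap A R) q) =
      (1 : R) ⊗ₜ[A] (Ideal.Quotient.mk I₀ q) := by
    intro q
    simp only [θ₀]
    rw [MvPolynomial.aeval_map_algebraMap]
    let inc : MvPolynomial (Fin n) A →ₐ[A] R ⊗[A] (MvPolynomial (Fin n) A ⧸ I₀) :=
      (Algebra.TensorProduct.includeRight (R := A) (A := R)
        (B := MvPolynomial (Fin n) A ⧸ I₀)).comp (Ideal.Quotient.mkₐ A I₀)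
    have h2 : MvPolynomial.aeval (fun i => (1 : R) ⊗ₜ[A]
        (Ideal.Quotient.mk I₀ (MvPolynomial.X i))) = inc := by
      apply MvPolynomial.algHom_ext
      intro i
      simp [inc]
    rw [h2]
    rfl
  have hθker : RingHom.ker π.toRingHom ≤ RingHom.ker θ₀.toRingHom := by
    change RingHom.ker π ≤ _
    rw [← hg, Ideal.span_le]
    rintro _ ⟨j, rfl⟩
    change θ₀ (MvPolynomial.map (algebraMap A R) (gz j)) = 0
    rw [hθ₀]
    have : Ideal.Quotient.mk I₀ (gz j) = 0 := Ideal.Quotient.eq_zero_iff_mem.2 (hgzI j)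
    rw [this, TensorProduct.tmul_zero]
  have hθker' : ∀ a ∈ RingHom.ker π, θ₀ a = 0 := fun a ha => hθker ha
  let θ₁ : (MvPolynomial (Fin n) R ⧸ RingHom.ker π) →ₐ[R]
      R ⊗[A] (MvPolynomial (Fin n) A ⧸ I₀) := Ideal.Quotient.liftₐ (RingHom.ker π) θ₀ hθker'
  let θ : S →ₐ[R] R ⊗[A] (MvPolynomial (Fin n) A ⧸ I₀) :=
    θ₁.comp (Ideal.quotientKerAlgEquivOfSurjective hπ).symm.toAlgHom
  have hθπ : ∀ x, θ (π x) = θ₀ x := by
    intro x
    simp only [θ, AlgHom.comp_apply, AlgEquiv.coe_toAlgHom]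
    rw [Ideal.quotientKerAlgEquivOfSurjective_symm_apply]
    rfl
  have hψX : ∀ i, ψ ((1 : R) ⊗ₜ[A] (Ideal.Quotient.mk I₀ (MvPolynomial.X i))) =
      π (MvPolynomial.X i) := by
    intro i
    simp [ψ, φ₀, π₀]
  have h1 : ψ.comp θ = AlgHom.id R S := by
    have : (ψ.comp θ).comp π = (AlgHom.id R S).comp π := by
      apply MvPolynomial.algHom_ext
      intro i
      simp only [AlgHom.comp_apply, hθπ, AlgHom.id_apply]
      simp only [θ₀, MvPolynomial.aeval_X]
      exact hψX i
    exact (AlgHom.cancel_right hπ).1 this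
  have h2 : θ.comp ψ = AlgHom.id R _ := by
    apply Algebra.TensorProduct.ext
    · ext
    · apply Ideal.Quotient.algHom_ext
      apply MvPolynomial.algHom_ext
      intro i
      simp only [AlgHom.comp_apply, AlgHom.coe_restrictScalars', Ideal.Quotient.mkₐ_eq_mk,
        Algebra.TensorProduct.includeRight_apply, AlgHom.id_apply]
      rw [hψX i, hθπ]
      simp only [θ₀, MvPolynomial.aeval_X]
  exact ⟨AlgEquiv.ofAlgHom ψ θ h1 h2⟩

theorem main (R : Type u) [CommRing R] (S : Type u) [CommRing S]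
    [Algebra R S] [Algebra.FinitePresentation R S] [Algebra.FormallyUnramified R S] :
    ∃ (R₀ : Type u) (_ : CommRing R₀) (_ : Algebra.FiniteType ℤ R₀) (S₀ : Type u) (_ : CommRing S₀)
      (_ : Algebra R₀ S₀) (_ : Algebra.FinitePresentation R₀ S₀)
      (_ : Algebra.FormallyUnramified R₀ S₀)
      (_ : Algebra R₀ R), Nonempty (R ⊗[R₀] S₀ ≃ₐ[R] S) := by
  classical
  obtain ⟨n, π, hπ, hker⟩ := Algebra.FinitePresentation.out (R := R) (A := S)
  obtain ⟨k, hk1, hk2⟩ := data R S n π hπ
  obtain ⟨r, g, hg⟩ := Submodule.fg_iff_exists_fin_generating_family.1 hker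
  have hg' : Ideal.span (Set.range g) = RingHom.ker π := hg
  -- coefficients
  have ha : ∀ i, ∃ a : Fin r → MvPolynomial (Fin n) R, ∑ j, a j * g j = k i := by
    intro i
    have := hk1 i
    rw [← hg'] at this
    exact Ideal.mem_span_range_iff_exists_fun.1 this
  choose a ha using ha
  have hb : ∀ i l, ∃ b : Fin r → MvPolynomial (Fin n) R,
      ∑ j, b j * g j = MvPolynomial.pderiv l (k i) - (if i = l then 1 else 0) := by
    intro i l
    have := hk2 i l
    rw [← hg'] at this
    exact Ideal.mem_span_range_iff_exists_fun.1 this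
  choose b hb using hb
  let cs : Finset R := (Finset.univ.biUnion fun j => (g j).coeffs) ∪
    (Finset.univ.biUnion fun ij : Fin n × Fin r => (a ij.1 ij.2).coeffs) ∪
    (Finset.univ.biUnion fun ilj : Fin n × Fin n × Fin r => (b ilj.1 ilj.2.1 ilj.2.2).coeffs)
  let R₀ : Subalgebra ℤ R := Algebra.adjoin ℤ (cs : Set R)
  have hFT : Algebra.FiniteType ℤ R₀ := by
    have h := (Subalgebra.fg_iff_finiteType R₀).1 (Subalgebra.fg_adjoin_finset cs)
    convert h
  have hlift : ∀ p : MvPolynomial (Fin n) R, (p.coeffs : Set R) ⊆ cs →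
      ∃ pz : MvPolynomial (Fin n) R₀, MvPolynomial.map (algebraMap R₀ R) pz = p := by
    intro p hp
    have : p ∈ (MvPolynomial.map (algebraMap R₀ R)).range := by
      rw [RingHom.mem_range, ← Set.mem_range, MvPolynomial.mem_range_map_iff_coeffs_subset]
      intro c hc
      exact ⟨⟨c, Algebra.subset_adjoin (hp hc)⟩, rfl⟩
    exact this
  have hgz : ∀ j, ∃ gz : MvPolynomial (Fin n) R₀, MvPolynomial.map (algebraMap R₀ R) gz = g j := by
    intro j
    refine hlift _ fun c hc => ?_
    simp only [cs, Finset.coe_union, Set.mem_union, Finset.mem_coe, Finset.mem_biUnion,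
      Finset.mem_univ, true_and]
    exact Or.inl (Or.inl ⟨j, hc⟩)
  have haz : ∀ i j, ∃ az : MvPolynomial (Fin n) R₀,
      MvPolynomial.map (algebraMap R₀ R) az = a i j := by
    intro i j
    refine hlift _ fun c hc => ?_
    simp only [cs, Finset.coe_union, Set.mem_union, Finset.mem_coe, Finset.mem_biUnion,
      Finset.mem_univ, true_and]
    exact Or.inl (Or.inr ⟨(i, j), hc⟩)
  have hbz : ∀ i l j, ∃ bz : MvPolynomial (Fin n) R₀,
      MvPolynomial.map (algebraMap R₀ R) bz = b i l j := by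
    intro i l j
    refine hlift _ fun c hc => ?_
    simp only [cs, Finset.coe_union, Set.mem_union, Finset.mem_coe, Finset.mem_biUnion,
      Finset.mem_univ, true_and]
    exact Or.inr ⟨(i, l, j), hc⟩
  choose gz hgz using hgz
  choose az haz using haz
  choose bz hbz using hbz
  have hinj : Function.Injective (MvPolynomial.map (σ := Fin n) (algebraMap R₀ R)) :=
    MvPolynomial.map_injective _ Subtype.val_injective
  let I₀ : Ideal (MvPolynomial (Fin n) R₀) := Ideal.span (Set.range gz)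
  let kz : Fin n → MvPolynomial (Fin n) R₀ := fun i => ∑ j, az i j * gz j
  have hkz : ∀ i, MvPolynomial.map (algebraMap R₀ R) (kz i) = k i := by
    intro i
    simp only [kz, map_sum, map_mul, haz, hgz, ha]
  have hFU : Algebra.FormallyUnramified R₀ (MvPolynomial (Fin n) R₀ ⧸ I₀) := by
    refine core R₀ n I₀ kz (fun i => ?_) (fun i l => ?_)
    · exact Ideal.sum_mem _ fun j _ => Ideal.mul_mem_left _ _ (Ideal.subset_span ⟨j, rfl⟩)
    · have : MvPolynomial.pderiv l (kz i) - (if i = l then 1 else 0) = ∑ j, bz i l j * gz j := by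
        apply hinj
        rw [map_sub, ← MvPolynomial.pderiv_map, hkz, map_sum]
        simp only [map_mul, hbz, hgz, hb]
        congr 1
        split_ifs <;> simp
      rw [this]
      exact Ideal.sum_mem _ fun j _ => Ideal.mul_mem_left _ _ (Ideal.subset_span ⟨j, rfl⟩)
  have hFP : Algebra.FinitePresentation R₀ (MvPolynomial (Fin n) R₀ ⧸ I₀) :=
    Algebra.FinitePresentation.quotient ⟨Finset.univ.image gz, by simp [I₀]⟩
  obtain ⟨e⟩ := iso (A := R₀) n r π hπ gz (by
    rw [← hg']
    congr 2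
    funext j
    exact hgz j) I₀ rfl
  exact ⟨R₀, inferInstance, hFT, MvPolynomial (Fin n) R₀ ⧸ I₀, inferInstance, inferInstance, hFP,
    hFU, inferInstance, ⟨e⟩⟩

end Groth.Agent.Helper3.UnramDesc2
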