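import Groth.Agent.Helper3.UnramSect

/-! Equalizers of morphisms into unramified schemes are open subschemes. -/

universe u
open CategoryTheory AlgebraicGeometry Limits TopologicalSpace

namespace Groth.Agent.Helper3.UnramEq

set_option backward.isDefEq.respectTransparency false in
theorem isClosedImmersion_equalizer_ι_left {S : Scheme.{u}} {X Y : Over S}
    [IsSeparated Y.hom] (f g : X ⟶ Y) : IsClosedImmersion (equalizer.ι f g).left := by
  refine MorphismProperty.of_isPullback
    ((Limits.isPullback_equalizer_prod f g).map (Over.forget _)).flip ?_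
  rw [← MorphismProperty.cancel_right_of_respectsIso @IsClosedImmersion _
    (Over.prodLeftIsoPullback Y Y).hom]
  convert! (inferInstance : IsClosedImmersion (pullback.diagonal Y.hom))
  ext1 <;> simp [← Over.comp_left]

/-- For `u v : X ⟶ Y` over `S` with `Y` unramified over `S`, there is an open subscheme `E ⊆ X`
(the equalizer) on which `u` and `v` agree and through which any `t` equalizing `u`, `v`
factors. -/
theorem exists_open_equalizer {S X Y : Scheme.{u}} (p : X ⟶ S) (q : Y ⟶ S)
    [FormallyUnramified q] [LocallyOfFiniteType q] (u v : X ⟶ Y) (hu : u ≫ q = p)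
    (hv : v ≫ q = p) :
    ∃ E : X.Opens, E.ι ≫ u = E.ι ≫ v ∧
      (∀ {T : Scheme.{u}} (t : T ⟶ X), t ≫ u = t ≫ v → Set.range t ⊆ E) ∧
      (IsSeparated q → IsClosed (E : Set X)) := by
  let XO : Over S := Over.mk p
  let YO : Over S := Over.mk q
  let uO : XO ⟶ YO := Over.homMk u hu
  let vO : XO ⟶ YO := Over.homMk v hv
  haveI : FormallyUnramified YO.hom := ‹_›
  haveI : LocallyOfFiniteType YO.hom := ‹_›
  haveI : IsOpenImmersion (equalizer.ι uO vO).left :=
    Groth.Agent.Helper3.UnramSect.isOpenImmersion_equalizer_ι_left uO vO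
  let ι := (equalizer.ι uO vO).left
  have hι : ι ≫ u = ι ≫ v := by
    have := congrArg CommaMorphism.left (equalizer.condition uO vO)
    simpa [uO, vO] using this
  refine ⟨ι.opensRange, ?_, ?_, ?_⟩
  · have h1 : ι.opensRange.ι = (IsOpenImmersion.isoOfRangeEq ι.opensRange.ι ι
        (by simp)).hom ≫ ι := by simp
    rw [h1, Category.assoc, Category.assoc, hι]
  · intro T t ht
    let TO : Over S := Over.mk (t ≫ p)
    let tO : TO ⟶ XO := Over.homMk t rfl
    have htO : tO ≫ uO = tO ≫ vO := by
      ext1
      simpa [tO, uO, vO] using ht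
    have hk : equalizer.lift tO htO ≫ equalizer.ι uO vO = tO := equalizer.lift_ι _ _
    have hk' : (equalizer.lift tO htO).left ≫ ι = t := by
      have := congrArg CommaMorphism.left hk
      exact this
    rintro _ ⟨z, rfl⟩
    rw [← hk']
    exact ⟨(equalizer.lift tO htO).left z, rfl⟩
  · intro hsep
    haveI : IsSeparated YO.hom := hsep
    haveI : IsClosedImmersion (equalizer.ι uO vO).left :=
      isClosedImmersion_equalizer_ι_left uO vO
    show IsClosed (Set.range ι)
    exact ι.isClosedEmbedding.isClosed_range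

/-- A Noetherian space has finitely many clopen subsets. -/
theorem finite_setOf_isClopen (α : Type*) [TopologicalSpace α] [NoetherianSpace α] :
    {C : Set α | IsClopen C}.Finite := by
  have hfin : (irreducibleComponents α).Finite := NoetherianSpace.finite_irreducibleComponents
  refine Set.Finite.of_injOn (f := fun C => {Z ∈ irreducibleComponents α | Z ⊆ C})
    (t := (irreducibleComponents α).powerset) ?_ ?_ hfin.finite_subsets
  · intro C _ Z hZ
    exact hZ.1
  · intro C hC D hD hCD
    have key : ∀ C : Set α, IsClopen C → C = ⋃₀ {Z ∈ irreducibleComponents α | Z ⊆ C} := by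
      intro C hC
      apply le_antisymm
      · intro x hx
        refine ⟨irreducibleComponent x, ⟨irreducibleComponent_mem_irreducibleComponents x, ?_⟩,
          mem_irreducibleComponent⟩
        exact (isIrreducible_irreducibleComponent.isPreirreducible.isPreconnected).subset_isClopen hC
          ⟨x, mem_irreducibleComponent, hx⟩
      · exact Set.sUnion_subset fun Z hZ => hZ.2
    rw [key C hC, key D hD]
    exact congrArg _ hCD

/-- The range of a section of a separated unramified morphism is clopen, and determines it. -/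
theorem section_range {P Y : Scheme.{u}} (p : P ⟶ Y) [FormallyUnramified p]
    [LocallyOfFiniteType p] [IsSeparated p] :
    (∀ s : Y ⟶ P, s ≫ p = 𝟙 Y → IsClopen (Set.range s)) ∧
    (∀ s t : Y ⟶ P, s ≫ p = 𝟙 Y → t ≫ p = 𝟙 Y → Set.range s = Set.range t → s = t) := by
  have key : ∀ s : Y ⟶ P, s ≫ p = 𝟙 Y → ∃ E : P.Opens, (E : Set P) = Set.range s ∧
      IsClosed (E : Set P) ∧ E.ι = E.ι ≫ p ≫ s := by
    intro s hs
    obtain ⟨E, hE, hfac, hcl⟩ := exists_open_equalizer p p (𝟙 P) (p ≫ s) (Category.id_comp _)
      (by rw [Category.assoc, hs, Category.comp_id])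
    refine ⟨E, ?_, hcl inferInstance, by simpa using hE⟩
    apply le_antisymm
    · intro e he
      have h1 : E.ι ⟨e, he⟩ = (E.ι ≫ p ≫ s) ⟨e, he⟩ := by
        have : E.ι = E.ι ≫ p ≫ s := by simpa using hE
        exact congrArg (fun m : (E : Scheme) ⟶ P => m ⟨e, he⟩) this
      have h2 : E.ι ⟨e, he⟩ = e := rfl
      rw [h2] at h1
      exact ⟨(E.ι ≫ p) ⟨e, he⟩, h1.symm⟩
    · exact hfac s (by rw [Category.comp_id, ← Category.assoc, hs, Category.id_comp])
  constructor
  · intro s hs
    obtain ⟨E, hE, hcl, -⟩ := key s hs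
    rw [← hE]
    exact ⟨hcl, E.2⟩
  · intro s t hs ht hst
    obtain ⟨E, hE, hcl, hι⟩ := key s hs
    have hrange : Set.range t ⊆ Set.range E.ι := by
      rw [Scheme.Opens.range_ι, hE, hst]
    have h1 : IsOpenImmersion.lift E.ι t hrange ≫ E.ι = t := IsOpenImmersion.lift_fac _ _ _
    calc s = (t ≫ p) ≫ s := by rw [ht, Category.id_comp]
      _ = (IsOpenImmersion.lift E.ι t hrange ≫ E.ι ≫ p) ≫ s := by rw [← Category.assoc, h1]
      _ = IsOpenImmersion.lift E.ι t hrange ≫ (E.ι ≫ p ≫ s) := by simp
      _ = IsOpenImmersion.lift E.ι t hrange ≫ E.ι := by rw [← hι]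
      _ = t := h1

set_option backward.isDefEq.respectTransparency.types false in
theorem finite_homs_to_unramified {X S Y : Scheme.{u}} [IsNoetherian Y]
    (π : X ⟶ S) [FormallyUnramified π] [LocallyOfFiniteType π] [QuasiCompact π] [IsSeparated π]
    (h : Y ⟶ S) : Set.Finite {f : Y ⟶ X | f ≫ π = h} := by
  haveI : FormallyUnramified (pullback.snd π h) :=
    MorphismProperty.pullback_snd (P := @FormallyUnramified) π h inferInstance
  haveI : IsLocallyNoetherian (pullback π h) :=
    LocallyOfFiniteType.isLocallyNoetherian (pullback.snd π h)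
  haveI : CompactSpace ↥(pullback π h) :=
    QuasiCompact.compactSpace_of_compactSpace (pullback.snd π h)
  haveI : IsNoetherian (pullback π h) := ⟨⟩
  have hfin := finite_setOf_isClopen ↥(pullback π h)
  obtain ⟨hcl, hinj⟩ := section_range (pullback.snd π h)
  haveI : Finite {C : Set ↥(pullback π h) // IsClopen C} := hfin.to_subtype
  let sec : {f : Y ⟶ X // f ≫ π = h} → (Y ⟶ pullback π h) := fun f =>
    pullback.lift f.1 (𝟙 Y) (by rw [f.2, Category.id_comp])
  have hsec : ∀ f, sec f ≫ pullback.snd π h = 𝟙 Y := fun f => pullback.lift_snd _ _ _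
  have hfst : ∀ f, sec f ≫ pullback.fst π h = f.1 := fun f => pullback.lift_fst _ _ _
  have : Finite {f : Y ⟶ X // f ≫ π = h} :=
    Finite.of_injective (fun f => (⟨Set.range (sec f), hcl _ (hsec f)⟩ :
      {C : Set ↥(pullback π h) // IsClopen C})) (by
      intro f g hfg
      have h1 : Set.range (sec f) = Set.range (sec g) := congrArg Subtype.val hfg
      have h2 := hinj _ _ (hsec f) (hsec g) h1
      apply Subtype.ext
      rw [← hfst f, ← hfst g, h2])
  exact Set.finite_coe_iff.mp this


/-- A section of an unramified morphism is an open immersion. -/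
theorem isOpenImmersion_of_section {P Y : Scheme.{u}} (p : P ⟶ Y) [FormallyUnramified p]
    [LocallyOfFiniteType p] (s : Y ⟶ P) (hs : s ≫ p = 𝟙 Y) : IsOpenImmersion s := by
  obtain ⟨E, hE, hfac, -⟩ := exists_open_equalizer p p (𝟙 P) (p ≫ s) (Category.id_comp _)
    (by rw [Category.assoc, hs, Category.comp_id])
  have hE' : E.ι = E.ι ≫ p ≫ s := by simpa using hE
  have hrange : Set.range s ⊆ Set.range E.ι := by
    rw [Scheme.Opens.range_ι]
    exact hfac s (by rw [Category.comp_id, ← Category.assoc, hs, Category.id_comp])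
  let k : Y ⟶ E := IsOpenImmersion.lift E.ι s hrange
  have hk : k ≫ E.ι = s := IsOpenImmersion.lift_fac _ _ _
  have h1 : k ≫ (E.ι ≫ p) = 𝟙 Y := by rw [← Category.assoc, hk, hs]
  have h2 : (E.ι ≫ p) ≫ k = 𝟙 _ := by
    rw [← cancel_mono E.ι, Category.assoc, hk, Category.id_comp, Category.assoc]
    exact hE'.symm
  haveI : IsIso k := ⟨E.ι ≫ p, h1, h2⟩
  rw [← hk]
  infer_instance

set_option backward.isDefEq.respectTransparency.types false in
/-- A local section of an unramified morphism is an open immersion. -/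
theorem isOpenImmersion_of_local_section {P Y : Scheme.{u}} (p : P ⟶ Y) [FormallyUnramified p]
    [LocallyOfFiniteType p] (V : Y.Opens) (t : (V : Scheme.{u}) ⟶ P) (ht : t ≫ p = V.ι) :
    IsOpenImmersion t := by
  have hrange : Set.range t ⊆ Set.range (p ⁻¹ᵁ V).ι := by
    rw [Scheme.Opens.range_ι]
    rintro _ ⟨v, rfl⟩
    show p (t v) ∈ V
    rw [← Scheme.Hom.comp_apply, ht]
    exact v.2
  let t' : (V : Scheme.{u}) ⟶ (p ⁻¹ᵁ V : P.Opens) := IsOpenImmersion.lift (p ⁻¹ᵁ V).ι t hrange
  have ht' : t' ≫ (p ⁻¹ᵁ V).ι = t := IsOpenImmersion.lift_fac _ _ _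
  have hsec : t' ≫ (p ∣_ V) = 𝟙 _ := by
    rw [← cancel_mono V.ι, Category.assoc, morphismRestrict_ι, ← Category.assoc, ht', ht,
      Category.id_comp]
  haveI : FormallyUnramified (p ∣_ V) := IsZariskiLocalAtTarget.restrict ‹_› V
  haveI : IsOpenImmersion t' := isOpenImmersion_of_section (p ∣_ V) t' hsec
  rw [← ht']
  infer_instance


end Groth.Agent.Helper3.UnramEq
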