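import Mathlib

universe u
open CategoryTheory AlgebraicGeometry Limits

namespace Groth.Agent.Helper3.UnramSect

set_option backward.isDefEq.respectTransparency false in
theorem isOpenImmersion_equalizer_ι_left {S : Scheme.{u}} {X Y : Over S}
    [FormallyUnramified Y.hom] [LocallyOfFiniteType Y.hom]
    (f g : X ⟶ Y) : IsOpenImmersion (equalizer.ι f g).left := by
  refine MorphismProperty.of_isPullback
    ((Limits.isPullback_equalizer_prod f g).map (Over.forget _)).flip ?_
  rw [← MorphismProperty.cancel_right_of_respectsIso @IsOpenImmersion _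
    (Over.prodLeftIsoPullback Y Y).hom]
  convert! (inferInstance : IsOpenImmersion (pullback.diagonal Y.hom))
  ext1 <;> simp [← Over.comp_left]

/-- An open subset of `Spec R` containing `V(I)` with `I ≤ Jac(R)` is everything. -/
theorem eq_univ_of_zeroLocus_subset {R : Type u} [CommRing R] (I : Ideal R)
    (hI : I ≤ (⊥ : Ideal R).jacobson) (U : Set (PrimeSpectrum R)) (hU : IsOpen U)
    (hIU : PrimeSpectrum.zeroLocus (I : Set R) ⊆ U) : U = Set.univ := by
  by_contra hne
  obtain ⟨J, hJ⟩ := (PrimeSpectrum.isClosed_iff_zeroLocus_ideal _).mp hU.isClosed_compl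
  have hJne : J ≠ ⊤ := by
    intro h
    rw [h] at hJ
    simp only [Submodule.top_coe, PrimeSpectrum.zeroLocus_univ, Set.compl_empty_iff] at hJ
    exact hne hJ
  obtain ⟨m, hm, hJm⟩ := Ideal.exists_le_maximal J hJne
  have h1 : (⟨m, hm.isPrime⟩ : PrimeSpectrum R) ∈ Uᶜ := by
    rw [hJ]; exact hJm
  apply h1
  apply hIU
  intro x hx
  have : (⊥ : Ideal R).jacobson ≤ m := by
    rw [Ideal.jacobson]
    exact sInf_le ⟨bot_le, hm⟩
  exact this (hI hx)

end Groth.Agent.Helper3.UnramSect
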