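import Mathlib
import Groth.Prelude
import Groth.Agent.Helper3.ClFibF

set_option autoImplicit false
set_option linter.style.haveILetI false
set_option linter.unusedSectionVars false
set_option linter.unusedVariables false
set_option linter.deprecated false
set_option linter.style.haveILetI false
set_option linter.unusedSectionVars false
set_option linter.unusedVariables false

universe u

open IsLocalRing

namespace Groth.Agent.Helper3.VFin

/-- Over a valuation ring, a nonzero polynomial in one variable is a nonzero constant times a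
polynomial with a coefficient equal to one. -/
theorem exists_primitive_polynomial {V : Type u} [CommRing V] [IsDomain V] [ValuationRing V]
    (F : Polynomial V) (hF : F ≠ 0) :
    ∃ (c : V) (F' : Polynomial V), c ≠ 0 ∧ F = Polynomial.C c * F' ∧ ∃ n, F'.coeff n = 1 := by
  classical
  have hne : F.support.Nonempty := by
    rwa [Finset.nonempty_iff_ne_empty, Ne, Polynomial.support_eq_empty]
  obtain ⟨n₀, hn₀, hdvd⟩ := ClFib.exists_dvd_all F.support hne (fun n => F.coeff n)
  have hc0 : F.coeff n₀ ≠ 0 := Polynomial.mem_support_iff.mp hn₀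
  have hd : ∀ n, ∃ d : V, F.coeff n = F.coeff n₀ * d := by
    intro n
    by_cases hn : n ∈ F.support
    · exact hdvd n hn
    · exact ⟨0, by rw [Polynomial.notMem_support_iff.mp hn, mul_zero]⟩
  choose d hd using hd
  have hdn₀ : d n₀ = 1 := by
    have := hd n₀
    exact (mul_left_cancel₀ hc0 (by rw [mul_one]; exact this)).symm
  have hsupp : ∀ n, d n ≠ 0 → n ∈ F.support := by
    intro n hn
    rw [Polynomial.mem_support_iff, hd n]
    exact mul_ne_zero hc0 hn
  let F' : Polynomial V := ∑ n ∈ F.support, Polynomial.monomial n (d n)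
  have hcoeff : ∀ n, F'.coeff n = d n := by
    intro n
    simp only [F', Polynomial.finset_sum_coeff, Polynomial.coeff_monomial]
    rw [Finset.sum_ite_eq' F.support n]
    split_ifs with h
    · rfl
    · by_contra h'
      exact h (hsupp n (Ne.symm h'))
  refine ⟨F.coeff n₀, F', hc0, ?_, n₀, by rw [hcoeff, hdn₀]⟩
  ext n
  rw [Polynomial.coeff_C_mul, hcoeff, hd n]

/-- Over a valuation ring, a flat algebra of finite type which is algebraic is quasi-finite. -/
theorem quasiFinite_of_flat_of_isAlgebraic {R B : Type u} [CommRing R] [IsDomain R]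
    [ValuationRing R] [CommRing B] [Algebra R B] [Module.Flat R B] [Algebra.FiniteType R B]
    [Algebra.IsAlgebraic R B] : Algebra.QuasiFinite R B := by
  classical
  -- key: two comparable primes over the same prime are equal
  have key : ∀ (q' q : Ideal B) [q'.IsPrime] [q.IsPrime], q' ≤ q → q.under R = q'.under R →
      q = q' := by
    intro q' q _ _ hle hunder
    haveI : (q'.under R).IsPrime := Ideal.IsPrime.under R q'
    haveI : q'.LiesOver (q'.under R) := ⟨rfl⟩
    obtain ⟨Q, hQle, hQprime, hQover⟩ :=
      Ideal.exists_ideal_le_liesOver_of_le (p := (⊥ : Ideal R)) (q := q'.under R) q' bot_le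
    haveI := hQprime
    have hQ0 : Q.under R = ⊥ := (hQover.over).symm
    refine ClFib.eq_of_le_of_root (R := R) q' q hle hunder (fun s => ?_)
    obtain ⟨F, hF0, hFs⟩ := Algebra.IsAlgebraic.isAlgebraic (R := R) s
    obtain ⟨c, F', hc, hFF', n, hn⟩ := exists_primitive_polynomial F hF0
    refine ⟨F', ⟨n, ?_⟩, ?_⟩
    · rw [hn, map_one]
      exact fun h => (Ideal.IsPrime.ne_top ‹q'.IsPrime›) ((Ideal.eq_top_iff_one _).mpr h)
    · have h1 : algebraMap R B c * Polynomial.aeval s F' = 0 := by
        rw [← hFs, hFF', map_mul, Polynomial.aeval_C]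
      have h2 : algebraMap R B c * Polynomial.aeval s F' ∈ Q := by rw [h1]; exact Q.zero_mem
      rcases hQprime.mem_or_mem h2 with h3 | h3
      · exfalso
        have : c ∈ Q.under R := h3
        rw [hQ0] at this
        exact hc this
      · exact hQle h3
  refine ⟨fun P _ => ?_⟩
  rw [Module.finite_iff_isArtinianRing, isArtinianRing_iff_isNoetherianRing_krullDimLE_zero]
  refine ⟨Algebra.FiniteType.isNoetherianRing P.ResidueField _, ?_⟩
  rw [Ring.krullDimLE_zero_iff]
  intro I hI
  obtain ⟨M, hM, hIM⟩ := Ideal.exists_le_maximal I hI.ne_top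
  haveI := hM.isPrime
  let e := PrimeSpectrum.preimageOrderIsoFiber R B ⟨P, inferInstance⟩
  let xI := e.symm ⟨I, hI⟩
  let xM := e.symm ⟨M, inferInstance⟩
  have hle : xI ≤ xM := e.symm.monotone (show (⟨I, hI⟩ : PrimeSpectrum _) ≤ ⟨M, inferInstance⟩ from hIM)
  have h1 : xM.1.asIdeal.under R = xI.1.asIdeal.under R := by
    have hM' := xM.2
    have hI' := xI.2
    simp only [Set.mem_preimage, Set.mem_singleton_iff] at hM' hI'
    have a := congrArg PrimeSpectrum.asIdeal hM'
    have b := congrArg PrimeSpectrum.asIdeal hI'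
    exact a.trans b.symm
  have h2 := key xI.1.asIdeal xM.1.asIdeal hle h1
  have h3 : xM = xI := Subtype.ext (PrimeSpectrum.ext h2)
  have h4 := e.symm.injective h3
  have h5 : M = I := congrArg PrimeSpectrum.asIdeal h4
  rw [← h5]
  exact hM

end Groth.Agent.Helper3.VFin
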