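import Mathlib
import Groth.Prelude
import Groth.Agent.Helper3.VFinA

set_option autoImplicit false
set_option linter.style.haveILetI false
set_option linter.unusedSectionVars false
set_option linter.unusedVariables false
set_option linter.deprecated false
set_option linter.style.haveILetI false
set_option linter.unusedSectionVars false
set_option linter.unusedVariables false

universe u

open CategoryTheory CategoryTheory.Limits AlgebraicGeometry TopologicalSpace
open scoped TensorProduct

namespace Groth.Agent.Helper3.VFin

/-- If `K → B ⊗_R K` is quasi-finite for the fraction field `K` of the domain `R` and `B` is flat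
over `R`, then `B` is algebraic over `R`. -/
theorem isAlgebraic_of_quasiFinite_includeRight {R B : Type u} [CommRing R] [IsDomain R]
    [CommRing B] [Algebra R B] [Module.Flat R B]
    (K : Type u) [Field K] [Algebra R K] [IsFractionRing R K]
    (h : (Algebra.TensorProduct.includeRight : K →ₐ[R] B ⊗[R] K).toRingHom.QuasiFinite) :
    Algebra.IsAlgebraic R B := by
  letI : Algebra K (B ⊗[R] K) :=
    (Algebra.TensorProduct.includeRight : K →ₐ[R] B ⊗[R] K).toRingHom.toAlgebra
  have hqf : Algebra.QuasiFinite K (B ⊗[R] K) := h
  haveI : Module.Finite K (B ⊗[R] K) := Module.Finite.of_quasiFinite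
  haveI : IsScalarTower R K (B ⊗[R] K) := IsScalarTower.of_algebraMap_eq (fun r => by
    change algebraMap R (B ⊗[R] K) r = (1 : B) ⊗ₜ[R] (algebraMap R K r)
    rw [Algebra.TensorProduct.algebraMap_apply, Algebra.algebraMap_eq_smul_one,
      Algebra.algebraMap_eq_smul_one, TensorProduct.smul_tmul])
  refine ⟨fun b => ?_⟩
  have h1 : IsAlgebraic K (b ⊗ₜ[R] (1 : K)) :=
    (Algebra.IsIntegral.isIntegral (R := K) (b ⊗ₜ[R] (1 : K))).isAlgebraic
  have h2 : IsAlgebraic R (b ⊗ₜ[R] (1 : K)) := (IsFractionRing.isAlgebraic_iff R K _).mpr h1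
  have hinj : Function.Injective (Algebra.TensorProduct.includeLeft : B →ₐ[R] B ⊗[R] K) :=
    Algebra.TensorProduct.includeLeft_injective (IsFractionRing.injective R K)
  exact (isAlgebraic_algHom_iff (Algebra.TensorProduct.includeLeft : B →ₐ[R] B ⊗[R] K) hinj).mp h2


/-- The affine pieces of a flat morphism of finite type to a valuation ring whose generic fibre
is locally quasi-finite are quasi-finite. -/
theorem locallyQuasiFinite_comp {R : Type u} [CommRing R] [IsDomain R] [ValuationRing R]
    {Y : Scheme.{u}} (f : Y ⟶ Spec (CommRingCat.of R)) [Flat f] [LocallyOfFiniteType f]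
    (hgen : LocallyQuasiFinite (pullback.snd f
      (Spec.map (CommRingCat.ofHom (algebraMap R (FractionRing R))))))
    (B : CommRingCat.{u}) (j : Spec B ⟶ Y) [IsOpenImmersion j] :
    LocallyQuasiFinite (j ≫ f) := by
  obtain ⟨ψ, hψ⟩ := Spec.map_surjective (j ≫ f)
  have hflat : Flat (Spec.map ψ) := by rw [hψ]; infer_instance
  have hft : LocallyOfFiniteType (Spec.map ψ) := by rw [hψ]; infer_instance
  have hq : LocallyQuasiFinite (pullback.snd (Spec.map ψ)
      (Spec.map (CommRingCat.ofHom (algebraMap R (FractionRing R))))) := by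
    rw [hψ]
    have h1 : pullback.snd (j ≫ f) (Spec.map (CommRingCat.ofHom (algebraMap R (FractionRing R))))
        = (pullbackRightPullbackFstIso f
      (Spec.map (CommRingCat.ofHom (algebraMap R (FractionRing R)))) j).inv ≫
        pullback.snd j (pullback.fst f _) ≫ pullback.snd f _ := by
      rw [← pullbackRightPullbackFstIso_hom_snd, Iso.inv_hom_id_assoc]
    rw [h1]
    infer_instance
  rw [← hψ]
  rw [HasRingHomProperty.Spec_iff (P := @Flat)] at hflat
  rw [HasRingHomProperty.Spec_iff (P := @LocallyOfFiniteType)] at hft
  rw [HasRingHomProperty.Spec_iff (P := @LocallyQuasiFinite)]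
  algebraize [ψ.hom]
  have hψ' : ψ = CommRingCat.ofHom (algebraMap R B) := rfl
  rw [hψ'] at hq
  have h3 := pullbackSpecIso_inv_snd R B (FractionRing R)
  have h2 : LocallyQuasiFinite ((pullbackSpecIso R B (FractionRing R)).inv ≫ pullback.snd _ _) :=
    inferInstance
  rw [h3] at h2
  rw [HasRingHomProperty.Spec_iff (P := @LocallyQuasiFinite)] at h2
  haveI : Algebra.IsAlgebraic R B := isAlgebraic_of_quasiFinite_includeRight (FractionRing R) h2
  have := quasiFinite_of_flat_of_isAlgebraic (R := R) (B := B)
  exact this

/-- A flat proper morphism to the spectrum of a valuation ring with finite generic fibre is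
finite. -/
theorem isFinite_of_flat_proper {R : Type u} [CommRing R] [IsDomain R] [ValuationRing R]
    {Y : Scheme.{u}} (f : Y ⟶ Spec (CommRingCat.of R)) [Flat f] [IsProper f]
    (hgen : IsFinite (pullback.snd f
      (Spec.map (CommRingCat.ofHom (algebraMap R (FractionRing R)))))) :
    IsFinite f := by
  haveI : LocallyQuasiFinite f := by
    rw [IsZariskiLocalAtSource.iff_of_openCover (P := @LocallyQuasiFinite)
      Y.affineOpenCover.openCover]
    intro i
    haveI := hgen
    haveI : IsOpenImmersion (Y.affineOpenCover.f i) := Y.affineOpenCover.map_prop i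
    exact locallyQuasiFinite_comp f inferInstance (Y.affineOpenCover.X i) (Y.affineOpenCover.f i)
  exact IsFinite.of_isProper_of_locallyQuasiFinite f

end Groth.Agent.Helper3.VFin
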