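import Mathlib
import Groth.Prelude
import Groth.Agent.Helper5.KA4
import Groth.Agent.Helper5.IntegralDim

set_option autoImplicit false
set_option linter.style.haveILetI false
set_option linter.unusedSectionVars false
set_option linter.unusedVariables false
set_option linter.deprecated false
set_option linter.style.haveILetI false
set_option linter.unusedSectionVars false
set_option linter.unusedVariables false

universe u

namespace Groth.Agent.Helper3.ValCurve

open IsDedekindDomain IntermediateField IntermediateField.algebraAdjoinAdjoin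

section nn
variable (k A : Type u) [Field k] [CommRing A] [IsDomain A] [Algebra k A] [Algebra.FiniteType k A]

/-- Noether normalisation in dimension one. -/
theorem exists_nn (hA : ringKrullDim A = 1) :
    ∃ g : MvPolynomial (Fin 1) k →ₐ[k] A, Function.Injective g ∧ g.IsIntegral := by
  obtain ⟨s, g, hinj, hint⟩ := exists_integral_inj_algHom_of_fg k A
  letI : Algebra (MvPolynomial (Fin s) k) A := g.toRingHom.toAlgebra
  haveI : Algebra.IsIntegral (MvPolynomial (Fin s) k) A := ⟨hint⟩
  have hdim := Groth.Agent.Helper5.IntegralDim.ringKrullDim_eq_of_isIntegral_of_injective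
    (R := MvPolynomial (Fin s) k) (S := A) hinj
  rw [hA, MvPolynomial.ringKrullDim_of_isNoetherianRing, ringKrullDim_eq_zero_of_field] at hdim
  have hs : s = 1 := by
    simp only [Nat.card_eq_fintype_card, Fintype.card_fin, zero_add] at hdim
    exact_mod_cast hdim.symm
  subst hs
  exact ⟨g, hinj, hint⟩

end nn


section main
variable (k A F : Type u) [Field k] [CommRing A] [IsDomain A] [Algebra k A]
  [Algebra.FiniteType k A]
  [Field F] [Algebra A F] [IsFractionRing A F] [Algebra k F] [IsScalarTower k A F]
  (g : MvPolynomial (Fin 1) k →ₐ[k] A)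

theorem map_mem_of_mem {σ : Type*} [SetLike σ F] [SubringClass σ F] (T' : σ)
    (hk : ∀ c : k, algebraMap k F c ∈ T') (hx : algebraMap A F (g (MvPolynomial.X 0)) ∈ T')
    (p : MvPolynomial (Fin 1) k) : algebraMap A F (g p) ∈ T' := by
  induction p using MvPolynomial.induction_on with
  | C c =>
    have h1 : g (MvPolynomial.C c) = algebraMap k A c := by
      rw [← MvPolynomial.algebraMap_eq]; exact g.commutes c
    rw [h1, ← IsScalarTower.algebraMap_apply]
    exact hk c
  | add p q hp hq => rw [map_add, map_add]; exact add_mem hp hq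
  | mul_X p i hp =>
    rw [map_mul, map_mul]
    refine mul_mem hp ?_
    have : i = 0 := Subsingleton.elim _ _
    subst this
    exact hx

theorem isIntegral_map (hint : g.IsIntegral) {T : Type*} [CommRing T] [Algebra T F]
    (φ : MvPolynomial (Fin 1) k →+* T)
    (hφ : (algebraMap T F).comp φ = (algebraMap A F).comp g.toRingHom) (a : A) :
    IsIntegral T (algebraMap A F a) := by
  letI : Algebra (MvPolynomial (Fin 1) k) A := g.toRingHom.toAlgebra
  have ha : IsIntegral (MvPolynomial (Fin 1) k) a := hint a
  exact IsIntegral.map_of_comp_eq φ (algebraMap A F) hφ ha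

theorem mem_valuationSubring (hint : g.IsIntegral) (O : ValuationSubring F)
    (hk : ∀ c : k, algebraMap k F c ∈ O) (hx : algebraMap A F (g (MvPolynomial.X 0)) ∈ O)
    (a : A) : algebraMap A F a ∈ O := by
  have h1 : IsIntegral O (algebraMap A F a) :=
    isIntegral_map k A F g hint
      (RingHom.codRestrict ((algebraMap A F).comp g.toRingHom) O
        (map_mem_of_mem k A F g O hk hx)) (by ext <;> rfl) a
  obtain ⟨z, hz⟩ := IsIntegrallyClosed.algebraMap_eq_of_integral h1
  rw [← hz]; exact z.2

/-- `y = 1/x` -/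
noncomputable abbrev yy : F := (algebraMap A F (g (MvPolynomial.X 0)))⁻¹

theorem x_mem_K₀ : algebraMap A F (g (MvPolynomial.X 0)) ∈ k⟮yy k A F g⟯ := by
  have := inv_mem (mem_adjoin_simple_self k (yy k A F g))
  rwa [inv_inv] at this

theorem isIntegral_K₀ (hint : g.IsIntegral) (a : A) :
    IsIntegral k⟮yy k A F g⟯ (algebraMap A F a) :=
  isIntegral_map k A F g hint
    (RingHom.codRestrict ((algebraMap A F).comp g.toRingHom) k⟮yy k A F g⟯
      (map_mem_of_mem k A F g k⟮yy k A F g⟯ (fun c => IntermediateField.algebraMap_mem _ c) (x_mem_K₀ k A F g)))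
    (by ext <;> rfl) a

theorem finiteDimensional_K₀ (hint : g.IsIntegral) : FiniteDimensional k⟮yy k A F g⟯ F := by
  obtain ⟨G, hG⟩ := (Algebra.FiniteType.out : (⊤ : Subalgebra k A).FG)
  let GF : Set F := (algebraMap A F) '' (G : Set A)
  haveI : Finite GF := (G.finite_toSet.image _).to_subtype
  have hfd : FiniteDimensional k⟮yy k A F g⟯ (adjoin k⟮yy k A F g⟯ GF) :=
    finiteDimensional_adjoin (by
      rintro _ ⟨a, -, rfl⟩
      exact isIntegral_K₀ k A F g hint a)
  have htop : adjoin k⟮yy k A F g⟯ GF = ⊤ := by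
    rw [eq_top_iff]
    intro z _
    have hA : ∀ a : A, algebraMap A F a ∈ adjoin k⟮yy k A F g⟯ GF := by
      intro a
      have : a ∈ Algebra.adjoin k (G : Set A) := by rw [hG]; trivial
      induction this using Algebra.adjoin_induction with
      | mem a ha => exact subset_adjoin _ _ ⟨a, ha, rfl⟩
      | algebraMap c =>
        rw [← IsScalarTower.algebraMap_apply,
          IsScalarTower.algebraMap_apply k k⟮yy k A F g⟯ F]
        exact IntermediateField.algebraMap_mem _ _
      | add a b _ _ ha hb => rw [map_add]; exact add_mem ha hb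
      | mul a b _ _ ha hb => rw [map_mul]; exact mul_mem ha hb
    obtain ⟨a, b, hb, rfl⟩ := IsFractionRing.div_surjective (A := A) z
    exact div_mem (hA a) (hA b)
  rw [htop] at hfd
  exact Module.Finite.equiv (IntermediateField.topEquiv (F := k⟮yy k A F g⟯) (E := F)).toLinearEquiv

end main


section ded
variable (k F : Type u) [Field k] [Field F] [Algebra k F] (y : F)

instance isNoetherianRing_adjoin : IsNoetherianRing (Algebra.adjoin k ({y} : Set F)) :=
  haveI : Algebra.FiniteType k (Algebra.adjoin k ({y} : Set F)) :=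
    (Subalgebra.fg_iff_finiteType _).1 ⟨{y}, by simp⟩
  Algebra.FiniteType.isNoetherianRing k _

theorem krullDimLE_one_adjoin : Ring.KrullDimLE 1 (Algebra.adjoin k ({y} : Set F)) := by
  rw [Ring.krullDimLE_iff]
  let y' : Algebra.adjoin k ({y} : Set F) := ⟨y, Algebra.self_mem_adjoin_singleton k y⟩
  have hsurj : Function.Surjective (Polynomial.aeval (R := k) y').toRingHom := by
    intro r
    have hr : (r : F) ∈ (Polynomial.aeval (R := k) y).range := by
      rw [← Algebra.adjoin_singleton_eq_range_aeval]; exact r.2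
    obtain ⟨p, hp⟩ := hr
    refine ⟨p, Subtype.ext ?_⟩
    show ((Polynomial.aeval y' p : Algebra.adjoin k {y}) : F) = r
    rw [Polynomial.aeval_subalgebra_coe]; exact hp
  refine le_trans (ringKrullDim_le_of_surjective _ hsurj) ?_
  rw [Polynomial.ringKrullDim_of_isNoetherianRing, ringKrullDim_eq_zero_of_field]
  simp

variable [FiniteDimensional k⟮y⟯ F]

theorem isDedekindDomain_ic :
    IsDedekindDomain (integralClosure (Algebra.adjoin k ({y} : Set F)) F) := by
  haveI := krullDimLE_one_adjoin k F y
  have hinj : Function.Injective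
      (algebraMap (integralClosure (Algebra.adjoin k ({y} : Set F)) F) F) :=
    Subtype.val_injective
  have h1 : IsNoetherianRing (integralClosure (Algebra.adjoin k ({y} : Set F)) F) :=
    Groth.Agent.Helper5.KA.isNoetherianRing_of_between (Algebra.adjoin k ({y} : Set F)) k⟮y⟯ F
      _ hinj
  have h2 : IsIntegrallyClosed (integralClosure (Algebra.adjoin k ({y} : Set F)) F) :=
    integralClosure.isIntegrallyClosedOfFiniteExtension k⟮y⟯
  have h3 : Ring.DimensionLEOne (integralClosure (Algebra.adjoin k ({y} : Set F)) F) :=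
    ⟨fun {P} hP hPp => Groth.Agent.Helper5.KA.isMaximal_of_ne_bot
      (Algebra.adjoin k ({y} : Set F)) k⟮y⟯ F _ hinj P hP⟩
  exact { }

theorem isFractionRing_ic :
    IsFractionRing (integralClosure (Algebra.adjoin k ({y} : Set F)) F) F :=
  integralClosure.isFractionRing_of_finite_extension k⟮y⟯ F

end ded


section fin
variable (k F : Type u) [Field k] [Field F] [Algebra k F] (y : F) [FiniteDimensional k⟮y⟯ F]

theorem finite_valuationSubrings (hy0 : y ≠ 0) :
    {O : ValuationSubring F | (∀ c : k, algebraMap k F c ∈ O) ∧ y ∈ O ∧ y⁻¹ ∉ O}.Finite := by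
  haveI hD := isDedekindDomain_ic k F y
  haveI hFr := isFractionRing_ic k F y
  let y₀ : Algebra.adjoin k ({y} : Set F) := ⟨y, Algebra.self_mem_adjoin_singleton k y⟩
  let yB : integralClosure (Algebra.adjoin k ({y} : Set F)) F :=
    ⟨y, (isIntegral_algebraMap (x := y₀) : IsIntegral _ (algebraMap _ F y₀))⟩
  have hyB0 : yB ≠ 0 := fun h => hy0 (congrArg Subtype.val h)
  have hfin := Ideal.finite_factors (I := Ideal.span {yB})
    (by rw [Ne, Ideal.zero_eq_bot, Ideal.span_singleton_eq_bot]; exact hyB0)
  refine (hfin.image (fun v => (v.valuation F).valuationSubring)).subset ?_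
  rintro O ⟨hk, hyO, hxO⟩
  have hR₀' : ∀ r : F, r ∈ Algebra.adjoin k ({y} : Set F) → r ∈ O := by
    intro r hr
    induction hr using Algebra.adjoin_induction with
    | mem r hr => rw [Set.mem_singleton_iff.1 hr]; exact hyO
    | algebraMap c => exact hk c
    | add a b _ _ ha hb => exact O.add_mem _ _ ha hb
    | mul a b _ _ ha hb => exact O.mul_mem _ _ ha hb
  have hR₀ : ∀ r : Algebra.adjoin k ({y} : Set F), (r : F) ∈ O := fun r => hR₀' r.1 r.2
  have hB : ∀ b : integralClosure (Algebra.adjoin k ({y} : Set F)) F, (b : F) ∈ O := by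
    intro b
    have hb : IsIntegral (Algebra.adjoin k ({y} : Set F)) (b : F) := b.2
    have h1 : IsIntegral O (b : F) :=
      IsIntegral.map_of_comp_eq
        (RingHom.codRestrict (algebraMap (Algebra.adjoin k ({y} : Set F)) F) O hR₀)
        (RingHom.id F) (by ext; rfl) hb
    obtain ⟨z, hz⟩ := IsIntegrallyClosed.algebraMap_eq_of_integral h1
    rw [← hz]; exact z.2
  let ιO : integralClosure (Algebra.adjoin k ({y} : Set F)) F →+* O :=
    RingHom.codRestrict (algebraMap (integralClosure (Algebra.adjoin k ({y} : Set F)) F) F) O hB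
  let P : Ideal (integralClosure (Algebra.adjoin k ({y} : Set F)) F) :=
    (IsLocalRing.maximalIdeal O).comap ιO
  haveI hP : P.IsPrime := Ideal.comap_isPrime _ _
  have hinvmem : ∀ u : Oˣ, ((u : O) : F)⁻¹ ∈ O := by
    intro u
    have h2 : ((u : O) : F) * ((↑u⁻¹ : O) : F) = 1 := by
      exact_mod_cast congrArg Subtype.val u.mul_inv
    rw [← eq_inv_of_mul_eq_one_right h2]
    exact (↑u⁻¹ : O).2
  have hyP : yB ∈ P := by
    show ιO yB ∈ IsLocalRing.maximalIdeal O
    rw [IsLocalRing.mem_maximalIdeal, mem_nonunits_iff]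
    rintro ⟨u, hu⟩
    apply hxO
    have h1 : ((u : O) : F) = y := congrArg Subtype.val hu
    rw [← h1]
    exact hinvmem u
  have hPbot : P ≠ ⊥ := by
    intro h
    rw [h, Ideal.mem_bot] at hyP
    exact hyB0 hyP
  let v : HeightOneSpectrum (integralClosure (Algebra.adjoin k ({y} : Set F)) F) :=
    ⟨P, hP, hPbot⟩
  refine ⟨v, ?_, ?_⟩
  · show v.asIdeal ∣ Ideal.span {yB}
    rw [Ideal.dvd_iff_le, Ideal.span_singleton_le_iff_mem]
    exact hyP
  · show (v.valuation F).valuationSubring = O
    rw [← HeightOneSpectrum.valuationSubringAtPrime_eq_valuationSubring]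
    apply ValuationSubring.eq_of_le_of_ne_top
    · intro z hz
      rw [HeightOneSpectrum.valuationSubringAtPrime_eq_valuationSubring] at hz
      have hz' : v.valuation F z ≤ 1 := hz
      obtain ⟨n, d, hnd⟩ := v.exists_primeCompl_mul_eq_of_integer z hz'
      have hd : IsUnit (ιO d) := by
        have : ιO d ∉ IsLocalRing.maximalIdeal O := d.2
        exact IsLocalRing.notMem_maximalIdeal.1 this
      obtain ⟨u, hu⟩ := hd
      have hud : ((u : O) : F) = algebraMap (integralClosure (Algebra.adjoin k ({y} : Set F)) F) F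
          (d : integralClosure (Algebra.adjoin k ({y} : Set F)) F) :=
        congrArg Subtype.val hu
      have hd0 : ((u : O) : F) ≠ 0 := by
        intro h0
        have : (u : O) = 0 := Subtype.ext h0
        exact u.ne_zero this
      have hzeq : z = (ιO n : F) * ((u : O) : F)⁻¹ := by
        rw [eq_mul_inv_iff_mul_eq₀ hd0, hud]
        exact hnd
      rw [hzeq]
      exact O.mul_mem _ _ (ιO n).2 (hinvmem u)
    · intro htop
      apply hxO
      rw [htop]
      trivial

end fin


theorem main (k A F : Type u) [Field k] [CommRing A] [IsDomain A] [Algebra k A]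
    [Algebra.FiniteType k A] (hA : ringKrullDim A = 1)
    [Field F] [Algebra A F] [IsFractionRing A F] [Algebra k F] [IsScalarTower k A F] :
    {O : ValuationSubring F | (algebraMap k F).range ≤ O.toSubring ∧
        ¬ (algebraMap A F).range ≤ O.toSubring}.Finite := by
  obtain ⟨g, hinj, hint⟩ := exists_nn k A hA
  have hx0 : algebraMap A F (g (MvPolynomial.X 0)) ≠ 0 := by
    intro h
    have h1 : g (MvPolynomial.X 0) = 0 :=
      IsFractionRing.injective A F (by rw [h, map_zero])
    have h2 : (MvPolynomial.X 0 : MvPolynomial (Fin 1) k) = 0 := hinj (by rw [h1, map_zero])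
    exact MvPolynomial.X_ne_zero 0 h2
  haveI : FiniteDimensional k⟮(algebraMap A F (g (MvPolynomial.X 0)))⁻¹⟯ F :=
    finiteDimensional_K₀ k A F g hint
  refine (finite_valuationSubrings k F (algebraMap A F (g (MvPolynomial.X 0)))⁻¹
    (inv_ne_zero hx0)).subset ?_
  rintro O ⟨hk, hA'⟩
  have hk' : ∀ c : k, algebraMap k F c ∈ O := fun c => hk ⟨c, rfl⟩
  have hxO : algebraMap A F (g (MvPolynomial.X 0)) ∉ O := by
    intro hxO
    apply hA'
    rintro _ ⟨a, rfl⟩
    exact mem_valuationSubring k A F g hint O hk' hxO a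
  refine ⟨hk', ?_, ?_⟩
  · exact (O.mem_or_inv_mem _).resolve_left hxO
  · rw [inv_inv]; exact hxO

end Groth.Agent.Helper3.ValCurve
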