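import Mathlib
import Groth.Prelude
import Groth.Agent.Helper4.GeomIrrGen
import Groth.Agent.Helper4.GrpConnA
import Groth.Agent.Helper4.SmReg
import Groth.Agent.Helper3.GeomRedSm
import Groth.Agent.Helper4.GeomConnSch
import Groth.Agent.Lead.RegLocal

set_option autoImplicit false
set_option linter.style.haveILetI false
set_option linter.unusedSectionVars false
set_option linter.unusedVariables false
set_option linter.deprecated false
set_option linter.style.haveILetI false
set_option linter.unusedSectionVars false
set_option linter.unusedVariables false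

universe u

open CategoryTheory CategoryTheory.Limits AlgebraicGeometry TopologicalSpace Opposite

namespace Groth.Agent.Helper3.VarSmPt

/-- a morphism `Spec κ ⟶ Spec k` induced by a bijective ring map is geometrically connected -/
theorem geometricallyConnected_of_bijective (k : Type u) [Field k] {Y : Scheme.{u}}
    (h : Y ⟶ Spec (CommRingCat.of k)) [IsIso h] : GeometricallyConnected h := by
  refine ⟨fun K _ y Z fst snd hp => ?_⟩
  haveI : IsIso snd := hp.isIso_snd_of_isIso
  haveI : ConnectedSpace ↥(Spec (CommRingCat.of K)) := by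
    haveI : IrreducibleSpace (PrimeSpectrum K) := inferInstance
    exact inferInstanceAs (ConnectedSpace (PrimeSpectrum K))
  exact (asIso snd).hom.homeomorph.connectedSpace_iff.mpr inferInstance

theorem main (k : Type u) [Field k] (X : Scheme.{u}) [X.Over (Spec (CommRingCat.of k))]
    [IsIntegral X]
    [LocallyOfFiniteType (X ↘ (Spec (CommRingCat.of k)))]
    [QuasiCompact (X ↘ (Spec (CommRingCat.of k)))]
    (x : ↥X) (hx : Function.Surjective (Curv2.resMap k X x))
    (hsm : x ∈ (X ↘ (Spec (CommRingCat.of k))).smoothLocus) :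
    GeometricallyIntegral (X ↘ (Spec (CommRingCat.of k))) := by
  set f := X ↘ (Spec (CommRingCat.of k)) with hf
  haveI : LocallyOfFinitePresentation f := inferInstance
  set U := f.smoothLocus with hU
  have hUd : Dense (U : Set X) := U.isOpen.dense ⟨x, hsm⟩
  haveI hUsm : Smooth (U.ι ≫ f) := by
    rw [← Scheme.Hom.smoothLocus_eq_top_iff, ← Scheme.Hom.preimage_smoothLocus_eq]
    exact f.smoothLocus.ι_preimage_self
  haveI : GeometricallyReduced f :=
    (Groth.Agent.Helper3.GeomRedSm.main k X).mpr ⟨U, hUd, hUsm⟩
  -- noetherianity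
  haveI : IsLocallyNoetherian X := LocallyOfFiniteType.isLocallyNoetherian f
  haveI : CompactSpace X := (HasAffineProperty.iff_of_isAffine (P := @QuasiCompact)).mp
    (inferInstance : QuasiCompact f)
  haveI : IsNoetherian X := {}
  haveI : NoetherianSpace X := inferInstance
  haveI : NoetherianSpace ↥(U : Scheme.{u}) :=
    U.isOpenEmbedding.isInducing.noetherianSpace
  haveI : CompactSpace ↥(U : Scheme.{u}) := inferInstance
  haveI : QuasiCompact (U.ι ≫ f) :=
    (HasAffineProperty.iff_of_isAffine (P := @QuasiCompact)).mpr inferInstance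
  -- `U` is connected
  haveI : Nonempty ↥(U : Scheme.{u}) := ⟨⟨x, hsm⟩⟩
  haveI : Nonempty ↑((Opens.toTopCat ↑X.toPresheafedSpace).obj U) := ⟨⟨x, hsm⟩⟩
  haveI : IrreducibleSpace ↥(U : Scheme.{u}) := U.isOpenEmbedding.irreducibleSpace
  haveI : ConnectedSpace ↥(U : Scheme.{u}) := inferInstance
  -- the rational point
  have hr : Set.range (X.fromSpecResidueField x) ⊆ Set.range U.ι := by
    rw [Scheme.range_fromSpecResidueField, Scheme.Opens.range_ι]
    exact Set.singleton_subset_iff.mpr hsm
  let s : Spec (X.residueField x) ⟶ U := IsOpenImmersion.lift U.ι (X.fromSpecResidueField x) hr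
  have hs : s ≫ U.ι = X.fromSpecResidueField x := IsOpenImmersion.lift_fac _ _ _
  have hbij : Function.Bijective (Curv2.resMap k X x) := ⟨(Curv2.resMap k X x).injective, hx⟩
  haveI : IsIso (CommRingCat.ofHom (Curv2.resMap k X x)) := by
    rw [ConcreteCategory.isIso_iff_bijective]
    exact hbij
  haveI : IsIso (s ≫ (U.ι ≫ f)) := by
    rw [← Category.assoc, hs, ← Groth.Agent.Helper4.GeomIrrGen.specMap_resMap]
    infer_instance
  haveI : GeometricallyConnected (s ≫ (U.ι ≫ f)) := geometricallyConnected_of_bijective k _
  haveI : Nonempty ↥(Spec (X.residueField x)) :=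
    inferInstanceAs (Nonempty (PrimeSpectrum (X.residueField x)))
  haveI : GeometricallyConnected (U.ι ≫ f) :=
    Groth.Agent.Helper4.GeomConnSch.geometricallyConnected_of_source s (U.ι ≫ f)
  haveI : GeometricallyIrreducible f := by
    rw [Groth.Agent.Helper4.GeomIrrSch.geometricallyIrreducible_iff]
    intro K _ _
    set g := Spec.map (CommRingCat.ofHom (algebraMap k K)) with hg
    -- `W`
    haveI : ConnectedSpace ↥(pullback (U.ι ≫ f) g) :=
      (Groth.Agent.Helper4.GeomConnSch.geometricallyConnected_iff (U.ι ≫ f)).mp inferInstance K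
    haveI : Smooth (pullback.snd (U.ι ≫ f) g) := inferInstance
    obtain ⟨hWn, hWreg⟩ :=
      Groth.Agent.Helper4.SmReg.regular_of_smooth_field K (pullback.snd (U.ι ≫ f) g)
    haveI : QuasiCompact (pullback.snd (U.ι ≫ f) g) := inferInstance
    haveI : CompactSpace ↥(pullback (U.ι ≫ f) g) :=
      (HasAffineProperty.iff_of_isAffine (P := @QuasiCompact)).mp
        (inferInstance : QuasiCompact (pullback.snd (U.ι ≫ f) g))
    haveI : IsNoetherian (pullback (U.ι ≫ f) g) := {}
    haveI : NoetherianSpace ↥(pullback (U.ι ≫ f) g) := inferInstance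
    haveI : IrreducibleSpace ↥(pullback (U.ι ≫ f) g) :=
      Groth.Agent.Helper4.GrpConnA.irreducibleSpace_of_domain_stalks fun w => by
        haveI := hWreg w
        exact Groth.Agent.Lead.RegLocal.isDomain_of_isRegularLocalRing _
    -- the open immersion into the base change
    let m := pullback.map (U.ι ≫ f) g f g U.ι (𝟙 _) (𝟙 _) (by simp) (by simp)
    have hrm := Scheme.Pullback.range_map (f := U.ι ≫ f) (g := g) f g U.ι (𝟙 _) (𝟙 _)
      (by simp) (by simp)
    have hopen : IsOpenMap (pullback.fst f g) := (pullback.fst f g).isOpenMap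
    have hd : Dense (Set.range m) := by
      show Dense (Set.range (pullback.map (U.ι ≫ f) g f g U.ι (𝟙 _) (𝟙 _) (by simp) (by simp)))
      rw [hrm]
      have h1 : (pullback.snd f g) ⁻¹' Set.range (𝟙 (Spec (CommRingCat.of K))) = Set.univ := by
        ext z; simp
      rw [h1, Set.inter_univ, Scheme.Opens.range_ι]
      exact hUd.preimage hopen
    have hirr : IsIrreducible (Set.range m) := by
      rw [← Set.image_univ]
      exact (irreducibleSpace_def _).mp inferInstance |>.image _ m.continuous.continuousOn
    rw [irreducibleSpace_def, Set.top_eq_univ, ← hd.closure_eq]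
    exact hirr.closure
  exact GeometricallyIntegral.of_geometricallyReduced_of_geometricallyIrreducible f

end Groth.Agent.Helper3.VarSmPt
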