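import Groth.Agent.Helper3.QHomeo2
set_option backward.isDefEq.respectTransparency.types false
set_option maxHeartbeats 4000000
set_option synthInstance.maxHeartbeats 400000

open Set TopologicalSpace Topology
open scoped Set.Notation

namespace Groth.Agent.Helper3.VeryDense

open Groth.Agent.Helper3.QHomeo

universe u

variable {X : Type u} [TopologicalSpace X]

/-- the form of local quasi-constructibility used in S4903. -/
def LQCa (Z : Set X) : Prop :=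
  ∀ x : X, ∃ U : Set X, IsOpen U ∧ x ∈ U ∧ ∃ T : Set (Set X), T.Finite ∧
    (∀ t ∈ T, IsLocallyClosed t) ∧ U ∩ Z = ⋃₀ T

theorem lqca_iff (Z : Set X) : LQCa Z ↔ LQC' Z := by
  constructor
  · intro h x
    obtain ⟨U, hU, hxU, T, hT, hlc, hUZ⟩ := h x
    exact ⟨U, hU, hxU, T, hT, hlc, by rw [inter_comm]; exact hUZ⟩
  · intro h x
    obtain ⟨U, hU, hxU, T, hT, hlc, hUZ⟩ := h x
    exact ⟨U, hU, hxU, T, hT, hlc, by rw [inter_comm]; exact hUZ⟩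

theorem LQCa.of_qc {Z : Set X} (h : QC Z) : LQCa Z := by
  intro x
  obtain ⟨T, hT, hlc, hZ⟩ := h
  exact ⟨univ, isOpen_univ, mem_univ x, T, hT, hlc, by rw [univ_inter]; exact hZ⟩

theorem LQCa.open_inter {Z O : Set X} (h : LQCa Z) (hO : IsOpen O) : LQCa (O ∩ Z) := by
  intro x
  obtain ⟨U, hU, hxU, T, hT, hlc, hUZ⟩ := h x
  refine ⟨U, hU, hxU, (fun t => O ∩ t) '' T, hT.image _, ?_, ?_⟩
  · rintro _ ⟨t, ht, rfl⟩
    exact hO.isLocallyClosed.inter (hlc t ht)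
  · rw [sUnion_image, ← inter_iUnion₂, ← sUnion_eq_biUnion, ← hUZ]
    ext z; simp only [mem_inter_iff]; tauto

theorem tfae (X₀ : Set X) :
    [∀ Z : Set X, IsLocallyClosed Z → Z.Nonempty → (Z ∩ X₀).Nonempty,
      ∀ Z : Set X, LQCa Z → Z.Nonempty → (Z ∩ X₀).Nonempty,
      ∀ Z : Set X, LQCa Z → Z ⊆ closure (Z ∩ X₀),
      ∀ Z Z' : Set X, QC Z → QC Z' → Z ∩ X₀ = Z' ∩ X₀ → Z = Z',
      ∀ Z Z' : Set X, LQCa Z → LQCa Z' → Z ∩ X₀ = Z' ∩ X₀ → Z = Z'].TFAE := by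
  tfae_have 1 → 2 := by
    intro h Z hZ ⟨x, hx⟩
    obtain ⟨U, hU, hxU, T, hT, hlc, hUZ⟩ := hZ x
    have hx' : x ∈ ⋃₀ T := hUZ ▸ (⟨hxU, hx⟩ : x ∈ U ∩ Z)
    obtain ⟨t, ht, hxt⟩ := hx'
    obtain ⟨p, hpt, hp0⟩ := h t (hlc t ht) ⟨x, hxt⟩
    have hpUZ : p ∈ U ∩ Z := hUZ ▸ (⟨t, ht, hpt⟩ : p ∈ ⋃₀ T)
    exact ⟨p, hpUZ.2, hp0⟩
  tfae_have 2 → 3 := by
    intro h Z hZ x hx
    rw [mem_closure_iff]
    intro O hO hxO
    obtain ⟨p, hp, hp0⟩ := h (O ∩ Z) (hZ.open_inter hO) ⟨x, hxO, hx⟩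
    exact ⟨p, hp.1, hp.2, hp0⟩
  tfae_have 3 → 1 := by
    intro h Z hZ hne
    have := h Z (LQCa.of_qc (QC.of_isLocallyClosed hZ))
    by_contra hcon
    rw [not_nonempty_iff_eq_empty] at hcon
    rw [hcon, closure_empty] at this
    obtain ⟨x, hx⟩ := hne
    exact this hx
  tfae_have 1 → 5 := by
    intro h
    have key : ∀ Z Z' : Set X, LQCa Z → LQCa Z' → Z ∩ X₀ = Z' ∩ X₀ → Z ⊆ Z' := by
      intro Z Z' hZ hZ' htr x hx
      by_contra hx'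
      obtain ⟨U, hU, hxU, T, hT, hlc, hUZ⟩ := hZ x
      obtain ⟨U', hU', hxU', T', hT', hlc', hUZ'⟩ := hZ' x
      have hxT : x ∈ ⋃₀ T := hUZ ▸ (⟨hxU, hx⟩ : x ∈ U ∩ Z)
      obtain ⟨t, ht, hxt⟩ := hxT
      have hqc' : QC (U' ∩ Z') := ⟨T', hT', hlc', hUZ'⟩
      have hxn : x ∉ U' ∩ Z' := fun hh => hx' hh.2
      obtain ⟨N, hN, hxN, hNd⟩ := exists_locallyClosed_disjoint hqc' hxn
      have hL : IsLocallyClosed (t ∩ N ∩ U') := ((hlc t ht).inter hN).inter hU'.isLocallyClosed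
      obtain ⟨p, hp, hp0⟩ := h _ hL ⟨x, ⟨hxt, hxN⟩, hxU'⟩
      have hpZ : p ∈ Z := (hUZ ▸ (⟨t, ht, hp.1.1⟩ : p ∈ ⋃₀ T) : p ∈ U ∩ Z).2
      have hpZ' : p ∈ Z' := (htr ▸ (⟨hpZ, hp0⟩ : p ∈ Z ∩ X₀) : p ∈ Z' ∩ X₀).1
      have : p ∈ N ∩ (U' ∩ Z') := ⟨hp.1.2, hp.2, hpZ'⟩
      rw [hNd] at this
      exact this
    intro Z Z' hZ hZ' htr
    exact Subset.antisymm (key Z Z' hZ hZ' htr) (key Z' Z hZ' hZ htr.symm)
  tfae_have 5 → 4 := by
    intro h Z Z' hZ hZ' htr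
    exact h Z Z' (LQCa.of_qc hZ) (LQCa.of_qc hZ') htr
  tfae_have 4 → 1 := by
    intro h Z hZ hne
    by_contra hcon
    rw [not_nonempty_iff_eq_empty] at hcon
    have := h Z ∅ (QC.of_isLocallyClosed hZ)
      (QC.of_isLocallyClosed isOpen_empty.isLocallyClosed) (by rw [hcon, empty_inter])
    rw [this] at hne
    exact not_nonempty_empty hne
  tfae_finish

/-- under very density the inclusion is a quasi-homeomorphism. -/
theorem val_bijective (X₀ : Set X)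
    (h : ∀ Z : Set X, IsLocallyClosed Z → Z.Nonempty → (Z ∩ X₀).Nonempty) :
    Function.Bijective (fun U : Opens X =>
      (⟨(Subtype.val : X₀ → X) ⁻¹' (U : Set X), U.isOpen.preimage continuous_subtype_val⟩ :
        Opens X₀)) := by
  constructor
  · intro U₁ U₂ hU
    have hU' : (Subtype.val : X₀ → X) ⁻¹' (U₁ : Set X) = Subtype.val ⁻¹' (U₂ : Set X) :=
      congrArg (fun W : Opens X₀ => (W : Set X₀)) hU
    have key : ∀ A B : Opens X, (Subtype.val : X₀ → X) ⁻¹' (A : Set X) = Subtype.val ⁻¹' (B : Set X) →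
        (A : Set X) ⊆ B := by
      intro A B hAB x hxA
      by_contra hxB
      have hL : IsLocallyClosed ((A : Set X) ∩ (B : Set X)ᶜ) :=
        A.isOpen.isLocallyClosed.inter B.isOpen.isClosed_compl.isLocallyClosed
      obtain ⟨p, hp, hp0⟩ := h _ hL ⟨x, hxA, hxB⟩
      have : (⟨p, hp0⟩ : X₀) ∈ (Subtype.val : X₀ → X) ⁻¹' (A : Set X) := hp.1
      rw [hAB] at this
      exact hp.2 this
    exact Opens.ext (Subset.antisymm (key U₁ U₂ hU') (key U₂ U₁ hU'.symm))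
  · intro U'
    obtain ⟨U, hU, hUU'⟩ := isOpen_induced_iff.1 U'.isOpen
    exact ⟨⟨U, hU⟩, Opens.ext hUU'⟩

theorem extend (X₀ : Set X)
    (h : ∀ Z : Set X, IsLocallyClosed Z → Z.Nonempty → (Z ∩ X₀).Nonempty)
    (Z₀ : Set X₀) (hZ₀ : LQCa Z₀) : ∃ Z : Set X, LQCa Z ∧ Subtype.val ⁻¹' Z = Z₀ := by
  obtain ⟨Z, hZ, hZZ₀⟩ := lqc'_surj (Subtype.val : X₀ → X) continuous_subtype_val
    (val_bijective X₀ h) ((lqca_iff Z₀).1 hZ₀)
  exact ⟨Z, (lqca_iff Z).2 hZ, hZZ₀⟩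

end Groth.Agent.Helper3.VeryDense
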