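import Mathlib
import Groth.Agent.Helper4.AssPush
import Groth.Agent.Helper4.WeakAss

set_option autoImplicit false
set_option linter.style.haveILetI false
set_option linter.unusedSectionVars false
set_option linter.unusedVariables false
set_option linter.deprecated false
set_option linter.style.haveILetI false
set_option linter.unusedSectionVars false
set_option linter.unusedVariables false

universe u
open CategoryTheory CategoryTheory.Limits AlgebraicGeometry TopologicalSpace Opposite Submodule

namespace Groth.Agent.Helper3.WAssFin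
open Groth.Agent.Helper4

/-- a prime minimal over the annihilator of `m`: every element of it has a power killed, together
with `m`, by an element outside the prime. -/
theorem exists_mul_pow_smul_eq_zero {B : Type u} [CommRing B] {M : Type u} [AddCommGroup M]
    [Module B M] (m : M) (q : Ideal B)
    (hq : q ∈ (colon (⊥ : Submodule B M) {m} : Ideal B).minimalPrimes) (x : B) (hx : x ∈ q) :
    ∃ y ∉ q, ∃ n : ℕ, (y * x ^ n) • m = 0 := by
  haveI : q.IsPrime := hq.1.1
  have hann : WeakAss.ann B m = (colon (⊥ : Submodule B M) {m} : Ideal B) := by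
    ext r
    rw [Submodule.mem_annihilator_span_singleton, mem_colon_singleton, mem_bot]
  have h1 : q ∈ (WeakAss.ann B m).minimalPrimes := by rw [hann]; exact hq
  obtain ⟨k, hk⟩ := WeakAss.le_radical_locAnn h1 hx
  obtain ⟨s, hs, hsr⟩ := WeakAss.mem_locAnn.mp hk
  exact ⟨s, hs, k, hsr⟩

/-- Stacks 05C5 (one direction): for a finite ring map, the contraction of a weakly associated
prime is weakly associated. -/
theorem key {A B : Type u} [CommRing A] [CommRing B] (φ : A →+* B) (hφ : φ.Finite)
    {M : Type u} [AddCommGroup M] [Module B M] (m : M) (q : Ideal B)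
    (hq : q ∈ (colon (⊥ : Submodule B M) {m} : Ideal B).minimalPrimes) :
    ∃ m' : M, q.comap φ ∈
      (Ideal.comap φ (colon (⊥ : Submodule B M) {m'} : Ideal B)).minimalPrimes := by
  classical
  letI := φ.toAlgebra
  haveI : Module.Finite A B := hφ
  haveI : Algebra.IsIntegral A B := inferInstance
  haveI hqp : q.IsPrime := hq.1.1
  have hφalg : algebraMap A B = φ := rfl
  set p : Ideal A := q.comap φ with hp
  haveI : p.IsPrime := Ideal.comap_isPrime φ q
  have hfin : (p.primesOver B).Finite := Algebra.QuasiFinite.finite_primesOver p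
  have hloc := exists_mul_pow_smul_eq_zero m q hq
  -- prime avoidance
  obtain ⟨x, hxq, hx⟩ : ∃ x ∈ q, ∀ q' ∈ p.primesOver B, q' ≠ q → x ∉ q' := by
    by_contra hcon
    push Not at hcon
    have hsub : (q : Set B) ⊆
        ⋃ q' ∈ ((hfin.toFinset.erase q : Finset (Ideal B)) : Set (Ideal B)), ((id q' : Ideal B) : Set B) := by
      intro x hx
      obtain ⟨q', hq', hne, hxq'⟩ := hcon x hx
      simp only [Set.mem_iUnion]
      refine ⟨q', ?_, hxq'⟩
      simp only [Finset.coe_erase, Set.Finite.coe_toFinset, Set.mem_diff, Set.mem_singleton_iff]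
      exact ⟨hq', hne⟩
    rw [Ideal.subset_union_prime (f := id) q q] at hsub
    · obtain ⟨q', hq'mem, hle⟩ := hsub
      rw [Finset.mem_erase, Set.Finite.mem_toFinset] at hq'mem
      obtain ⟨hne, hq'⟩ := hq'mem
      have hle' : q ≤ q' := hle
      rcases lt_or_eq_of_le hle' with hlt | heq
      · have := Ideal.IsIntegral.comap_lt_comap (R := A) hlt
        rw [hφalg] at this
        have h2 : q'.comap φ = p := by
          have := hq'.2.over
          rw [Ideal.under_def, hφalg] at this
          exact this.symm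
        rw [h2] at this
        exact lt_irrefl _ this
      · exact hne heq.symm
    · intro i hi _ _
      rw [Finset.mem_erase, Set.Finite.mem_toFinset] at hi
      exact hi.2.1
  obtain ⟨y, hyq, t, hyt⟩ := hloc x hxq
  refine ⟨y • m, ?_⟩
  have hmem : ∀ a : A, a ∈ Ideal.comap φ (colon (⊥ : Submodule B M) {y • m} : Ideal B) ↔
      (φ a * y) • m = 0 := by
    intro a
    rw [Ideal.mem_comap, mem_colon_singleton, mem_bot, smul_smul]
  have hJq : ∀ b : B, b • m = 0 → b ∈ q := by
    intro b hb
    apply hq.1.2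
    rw [mem_colon_singleton, mem_bot]
    exact hb
  refine ⟨⟨inferInstance, ?_⟩, ?_⟩
  · intro a ha
    rw [hmem] at ha
    have := hJq _ ha
    rcases hqp.mem_or_mem this with h | h
    · exact h
    · exact absurd h hyq
  · rintro p' ⟨hp'prime, hp'le⟩ hp'p
    intro f hf
    -- f ∈ p, want f ∈ p'
    obtain ⟨y', hy'q, n, hy'⟩ := hloc (φ f) hf
    -- K = annihilator of φ f ^ n * y • m
    set K : Ideal B := (colon (⊥ : Submodule B M) {(φ f ^ n * y) • m} : Ideal B) with hK
    have hy'K : y' ∈ K := by
      rw [hK, mem_colon_singleton, mem_bot, smul_smul]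
      have : y' * (φ f ^ n * y) = y * (y' * φ f ^ n) := by ring
      rw [this, mul_smul, hy', smul_zero]
    have hxK : x ^ t ∈ K := by
      rw [hK, mem_colon_singleton, mem_bot, smul_smul]
      have : x ^ t * (φ f ^ n * y) = φ f ^ n * (y * x ^ t) := by ring
      rw [this, mul_smul, hyt, smul_zero]
    -- K.comap φ is not contained in p
    have hKp : ¬ K.comap φ ≤ p := by
      intro hle
      obtain ⟨Q, hQK, hQprime, hQp⟩ := Ideal.exists_ideal_over_prime_of_isIntegral p K
        (by rw [hφalg]; exact hle)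
      rw [hφalg] at hQp
      have hQmem : Q ∈ p.primesOver B := ⟨hQprime, ⟨by rw [Ideal.under_def, hφalg, hQp]⟩⟩
      by_cases hQq : Q = q
      · exact hy'q (hQq ▸ hQK hy'K)
      · exact hx Q hQmem hQq (hQprime.mem_of_pow_mem t (hQK hxK))
    obtain ⟨s, hsK, hsp⟩ := SetLike.not_le_iff_exists.mp hKp
    -- s * f^n kills y • m
    have h1 : s * f ^ n ∈ Ideal.comap φ (colon (⊥ : Submodule B M) {y • m} : Ideal B) := by
      rw [hmem]
      rw [Ideal.mem_comap, hK, mem_colon_singleton, mem_bot, smul_smul] at hsK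
      rw [map_mul, map_pow]
      have : φ s * φ f ^ n * y = φ s * (φ f ^ n * y) := by ring
      rw [this]
      exact hsK
    have h2 := hp'le h1
    rcases hp'prime.mem_or_mem h2 with h | h
    · exact absurd (hp'p h) hsp
    · exact hp'prime.mem_of_pow_mem n h


open Groth.Agent.Helper4.QcqsMod Groth.Agent.Helper4.StalkDict in
/-- weakly associated points push forward along finite morphisms. -/
theorem isAssPoint_pushforward_of_isFinite {X S : Scheme.{u}} (f : X ⟶ S) [IsFinite f]
    (F : X.Modules) [F.IsQuasicoherent] (x : X) (hx : Curv2.IsAssPoint F x) :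
    Curv2.IsAssPoint ((Scheme.Modules.pushforward f).obj F) (f x) := by
  obtain ⟨_, ⟨V, hV : IsAffineOpen V, rfl⟩, hsV, -⟩ :=
    S.isBasis_affineOpens.exists_subset_of_mem_open (Set.mem_univ (f x)) isOpen_univ
  have hU : IsAffineOpen (f ⁻¹ᵁ V) := hV.preimage f
  have hxU : x ∈ f ⁻¹ᵁ V := hsV
  obtain ⟨m, hm⟩ := (AssDict.isAssPoint_iff_exists_minimalPrimes hU F x hxU).mp hx
  have hfin : (f.app V).hom.Finite := IsFinite.finite_app f V hV
  obtain ⟨m', hm'⟩ := key (f.app V).hom hfin m _ hm
  have hloc := isLocalizingOn_pushforward_of_qcqs f F hV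
  rw [isAssPoint_iff_exists_minimalPrimes' _ hV hloc (f x) hsV]
  let m'' : Γ((Scheme.Modules.pushforward f).obj F, V) := m'
  refine ⟨m'', ?_⟩
  have h1 := IsAffineOpen.comap_primeIdealOf_appLE (f := f) V hV (f ⁻¹ᵁ V) hU le_rfl hxU
  have happ : f.appLE V (f ⁻¹ᵁ V) le_rfl = f.app V := by simp [Scheme.Hom.appLE]
  rw [happ] at h1
  have h2 : (hV.primeIdealOf ⟨f x, hsV⟩).asIdeal =
      Ideal.comap (f.app V).hom (hU.primeIdealOf ⟨x, hxU⟩).asIdeal := by
    rw [← h1]
    rfl
  have h3 : (colon (⊥ : Submodule Γ(S, V) Γ((Scheme.Modules.pushforward f).obj F, V)) {m''} :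
      Ideal Γ(S, V)) = Ideal.comap (f.app V).hom
        (colon (⊥ : Submodule Γ(X, f ⁻¹ᵁ V) Γ(F, f ⁻¹ᵁ V)) {m'} : Ideal Γ(X, f ⁻¹ᵁ V)) := by
    ext a
    rw [mem_colon_singleton, mem_bot, pushforward_smul, Ideal.mem_comap, mem_colon_singleton,
      mem_bot]
    exact Iff.rfl
  rw [h2, h3]
  exact hm'

end Groth.Agent.Helper3.WAssFin
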