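import Mathlib

set_option autoImplicit false
set_option linter.style.haveILetI false
set_option linter.unusedSectionVars false
set_option linter.unusedVariables false
set_option linter.style.haveILetI false
set_option linter.unusedSectionVars false
set_option linter.unusedVariables false

universe u

namespace Groth.Agent.Helper3.WEtFlat

open TensorProduct

section W

variable (A B : Type u) [CommRing A] [CommRing B] [Algebra A B]
variable (N X Y : Type u) [AddCommGroup N] [Module A N] [Module B N] [IsScalarTower A B N]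
  [AddCommGroup X] [Module A X] [Module B X] [IsScalarTower A B X]
  [AddCommGroup Y] [Module A Y] [Module B Y] [IsScalarTower A B Y]

/-- action of `B ⊗[A] B` on `N ⊗[A] X`. -/
noncomputable def rho : B ⊗[A] B →ₐ[A] Module.End A (N ⊗[A] X) :=
  (Module.endTensorEndAlgHom (R := A) (S := A) (A := A) (M := N) (N := X)).comp
    (Algebra.TensorProduct.map (Algebra.lsmul A A N) (Algebra.lsmul A A X))

lemma rho_tmul (b b' : B) (n : N) (x : X) :
    rho A B N X (b ⊗ₜ b') (n ⊗ₜ x) = (b • n) ⊗ₜ (b' • x) := rfl

/-- `N ⊗[A] X` as a `B ⊗[A] B`-module. -/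
@[nolint unusedArguments]
def TT (A B N X : Type u) [CommRing A] [CommRing B] [Algebra A B] [AddCommGroup N] [Module A N]
    [AddCommGroup X] [Module A X] : Type u := N ⊗[A] X

noncomputable instance : AddCommGroup (TT A B N X) := inferInstanceAs (AddCommGroup (N ⊗[A] X))

noncomputable instance : Module (B ⊗[A] B) (TT A B N X) :=
  Module.compHom (N ⊗[A] X) (rho A B N X).toRingHom

/-- `B` as a `B ⊗[A] B`-module through multiplication. -/
@[nolint unusedArguments]
def BB (A B : Type u) [CommRing A] [CommRing B] [Algebra A B] : Type u := B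

noncomputable instance : AddCommGroup (BB A B) := inferInstanceAs (AddCommGroup B)

noncomputable instance : Module (B ⊗[A] B) (BB A B) :=
  (Algebra.TensorProduct.lmul' A (S := B)).toRingHom.toAlgebra.toModule

variable {A B N X Y}

def TT.mk (m : N ⊗[A] X) : TT A B N X := m
def TT.out (m : TT A B N X) : N ⊗[A] X := m
def BB.mk (b : B) : BB A B := b
def BB.out (b : BB A B) : B := b

lemma TT.smul_def (c : B ⊗[A] B) (m : TT A B N X) : c • m = TT.mk (rho A B N X c m.out) := rfl

lemma TT.tmul_smul_tmul (b b' : B) (n : N) (x : X) :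
    (b ⊗ₜ[A] b') • TT.mk (A := A) (B := B) (n ⊗ₜ[A] x) = TT.mk ((b • n) ⊗ₜ[A] (b' • x)) := rfl

lemma BB.smul_def (c : B ⊗[A] B) (b : BB A B) :
    c • b = BB.mk (Algebra.TensorProduct.lmul' A (S := B) c * b.out) := rfl

lemma rho_comm (j : X →ₗ[B] Y) (c : B ⊗[A] B) :
    ((j.restrictScalars A).lTensor N) ∘ₗ (rho A B N X c) =
      (rho A B N Y c) ∘ₗ ((j.restrictScalars A).lTensor N) := by
  induction c using TensorProduct.induction_on with
  | zero => simp
  | tmul b b' =>
    apply TensorProduct.ext'
    intro n x
    simp only [LinearMap.comp_apply, rho_tmul, LinearMap.lTensor_tmul,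
      LinearMap.coe_restrictScalars, map_smul]
  | add c c' hc hc' =>
    rw [map_add, map_add, LinearMap.comp_add, LinearMap.add_comp, hc, hc']

/-- functoriality -/
noncomputable def tmap (j : X →ₗ[B] Y) : TT A B N X →ₗ[B ⊗[A] B] TT A B N Y where
  toFun m := TT.mk ((j.restrictScalars A).lTensor N m.out)
  map_add' m m' := map_add ((j.restrictScalars A).lTensor N) m.out m'.out
  map_smul' c m := LinearMap.congr_fun (rho_comm (N := N) j c) m.out

lemma tmap_injective [Module.Flat A N] (j : X →ₗ[B] Y) (hj : Function.Injective j) :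
    Function.Injective (tmap (A := A) (N := N) j) :=
  Module.Flat.lTensor_preserves_injective_linearMap (M := N) (j.restrictScalars A) hj

/-- `N ⊗[B] X → B ⊗[B ⊗ B] (N ⊗[A] X)`. -/
noncomputable def psi : N ⊗[B] X →+ BB A B ⊗[B ⊗[A] B] TT A B N X :=
  TensorProduct.liftAddHom
    { toFun := fun n =>
        { toFun := fun x => BB.mk (1 : B) ⊗ₜ[B ⊗[A] B] TT.mk (n ⊗ₜ[A] x)
          map_zero' := by
            rw [TensorProduct.tmul_zero]
            exact TensorProduct.tmul_zero _ _
          map_add' := fun x x' => by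
            rw [TensorProduct.tmul_add]
            exact TensorProduct.tmul_add _ _ _ }
      map_zero' := by
        ext x
        show BB.mk (1 : B) ⊗ₜ[B ⊗[A] B] TT.mk ((0 : N) ⊗ₜ[A] x) = 0
        rw [TensorProduct.zero_tmul]
        exact TensorProduct.tmul_zero _ _
      map_add' := fun n n' => by
        ext x
        show BB.mk (1 : B) ⊗ₜ[B ⊗[A] B] TT.mk ((n + n') ⊗ₜ[A] x) = _
        rw [TensorProduct.add_tmul]
        exact TensorProduct.tmul_add _ _ _ }
    (by
      intro b n x
      show BB.mk (1 : B) ⊗ₜ[B ⊗[A] B] TT.mk ((b • n) ⊗ₜ[A] x) =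
        BB.mk (1 : B) ⊗ₜ[B ⊗[A] B] TT.mk (n ⊗ₜ[A] (b • x))
      have h1 : TT.mk (A := A) (B := B) ((b • n) ⊗ₜ[A] x) =
          (b ⊗ₜ[A] (1 : B)) • TT.mk (A := A) (B := B) (n ⊗ₜ[A] x) := by
        rw [TT.tmul_smul_tmul, one_smul]
      have h2 : TT.mk (A := A) (B := B) (n ⊗ₜ[A] (b • x)) =
          ((1 : B) ⊗ₜ[A] b) • TT.mk (A := A) (B := B) (n ⊗ₜ[A] x) := by
        rw [TT.tmul_smul_tmul, one_smul]
      rw [h1, h2, ← TensorProduct.smul_tmul, ← TensorProduct.smul_tmul]
      congr 1
      rw [BB.smul_def, BB.smul_def, Algebra.TensorProduct.lmul'_apply_tmul,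
        Algebra.TensorProduct.lmul'_apply_tmul, mul_one, one_mul])

lemma psi_tmul (n : N) (x : X) :
    psi (A := A) (n ⊗ₜ[B] x) = BB.mk (1 : B) ⊗ₜ[B ⊗[A] B] TT.mk (n ⊗ₜ[A] x) := rfl

/-- the canonical surjection `N ⊗[A] X → N ⊗[B] X`. -/
noncomputable def piMap : N ⊗[A] X →ₗ[A] N ⊗[B] X :=
  TensorProduct.mapOfCompatibleSMul B A A N X

lemma piMap_tmul (n : N) (x : X) : piMap (A := A) (B := B) (n ⊗ₜ[A] x) = n ⊗ₜ[B] x := rfl

lemma piMap_rho (c : B ⊗[A] B) (m : N ⊗[A] X) :
    piMap (B := B) (rho A B N X c m) =
      Algebra.TensorProduct.lmul' A (S := B) c • piMap (B := B) m := by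
  induction c using TensorProduct.induction_on with
  | zero => simp
  | tmul b b' =>
    induction m using TensorProduct.induction_on with
    | zero => simp
    | tmul n x =>
      rw [rho_tmul, piMap_tmul, piMap_tmul, Algebra.TensorProduct.lmul'_apply_tmul,
        ← TensorProduct.smul_tmul, smul_smul, mul_comm, TensorProduct.smul_tmul']
    | add m m' hm hm' => rw [map_add, map_add, hm, hm', map_add, smul_add]
  | add c c' hc hc' =>
    rw [map_add, LinearMap.add_apply, map_add, hc, hc', map_add, add_smul]

/-- `B ⊗[B ⊗ B] (N ⊗[A] X) → N ⊗[B] X`. -/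
noncomputable def phi : BB A B ⊗[B ⊗[A] B] TT A B N X →+ N ⊗[B] X :=
  TensorProduct.liftAddHom
    { toFun := fun b =>
        { toFun := fun m => b.out • piMap (B := B) m.out
          map_zero' := by
            show b.out • piMap (B := B) (0 : N ⊗[A] X) = 0
            rw [map_zero, smul_zero]
          map_add' := fun m m' => by
            show b.out • piMap (B := B) (m.out + m'.out) = _
            rw [map_add, smul_add] }
      map_zero' := by
        ext m
        show (0 : B) • piMap (B := B) m.out = 0
        rw [zero_smul]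
      map_add' := fun b b' => by
        ext m
        show (b.out + b'.out) • piMap (B := B) m.out = _
        rw [add_smul]
        rfl }
    (by
      intro c b m
      show (Algebra.TensorProduct.lmul' A (S := B) c * b.out) • piMap (B := B) m.out =
        b.out • piMap (B := B) (rho A B N X c m.out)
      rw [piMap_rho, smul_smul, mul_comm])

lemma phi_tmul (b : B) (m : N ⊗[A] X) :
    phi (A := A) (BB.mk b ⊗ₜ[B ⊗[A] B] TT.mk m) = b • piMap (B := B) m := rfl

lemma phi_psi (z : N ⊗[B] X) : phi (A := A) (psi (A := A) z) = z := by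
  induction z using TensorProduct.induction_on with
  | zero => simp
  | tmul n x => rw [psi_tmul, phi_tmul, piMap_tmul, one_smul]
  | add z z' hz hz' => rw [map_add, map_add, hz, hz']

lemma psi_injective : Function.Injective (psi (A := A) (B := B) (N := N) (X := X)) :=
  Function.LeftInverse.injective phi_psi

lemma psi_natural (j : X →ₗ[B] Y) (z : N ⊗[B] X) :
    psi (A := A) (j.lTensor N z) =
      (tmap (A := A) (N := N) j).lTensor (BB A B) (psi (A := A) z) := by
  induction z using TensorProduct.induction_on with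
  | zero => simp
  | tmul n x =>
    rw [LinearMap.lTensor_tmul, psi_tmul, psi_tmul, LinearMap.lTensor_tmul]
    rfl
  | add z z' hz hz' => rw [map_add, map_add, hz, hz', map_add, map_add]

/-- **Lemma W**: for `A → B` with `B` flat over `B ⊗[A] B`, a `B`-module which is `A`-flat is
`B`-flat. -/
theorem lTensor_injective_of_flat [Module.Flat A N] [Module.Flat (B ⊗[A] B) (BB A B)]
    (j : X →ₗ[B] Y) (hj : Function.Injective j) : Function.Injective (j.lTensor N) := by
  have h1 : Function.Injective ((tmap (A := A) (N := N) j).lTensor (BB A B)) :=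
    Module.Flat.lTensor_preserves_injective_linearMap _ (tmap_injective j hj)
  have h2 : Function.Injective (fun z => psi (A := A) (j.lTensor N z)) := by
    have : (fun z => psi (A := A) (j.lTensor N z)) =
        (tmap (A := A) (N := N) j).lTensor (BB A B) ∘ psi (A := A) := by
      funext z
      exact psi_natural j z
    rw [this]
    exact h1.comp psi_injective
  exact Function.Injective.of_comp h2

end W

end Groth.Agent.Helper3.WEtFlat
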