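import Mathlib
import Groth.Prelude.Def_DRing2
import Groth.Agent.Helper3.WEtFlat
import Groth.Agent.Helper1.TorCrit
import Groth.Agent.Lead.TorDimLib1

set_option autoImplicit false
set_option linter.style.haveILetI false
set_option linter.unusedSectionVars false
set_option linter.unusedVariables false
set_option linter.style.haveILetI false
set_option linter.unusedSectionVars false
set_option linter.unusedVariables false

universe u

namespace Groth.Agent.Helper3.WEtTor

open CategoryTheory TensorProduct Groth.Agent.Helper1.TorLib Groth.Agent.Lead.TorDim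
  Groth.Agent.Helper3.WEtFlat

variable (A B : Type u) [CommRing A] [CommRing B] [Algebra A B]

/-- For a weakly étale `A → B`, a `B`-module which is flat over `A` is flat over `B`. -/
theorem flat_of_weaklyEtale [Algebra.WeaklyEtale A B] (N : Type u) [AddCommGroup N] [Module A N]
    [Module B N] [IsScalarTower A B N] [Module.Flat A N] : Module.Flat B N := by
  haveI : Module.Flat (B ⊗[A] B) (BB A B) := Algebra.WeaklyEtale.flat_lmul' A B
  rw [Module.Flat.iff_lTensor_preserves_injective_linearMap]
  intro X Y _ _ _ _ j hj
  letI : Module A X := Module.compHom X (algebraMap A B)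
  letI : Module A Y := Module.compHom Y (algebraMap A B)
  haveI : IsScalarTower A B X := IsScalarTower.of_algebraMap_smul fun r x => rfl
  haveI : IsScalarTower A B Y := IsScalarTower.of_algebraMap_smul fun r x => rfl
  exact lTensor_injective_of_flat (A := A) j hj

variable {A B}

theorem TD.X₃ {R : Type u} [CommRing R] {n : ℕ} {S : ShortComplex (ModuleCat.{u} R)}
    (hS : S.ShortExact) (h2 : Module.Flat R S.X₂) (h1 : TD n S.X₁) : TD (n + 1) S.X₃ := by
  intro N p hp
  obtain ⟨q, rfl⟩ : ∃ q, p = q + 1 := ⟨p - 1, by omega⟩
  exact (tor_exact₃ N hS q).isZero_of_both_zeros ((isZero_tor_of_flat_left S.X₂ N q).eq_of_src _ _)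
    ((h1 N q (by omega)).eq_of_tgt _ _)

theorem td_ascends [Algebra.WeaklyEtale A B] (d : ℕ) :
    ∀ (N : Type u) [AddCommGroup N] [Module A N] [Module B N] [IsScalarTower A B N],
      TD d (ModuleCat.of A N) → TD d (ModuleCat.of B N) := by
  induction d with
  | zero =>
    intro N _ _ _ _ h
    haveI : Module.Flat A N := flat_of_td_zero N h
    haveI : Module.Flat B N := flat_of_weaklyEtale A B N
    haveI : Module.Flat B ↑(ModuleCat.of B N) := inferInstanceAs (Module.Flat B N)
    exact td_zero_of_flat (ModuleCat.of B N)
  | succ d ih =>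
    intro N _ _ _ _ h
    let π : (N →₀ B) →ₗ[B] N := Finsupp.linearCombination B (id : N → N)
    have hπ : Function.Surjective π := Finsupp.linearCombination_id_surjective B N
    let K : Submodule B (N →₀ B) := LinearMap.ker π
    -- the sequence over `A`
    let fA : K →ₗ[A] (N →₀ B) := K.subtype.restrictScalars A
    let gA : (N →₀ B) →ₗ[A] N := π.restrictScalars A
    have hexA : Function.Exact fA gA := LinearMap.exact_subtype_ker_map π
    have hSA := scOfLinear_shortExact (R := A) (N₁ := K) (N₂ := (N →₀ B)) (N₃ := N) fA gA (show Function.Injective fA from K.injective_subtype)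
      (show Function.Surjective gA from hπ) hexA
    haveI : Module.Flat A (N →₀ B) := by
      classical exact Module.Flat.of_linearEquiv (finsuppLEquivDirectSum A B N)
    have h2 : TD d (scOfLinear (R := A) (N₁ := K) (N₂ := (N →₀ B)) (N₃ := N) fA gA hexA).X₂ := by
      haveI : Module.Flat A ↑(scOfLinear (R := A) (N₁ := K) (N₂ := (N →₀ B)) (N₃ := N) fA gA hexA).X₂ :=
        inferInstanceAs (Module.Flat A (N →₀ B))
      exact (td_zero_of_flat _).mono (Nat.zero_le d)
    have hKA : TD d (ModuleCat.of A K) := TD.X₁ hSA h2 h
    have hKB : TD d (ModuleCat.of B K) := ih K hKA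
    -- the sequence over `B`
    have hexB : Function.Exact K.subtype π := LinearMap.exact_subtype_ker_map π
    have hSB := scOfLinear_shortExact (R := B) (N₁ := K) (N₂ := (N →₀ B)) (N₃ := N) K.subtype π
      K.injective_subtype hπ hexB
    have hF : Module.Flat B ↑(scOfLinear (R := B) (N₁ := K) (N₂ := (N →₀ B)) (N₃ := N) K.subtype π hexB).X₂ :=
      inferInstanceAs (Module.Flat B (N →₀ B))
    exact TD.X₃ hSB hF hKB

theorem main [Algebra.WeaklyEtale A B] (d : ℕ)
    (hA : ∀ (M : Type u) [AddCommGroup M] [Module A M], DRing.HasTorDimLE A d M)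
    (N : Type u) [AddCommGroup N] [Module B N] : DRing.HasTorDimLE B d N := by
  letI : Module A N := Module.compHom N (algebraMap A B)
  haveI : IsScalarTower A B N := IsScalarTower.of_algebraMap_smul fun r x => rfl
  have h := td_ascends (A := A) (B := B) d N (td_of_hasTorDimLE N (hA N))
  intro X _ _ p hp
  exact ModuleCat.subsingleton_of_isZero (h (ModuleCat.of B X) p hp)

end Groth.Agent.Helper3.WEtTor
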