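import Mathlib

/-! Weakly étale algebras: Stacks 092C, 092K, and reducedness. -/

open TensorProduct

namespace Groth.Agent.Helper3.WEtale

universe u

section
variable (A B : Type*) [CommRing A] [CommRing B] [Algebra A B]
variable (N M : Type*) [AddCommGroup N] [Module A N] [Module B N] [IsScalarTower A B N]
  [AddCommGroup M] [Module A M] [Module B M] [IsScalarTower A B M]

/-- The action of `B ⊗[A] B` on `N ⊗[A] M`. -/
noncomputable def rho : B ⊗[A] B →ₐ[A] Module.End A (N ⊗[A] M) :=
  (Module.endTensorEndAlgHom (R := A) (S := A) (A := A) (M := N) (N := M)).comp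
    (Algebra.TensorProduct.map (Algebra.lsmul A A N) (Algebra.lsmul A A M))

@[simp]
lemma rho_tmul (b c : B) (n : N) (m : M) :
    rho A B N M (b ⊗ₜ c) (n ⊗ₜ m) = (b • n) ⊗ₜ (c • m) := by
  simp [rho, Module.endTensorEndAlgHom_apply]

/-- the projection -/
noncomputable def proj : N ⊗[A] M →ₗ[A] N ⊗[B] M :=
  TensorProduct.mapOfCompatibleSMul B A A N M

@[simp]
lemma proj_tmul (n : N) (m : M) : proj A B N M (n ⊗ₜ m) = n ⊗ₜ m := by
  simp [proj]

lemma proj_rho (r : B ⊗[A] B) (p : N ⊗[A] M) :
    proj A B N M (rho A B N M r p) = (Algebra.TensorProduct.lmul' A (S := B) r) • proj A B N M p := by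
  induction r using TensorProduct.induction_on with
  | zero => simp
  | add x y hx hy => simp [hx, hy, add_smul]
  | tmul b c =>
    induction p using TensorProduct.induction_on with
    | zero => simp
    | add x y hx hy => simp only [map_add, hx, hy, smul_add]
    | tmul n m =>
      rw [rho_tmul, proj_tmul, proj_tmul, Algebra.TensorProduct.lmul'_apply_tmul]
      rw [TensorProduct.smul_tmul', mul_smul, ← TensorProduct.smul_tmul c (b • n) m, smul_comm]

variable {M} in
lemma rho_map {M' : Type*} [AddCommGroup M'] [Module A M'] [Module B M'] [IsScalarTower A B M']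
    (f : M' →ₗ[B] M) (r : B ⊗[A] B) (p : N ⊗[A] M') :
    (f.restrictScalars A).lTensor N (rho A B N M' r p) =
      rho A B N M r ((f.restrictScalars A).lTensor N p) := by
  induction r using TensorProduct.induction_on with
  | zero => simp
  | add x y hx hy => simp [hx, hy]
  | tmul b c =>
    induction p using TensorProduct.induction_on with
    | zero => simp
    | add x y hx hy => simp only [map_add, hx, hy]
    | tmul n m => simp

/-- `B` as an algebra over `B ⊗[A] B` via multiplication. -/
@[reducible] noncomputable def algMul : Algebra (B ⊗[A] B) B :=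
  (Algebra.TensorProduct.lmul' A (S := B)).toRingHom.toAlgebra

/-- `N ⊗[A] M` as a module over `B ⊗[A] B`. -/
@[reducible] noncomputable def modRho : Module (B ⊗[A] B) (N ⊗[A] M) :=
  Module.compHom _ (rho A B N M).toRingHom

attribute [local instance] algMul modRho

lemma smul_def' (r : B ⊗[A] B) (p : N ⊗[A] M) : r • p = rho A B N M r p := rfl

lemma algMul_smul (r : B ⊗[A] B) (b : B) : r • b = Algebra.TensorProduct.lmul' A (S := B) r * b := rfl

/-- the comparison map -/
noncomputable def Psi : N ⊗[B] M →ₗ[B] B ⊗[B ⊗[A] B] (N ⊗[A] M) :=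
  TensorProduct.lift (LinearMap.mk₂ B (fun n m => (1 : B) ⊗ₜ[B ⊗[A] B] (n ⊗ₜ[A] m))
    (fun n₁ n₂ m => by rw [add_tmul, tmul_add])
    (fun b n m => by
      have : (b • n) ⊗ₜ[A] m = (b ⊗ₜ[A] (1 : B) : B ⊗[A] B) • (n ⊗ₜ[A] m) := by
        rw [smul_def', rho_tmul, one_smul]
      rw [this, ← TensorProduct.smul_tmul, algMul_smul, Algebra.TensorProduct.lmul'_apply_tmul,
        TensorProduct.smul_tmul', smul_eq_mul]
      simp only [mul_one, one_mul])
    (fun n m₁ m₂ => by rw [tmul_add, tmul_add])
    (fun b n m => by
      have : n ⊗ₜ[A] (b • m) = ((1 : B) ⊗ₜ[A] b : B ⊗[A] B) • (n ⊗ₜ[A] m) := by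
        rw [smul_def', rho_tmul, one_smul]
      rw [this, ← TensorProduct.smul_tmul, algMul_smul, Algebra.TensorProduct.lmul'_apply_tmul,
        TensorProduct.smul_tmul', smul_eq_mul]
      simp only [mul_one, one_mul]))


@[simp]
lemma Psi_tmul (n : N) (m : M) : Psi A B N M (n ⊗ₜ m) = (1 : B) ⊗ₜ[B ⊗[A] B] (n ⊗ₜ[A] m) := rfl

/-- the comparison map, other direction -/
noncomputable def Phi : B ⊗[B ⊗[A] B] (N ⊗[A] M) →+ N ⊗[B] M :=
  TensorProduct.liftAddHom
    { toFun := fun b => ((LinearMap.lsmul B (N ⊗[B] M) b).toAddMonoidHom).comp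
        (proj A B N M).toAddMonoidHom
      map_zero' := by ext; simp
      map_add' := by intros; ext; simp }
    (fun r b p => by
      simp only [AddMonoidHom.coe_mk, ZeroHom.coe_mk, AddMonoidHom.coe_comp,
        LinearMap.toAddMonoidHom_coe, Function.comp_apply, LinearMap.lsmul_apply]
      rw [smul_def', proj_rho, algMul_smul, mul_comm, mul_smul])

@[simp]
lemma Phi_tmul (b : B) (p : N ⊗[A] M) :
    Phi A B N M (b ⊗ₜ p) = b • proj A B N M p := rfl

lemma Phi_Psi (x : N ⊗[B] M) : Phi A B N M (Psi A B N M x) = x := by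
  induction x using TensorProduct.induction_on with
  | zero => simp
  | add x y hx hy => simp only [map_add, hx, hy]
  | tmul n m => simp

variable {M} in
/-- `id ⊗ f` as a linear map over `B ⊗[A] B`. -/
noncomputable def mapR {M' : Type*} [AddCommGroup M'] [Module A M'] [Module B M']
    [IsScalarTower A B M'] (f : M' →ₗ[B] M) : N ⊗[A] M' →ₗ[B ⊗[A] B] N ⊗[A] M :=
  { ((f.restrictScalars A).lTensor N) with
    map_smul' := fun r p => rho_map A B N f r p }

variable {M} in
lemma mapR_apply {M' : Type*} [AddCommGroup M'] [Module A M'] [Module B M']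
    [IsScalarTower A B M'] (f : M' →ₗ[B] M) (p : N ⊗[A] M') :
    mapR A B N f p = (f.restrictScalars A).lTensor N p := rfl

variable {M} in
lemma Psi_natural {M' : Type*} [AddCommGroup M'] [Module A M'] [Module B M']
    [IsScalarTower A B M'] (f : M' →ₗ[B] M) (x : N ⊗[B] M') :
    (mapR A B N f).lTensor B (Psi A B N M' x) = Psi A B N M (f.lTensor N x) := by
  induction x using TensorProduct.induction_on with
  | zero => simp
  | add x y hx hy => simp only [map_add, hx, hy]
  | tmul n m => simp [mapR_apply]

variable {M} in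
theorem lTensor_injective [Module.Flat A N] [Module.Flat (B ⊗[A] B) B]
    {M' : Type*} [AddCommGroup M'] [Module A M'] [Module B M']
    [IsScalarTower A B M'] (f : M' →ₗ[B] M) (hf : Function.Injective f) :
    Function.Injective (f.lTensor N) := by
  have h1 : Function.Injective (mapR A B N f) :=
    Module.Flat.lTensor_preserves_injective_linearMap (M := N) (f.restrictScalars A) hf
  have h2 : Function.Injective ((mapR A B N f).lTensor B) :=
    Module.Flat.lTensor_preserves_injective_linearMap (M := B) _ h1
  have h3 : Function.Injective (Psi A B N M') :=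
    Function.LeftInverse.injective (g := Phi A B N M') (Phi_Psi A B N M')
  intro x y hxy
  apply h3
  apply h2
  rw [Psi_natural, Psi_natural, hxy]

end

universe v

/-- Stacks 092C -/
theorem flat_of_flat_lmul' (A B : Type u) [CommRing A] [CommRing B] [Algebra A B]
    (h : (Algebra.TensorProduct.lmul' A (S := B)).Flat) (N : Type v) [AddCommGroup N]
    [Module B N] [Module A N] [IsScalarTower A B N] [Module.Flat A N] : Module.Flat B N := by
  rw [Module.Flat.iff_lTensor_preserves_injective_linearMap]
  intro M' M _ _ _ _ f hf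
  letI : Module A M' := Module.compHom M' (algebraMap A B)
  letI : Module A M := Module.compHom M (algebraMap A B)
  haveI : IsScalarTower A B M' := IsScalarTower.of_algebraMap_smul (fun _ _ => rfl)
  haveI : IsScalarTower A B M := IsScalarTower.of_algebraMap_smul (fun _ _ => rfl)
  letI := algMul A B
  haveI : Module.Flat (B ⊗[A] B) B := h
  exact lTensor_injective A B N f hf


/-- Over a von Neumann regular ring, every module is flat. -/
theorem flat_of_vnr (L : Type u) [CommRing L] (hL : ∀ x : L, ∃ y, x = x * x * y)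
    (N : Type v) [AddCommGroup N] [Module L N] : Module.Flat L N := by
  rw [Module.Flat.iff_rTensor_injective]
  intro I hI
  have hidem : IsIdempotentElem I := by
    refine le_antisymm Ideal.mul_le_left ?_
    intro x hx
    obtain ⟨y, hy⟩ := hL x
    rw [hy, mul_assoc]
    exact Ideal.mul_mem_mul hx (I.mul_mem_right _ hx)
  rw [Ideal.isIdempotentElem_iff_of_fg _ hI] at hidem
  obtain ⟨e, he, rfl⟩ := hidem
  let r : L →ₗ[L] (Ideal.span {e} : Ideal L) :=
    LinearMap.codRestrict _ (LinearMap.mulRight L e)
      (fun x => Ideal.mem_span_singleton'.mpr ⟨x, rfl⟩)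
  have hr : r ∘ₗ (Submodule.subtype _) = LinearMap.id := by
    ext ⟨x, hx⟩
    obtain ⟨t, rfl⟩ := Ideal.mem_span_singleton'.mp hx
    simp [r, mul_assoc, he.eq]
  have : (r.rTensor N) ∘ₗ ((Submodule.subtype _).rTensor N) = LinearMap.id := by
    rw [← LinearMap.rTensor_comp, hr, LinearMap.rTensor_id]
  exact Function.LeftInverse.injective (g := r.rTensor N) (fun x => by
    rw [← LinearMap.comp_apply, this, LinearMap.id_apply])

/-- If every cyclic module is flat, the ring is reduced. -/
theorem isReduced_of_forall_flat (C : Type u) [CommRing C]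
    (h : ∀ I : Ideal C, Module.Flat C (C ⧸ I)) : IsReduced C := by
  rw [isReduced_iff_pow_one_lt 2 one_lt_two]
  intro c hc
  haveI : (Ideal.span {c}).Pure := h _
  obtain ⟨y, hy, hxy⟩ := Ideal.exists_eq_mul_of_pure (I := Ideal.span {c}) (x := c)
    (Ideal.mem_span_singleton_self c)
  obtain ⟨t, rfl⟩ := Ideal.mem_span_singleton'.mp hy
  rw [hxy]
  linear_combination t * hc





/-- weakly étale over a von Neumann regular ring is reduced. -/
theorem isReduced_of_weaklyEtale_vnr (L C : Type u) [CommRing L] [CommRing C] [Algebra L C]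
    [Algebra.WeaklyEtale L C] (hL : ∀ x : L, ∃ y, x = x * x * y) : IsReduced C := by
  apply isReduced_of_forall_flat
  intro I
  have : Module.Flat L (C ⧸ I) := flat_of_vnr L hL _
  exact flat_of_flat_lmul' L C (Algebra.WeaklyEtale.flat_lmul' L C) (C ⧸ I)

/-- Stacks: weakly étale over reduced is reduced. -/
theorem isReduced_of_weaklyEtale (A B : Type u) [CommRing A] [CommRing B] [Algebra A B]
    [IsReduced A] [Algebra.WeaklyEtale A B] : IsReduced B := by
  let L := Π p : PrimeSpectrum A, p.asIdeal.ResidueField
  have hinj : Function.Injective (algebraMap A L) := by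
    rw [injective_iff_map_eq_zero]
    intro a ha
    have h1 : a ∈ nilradical A := by
      rw [nilradical_eq_sInf, Ideal.mem_sInf]
      intro J hJ
      have := congrFun ha ⟨J, hJ⟩
      simpa [L, Pi.algebraMap_apply, Ideal.algebraMap_residueField_eq_zero] using this
    simpa [nilradical_eq_zero] using h1
  have hL : ∀ x : L, ∃ y, x = x * x * y := fun x => ⟨fun p => (x p)⁻¹, by
    funext p
    show x p = x p * x p * (x p)⁻¹
    rw [mul_self_mul_inv]⟩
  haveI : IsReduced (L ⊗[A] B) := isReduced_of_weaklyEtale_vnr L (L ⊗[A] B) hL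
  exact isReduced_of_injective _
    (Algebra.TensorProduct.includeRight_injective (R := A) (A := L) (B := B) hinj)



theorem ringHom_flat_of_flat_lmul' {A B C : Type u} [CommRing A] [CommRing B] [CommRing C]
    (f : A →+* B) (g : B →+* C)
    (h : letI := f.toAlgebra; (Algebra.TensorProduct.lmul' A (S := B)).Flat)
    (hgf : (g.comp f).Flat) : g.Flat := by
  letI := f.toAlgebra
  letI := g.toAlgebra
  letI := (g.comp f).toAlgebra
  haveI : IsScalarTower A B C := IsScalarTower.of_algebraMap_eq' rfl
  haveI : Module.Flat A C := hgf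
  exact flat_of_flat_lmul' A B h C

/-- Stacks 092K -/
theorem weaklyEtale_of_weaklyEtale (A B C : Type u) [CommRing A] [CommRing B] [CommRing C]
    [Algebra A B] [Algebra A C] [Algebra B C] [IsScalarTower A B C] [Algebra.WeaklyEtale A B]
    [Algebra.WeaklyEtale A C] : Algebra.WeaklyEtale B C := by
  have hflat : Module.Flat B C := flat_of_flat_lmul' A B (Algebra.WeaklyEtale.flat_lmul' A B) C
  refine ⟨hflat, ?_⟩
  let q : C ⊗[A] C →ₐ[A] C ⊗[B] C := Algebra.TensorProduct.mapOfCompatibleSMul B A A C C
  have hq : Function.Surjective q := Algebra.TensorProduct.mapOfCompatibleSMul_surjective B A A C C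
  refine ringHom_flat_of_flat_lmul' q.toRingHom
    (Algebra.TensorProduct.lmul' B (S := C)).toRingHom ?_ ?_
  · letI : Algebra (C ⊗[A] C) (C ⊗[B] C) := q.toRingHom.toAlgebra
    exact RingHom.Flat.of_bijective (LinearMap.mul'_bijective_of_surjective (h := hq))
  · have : (Algebra.TensorProduct.lmul' B (S := C)).toRingHom.comp q.toRingHom =
        (Algebra.TensorProduct.lmul' A (S := C)).toRingHom := by
      refine RingHom.ext fun x => ?_
      show Algebra.TensorProduct.lmul' B (S := C) (q x) = Algebra.TensorProduct.lmul' A (S := C) x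
      induction x using TensorProduct.induction_on with
      | zero => simp
      | add x y hx hy => simp only [map_add, hx, hy]
      | tmul a b => simp [q]
    rw [this]
    exact Algebra.WeaklyEtale.flat_lmul' A C


end Groth.Agent.Helper3.WEtale
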