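import Mathlib

set_option autoImplicit false
set_option linter.style.haveILetI false
set_option linter.unusedSectionVars false
set_option linter.unusedVariables false
set_option linter.deprecated false
set_option linter.style.haveILetI false
set_option linter.unusedSectionVars false
set_option linter.unusedVariables false

namespace Groth.Agent.Helper3.WQ
open TensorProduct IsLocalRing

universe u v w

section Count

variable (R : Type u) [CommRing R] [IsLocalRing R] [IsDomain R]

/-- minimal number of generators -/
noncomputable def mu (M : Type v) [AddCommGroup M] [Module R M] : ℕ :=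
  Module.finrank (ResidueField R) (ResidueField R ⊗[R] M)

/-- generic rank -/
noncomputable def rk (M : Type v) [AddCommGroup M] [Module R M] : ℕ :=
  Module.finrank (FractionRing R) (FractionRing R ⊗[R] M)

variable {R}

theorem exists_gens (M : Type v) [AddCommGroup M] [Module R M] [Module.Finite R M] :
    ∃ f : Fin (mu R M) → M, Submodule.span R (Set.range f) = ⊤ := by
  let k := ResidueField R
  let b : Module.Basis (Fin (mu R M)) k (k ⊗[R] M) := Module.finBasis k (k ⊗[R] M)
  have hsurj : ∀ i, ∃ m : M, (1 : k) ⊗ₜ[R] m = b i := by
    intro i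
    have htop : Submodule.map (TensorProduct.mk R k M 1) ⊤ = ⊤ ∨ True := Or.inr trivial
    -- every element of `k ⊗ M` is of the form `1 ⊗ m`
    induction b i using TensorProduct.induction_on with
    | zero => exact ⟨0, by simp⟩
    | tmul x m =>
      obtain ⟨r, rfl⟩ := IsLocalRing.residue_surjective x
      refine ⟨r • m, ?_⟩
      rw [TensorProduct.tmul_smul, TensorProduct.smul_tmul']
      congr 1
      show r • (1 : k) = residue R r
      rw [Algebra.smul_def, mul_one]
      rfl
    | add x y hx hy =>
      obtain ⟨m₁, h₁⟩ := hx
      obtain ⟨m₂, h₂⟩ := hy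
      exact ⟨m₁ + m₂, by rw [TensorProduct.tmul_add, h₁, h₂]⟩
  choose f hf using hsurj
  exact ⟨f, IsLocalRing.span_eq_top_of_tmul_eq_basis f b hf⟩

theorem span_one_tmul {M : Type v} [AddCommGroup M] [Module R M] {ι : Type*} (f : ι → M)
    (hf : Submodule.span R (Set.range f) = ⊤) :
    Submodule.span (FractionRing R) (Set.range fun i => (1 : FractionRing R) ⊗ₜ[R] f i) = ⊤ := by
  let K := FractionRing R
  have key : ∀ m : M, (1 : K) ⊗ₜ[R] m ∈
      Submodule.span K (Set.range fun i => (1 : K) ⊗ₜ[R] f i) := by
    intro m
    have hm : m ∈ Submodule.span R (Set.range f) := hf ▸ Submodule.mem_top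
    induction hm using Submodule.span_induction with
    | mem y hy =>
      obtain ⟨i, rfl⟩ := hy
      exact Submodule.subset_span ⟨i, rfl⟩
    | zero => rw [TensorProduct.tmul_zero]; exact zero_mem _
    | add y z _ _ hy hz => rw [TensorProduct.tmul_add]; exact add_mem hy hz
    | smul r y _ hy =>
      rw [TensorProduct.tmul_smul, ← algebraMap_smul K r ((1 : K) ⊗ₜ[R] y)]
      exact Submodule.smul_mem _ _ hy
  rw [eq_top_iff]
  rintro x -
  induction x using TensorProduct.induction_on with
  | zero => exact zero_mem _
  | tmul a m =>
    have : a ⊗ₜ[R] m = a • ((1 : K) ⊗ₜ[R] m) := by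
      rw [TensorProduct.smul_tmul', smul_eq_mul, mul_one]
    rw [this]
    exact Submodule.smul_mem _ _ (key m)
  | add x y hx hy => exact add_mem hx hy

theorem rk_le_mu (M : Type v) [AddCommGroup M] [Module R M] [Module.Finite R M] :
    rk R M ≤ mu R M := by
  obtain ⟨f, hf⟩ := exists_gens (R := R) M
  let K := FractionRing R
  have hspan := span_one_tmul f hf
  have h1 := finrank_range_le_card (R := K) (fun i => (1 : K) ⊗ₜ[R] f i)
  rw [Set.finrank, hspan, finrank_top, Fintype.card_fin] at h1
  exact h1

theorem free_of_mu_le_rk (M : Type v) [AddCommGroup M] [Module R M] [Module.Finite R M]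
    (h : mu R M ≤ rk R M) : Module.Free R M := by
  obtain ⟨f, hf⟩ := exists_gens (R := R) M
  let K := FractionRing R
  have hspan := span_one_tmul f hf
  have hcard : Fintype.card (Fin (mu R M)) = Module.finrank K (K ⊗[R] M) := by
    rw [Fintype.card_fin]
    exact le_antisymm h (rk_le_mu M)
  have hli : LinearIndependent K (fun i => (1 : K) ⊗ₜ[R] f i) :=
    linearIndependent_of_top_le_span_of_card_eq_finrank hspan.ge hcard
  have hliR : LinearIndependent R (fun i => (1 : K) ⊗ₜ[R] f i) := by
    refine hli.restrict_scalars ?_
    intro a b hab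
    simp only [Algebra.smul_def, mul_one] at hab
    exact IsFractionRing.injective R K hab
  have hliR' : LinearIndependent R f :=
    LinearIndependent.of_comp (TensorProduct.mk R K M 1) hliR
  exact Module.Free.of_basis (Module.Basis.mk hliR' hf.ge)

theorem mu_tensor (B : Type v) (C : Type w) [AddCommGroup B] [Module R B] [AddCommGroup C]
    [Module R C] : mu R (B ⊗[R] C) = mu R B * mu R C := by
  unfold mu
  rw [(TensorProduct.AlgebraTensorModule.distribBaseChange R (ResidueField R) B C).finrank_eq,
    Module.finrank_tensorProduct]

theorem rk_tensor (B : Type v) (C : Type w) [AddCommGroup B] [Module R B] [AddCommGroup C]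
    [Module R C] : rk R (B ⊗[R] C) = rk R B * rk R C := by
  unfold rk
  rw [(TensorProduct.AlgebraTensorModule.distribBaseChange R (FractionRing R) B C).finrank_eq,
    Module.finrank_tensorProduct]

theorem mu_eq_rk_of_free (F : Type v) [AddCommGroup F] [Module R F] [Module.Free R F] :
    mu R F = rk R F := by
  unfold mu rk
  rw [Module.finrank_baseChange, Module.finrank_baseChange]

/-- if a tensor product of two finite modules over a local domain is free and nonzero, then both
factors are free -/
theorem free_of_tensor_free (B : Type v) (C : Type w) [AddCommGroup B] [Module R B]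
    [AddCommGroup C] [Module R C] [Module.Finite R B] [Module.Finite R C]
    [Module.Free R (B ⊗[R] C)] [Nontrivial (B ⊗[R] C)] :
    Module.Free R B ∧ Module.Free R C := by
  have h1 : mu R (B ⊗[R] C) = rk R (B ⊗[R] C) := mu_eq_rk_of_free _
  rw [mu_tensor, rk_tensor] at h1
  have hpos : 0 < rk R (B ⊗[R] C) := by
    unfold rk
    rw [Module.finrank_baseChange]
    exact Module.finrank_pos
  rw [rk_tensor] at hpos
  have hB := rk_le_mu (R := R) B
  have hC := rk_le_mu (R := R) C
  have hBpos : 0 < rk R B := Nat.pos_of_mul_pos_right hpos
  have hCpos : 0 < rk R C := Nat.pos_of_mul_pos_left hpos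
  constructor
  · apply free_of_mu_le_rk
    by_contra hlt
    push Not at hlt
    have : rk R B * rk R C < mu R B * mu R C :=
      calc rk R B * rk R C < mu R B * rk R C := Nat.mul_lt_mul_of_pos_right hlt hCpos
        _ ≤ mu R B * mu R C := Nat.mul_le_mul_left _ hC
    omega
  · apply free_of_mu_le_rk
    by_contra hlt
    push Not at hlt
    have : rk R B * rk R C < mu R B * mu R C :=
      calc rk R B * rk R C < rk R B * mu R C := Nat.mul_lt_mul_of_pos_left hlt hBpos
        _ ≤ mu R B * mu R C := Nat.mul_le_mul_right _ hB
    omega

end Count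

end Groth.Agent.Helper3.WQ
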