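import Mathlib
import Groth.Agent.Helper3.WQ1

set_option autoImplicit false
set_option linter.style.haveILetI false
set_option linter.unusedSectionVars false
set_option linter.unusedVariables false
set_option linter.deprecated false
set_option linter.style.haveILetI false
set_option linter.unusedSectionVars false
set_option linter.unusedVariables false

namespace Groth.Agent.Helper3.WQ
open TensorProduct

universe u v

section Coprod

variable {R : Type u} [CommRing R] {A : Type v} [CommRing A] [Algebra R A]
  {ι : Type} [Fintype ι] [DecidableEq ι] (B : ι → Subalgebra R A)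

/-- `A` is the coproduct of the subalgebras `B i` (tested against algebras in `Type (max u v)`) -/
def IsCoprod : Prop :=
  ∀ (C : Type (max u v)) [CommRing C] [Algebra R C] (φ : ∀ i, B i →ₐ[R] C),
    ∃! ψ : A →ₐ[R] C, ∀ i (x : B i), ψ x = φ i x

variable (i : ι)

/-- the tensor product of the other factors -/
abbrev Rest : Type (max u v) := PiTensorProduct R (fun j : {j : ι // j ≠ i} => B j.1)

/-- the product multilinear map -/
noncomputable def prodML : MultilinearMap R (fun j : {j : ι // j ≠ i} => B j.1) A :=
  (MultilinearMap.mkPiAlgebra R {j : ι // j ≠ i} A).compLinearMap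
    (fun j => (B j.1).val.toLinearMap)

theorem prodML_apply (x : ∀ j : {j : ι // j ≠ i}, B j.1) :
    prodML B i x = ∏ j, (x j : A) := by
  unfold prodML
  rw [MultilinearMap.compLinearMap_apply, MultilinearMap.mkPiAlgebra_apply]
  rfl

/-- the product map from the other factors -/
noncomputable def restMap : Rest B i →ₐ[R] A :=
  PiTensorProduct.liftAlgHom (prodML B i)
    (by rw [prodML_apply]; simp)
    (by
      intro x y
      rw [prodML_apply, prodML_apply, prodML_apply, ← Finset.prod_mul_distrib]
      rfl)

theorem restMap_single (j : {j : ι // j ≠ i}) (b : B j.1) :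
    restMap B i (PiTensorProduct.singleAlgHom j b) = (b : A) := by
  unfold restMap
  rw [PiTensorProduct.singleAlgHom_apply, PiTensorProduct.liftAlgHom_apply,
    PiTensorProduct.lift.tprod, prodML_apply]
  rw [Finset.prod_eq_single j]
  · simp
  · intro k _ hk
    rw [MonoidHom.mulSingle_apply, Pi.mulSingle_eq_of_ne hk]
    rfl
  · intro h
    exact absurd (Finset.mem_univ j) h

/-- the total tensor product -/
abbrev Tot : Type (max u v) := (B i) ⊗[R] (Rest B i)

/-- the product map `B i ⊗ Rest ⟶ A` -/
noncomputable def totMap : Tot B i →ₐ[R] A :=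
  Algebra.TensorProduct.productMap (B i).val (restMap B i)

/-- the canonical maps `B k ⟶ Tot` -/
noncomputable def inj (k : ι) : B k →ₐ[R] Tot B i :=
  if h : k = i then
    (Algebra.TensorProduct.includeLeft : B i →ₐ[R] Tot B i).comp
      (Subalgebra.inclusion (le_of_eq (by rw [h])))
  else
    (Algebra.TensorProduct.includeRight : Rest B i →ₐ[R] Tot B i).comp
      (PiTensorProduct.singleAlgHom (R := R) (A := fun j : {j : ι // j ≠ i} => B j.1) ⟨k, h⟩)

theorem totMap_inj (k : ι) (x : B k) : totMap B i (inj B i k x) = (x : A) := by
  unfold inj totMap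
  by_cases h : k = i
  · rw [dif_pos h]
    simp only [AlgHom.comp_apply, Algebra.TensorProduct.includeLeft_apply,
      Algebra.TensorProduct.productMap_apply_tmul, map_one, mul_one]
    rfl
  · rw [dif_neg h]
    simp only [AlgHom.comp_apply, Algebra.TensorProduct.includeRight_apply,
      Algebra.TensorProduct.productMap_apply_tmul, map_one, one_mul]
    exact restMap_single B i ⟨k, h⟩ x

variable (hco : IsCoprod B)
include hco

/-- `B i ⊗ Rest ≃ A` -/
theorem totMap_bijective : Function.Bijective (totMap B i) := by
  obtain ⟨ψ, hψ, -⟩ := hco (Tot B i) (inj B i)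
  -- `totMap ∘ ψ = id`
  have h1 : ∀ a : A, totMap B i (ψ a) = a := by
    let up : A →ₐ[R] ULift.{u} A := (ULift.algEquiv (R := R) (A := A)).symm.toAlgHom
    obtain ⟨χ, -, hχ⟩ := hco (ULift.{u} A) (fun k => up.comp (B k).val)
    have e1 : up.comp ((totMap B i).comp ψ) = χ := hχ _ (by
      intro k x
      simp only [AlgHom.comp_apply]
      rw [hψ k x, totMap_inj]
      rfl)
    have e2 : up = χ := hχ _ (by
      intro k x
      simp)
    intro a
    have := congrArg (fun F : A →ₐ[R] ULift.{u} A => (F a).down) (e1.trans e2.symm)
    exact this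
  -- `ψ ∘ totMap = id`
  have h2 : ψ.comp (totMap B i) = AlgHom.id R (Tot B i) := by
    apply Algebra.TensorProduct.ext
    · ext b
      simp only [AlgHom.comp_apply, Algebra.TensorProduct.includeLeft_apply, AlgHom.id_apply]
      have : totMap B i (b ⊗ₜ[R] (1 : Rest B i)) = (b : A) := by
        unfold totMap
        rw [Algebra.TensorProduct.productMap_apply_tmul, map_one, mul_one]
        rfl
      rw [this, hψ i b]
      unfold inj
      rw [dif_pos rfl]
      rfl
    · apply PiTensorProduct.algHom_ext
      intro j
      ext b
      simp only [AlgHom.comp_apply, AlgHom.coe_restrictScalars',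
        Algebra.TensorProduct.includeRight_apply, AlgHom.id_apply]
      have : totMap B i ((1 : B i) ⊗ₜ[R] PiTensorProduct.singleAlgHom j b) = (b : A) := by
        unfold totMap
        rw [Algebra.TensorProduct.productMap_apply_tmul, map_one, one_mul]
        exact restMap_single B i j b
      rw [this, hψ j.1 b]
      unfold inj
      rw [dif_neg j.2]
      rfl
  constructor
  · intro x y hxy
    have := congrArg ψ hxy
    rwa [← AlgHom.comp_apply, ← AlgHom.comp_apply, h2] at this
  · intro a
    exact ⟨ψ a, h1 a⟩

end Coprod

end Groth.Agent.Helper3.WQ
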