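import Mathlib
import Groth.Agent.Helper3.FibCnt1
import Groth.Agent.Helper2.SerreLoc
import Groth.Agent.Helper2.CplCM
import Groth.Agent.Lead.RegLocal

set_option autoImplicit false
set_option linter.style.haveILetI false
set_option linter.unusedSectionVars false
set_option linter.unusedVariables false
set_option linter.deprecated false
set_option linter.style.haveILetI false
set_option linter.unusedSectionVars false
set_option linter.unusedVariables false

namespace Groth.Agent.Helper3.WQ
open TensorProduct

universe u v

/-- same-universe version: a finite injective extension of regular local rings is free -/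
theorem free_of_regular' (R A : Type u) [CommRing R] [IsRegularLocalRing R] [CommRing A]
    [IsRegularLocalRing A] [Algebra R A] [Module.Finite R A]
    (hinj : Function.Injective (algebraMap R A)) : Module.Free R A := by
  haveI : IsDomain R := Groth.Agent.Lead.RegLocal.isDomain_of_isRegularLocalRing R
  haveI : IsDomain A := Groth.Agent.Lead.RegLocal.isDomain_of_isRegularLocalRing A
  haveI : IsRegularRing R := Groth.Agent.Helper2.SerreLoc.isRegularRing_of_isRegularLocalRing R
  haveI : IsRegularRing A := Groth.Agent.Helper2.SerreLoc.isRegularRing_of_isRegularLocalRing A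
  have hcm := Groth.Agent.Helper2.CplCM.cm_of_isRegularRing A
  haveI : Module.Flat R A := Groth.Agent.Helper3.FibCnt.flat_of_regular_cm hinj
    (fun m _ => inferInstance) (fun q _ => ⟨Groth.Agent.Helper2.RegCM.cm_of_isRegularLocalRing _⟩)
  exact Module.free_of_flat_of_isLocalRing

/-- a finite injective extension of regular local rings is free -/
theorem free_of_regular (R : Type u) [CommRing R] [IsRegularLocalRing R] (A : Type v) [CommRing A]
    [IsRegularLocalRing A] [Algebra R A] [Module.Finite R A]
    (hinj : Function.Injective (algebraMap R A)) : Module.Free R A := by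
  let R' := ULift.{v} R
  let A' := ULift.{u} A
  let eR : R' ≃+* R := ULift.ringEquiv
  let eA : A' ≃+* A := ULift.ringEquiv
  letI : Algebra R' A' := ULift.algebra' R (ULift.{u} A)
  haveI : IsRegularLocalRing R' := IsRegularLocalRing.of_ringEquiv eR.symm
  haveI : IsRegularLocalRing A' := IsRegularLocalRing.of_ringEquiv eA.symm
  have hmap : ∀ r : R', algebraMap R' A' r = eA.symm (algebraMap R A (eR r)) := fun r => rfl
  have hinj' : Function.Injective (algebraMap R' A') := by
    intro a b hab
    rw [hmap, hmap] at hab
    exact eR.injective (hinj (eA.symm.injective hab))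
  haveI : Module.Finite R' A' := Module.Finite.of_equiv_equiv eR.symm eA.symm (by
    ext r
    simp only [RingHom.comp_apply, RingEquiv.coe_toRingHom]
    rw [hmap, RingEquiv.apply_symm_apply])
  have hfree : Module.Free R' A' := free_of_regular' R' A' hinj'
  let σ : R' →+* R := eR.toRingHom
  let σ' : R →+* R' := eR.symm.toRingHom
  haveI : RingHomInvPair σ σ' := ⟨by ext; simp [σ, σ'], by ext; simp [σ, σ']⟩
  haveI : RingHomInvPair σ' σ := ⟨by ext; simp [σ, σ'], by ext; simp [σ, σ']⟩
  let e₂ : A' ≃ₛₗ[σ] A :=
    { eA.toAddEquiv with
      map_smul' := fun r x => by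
        show eA (r • x) = eR r • eA x
        rfl }
  exact Module.Free.of_equiv e₂

end Groth.Agent.Helper3.WQ
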