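import Mathlib
import Groth.Agent.Helper3.WQ2
import Groth.Agent.Helper3.WQ3
import Groth.Agent.Helper2.RegDescent

set_option autoImplicit false
set_option linter.style.haveILetI false
set_option linter.unusedSectionVars false
set_option linter.unusedVariables false
set_option linter.deprecated false
set_option linter.style.haveILetI false
set_option linter.unusedSectionVars false
set_option linter.unusedVariables false

namespace Groth.Agent.Helper3.WQ
open TensorProduct

universe u v

/-- If a regular local ring `A`, finite over the regular local ring `R`, is the coproduct of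
`R`-subalgebras `B i`, then every `B i` is `R`-free and a regular local ring. -/
theorem main (R : Type u) [CommRing R] [IsRegularLocalRing R] (A : Type v) [CommRing A]
    [IsRegularLocalRing A] [Algebra R A] [Module.Finite R A]
    (hinj : Function.Injective (algebraMap R A))
    {ι : Type} [Fintype ι] [DecidableEq ι] (B : ι → Subalgebra R A) (hco : IsCoprod B) (i : ι) :
    Module.Free R (B i) ∧ IsRegularLocalRing (B i) := by
  haveI : IsDomain R := Groth.Agent.Lead.RegLocal.isDomain_of_isRegularLocalRing R
  haveI : Module.Free R A := free_of_regular R A hinj
  haveI : IsNoetherian R A := isNoetherian_of_isNoetherianRing_of_finite R A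
  have hfin : ∀ j, Module.Finite R (B j) := fun j =>
    show Module.Finite R (Subalgebra.toSubmodule (B j)) from inferInstance
  haveI := hfin
  haveI : ∀ j : {j : ι // j ≠ i}, Module.Finite R (B j.1) := fun j => hfin j.1
  have hbij := totMap_bijective B i hco
  let e : Tot B i ≃ₗ[R] A := LinearEquiv.ofBijective (totMap B i).toLinearMap hbij
  haveI : Module.Free R (Tot B i) := Module.Free.of_equiv e.symm
  haveI : Nontrivial (Tot B i) := e.symm.injective.nontrivial
  obtain ⟨hfreeB, hfreeRest⟩ := free_of_tensor_free (R := R) (B i) (Rest B i)
  refine ⟨hfreeB, ?_⟩
  -- `A` is free over `B i`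
  haveI := hfreeRest
  haveI : Module.Free (B i) (Tot B i) := inferInstance
  let e' : Tot B i ≃ₗ[B i] A :=
    { e with
      map_smul' := fun b x => by
        show totMap B i (b • x) = b • totMap B i x
        have h0 : b • x = algebraMap (B i) (Tot B i) b * x := Algebra.smul_def b x
        have h1 : b • x = (b ⊗ₜ[R] (1 : Rest B i)) * x := by
          rw [h0, Algebra.TensorProduct.algebraMap_apply]
          rfl
        have h2 : totMap B i (b ⊗ₜ[R] (1 : Rest B i)) = (b : A) := by
          unfold totMap
          rw [Algebra.TensorProduct.productMap_apply_tmul, map_one, mul_one]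
          rfl
        rw [h1, map_mul, h2]
        rfl }
  haveI : Module.Free (B i) A := Module.Free.of_equiv e'
  haveI : Module.Flat (B i) A := inferInstance
  -- `B i` is a noetherian local ring and `B i → A` is local
  haveI : IsNoetherian R (B i) := isNoetherian_of_isNoetherianRing_of_finite R (B i)
  haveI : IsNoetherianRing (B i) := isNoetherian_of_tower R inferInstance
  haveI : Algebra.IsIntegral (B i) A := by
    haveI : Algebra.IsIntegral R A := Algebra.IsIntegral.of_finite R A
    exact Algebra.IsIntegral.tower_top (R := R)
  haveI : FaithfulSMul (B i) A :=
    (faithfulSMul_iff_algebraMap_injective (B i) A).2 Subtype.val_injective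
  haveI : IsLocalHom (algebraMap (B i) A) := inferInstance
  haveI : IsLocalRing (B i) := RingHom.domain_isLocalRing (algebraMap (B i) A)
  exact Groth.Agent.Helper2.RegDescent.isRegularLocalRing_of_flat (B i) A

end Groth.Agent.Helper3.WQ
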