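import Mathlib
import Groth.Agent.Helper3.EtSliceSch

set_option autoImplicit false
set_option linter.style.haveILetI false
set_option linter.unusedSectionVars false
set_option linter.unusedVariables false
set_option linter.deprecated false
set_option linter.style.haveILetI false
set_option linter.unusedSectionVars false
set_option linter.unusedVariables false

universe u

namespace Groth.Agent.Helper3.WeakNMP1

open AlgebraicGeometry CategoryTheory CategoryTheory.Limits TopologicalSpace Opposite TensorProduct
open Polynomial

theorem residueField_fraction_alg {A : Type u} [CommRing A] (p : Ideal A) [p.IsPrime]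
    (c : p.ResidueField) :
    ∃ n t : A, algebraMap A p.ResidueField t ≠ 0 ∧
      algebraMap A p.ResidueField t * c = algebraMap A p.ResidueField n := by
  obtain ⟨x, rfl⟩ := Ideal.Quotient.mk_surjective (I := IsLocalRing.maximalIdeal (Localization.AtPrime p)) c
  obtain ⟨n, t, rfl⟩ := IsLocalization.exists_mk'_eq p.primeCompl x
  refine ⟨n, t, ?_, ?_⟩
  · intro h0
    have h1 : algebraMap A p.ResidueField t =
        IsLocalRing.residue _ (algebraMap A (Localization.AtPrime p) t) := rfl
    rw [h1, IsLocalRing.residue_eq_zero_iff] at h0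
    exact (IsLocalRing.mem_maximalIdeal _).mp h0 (IsLocalization.map_units _ t)
  · show IsLocalRing.residue _ (algebraMap A (Localization.AtPrime p) t) *
      IsLocalRing.residue _ (IsLocalization.mk' _ n t) =
      IsLocalRing.residue _ (algebraMap A (Localization.AtPrime p) n)
    rw [← map_mul, mul_comm, IsLocalization.mk'_spec]

/-- In a finite type algebra over a ring containing a field of characteristic zero, above every
prime there is a prime with the separability criterion for étale slices. -/
theorem exists_sep_prime {k A B : Type u} [Field k] [CharZero k] [CommRing A] [CommRing B]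
    [Algebra A B] [Algebra.FiniteType A B] (φ : k →+* A) (q₀ : Ideal B) [q₀.IsPrime] :
    ∃ q : Ideal B, q.IsPrime ∧ q₀ ≤ q ∧
      ∀ b : B, ∃ P : Polynomial A, aeval b P ∈ q ∧ aeval b (derivative P) ∉ q := by
  set p : Ideal A := q₀.comap (algebraMap A B) with hp
  haveI : p.IsPrime := Ideal.IsPrime.comap _
  let pp : PrimeSpectrum A := ⟨p, inferInstance⟩
  let Q₀ : PrimeSpectrum (p.Fiber B) := PrimeSpectrum.preimageEquivFiber A B pp
    ⟨⟨q₀, inferInstance⟩, rfl⟩
  have hQ₀ : Q₀.asIdeal.comap (Algebra.TensorProduct.includeRight :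
      B →ₐ[A] p.Fiber B).toRingHom = q₀ := by
    have := (PrimeSpectrum.preimageEquivFiber A B pp).left_inv ⟨⟨q₀, inferInstance⟩, rfl⟩
    exact congrArg (fun z => z.1.asIdeal) this
  obtain ⟨m, hm, hQm⟩ := Ideal.exists_le_maximal Q₀.asIdeal Q₀.2.ne_top
  letI : Field (p.Fiber B ⧸ m) := Ideal.Quotient.field m
  haveI : Algebra.FiniteType p.ResidueField (p.Fiber B ⧸ m) :=
    Algebra.FiniteType.of_surjective (Ideal.Quotient.mkₐ p.ResidueField m)
      (Ideal.Quotient.mkₐ_surjective _ _)
  haveI : Module.Finite p.ResidueField (p.Fiber B ⧸ m) :=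
    finite_of_finite_type_of_isJacobsonRing _ _
  haveI : CharZero p.ResidueField :=
    charZero_of_injective_ringHom ((algebraMap A p.ResidueField).comp φ).injective
  haveI : Algebra.IsSeparable p.ResidueField (p.Fiber B ⧸ m) := inferInstance
  let evB : B →+* (p.Fiber B ⧸ m) :=
    (Ideal.Quotient.mk m).comp (Algebra.TensorProduct.includeRight : B →ₐ[A] p.Fiber B).toRingHom
  refine ⟨RingHom.ker evB, RingHom.ker_isPrime evB, ?_, ?_⟩
  · intro x hx
    rw [RingHom.mem_ker]
    show Ideal.Quotient.mk m ((Algebra.TensorProduct.includeRight : B →ₐ[A] p.Fiber B) x) = 0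
    rw [Ideal.Quotient.eq_zero_iff_mem]
    apply hQm
    have : x ∈ Q₀.asIdeal.comap (Algebra.TensorProduct.includeRight :
      B →ₐ[A] p.Fiber B).toRingHom := by rw [hQ₀]; exact hx
    exact this
  · intro b
    refine EtSliceSch.sep_criterion (algebraMap A p.ResidueField) evB ?_
      (residueField_fraction_alg p) (RingHom.ker evB) (fun b => Iff.rfl) b
    intro r
    show Ideal.Quotient.mk m ((Algebra.TensorProduct.includeRight : B →ₐ[A] p.Fiber B)
      (algebraMap A B r)) = algebraMap p.ResidueField (p.Fiber B ⧸ m) (algebraMap A p.ResidueField r)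
    rw [AlgHom.commutes]
    rfl

end Groth.Agent.Helper3.WeakNMP1
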