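import Mathlib
import Groth.Agent.Helper3.EtSliceSch
import Groth.Agent.Helper3.SchDense
import Groth.Agent.Helper3.SchDenseExt

set_option autoImplicit false
set_option linter.style.haveILetI false
set_option linter.unusedSectionVars false
set_option linter.unusedVariables false
set_option linter.deprecated false
set_option linter.style.haveILetI false
set_option linter.unusedSectionVars false
set_option linter.unusedVariables false

universe u

namespace Groth.Agent.Helper3.WeakNMP2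

open AlgebraicGeometry CategoryTheory CategoryTheory.Limits TopologicalSpace Opposite TensorProduct

/-- étale slice through a point satisfying the polynomial separability criterion -/
theorem main' {X S : Scheme.{u}} (f : X ⟶ S) [Smooth f] (x : X)
    {U : S.Opens} (hU : IsAffineOpen U) {V : X.Opens} (hV : IsAffineOpen V)
    (hVU : V ≤ f ⁻¹ᵁ U) (hxV : x ∈ V)
    (hsepc : letI := (f.appLE U V hVU).hom.toAlgebra
      ∀ b : Γ(X, V), ∃ P : Polynomial Γ(S, U),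
        Polynomial.aeval b P ∈ (hV.primeIdealOf ⟨x, hxV⟩).asIdeal ∧
        Polynomial.aeval b (Polynomial.derivative P) ∉ (hV.primeIdealOf ⟨x, hxV⟩).asIdeal) :
    ∃ (Z : Scheme.{u}) (i : Z ⟶ X) (z : Z), Etale (i ≫ f) ∧ i z = x := by
  have hsm : (f.appLE U V hVU).hom.Smooth :=
    HasRingHomProperty.appLE (P := @Smooth) (f := f) ‹Smooth f› ⟨U, hU⟩ ⟨V, hV⟩ hVU
  algebraize [(f.appLE U V hVU).hom]
  haveI : Algebra.IsSmoothAt Γ(S, U) (hV.primeIdealOf ⟨x, hxV⟩).asIdeal :=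
    Algebra.FormallySmooth.comp Γ(S, U) Γ(X, V) _
  have hsp := EtSlice.span_delta_of_sep Γ(S, U) Γ(X, V) (hV.primeIdealOf ⟨x, hxV⟩).asIdeal hsepc
  obtain ⟨g, hg, I, hI, het⟩ := EtSlice.slice Γ(S, U) Γ(X, V) (hV.primeIdealOf ⟨x, hxV⟩).asIdeal hsp
  set q := (hV.primeIdealOf ⟨x, hxV⟩).asIdeal with hq
  let Bg := Localization.Away g
  let ψ : Γ(X, V) →+* Bg ⧸ I := (Ideal.Quotient.mk I).comp (algebraMap Γ(X, V) Bg)
  let Z₀ : Scheme.{u} := Spec (.of (Bg ⧸ I))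
  let j : Z₀ ⟶ Spec Γ(X, V) := Spec.map (CommRingCat.ofHom ψ)
  let i₀ : Z₀ ⟶ X := j ≫ hV.fromSpec
  have hcomp : i₀ ≫ f = Spec.map (CommRingCat.ofHom (algebraMap Γ(S, U) (Bg ⧸ I))) ≫ hU.fromSpec := by
    have h1 : Spec.map (CommRingCat.ofHom (algebraMap Γ(S, U) (Bg ⧸ I))) =
        j ≫ Spec.map (f.appLE U V hVU) := by
      rw [← Spec.map_comp]
      congr 1
    calc i₀ ≫ f = j ≫ (hV.fromSpec ≫ f) := Category.assoc _ _ _
      _ = j ≫ (Spec.map (f.appLE U V hVU) ≫ hU.fromSpec) := by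
        rw [IsAffineOpen.SpecMap_appLE_fromSpec f hU hV hVU]
      _ = (j ≫ Spec.map (f.appLE U V hVU)) ≫ hU.fromSpec := (Category.assoc _ _ _).symm
      _ = _ := by rw [h1]
  haveI : Etale (Spec.map (CommRingCat.ofHom (algebraMap Γ(S, U) (Bg ⧸ I)))) :=
    HasRingHomProperty.Spec_iff.mpr (RingHom.etale_algebraMap.mpr het)
  haveI : Etale (i₀ ≫ f) := by rw [hcomp]; infer_instance
  have hdisj : Disjoint (Submonoid.powers g : Set Γ(X, V)) (q : Set Γ(X, V)) := by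
    rw [Set.disjoint_left]
    rintro _ ⟨k, rfl⟩ hk
    exact hg (Ideal.IsPrime.mem_of_pow_mem inferInstance k hk)
  let qg : Ideal Bg := q.map (algebraMap Γ(X, V) Bg)
  haveI hqg : qg.IsPrime :=
    IsLocalization.isPrime_of_isPrime_disjoint (Submonoid.powers g) Bg q inferInstance hdisj
  have hqg' : qg.comap (algebraMap Γ(X, V) Bg) = q :=
    IsLocalization.comap_map_of_isPrime_disjoint (Submonoid.powers g) Bg inferInstance hdisj
  let qq : Ideal (Bg ⧸ I) := qg.map (Ideal.Quotient.mk I)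
  haveI hqq : qq.IsPrime :=
    Ideal.map_isPrime_of_surjective Ideal.Quotient.mk_surjective (by rw [Ideal.mk_ker]; exact hI)
  have hqq' : qq.comap (Ideal.Quotient.mk I) = qg := by
    rw [Ideal.comap_map_of_surjective _ Ideal.Quotient.mk_surjective, ← RingHom.ker_eq_comap_bot,
      Ideal.mk_ker, sup_eq_left]
    exact hI
  let z₀ : Z₀ := ⟨qq, hqq⟩
  have hz₀ : i₀ z₀ = x := by
    have h1 : j z₀ = hV.primeIdealOf ⟨x, hxV⟩ := by
      apply PrimeSpectrum.ext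
      show (qq.comap (Ideal.Quotient.mk I)).comap (algebraMap Γ(X, V) Bg) = q
      rw [hqq', hqg']
    show hV.fromSpec (j z₀) = x
    rw [h1, hV.fromSpec_primeIdealOf]
  exact ⟨Z₀, i₀, z₀, inferInstance, hz₀⟩

/-- two morphisms from a flat scheme over a locally noetherian base, agreeing over a
schematically dense open of the base and at a point, agree near the point -/
theorem eq_near {Z N S : Scheme.{u}} [IsLocallyNoetherian S] (p : Z ⟶ S) [Flat p]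
    (S₀ : S.Opens) (hS₀ : CInt.IsSchematicallyDense S₀) (g₁ g₂ : Z ⟶ N)
    (hagree : (p ⁻¹ᵁ S₀).ι ≫ g₁ = (p ⁻¹ᵁ S₀).ι ≫ g₂) (z : Z) (hz : g₁ z = g₂ z) :
    ∃ O : Z.Opens, z ∈ O ∧ O.ι ≫ g₁ = O.ι ≫ g₂ := by
  obtain ⟨_, ⟨(N' : N.Opens), hN', rfl⟩, hzN', -⟩ :=
    N.isBasis_affineOpens.exists_subset_of_mem_open (Set.mem_univ (g₁ z)) isOpen_univ
  replace hN' : IsAffineOpen N' := hN'
  set O : Z.Opens := g₁ ⁻¹ᵁ N' ⊓ g₂ ⁻¹ᵁ N' with hO
  have hzO : z ∈ O := ⟨hzN', by show g₂ z ∈ N'; rw [← hz]; exact hzN'⟩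
  refine ⟨O, hzO, ?_⟩
  have hr1 : Set.range (O.ι ≫ g₁) ⊆ Set.range N'.ι := by
    rw [Scheme.Opens.range_ι]
    rintro _ ⟨w, rfl⟩
    exact w.2.1
  have hr2 : Set.range (O.ι ≫ g₂) ⊆ Set.range N'.ι := by
    rw [Scheme.Opens.range_ι]
    rintro _ ⟨w, rfl⟩
    exact w.2.2
  let a₁ := IsOpenImmersion.lift N'.ι (O.ι ≫ g₁) hr1
  let a₂ := IsOpenImmersion.lift N'.ι (O.ι ≫ g₂) hr2
  have ha₁ : a₁ ≫ N'.ι = O.ι ≫ g₁ := IsOpenImmersion.lift_fac _ _ _
  have ha₂ : a₂ ≫ N'.ι = O.ι ≫ g₂ := IsOpenImmersion.lift_fac _ _ _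
  suffices h : a₁ = a₂ by rw [← ha₁, ← ha₂, h]
  haveI : IsAffine (N' : Scheme.{u}) := hN'
  haveI : Flat (O.ι ≫ p) := inferInstance
  have hd : CInt.IsSchematicallyDense ((O.ι ≫ p) ⁻¹ᵁ S₀) :=
    SchDense.preimage_of_flat_locallyNoetherian (O.ι ≫ p) S₀ hS₀
  apply SchDenseExt.ext_of_schDense ((O.ι ≫ p) ⁻¹ᵁ S₀) hd (terminal.from (N' : Scheme.{u}))
    (terminal.hom_ext _ _)
  rw [← cancel_mono N'.ι, Category.assoc, Category.assoc, ha₁, ha₂]
  -- the inclusion of `(O.ι ≫ p)⁻¹ S₀` into `Z` factors through `p⁻¹ S₀`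
  have hr : Set.range (((O.ι ≫ p) ⁻¹ᵁ S₀).ι ≫ O.ι) ⊆ Set.range (p ⁻¹ᵁ S₀).ι := by
    rw [Scheme.Opens.range_ι]
    rintro _ ⟨w, rfl⟩
    exact w.2
  let c := IsOpenImmersion.lift (p ⁻¹ᵁ S₀).ι (((O.ι ≫ p) ⁻¹ᵁ S₀).ι ≫ O.ι) hr
  have hc : c ≫ (p ⁻¹ᵁ S₀).ι = ((O.ι ≫ p) ⁻¹ᵁ S₀).ι ≫ O.ι := IsOpenImmersion.lift_fac _ _ _
  rw [← Category.assoc, ← Category.assoc, ← hc, Category.assoc, Category.assoc, hagree]

end Groth.Agent.Helper3.WeakNMP2
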