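import Mathlib
import Groth.Agent.Helper3.WeakNMP1
import Groth.Agent.Helper3.WeakNMP2

set_option autoImplicit false
set_option linter.style.haveILetI false
set_option linter.unusedSectionVars false
set_option linter.unusedVariables false
set_option linter.deprecated false
set_option linter.style.haveILetI false
set_option linter.unusedSectionVars false
set_option linter.unusedVariables false

universe u

namespace Groth.Agent.Helper3.WeakNMP3

open AlgebraicGeometry CategoryTheory CategoryTheory.Limits TopologicalSpace Opposite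

/-- restriction of morphisms over `S` to the preimage of an open, from equality of base changes -/
theorem agree_of_pullback_eq {S : Scheme.{u}} (S₀ : S.Opens) {Z N : Over S} (g₁ g₂ : Z ⟶ N)
    (hg : (Over.pullback S₀.ι).map g₁ = (Over.pullback S₀.ι).map g₂) :
    (Z.hom ⁻¹ᵁ S₀).ι ≫ g₁.left = (Z.hom ⁻¹ᵁ S₀).ι ≫ g₂.left := by
  let l : ((Z.hom ⁻¹ᵁ S₀ : Z.left.Opens) : Scheme.{u}) ⟶ pullback Z.hom S₀.ι :=
    pullback.lift (Z.hom ⁻¹ᵁ S₀).ι (Z.hom ∣_ S₀) (morphismRestrict_ι Z.hom S₀).symm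
  have hl : l ≫ pullback.fst Z.hom S₀.ι = (Z.hom ⁻¹ᵁ S₀).ι := pullback.lift_fst _ _ _
  have key : ∀ g : Z ⟶ N, (Z.hom ⁻¹ᵁ S₀).ι ≫ g.left =
      l ≫ ((Over.pullback S₀.ι).map g).left ≫ pullback.fst N.hom S₀.ι := by
    intro g
    rw [← hl, Category.assoc]
    congr 1
    simp only [Over.pullback_map_left]
    exact (pullback.lift_fst _ _ _).symm
  rw [key g₁, key g₂, hg]

theorem s13422 {k : Type u} [Field k] [CharZero k] {S : Scheme.{u}}
    (σ : S ⟶ Spec (CommRingCat.of k)) [IsLocallyNoetherian S] (S₀ : S.Opens)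
    (hS₀ : CInt.IsSchematicallyDense S₀)
    (N : Over S) [Smooth N.hom]
    (hN : ∀ U : Over S, Etale U.hom →
      Function.Bijective (fun g : U ⟶ N => (Over.pullback S₀.ι).map g))
    (Z : Over S) [Smooth Z.hom] :
    Function.Injective (fun g : Z ⟶ N => (Over.pullback S₀.ι).map g) := by
  intro g₁ g₂ hg
  replace hg : (Over.pullback S₀.ι).map g₁ = (Over.pullback S₀.ι).map g₂ := hg
  have hagree := agree_of_pullback_eq S₀ g₁ g₂ hg
  -- the locus of pointwise agreement is open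
  have hTopen : IsOpen {z : Z.left | g₁.left z = g₂.left z} := by
    rw [isOpen_iff_forall_mem_open]
    intro z hz
    obtain ⟨O, hzO, hO⟩ := WeakNMP2.eq_near Z.hom S₀ hS₀ g₁.left g₂.left hagree z hz
    refine ⟨O, ?_, O.2, hzO⟩
    intro w hw
    have h1 : (O.ι ≫ g₁.left) ⟨w, hw⟩ = (O.ι ≫ g₂.left) ⟨w, hw⟩ := by rw [hO]
    exact h1
  -- points with an étale quasi-section lie in the locus
  have hquasi : ∀ (Z' : Scheme.{u}) (i : Z' ⟶ Z.left) (z' : Z'), Etale (i ≫ Z.hom) →
      g₁.left (i z') = g₂.left (i z') := by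
    intro Z' i z' het
    let U : Over S := Over.mk (i ≫ Z.hom)
    let h : U ⟶ Z := Over.homMk i rfl
    have hinj := (hN U het).1
    have h1 : h ≫ g₁ = h ≫ g₂ := by
      apply hinj
      show (Over.pullback S₀.ι).map (h ≫ g₁) = (Over.pullback S₀.ι).map (h ≫ g₂)
      rw [Functor.map_comp, Functor.map_comp, hg]
    have h2 : i ≫ g₁.left = i ≫ g₂.left := congrArg (fun φ => φ.left) h1
    show (i ≫ g₁.left) z' = (i ≫ g₂.left) z'
    rw [h2]
  have hpt : ∀ c : Z.left, g₁.left c = g₂.left c := by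
    intro c
    obtain ⟨_, ⟨W, hW, rfl⟩, hsW, -⟩ := S.isBasis_affineOpens.exists_subset_of_mem_open
      (Set.mem_univ (Z.hom c)) isOpen_univ
    obtain ⟨_, ⟨V, hV, rfl⟩, hcV, hVW : V ≤ Z.hom ⁻¹ᵁ W⟩ :=
      Z.left.isBasis_affineOpens.exists_subset_of_mem_open hsW (Z.hom ⁻¹ᵁ W).2
    replace hW : IsAffineOpen W := hW
    replace hV : IsAffineOpen V := hV
    letI alg : Algebra Γ(S, W) Γ(Z.left, V) := (Z.hom.appLE W V hVW).hom.toAlgebra
    haveI : Algebra.FiniteType Γ(S, W) Γ(Z.left, V) :=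
      HasRingHomProperty.appLE (P := @LocallyOfFiniteType) (f := Z.hom) inferInstance
        ⟨W, hW⟩ ⟨V, hV⟩ hVW
    let φ : k →+* Γ(S, W) :=
      ((Scheme.ΓSpecIso (CommRingCat.of k)).inv ≫ σ.appTop ≫
        S.presheaf.map (homOfLE (le_top : W ≤ ⊤)).op).hom
    haveI : (hV.primeIdealOf ⟨c, hcV⟩).asIdeal.IsPrime := (hV.primeIdealOf ⟨c, hcV⟩).2
    obtain ⟨q, hq, hle, hsep⟩ := WeakNMP1.exists_sep_prime φ (hV.primeIdealOf ⟨c, hcV⟩).asIdeal
    let z : Z.left := hV.fromSpec (⟨q, hq⟩ : PrimeSpectrum Γ(Z.left, V))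
    have hzV : z ∈ V := by
      have : z ∈ Set.range hV.fromSpec := Set.mem_range_self _
      rw [hV.range_fromSpec] at this
      exact this
    have hprime : hV.primeIdealOf ⟨z, hzV⟩ = ⟨q, hq⟩ := by
      apply hV.fromSpec.isOpenEmbedding.injective
      exact hV.fromSpec_primeIdealOf ⟨z, hzV⟩
    -- `c` specializes to `z`
    have hspec : c ⤳ z := by
      have h1 : hV.primeIdealOf ⟨c, hcV⟩ ⤳ (⟨q, hq⟩ : PrimeSpectrum Γ(Z.left, V)) :=
        (PrimeSpectrum.le_iff_specializes _ _).mp hle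
      have h2 := h1.map hV.fromSpec.base.hom.2
      have h3 : hV.fromSpec (hV.primeIdealOf ⟨c, hcV⟩) = c := hV.fromSpec_primeIdealOf ⟨c, hcV⟩
      rw [← h3]
      exact h2
    -- `z` has an étale quasi-section
    have hsep' : ∀ b : Γ(Z.left, V), ∃ P : Polynomial Γ(S, W),
        Polynomial.aeval b P ∈ (hV.primeIdealOf ⟨z, hzV⟩).asIdeal ∧
        Polynomial.aeval b (Polynomial.derivative P) ∉ (hV.primeIdealOf ⟨z, hzV⟩).asIdeal := by
      rw [hprime]
      exact hsep
    obtain ⟨Z', i, z', het, hiz⟩ := WeakNMP2.main' Z.hom z hW hV hVW hzV hsep'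
    have hzT : z ∈ {w : Z.left | g₁.left w = g₂.left w} := by
      show g₁.left z = g₂.left z
      rw [← hiz]
      exact hquasi Z' i z' het
    exact hspec.mem_open hTopen hzT
  -- glue
  choose O hzO hO using fun z => WeakNMP2.eq_near Z.hom S₀ hS₀ g₁.left g₂.left hagree z (hpt z)
  have hcov : IsOpenCover O := by
    rw [IsOpenCover, eq_top_iff]
    intro z _
    exact Opens.mem_iSup.mpr ⟨z, hzO z⟩
  apply Over.OverMorphism.ext
  refine Scheme.Cover.hom_ext (Z.left.openCoverOfIsOpenCover _ hcov) _ _ fun z => ?_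
  exact hO z

end Groth.Agent.Helper3.WeakNMP3
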