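import Mathlib

set_option autoImplicit false
set_option linter.style.haveILetI false
set_option linter.unusedSectionVars false
set_option linter.unusedVariables false
set_option linter.style.haveILetI false
set_option linter.unusedSectionVars false
set_option linter.unusedVariables false

universe u

namespace Groth.Agent.Helper3.WedgeAnn

section Generic
variable {S : Type*} [CommRing S] {n : ℕ} (a : Fin n → S) (i : Fin n)

/-- the projection killing `a` -/
noncomputable def ψ (u : S) : (Fin n → S) →ₗ[S] ({j : Fin n // j ≠ i} → S) :=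
  LinearMap.pi fun j => LinearMap.proj (j : Fin n) - (u * a j) • LinearMap.proj i

theorem ψ_apply (u : S) (v : Fin n → S) (j : {j : Fin n // j ≠ i}) :
    ψ a i u v j = v j - u * a j * v i := by
  simp [ψ]

theorem ker_ψ (u : S) (hu : u * a i = 1) : LinearMap.ker (ψ a i u) = Submodule.span S {a} := by
  apply le_antisymm
  · intro v hv
    rw [LinearMap.mem_ker] at hv
    rw [Submodule.mem_span_singleton]
    refine ⟨u * v i, ?_⟩
    funext j
    by_cases hj : j = i
    · subst hj
      simp only [Pi.smul_apply, smul_eq_mul]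
      calc u * v j * a j = (u * a j) * v j := by ring
        _ = v j := by rw [hu, one_mul]
    · have := congrFun hv ⟨j, hj⟩
      rw [ψ_apply] at this
      simp only [Pi.smul_apply, smul_eq_mul, Pi.zero_apply] at this ⊢
      linear_combination -this
  · rw [Submodule.span_le, Set.singleton_subset_iff]
    change a ∈ LinearMap.ker _
    rw [LinearMap.mem_ker]
    funext j
    rw [ψ_apply]
    simp only [Pi.zero_apply]
    linear_combination (-(a j)) * hu

theorem ψ_surjective (u : S) : Function.Surjective (ψ a i u) := by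
  intro w
  refine ⟨fun j => if h : j ≠ i then w ⟨j, h⟩ else 0, ?_⟩
  funext j
  rw [ψ_apply]
  simp [j.2]

/-- `S^n / S a` is free on the coordinates other than `i` when `a i` is a unit. -/
noncomputable def quotEquiv (u : S) (hu : u * a i = 1) :
    ((Fin n → S) ⧸ Submodule.span S {a}) ≃ₗ[S] ({j : Fin n // j ≠ i} → S) :=
  (Submodule.quotEquivOfEq _ _ (ker_ψ a i u hu).symm).trans
    ((ψ a i u).quotKerEquivOfSurjective (ψ_surjective a i u))

end Generic

theorem part2 (R : Type u) [CommRing R] (n : ℕ) (a : Fin n → R) (p : PrimeSpectrum R)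
    (hp : ¬ Ideal.span (Set.range a) ≤ p.asIdeal) :
    p ∈ Module.freeLocus R ((Fin n → R) ⧸ Submodule.span R {a}) ∧
      Module.rankAtStalk ((Fin n → R) ⧸ Submodule.span R {a}) p = n - 1 := by
  obtain ⟨i, hi⟩ : ∃ i, a i ∉ p.asIdeal := by
    by_contra hc
    push Not at hc
    exact hp (Ideal.span_le.2 (by rintro _ ⟨i, rfl⟩; exact hc i))
  let S := Localization.AtPrime p.asIdeal
  let P := p.asIdeal.primeCompl
  let f : (Fin n → R) →ₗ[R] (Fin n → S) :=
    LinearMap.pi fun j => Algebra.linearMap R S ∘ₗ LinearMap.proj j
  haveI : IsLocalizedModule P f := IsLocalizedModule.pi P (fun _ => Algebra.linearMap R S)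
  let M' : Submodule R (Fin n → R) := Submodule.span R {a}
  let g := M'.toLocalizedQuotient' S P f
  haveI : IsLocalizedModule P g := inferInstance
  let a' : Fin n → S := fun j => algebraMap R S (a j)
  have hM' : M'.localized' S P f = Submodule.span S {a'} := by
    rw [Submodule.localized'_eq_span]
    apply le_antisymm
    · rw [Submodule.span_le]
      rintro _ ⟨m, hm, rfl⟩
      obtain ⟨c, rfl⟩ := Submodule.mem_span_singleton.1 hm
      rw [map_smul, ← algebraMap_smul S c (f a)]
      exact Submodule.smul_mem _ _ (Submodule.subset_span rfl)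
    · rw [Submodule.span_le, Set.singleton_subset_iff]
      exact Submodule.subset_span ⟨a, Submodule.mem_span_singleton_self a, rfl⟩
  have hu : IsUnit (a' i) := IsLocalization.map_units S (⟨a i, hi⟩ : P)
  obtain ⟨u, hu⟩ := hu.exists_left_inv
  let e1 : LocalizedModule P ((Fin n → R) ⧸ Submodule.span R {a}) ≃ₗ[S]
      ((Fin n → S) ⧸ M'.localized' S P f) :=
    (IsLocalizedModule.isBaseChange P S
      (LocalizedModule.mkLinearMap P ((Fin n → R) ⧸ Submodule.span R {a}))).equiv.symm ≪≫ₗ
      (IsLocalizedModule.isBaseChange P S g).equiv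
  let e2 := Submodule.quotEquivOfEq _ _ hM'
  let e3 := quotEquiv a' i u hu
  let e := e1 ≪≫ₗ e2 ≪≫ₗ e3
  constructor
  · rw [Module.mem_freeLocus]
    exact Module.Free.of_equiv e.symm
  · rw [Module.rankAtStalk, e.finrank_eq, Module.finrank_fintype_fun_eq_card,
      Fintype.card_subtype_compl]
    simp

section Ann
variable (R : Type u) [CommRing R] (n : ℕ) (a : Fin n → R)

/-- the cokernel -/
abbrev F := (Fin n → R) ⧸ Submodule.span R {a}

/-- images of the standard basis vectors -/
noncomputable def ebar : Fin n → F R n a := fun j => Submodule.Quotient.mk (Pi.single j 1)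

theorem sum_ebar : ∑ j, a j • ebar R n a j = 0 := by
  have h1 : (Submodule.Quotient.mk a : F R n a) = 0 :=
    (Submodule.Quotient.mk_eq_zero _).2 (Submodule.mem_span_singleton_self a)
  have h2 : a = ∑ j, a j • (Pi.single j 1 : Fin n → R) := by
    have := (Pi.basisFun R (Fin n)).sum_repr a
    simpa using this.symm
  have h3 : (Submodule.mkQ (Submodule.span R {a}))
      (∑ j, a j • (Pi.single j 1 : Fin n → R)) = 0 := by
    rw [← h2]; exact h1
  rw [map_sum] at h3
  simp only [map_smul] at h3
  exact h3

theorem smul_ω (i : Fin n) : a i • exteriorPower.ιMulti R n (ebar R n a) = 0 := by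
  classical
  have h0 : exteriorPower.ιMulti R n
      (Function.update (ebar R n a) i (∑ j, a j • ebar R n a j)) = 0 := by
    rw [sum_ebar]
    exact AlternatingMap.map_update_zero _ _ _
  rw [AlternatingMap.map_update_sum, Finset.sum_eq_single i] at h0
  · rwa [AlternatingMap.map_update_smul, Function.update_eq_self] at h0
  · intro j _ hji
    rw [AlternatingMap.map_update_smul, AlternatingMap.map_update_self _ _ (Ne.symm hji),
      smul_zero]
  · simp

theorem smul_all (i : Fin n) (x : ⋀[R]^n (F R n a)) : a i • x = 0 := by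
  classical
  have hx : x ∈ Submodule.span R (Set.range (exteriorPower.ιMulti R n (M := F R n a))) := by
    rw [exteriorPower.ιMulti_span]; trivial
  induction hx using Submodule.span_induction with
  | mem x hx =>
    obtain ⟨v, rfl⟩ := hx
    have : ∀ k, ∃ w : Fin n → R, Submodule.Quotient.mk w = v k :=
      fun k => Submodule.Quotient.mk_surjective _ (v k)
    choose w hw using this
    let g : (Fin n → R) [⋀^Fin n]→ₗ[R] ⋀[R]^n (F R n a) :=
      (exteriorPower.ιMulti R n).compLinearMap (Submodule.mkQ _)
    have hg : a i • g = 0 := by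
      apply Module.Basis.ext_alternating (Pi.basisFun R (Fin n))
      intro σ hσ
      let σ' : Equiv.Perm (Fin n) := Equiv.ofBijective σ (Finite.injective_iff_bijective.1 hσ)
      have h1 : (g fun k => (Pi.basisFun R (Fin n)) (σ k)) =
          exteriorPower.ιMulti R n (ebar R n a ∘ σ') := by
        change exteriorPower.ιMulti R n _ = _
        congr 1
        funext k
        simp [ebar, σ']
      rw [AlternatingMap.smul_apply, h1, AlternatingMap.map_perm, smul_comm, smul_ω, smul_zero]
      rfl
    have h2 : v = fun k => Submodule.mkQ _ (w k) := by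
      funext k; exact (hw k).symm
    have h3 := DFunLike.congr_fun hg w
    rw [AlternatingMap.smul_apply] at h3
    rw [h2]
    exact h3
  | zero => simp
  | add x y _ _ hx hy => rw [smul_add, hx, hy, add_zero]
  | smul r x _ hx => rw [smul_comm, hx, smul_zero]

/-- the map `F → (R/I)^n` -/
noncomputable def q : F R n a →ₗ[R] (Fin n → R ⧸ Ideal.span (Set.range a)) :=
  Submodule.liftQ _ (LinearMap.pi fun j => (Submodule.mkQ (Ideal.span (Set.range a))) ∘ₗ
    LinearMap.proj j) (by
    rw [Submodule.span_le, Set.singleton_subset_iff]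
    change a ∈ LinearMap.ker _
    rw [LinearMap.mem_ker]
    funext j
    simp only [LinearMap.pi_apply, LinearMap.coe_comp, Function.comp_apply, LinearMap.proj_apply,
      Submodule.mkQ_apply, Pi.zero_apply]
    exact (Submodule.Quotient.mk_eq_zero _).2 (Ideal.subset_span ⟨j, rfl⟩))

theorem q_ebar (j : Fin n) : q R n a (ebar R n a j) = Pi.single j 1 := by
  funext k
  change (Submodule.Quotient.mk ((Pi.single j 1 : Fin n → R) k) : R ⧸ Ideal.span (Set.range a)) = _
  by_cases h : k = j
  · subst h; simp
  · rw [Pi.single_eq_of_ne h, Pi.single_eq_of_ne h]; rfl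

/-- the determinant, as an alternating map on `F` -/
noncomputable def D : F R n a [⋀^Fin n]→ₗ[R] (R ⧸ Ideal.span (Set.range a)) :=
  { ((Matrix.detRowAlternating : (Fin n → R ⧸ Ideal.span (Set.range a)) [⋀^Fin n]→ₗ[R ⧸
      Ideal.span (Set.range a)] _).toMultilinearMap.restrictScalars R).compLinearMap
        (fun _ => q R n a) with
    map_eq_zero_of_eq' := fun v i j hv hij => by
      change Matrix.detRowAlternating (fun k => q R n a (v k)) = 0
      exact AlternatingMap.map_eq_zero_of_eq _ _ (by rw [hv]) hij }

theorem D_ebar : D R n a (ebar R n a) = 1 := by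
  change Matrix.det (fun k => q R n a (ebar R n a k)) = 1
  have : (fun k => q R n a (ebar R n a k)) = (1 : Matrix (Fin n) (Fin n) _) := by
    funext k l
    rw [q_ebar, Matrix.one_apply, Pi.single_apply]
    simp only [eq_comm]
  rw [this, Matrix.det_one]

theorem part1 :
    (⋀[R]^n ((Fin n → R) ⧸ Submodule.span R {a})).annihilator = Ideal.span (Set.range a) := by
  apply le_antisymm
  · intro r hr
    rw [Submodule.mem_annihilator] at hr
    have h1 := hr _ (exteriorPower.ιMulti R n (ebar R n a)).2
    have h2 : r • exteriorPower.ιMulti R n (ebar R n a) = 0 := Subtype.ext h1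
    have h3 := congrArg (exteriorPower.alternatingMapLinearEquiv (D R n a)) h2
    rw [map_smul, exteriorPower.alternatingMapLinearEquiv_apply_ιMulti, D_ebar, map_zero] at h3
    have h4 : (Ideal.Quotient.mk (Ideal.span (Set.range a)) r) = 0 := by
      rw [← h3]
      rw [Algebra.smul_def, mul_one]; rfl
    exact Ideal.Quotient.eq_zero_iff_mem.1 h4
  · rw [Ideal.span_le]
    rintro _ ⟨i, rfl⟩
    rw [SetLike.mem_coe, Submodule.mem_annihilator]
    intro x hx
    have := smul_all R n a i ⟨x, hx⟩
    exact congrArg Subtype.val this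

theorem main (hn : 1 ≤ n) :
    (⋀[R]^n ((Fin n → R) ⧸ Submodule.span R {a})).annihilator = Ideal.span (Set.range a) ∧
    ∀ p : PrimeSpectrum R, ¬ Ideal.span (Set.range a) ≤ p.asIdeal →
      p ∈ Module.freeLocus R ((Fin n → R) ⧸ Submodule.span R {a}) ∧
      Module.rankAtStalk ((Fin n → R) ⧸ Submodule.span R {a}) p = n - 1 :=
  ⟨part1 R n a, fun p hp => part2 R n a p hp⟩

end Ann

end Groth.Agent.Helper3.WedgeAnn
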