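import Mathlib

set_option autoImplicit false
set_option linter.style.haveILetI false
set_option linter.unusedSectionVars false
set_option linter.unusedVariables false
set_option linter.style.haveILetI false
set_option linter.unusedSectionVars false
set_option linter.unusedVariables false

universe u v

open Finset

namespace Groth.Agent.Helper3.WedgeCrit

/-- an alternating map vanishes on `n` vectors lying in the span of fewer than `n` vectors -/
theorem alternating_eq_zero_of_span {A : Type*} [CommRing A] {V W : Type*} [AddCommGroup V]
    [Module A V] [AddCommGroup W] [Module A W] {n : ℕ} (g : V [⋀^Fin n]→ₗ[A] W)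
    {κ : Type*} [Fintype κ] (w : κ → V) (hκ : Fintype.card κ < n)
    (v : Fin n → V) (hv : ∀ k, v k ∈ Submodule.span A (Set.range w)) : g v = 0 := by
  classical
  have h1 : ∀ k, ∃ a : κ → A, v k = ∑ j, a j • w j := fun k => by
    obtain ⟨a, ha⟩ := (Submodule.mem_span_range_iff_exists_fun A).1 (hv k)
    exact ⟨a, ha.symm⟩
  choose a ha using h1
  have h2 : v = fun k => ∑ j, a k j • w j := funext ha
  rw [h2]
  change g.toMultilinearMap (fun k => ∑ j, a k j • w j) = 0
  rw [MultilinearMap.map_sum]
  refine Finset.sum_eq_zero fun r _ => ?_
  rw [MultilinearMap.map_smul_univ]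
  have hr : ¬ Function.Injective r := by
    intro hinj
    have := Fintype.card_le_of_injective r hinj
    rw [Fintype.card_fin] at this
    omega
  have : g.toMultilinearMap (fun i => w (r i)) = 0 := by
    change g (fun i => w (r i)) = 0
    apply AlternatingMap.map_eq_zero_of_not_injective
    intro hinj
    exact hr (fun x y hxy => hinj (by simp only [hxy]))
  rw [this, smul_zero]

section
variable {A : Type u} [CommRing A] {ι : Type v} [Fintype ι] [DecidableEq ι]
  (H : Finset ι) (c : ι → ι → A)

/-- the marked vectors -/
def F (j : ι) : ι → A := Pi.single j (1 : A) - ∑ i ∈ Hᶜ, c j i • Pi.single i (1 : A)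

theorem F_apply_mem {j l : ι} (hl : l ∈ H) : F H c j l = if j = l then 1 else 0 := by
  unfold F
  rw [Pi.sub_apply, Finset.sum_apply]
  have : ∑ i ∈ Hᶜ, (c j i • Pi.single i (1 : A)) l = 0 := by
    refine Finset.sum_eq_zero fun i hi => ?_
    have hil : l ≠ i := by
      rintro rfl
      exact (Finset.mem_compl.1 hi) hl
    rw [Pi.smul_apply, Pi.single_apply, if_neg hil, smul_zero]
  rw [this, sub_zero, Pi.single_apply]
  simp only [eq_comm]

theorem main (M : Submodule A (ι → A))
    (hf : ∀ j ∈ H, (Pi.single j (1 : A) - ∑ i ∈ Hᶜ, c j i • Pi.single i (1 : A)) ∈ M) :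
    M = Submodule.span A ((fun j => Pi.single j (1 : A) - ∑ i ∈ Hᶜ, c j i • Pi.single i (1 : A)) '' ↑H)
      ↔ ∀ v : Fin (H.card + 1) → ι → A, (∀ k, v k ∈ M) →
          exteriorPower.ιMulti A (H.card + 1) v = 0 := by
  change M = Submodule.span A ((F H c) '' ↑H) ↔ _
  have hf' : ∀ j ∈ H, F H c j ∈ M := hf
  constructor
  · intro hM v hv
    have hrange : (F H c) '' ↑H = Set.range (fun j : H => F H c j) := by
      ext x
      simp only [Set.mem_image, Finset.mem_coe, Set.mem_range, Subtype.exists, exists_prop]
    refine alternating_eq_zero_of_span (exteriorPower.ιMulti A (H.card + 1))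
      (fun j : H => F H c j) (by rw [Fintype.card_coe]; exact Nat.lt_succ_self _) v (fun k => ?_)
    rw [← hrange, ← hM]
    exact hv k
  · intro hw
    apply le_antisymm
    · intro m hm
      -- the reduced vector
      set m' : ι → A := m - ∑ j ∈ H, m j • F H c j with hm'
      have hm'M : m' ∈ M :=
        M.sub_mem hm (M.sum_mem fun j hj => M.smul_mem _ (hf' j hj))
      have hm'H : ∀ l ∈ H, m' l = 0 := by
        intro l hl
        rw [hm', Pi.sub_apply, Finset.sum_apply]
        have : ∑ j ∈ H, (m j • F H c j) l = m l := by
          rw [Finset.sum_eq_single l]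
          · rw [Pi.smul_apply, F_apply_mem H c hl, if_pos rfl, smul_eq_mul, mul_one]
          · intro j _ hjl
            rw [Pi.smul_apply, F_apply_mem H c hl, if_neg hjl, smul_zero]
          · intro h; exact absurd hl h
        rw [this, sub_self]
      have hm'0 : m' = 0 := by
        funext i
        by_cases hi : i ∈ H
        · exact hm'H i hi
        · -- the determinant argument
          let σ : Fin H.card ≃ H := H.equivFin.symm
          let vv : Fin (H.card + 1) → ι → A := Fin.snoc (fun k => F H c (σ k)) m'
          let col : Fin (H.card + 1) → ι := Fin.snoc (fun k => ((σ k : H) : ι)) i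
          let g : (ι → A) [⋀^Fin (H.card + 1)]→ₗ[A] A :=
            (Matrix.detRowAlternating (R := A) (n := Fin (H.card + 1))).compLinearMap
              (LinearMap.funLeft A A col)
          have hvvM : ∀ k, vv k ∈ M := by
            intro k
            refine Fin.lastCases ?_ (fun k' => ?_) k
            · simp only [vv, Fin.snoc_last]; exact hm'M
            · simp only [vv, Fin.snoc_castSucc]; exact hf' _ (σ k').2
          have h0 : g vv = 0 := by
            rw [← exteriorPower.alternatingMapLinearEquiv_apply_ιMulti, hw vv hvvM, map_zero]
          have h1 : g vv = Matrix.det (Matrix.of fun k l => vv k (col l)) := rfl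
          have htri : (Matrix.of fun k l => vv k (col l)).BlockTriangular id := by
            intro k l hlk
            change l < k at hlk
            change vv k (col l) = 0
            obtain ⟨l', rfl⟩ : ∃ l', l = Fin.castSucc l' := by
              refine ⟨l.castPred (ne_of_lt (lt_of_lt_of_le hlk (Fin.le_last k))), ?_⟩
              simp
            have hcol : col (Fin.castSucc l') = σ l' := by simp only [col, Fin.snoc_castSucc]
            rw [hcol]
            revert hlk
            refine Fin.lastCases ?_ (fun k' => ?_) k
            · intro _
              simp only [vv, Fin.snoc_last]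
              exact hm'H _ (σ l').2
            · intro hlk
              simp only [vv, Fin.snoc_castSucc]
              rw [F_apply_mem H c (σ l').2, if_neg]
              intro heq
              have : σ k' = σ l' := Subtype.ext heq
              have := σ.injective this
              subst this
              exact lt_irrefl _ hlk
          rw [h1, Matrix.det_of_upperTriangular htri, Fin.prod_univ_castSucc] at h0
          have hdiag : ∀ k' : Fin H.card,
              (Matrix.of fun k l => vv k (col l)) (Fin.castSucc k') (Fin.castSucc k') = 1 := by
            intro k'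
            change vv (Fin.castSucc k') (col (Fin.castSucc k')) = 1
            simp only [vv, col, Fin.snoc_castSucc]
            rw [F_apply_mem H c (σ k').2, if_pos rfl]
          have hlast : (Matrix.of fun k l => vv k (col l)) (Fin.last _) (Fin.last _) = m' i := by
            change vv (Fin.last _) (col (Fin.last _)) = m' i
            simp only [vv, col, Fin.snoc_last]
          rw [hlast] at h0
          simp only [hdiag, Finset.prod_const_one, one_mul] at h0
          exact h0
      have : m = ∑ j ∈ H, m j • F H c j := by
        have := hm'0
        rw [hm', sub_eq_zero] at this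
        exact this
      rw [this]
      exact Submodule.sum_mem _ fun j hj =>
        Submodule.smul_mem _ _ (Submodule.subset_span ⟨j, hj, rfl⟩)
    · rw [Submodule.span_le]
      rintro _ ⟨j, hj, rfl⟩
      exact hf' j hj

end

end Groth.Agent.Helper3.WedgeCrit
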