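import Mathlib

set_option autoImplicit false
set_option linter.style.haveILetI false
set_option linter.unusedSectionVars false
set_option linter.unusedVariables false
set_option linter.style.haveILetI false
set_option linter.unusedSectionVars false
set_option linter.unusedVariables false

universe u

open WeierstrassCurve

namespace Groth.Agent.Helper3.WeierAut

section
variable {k : Type u} [Field k] (h2 : (2 : k) ≠ 0) (h3 : (3 : k) ≠ 0)
  (W : WeierstrassCurve k) [W.IsShortNF]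

include h2 h3 in
theorem mem_stabilizer_iff (C : VariableChange k) :
    C ∈ MulAction.stabilizer (VariableChange k) W ↔
      C.r = 0 ∧ C.s = 0 ∧ C.t = 0 ∧ (C.u : k) ^ 4 * W.a₄ = W.a₄ ∧ (C.u : k) ^ 6 * W.a₆ = W.a₆ := by
  rw [MulAction.mem_stabilizer_iff]
  have hu : (C.u : k) ≠ 0 := C.u.ne_zero
  have hui : ((C.u⁻¹ : kˣ) : k) ≠ 0 := (C.u⁻¹).ne_zero
  have ha1 : W.a₁ = 0 := W.a₁_of_isShortNF
  have ha2 : W.a₂ = 0 := W.a₂_of_isShortNF
  have ha3 : W.a₃ = 0 := W.a₃_of_isShortNF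
  constructor
  · intro h
    have e1 := congrArg WeierstrassCurve.a₁ h
    have e2 := congrArg WeierstrassCurve.a₂ h
    have e3 := congrArg WeierstrassCurve.a₃ h
    have e4 := congrArg WeierstrassCurve.a₄ h
    have e6 := congrArg WeierstrassCurve.a₆ h
    rw [variableChange_a₁, ha1, zero_add] at e1
    have hs : C.s = 0 := by
      rcases mul_eq_zero.1 e1 with h' | h'
      · exact absurd h' hui
      · rcases mul_eq_zero.1 h' with h'' | h''
        · exact absurd h'' h2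
        · exact h''
    rw [variableChange_a₂, ha1, ha2, hs] at e2
    have hr : C.r = 0 := by
      rcases mul_eq_zero.1 e2 with h' | h'
      · exact absurd (eq_zero_of_pow_eq_zero h') hui
      · have : 3 * C.r = 0 := by linear_combination h'
        rcases mul_eq_zero.1 this with h'' | h''
        · exact absurd h'' h3
        · exact h''
    rw [variableChange_a₃, ha1, ha3, hr] at e3
    have ht : C.t = 0 := by
      rcases mul_eq_zero.1 e3 with h' | h'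
      · exact absurd (eq_zero_of_pow_eq_zero h') hui
      · have : 2 * C.t = 0 := by linear_combination h'
        rcases mul_eq_zero.1 this with h'' | h''
        · exact absurd h'' h2
        · exact h''
    rw [variableChange_a₄, ha1, ha2, ha3, hr, hs, ht] at e4
    rw [variableChange_a₆, ha1, ha2, ha3, hr, ht] at e6
    have huu : (C.u : k) * ((C.u⁻¹ : kˣ) : k) = 1 := C.u.mul_inv
    refine ⟨hr, hs, ht, ?_, ?_⟩
    · have : ((C.u⁻¹ : kˣ) : k) ^ 4 * W.a₄ = W.a₄ := by linear_combination e4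
      calc (C.u : k) ^ 4 * W.a₄ = (C.u : k) ^ 4 * (((C.u⁻¹ : kˣ) : k) ^ 4 * W.a₄) := by rw [this]
        _ = ((C.u : k) * ((C.u⁻¹ : kˣ) : k)) ^ 4 * W.a₄ := by ring
        _ = W.a₄ := by rw [huu, one_pow, one_mul]
    · have : ((C.u⁻¹ : kˣ) : k) ^ 6 * W.a₆ = W.a₆ := by linear_combination e6
      calc (C.u : k) ^ 6 * W.a₆ = (C.u : k) ^ 6 * (((C.u⁻¹ : kˣ) : k) ^ 6 * W.a₆) := by rw [this]
        _ = ((C.u : k) * ((C.u⁻¹ : kˣ) : k)) ^ 6 * W.a₆ := by ring
        _ = W.a₆ := by rw [huu, one_pow, one_mul]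
  · rintro ⟨hr, hs, ht, h4, h6⟩
    have huu : ((C.u⁻¹ : kˣ) : k) * (C.u : k) = 1 := C.u.inv_mul
    ext
    · rw [variableChange_a₁, ha1, hs]; ring
    · rw [variableChange_a₂, ha1, ha2, hs, hr]; ring
    · rw [variableChange_a₃, ha1, ha3, hr, ht]; ring
    · rw [variableChange_a₄, ha1, ha2, ha3, hr, hs, ht]
      calc ((C.u⁻¹ : kˣ) : k) ^ 4 * (W.a₄ - 0 * 0 + 2 * 0 * 0 - (0 + 0 * 0) * 0 + 3 * 0 ^ 2 - 2 * 0 * 0)
          = ((C.u⁻¹ : kˣ) : k) ^ 4 * W.a₄ := by ring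
        _ = ((C.u⁻¹ : kˣ) : k) ^ 4 * ((C.u : k) ^ 4 * W.a₄) := by rw [h4]
        _ = (((C.u⁻¹ : kˣ) : k) * (C.u : k)) ^ 4 * W.a₄ := by ring
        _ = W.a₄ := by rw [huu, one_pow, one_mul]
    · rw [variableChange_a₆, ha1, ha2, ha3, hr, ht]
      calc ((C.u⁻¹ : kˣ) : k) ^ 6 * (W.a₆ + 0 * W.a₄ + 0 ^ 2 * 0 + 0 ^ 3 - 0 * 0 - 0 ^ 2 - 0 * 0 * 0)
          = ((C.u⁻¹ : kˣ) : k) ^ 6 * W.a₆ := by ring
        _ = ((C.u⁻¹ : kˣ) : k) ^ 6 * ((C.u : k) ^ 6 * W.a₆) := by rw [h6]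
        _ = (((C.u⁻¹ : kˣ) : k) * (C.u : k)) ^ 6 * W.a₆ := by ring
        _ = W.a₆ := by rw [huu, one_pow, one_mul]

include h2 h3 in
/-- the stabilizer is in bijection with the `n`-th roots of unity -/
theorem equiv_rootsOfUnity (n : ℕ)
    (hn : ∀ u : kˣ, ((u : k) ^ 4 * W.a₄ = W.a₄ ∧ (u : k) ^ 6 * W.a₆ = W.a₆) ↔ u ^ n = 1) :
    Nonempty (↥(MulAction.stabilizer (VariableChange k) W) ≃ ↥(rootsOfUnity n k)) := by
  refine ⟨{ toFun := fun C => ⟨C.1.u, ?_⟩, invFun := fun ζ => ⟨⟨ζ.1, 0, 0, 0⟩, ?_⟩,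
            left_inv := ?_, right_inv := ?_ }⟩
  · rw [mem_rootsOfUnity]
    have := (mem_stabilizer_iff h2 h3 W C.1).1 C.2
    exact (hn _).1 ⟨this.2.2.2.1, this.2.2.2.2⟩
  · rw [mem_stabilizer_iff h2 h3 W]
    have := (hn ζ.1).2 ((mem_rootsOfUnity _ _).1 ζ.2)
    exact ⟨rfl, rfl, rfl, this.1, this.2⟩
  · intro C
    have := (mem_stabilizer_iff h2 h3 W C.1).1 C.2
    apply Subtype.ext
    apply VariableChange.ext
    · rfl
    · exact this.1.symm
    · exact this.2.1.symm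
    · exact this.2.2.1.symm
  · intro ζ
    rfl

include h2 h3 in
theorem main' [IsAlgClosed k] (n : ℕ) [NeZero (n : k)]
    (hn : ∀ u : kˣ, ((u : k) ^ 4 * W.a₄ = W.a₄ ∧ (u : k) ^ 6 * W.a₆ = W.a₆) ↔ u ^ n = 1) :
    IsCyclic ↥(MulAction.stabilizer (VariableChange k) W) ∧
      Nat.card ↥(MulAction.stabilizer (VariableChange k) W) = n := by
  haveI : NeZero n := .of_neZero_natCast k
  obtain ⟨e⟩ := equiv_rootsOfUnity h2 h3 W n hn
  haveI : Finite ↥(MulAction.stabilizer (VariableChange k) W) := Finite.of_equiv _ e.symm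
  constructor
  · let f : ↥(MulAction.stabilizer (VariableChange k) W) →* k :=
      { toFun := fun C => (C.1.u : k)
        map_one' := rfl
        map_mul' := fun C C' => rfl }
    refine isCyclic_of_injective_ringHom f ?_
    intro C C' hCC'
    have h1 := (mem_stabilizer_iff h2 h3 W C.1).1 C.2
    have h1' := (mem_stabilizer_iff h2 h3 W C'.1).1 C'.2
    apply Subtype.ext
    apply VariableChange.ext
    · exact Units.ext hCC'
    · rw [h1.1, h1'.1]
    · rw [h1.2.1, h1'.2.1]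
    · rw [h1.2.2.1, h1'.2.2.1]
  · rw [Nat.card_congr e, HasEnoughRootsOfUnity.natCard_rootsOfUnity]

end

theorem main
    (k : Type u) [Field k] [IsAlgClosed k] (h2 : (2 : k) ≠ 0) (h3 : (3 : k) ≠ 0)
    (W : WeierstrassCurve k) [W.IsShortNF] (hΔ : W.Δ ≠ 0) :
    IsCyclic ↥(MulAction.stabilizer (WeierstrassCurve.VariableChange k) W) ∧
      (W.a₄ = 0 → Nat.card ↥(MulAction.stabilizer (WeierstrassCurve.VariableChange k) W) = 6) ∧
      (W.a₆ = 0 → Nat.card ↥(MulAction.stabilizer (WeierstrassCurve.VariableChange k) W) = 4) ∧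
      (W.a₄ ≠ 0 → W.a₆ ≠ 0 → Nat.card ↥(MulAction.stabilizer (WeierstrassCurve.VariableChange k) W) = 2) := by
  have hne : ¬ (W.a₄ = 0 ∧ W.a₆ = 0) := by
    rintro ⟨h4, h6⟩
    apply hΔ
    rw [W.Δ_of_isShortNF, h4, h6]; ring
  haveI : NeZero ((2 : ℕ) : k) := ⟨by exact_mod_cast h2⟩
  haveI : NeZero ((4 : ℕ) : k) := ⟨by
    have : (4 : k) = 2 * 2 := by norm_num
    push_cast
    rw [this]
    exact mul_ne_zero h2 h2⟩
  haveI : NeZero ((6 : ℕ) : k) := ⟨by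
    have : (6 : k) = 2 * 3 := by norm_num
    push_cast
    rw [this]
    exact mul_ne_zero h2 h3⟩
  have upow : ∀ (u : kˣ) (n : ℕ), u ^ n = 1 ↔ (u : k) ^ n = 1 := fun u n => by
    rw [Units.ext_iff, Units.val_pow_eq_pow_val, Units.val_one]
  -- case a₄ = 0
  have c6 : W.a₄ = 0 → ∀ u : kˣ,
      ((u : k) ^ 4 * W.a₄ = W.a₄ ∧ (u : k) ^ 6 * W.a₆ = W.a₆) ↔ u ^ 6 = 1 := by
    intro h4 u
    have h6 : W.a₆ ≠ 0 := fun h => hne ⟨h4, h⟩
    rw [upow, h4, mul_zero]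
    constructor
    · rintro ⟨-, h⟩
      exact mul_right_cancel₀ h6 (by rw [h, one_mul])
    · intro h
      exact ⟨rfl, by rw [h, one_mul]⟩
  have c4 : W.a₆ = 0 → ∀ u : kˣ,
      ((u : k) ^ 4 * W.a₄ = W.a₄ ∧ (u : k) ^ 6 * W.a₆ = W.a₆) ↔ u ^ 4 = 1 := by
    intro h6 u
    have h4 : W.a₄ ≠ 0 := fun h => hne ⟨h, h6⟩
    rw [upow, h6, mul_zero]
    constructor
    · rintro ⟨h, -⟩
      exact mul_right_cancel₀ h4 (by rw [h, one_mul])
    · intro h
      exact ⟨by rw [h, one_mul], rfl⟩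
  have c2 : W.a₄ ≠ 0 → W.a₆ ≠ 0 → ∀ u : kˣ,
      ((u : k) ^ 4 * W.a₄ = W.a₄ ∧ (u : k) ^ 6 * W.a₆ = W.a₆) ↔ u ^ 2 = 1 := by
    intro h4 h6 u
    rw [upow]
    constructor
    · rintro ⟨h, h'⟩
      have e4 : (u : k) ^ 4 = 1 := mul_right_cancel₀ h4 (by rw [h, one_mul])
      have e6 : (u : k) ^ 6 = 1 := mul_right_cancel₀ h6 (by rw [h', one_mul])
      have : (u : k) ^ 6 = (u : k) ^ 4 * (u : k) ^ 2 := by ring
      rw [e6, e4, one_mul] at this
      exact this.symm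
    · intro h
      have e4 : (u : k) ^ 4 = 1 := by
        have : (u : k) ^ 4 = ((u : k) ^ 2) ^ 2 := by ring
        rw [this, h, one_pow]
      have e6 : (u : k) ^ 6 = 1 := by
        have : (u : k) ^ 6 = ((u : k) ^ 2) ^ 3 := by ring
        rw [this, h, one_pow]
      exact ⟨by rw [e4, one_mul], by rw [e6, one_mul]⟩
  refine ⟨?_, fun h4 => (main' h2 h3 W 6 (c6 h4)).2, fun h6 => (main' h2 h3 W 4 (c4 h6)).2,
    fun h4 h6 => (main' h2 h3 W 2 (c2 h4 h6)).2⟩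
  by_cases h4 : W.a₄ = 0
  · exact (main' h2 h3 W 6 (c6 h4)).1
  · by_cases h6 : W.a₆ = 0
    · exact (main' h2 h3 W 4 (c4 h6)).1
    · exact (main' h2 h3 W 2 (c2 h4 h6)).1

end Groth.Agent.Helper3.WeierAut
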