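import Mathlib
import Groth.Agent.Helper3.WeilRes1
import Groth.Agent.Helper3.GrpImg1
import Groth.Agent.Helper5.GrpClosed1

set_option autoImplicit false
set_option linter.style.haveILetI false
set_option linter.unusedSectionVars false
set_option linter.unusedVariables false
set_option linter.style.haveILetI false
set_option linter.unusedSectionVars false
set_option linter.unusedVariables false

open AlgebraicGeometry CategoryTheory CategoryTheory.Limits TopologicalSpace
open MonoidalCategory CartesianMonoidalCategory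

universe u

namespace Groth.Agent.Helper3.WeilRes2

open Groth.Agent.Helper3.CoefIdeal Groth.Agent.Helper3.WeilRes1

section Alg

/-- projectivity is preserved by pushouts -/
theorem projective_of_isPushout {A C R D : CommRingCat.{u}} (φ : A ⟶ C) (ψ : A ⟶ R) (φ' : C ⟶ D)
    (ψ' : R ⟶ D) (h : IsPushout φ ψ φ' ψ')
    (hproj : letI := ψ.hom.toAlgebra; Module.Projective A R) :
    letI := φ'.hom.toAlgebra; Module.Projective C D := by
  letI : Algebra A R := ψ.hom.toAlgebra
  letI : Algebra A C := φ.hom.toAlgebra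
  letI : Algebra C D := φ'.hom.toAlgebra
  letI : Algebra R D := ψ'.hom.toAlgebra
  letI : Algebra A D := (φ ≫ φ').hom.toAlgebra
  haveI : IsScalarTower A C D := .of_algebraMap_eq' rfl
  haveI : IsScalarTower A R D := .of_algebraMap_eq' (by
    change (φ ≫ φ').hom = (ψ ≫ ψ').hom
    rw [h.w])
  haveI : Module.Projective A R := hproj
  have hP : Algebra.IsPushout A C R D := CommRingCat.isPushout_iff_isPushout.mp h
  exact Module.Projective.of_equiv hP.out.equiv

/-- modules over the global sections of the spectrum of a field are projective -/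
theorem projective_of_field (k : Type u) [Field k] {R : CommRingCat.{u}}
    (ψ : Γ(Spec (CommRingCat.of k), ⊤) ⟶ R) :
    letI := ψ.hom.toAlgebra; Module.Projective Γ(Spec (CommRingCat.of k), ⊤) R := by
  have hF : IsField Γ(Spec (CommRingCat.of k), ⊤) :=
    MulEquiv.isField (Field.toIsField k)
      (Scheme.ΓSpecIso (CommRingCat.of k)).commRingCatIsoToRingEquiv.toMulEquiv
  letI : Algebra Γ(Spec (CommRingCat.of k), ⊤) R := ψ.hom.toAlgebra
  letI := hF.toField
  exact Module.Projective.of_free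

end Alg

section Geom

variable {k : Type u} [Field k]

/-- the projection from a product with an affine scheme is an affine morphism -/
instance isAffineHom_fst (Y X' : Over (Spec (CommRingCat.of k))) [IsAffine X'.left] :
    IsAffineHom (fst Y X').left := by
  have hpb : IsPullback (fst Y X').left (snd Y X').left Y.hom X'.hom :=
    IsPullback.of_hasPullback _ _
  haveI : IsAffineHom X'.hom := inferInstance
  exact MorphismProperty.of_isPullback (P := @IsAffineHom) hpb.flip ‹_›

theorem projSections_fst (Y X' : Over (Spec (CommRingCat.of k))) [IsAffine X'.left] :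
    ProjSections (fst Y X').left := by
  intro U
  have hpb : IsPullback (fst Y X').left (snd Y X').left Y.hom X'.hom :=
    IsPullback.of_hasPullback _ _
  have hUST : (⊤ : X'.left.Opens) ≤ X'.hom ⁻¹ᵁ ⊤ := le_rfl
  have hUSX : U.1 ≤ Y.hom ⁻¹ᵁ ⊤ := le_top
  have hUY : (fst Y X').left ⁻¹ᵁ U.1 =
      (fst Y X').left ⁻¹ᵁ U.1 ⊓ (snd Y X').left ⁻¹ᵁ ⊤ := by simp
  have hiso := isIso_pushoutSection_of_isAffineOpen hpb hUST hUSX hUY
    (isAffineOpen_top _) (isAffineOpen_top _) U.2
  have hp := (isIso_pushoutSection_iff hpb hUST hUSX hUY).mp hiso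
  exact projective_of_isPushout _ _ _ _ hp (projective_of_field k _)

/-- Weil restriction of a closed subscheme of a product over a field along the first projection:
the functor of points `g` of `Y` with `g × id_X` landing in `E` is represented by a closed
subscheme of `Y` -/
theorem exists_weilRes (Y X E : Over (Spec (CommRingCat.of k))) (e : E ⟶ Y ⊗ X)
    [IsClosedImmersion e.left] :
    ∃ (Z : Over (Spec (CommRingCat.of k))) (ι : Z ⟶ Y), IsClosedImmersion ι.left ∧
      ∀ (T : Over (Spec (CommRingCat.of k))) (g : T ⟶ Y),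
        (∃ z : T ⟶ Z, z ≫ ι = g) ↔ ∃ w : T ⊗ X ⟶ E, w ≫ e = g ▷ X := by
  -- affine pieces of X
  let Xβ : X.left.affineOpens → Over (Spec (CommRingCat.of k)) :=
    fun β => Over.mk (β.1.ι ≫ X.hom)
  let j : ∀ β, Xβ β ⟶ X := fun β => Over.homMk β.1.ι rfl
  haveI : ∀ β, IsAffine (Xβ β).left := fun β => β.2
  haveI hjo : ∀ β, IsOpenImmersion (j β).left :=
    fun β => inferInstanceAs (IsOpenImmersion β.1.ι)
  -- closed subschemes of the pieces
  let eβ : ∀ β, pullback e.left (Y ◁ j β).left ⟶ (Y ⊗ Xβ β).left := fun β => pullback.snd _ _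
  let 𝓘β : X.left.affineOpens → Y.left.IdealSheafData := fun β =>
    weilIdeal (fst Y (Xβ β)).left (projSections_fst Y (Xβ β)) (eβ β).ker
  let 𝓘 : Y.left.IdealSheafData := ⨆ β, 𝓘β β
  refine ⟨Over.mk (𝓘.subschemeι ≫ Y.hom), Over.homMk 𝓘.subschemeι rfl,
    inferInstanceAs (IsClosedImmersion 𝓘.subschemeι), ?_⟩
  intro T g
  -- step 1: Over bookkeeping
  have s1 : (∃ z : T ⟶ Over.mk (𝓘.subschemeι ≫ Y.hom), z ≫ Over.homMk 𝓘.subschemeι rfl = g) ↔
      𝓘 ≤ g.left.ker := by
    have h1 := KerLocal.exists_lift_iff_le_ker 𝓘.subschemeι g.left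
    rw [𝓘.ker_subschemeι] at h1
    rw [← h1]
    constructor
    · rintro ⟨z, rfl⟩
      exact ⟨z.left, rfl⟩
    · rintro ⟨z', hz'⟩
      refine ⟨Over.homMk z' ?_, ?_⟩
      · change z' ≫ 𝓘.subschemeι ≫ Y.hom = T.hom
        rw [← Category.assoc, hz', Over.w]
      · ext
        exact hz'
  rw [s1]
  -- step 2: pieces
  have s2 : 𝓘 ≤ g.left.ker ↔ ∀ β, (eβ β).ker ≤ (g ▷ Xβ β).left.ker := by
    rw [iSup_le_iff]
    refine forall_congr' fun β => ?_
    exact weilIdeal_le_ker_iff (fst Y (Xβ β)).left (projSections_fst Y (Xβ β)) (eβ β).ker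
      (fst T (Xβ β)).left (g ▷ Xβ β).left g.left
      (Groth.Agent.Helper5.GrpDense.isPullback_whiskerRight g (Xβ β)).flip
  rw [s2]
  -- step 3: factorizations on the pieces
  have s3 : ∀ β, (eβ β).ker ≤ (g ▷ Xβ β).left.ker ↔
      ∃ w : (T ⊗ Xβ β).left ⟶ E.left, w ≫ e.left = (T ◁ j β).left ≫ (g ▷ X).left := by
    intro β
    rw [← KerLocal.exists_lift_iff_le_ker]
    have hex : (T ◁ j β).left ≫ (g ▷ X).left = (g ▷ Xβ β).left ≫ (Y ◁ j β).left := by
      rw [← Over.comp_left, ← Over.comp_left, whisker_exchange]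
    rw [hex]
    constructor
    · rintro ⟨w, hw⟩
      refine ⟨w ≫ pullback.fst _ _, ?_⟩
      rw [Category.assoc, pullback.condition, ← Category.assoc, hw]
    · rintro ⟨w, hw⟩
      exact ⟨pullback.lift w (g ▷ Xβ β).left hw, pullback.lift_snd _ _ _⟩
  simp_rw [s3]
  -- step 4: glue
  have hcov : ∀ x : (T ⊗ X).left, ∃ (β : X.left.affineOpens) (y : (T ⊗ Xβ β).left),
      (T ◁ j β).left y = x := by
    intro x
    obtain ⟨_, ⟨β, hβ, rfl⟩, hxβ, -⟩ :=
      X.left.isBasis_affineOpens.exists_subset_of_mem_open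
        (Set.mem_univ ((snd T X).left x)) isOpen_univ
    have hr := Groth.Agent.Helper3.GrpImg1.range_whiskerLeft (j ⟨β, hβ⟩) T
    have hx : x ∈ Set.range (T ◁ j ⟨β, hβ⟩).left := by
      rw [hr]
      change (snd T X).left x ∈ Set.range (Scheme.Opens.ι β)
      rw [Scheme.Opens.range_ι]
      exact hxβ
    obtain ⟨y, hy⟩ := hx
    exact ⟨⟨β, hβ⟩, y, hy⟩
  haveI : ∀ β, IsOpenImmersion (T ◁ j β).left := fun β =>
    MorphismProperty.of_isPullback (P := @IsOpenImmersion)
      (Groth.Agent.Helper3.GrpImg1.isPullback_whiskerLeft (j β) T).flip (hjo β)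
  let 𝒰 : (T ⊗ X).left.OpenCover :=
    Scheme.Cover.mkOfCovers X.left.affineOpens (fun β => (T ⊗ Xβ β).left)
      (fun β => (T ◁ j β).left) hcov
  constructor
  · intro H
    obtain ⟨w, hw⟩ := KerLocal.exists_lift_of_cover e.left (g ▷ X).left 𝒰 H
    refine ⟨Over.homMk w ?_, ?_⟩
    · rw [← Over.w e, ← Category.assoc, hw, Over.w]
    · apply Over.OverMorphism.ext
      exact hw
  · rintro ⟨w, hw⟩ β
    refine ⟨(T ◁ j β).left ≫ w.left, ?_⟩
    rw [Category.assoc, ← Over.comp_left, hw]

end Geom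

end Groth.Agent.Helper3.WeilRes2
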