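import Mathlib
import Groth.Agent.Helper3.WeilApp3
import Groth.Agent.Helper3.EqClosed

set_option autoImplicit false
set_option linter.style.haveILetI false
set_option linter.unusedSectionVars false
set_option linter.unusedVariables false
set_option linter.style.haveILetI false
set_option linter.unusedSectionVars false
set_option linter.unusedVariables false

open AlgebraicGeometry CategoryTheory CategoryTheory.Limits TopologicalSpace
open MonoidalCategory CartesianMonoidalCategory

universe u

namespace Groth.Agent.Helper3.WeilApp4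

/-- equalizers in `Over S` of morphisms satisfying the open-stability condition are closed -/
theorem isClosedImmersion_equalizer_of_stable {S : Scheme.{u}} {P X : Over S} (φ₁ φ₂ : P ⟶ X)
    (hstab : ∀ U : X.left.Opens, φ₂.left ⁻¹ᵁ U ≤ φ₁.left ⁻¹ᵁ U) :
    IsClosedImmersion (equalizer.ι φ₁ φ₂).left := by
  haveI : Mono (equalizer.ι φ₁ φ₂).left := inferInstance
  refine EqClosed.isClosedImmersion_of_stable φ₁.left φ₂.left hstab _ ?_ ?_
  · rw [← Over.comp_left, ← Over.comp_left, equalizer.condition]
  · intro W w hw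
    let W' : Over S := Over.mk (w ≫ P.hom)
    let w' : W' ⟶ P := Over.homMk w rfl
    have hw' : w' ≫ φ₁ = w' ≫ φ₂ := by
      apply Over.OverMorphism.ext
      exact hw
    refine ⟨(equalizer.lift w' hw').left, ?_⟩
    rw [← Over.comp_left, equalizer.lift_ι]
    rfl

variable {k : Type u} [Field k]

/-- the fixed locus is closed when all opens are stable -/
theorem fixedLocus_of_stable (X Y : Over (Spec (CommRingCat.of k))) (a : Y ⊗ X ⟶ X)
    (hstab : ∀ U : X.left.Opens, (snd Y X).left ⁻¹ᵁ U ≤ a.left ⁻¹ᵁ U) :
    ∃ (Z : Over (Spec (CommRingCat.of k))) (j : Z ⟶ X), IsClosedImmersion j.left ∧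
      (Y ◁ j) ≫ a = snd Y Z ≫ j ∧
      ∀ (T : Over (Spec (CommRingCat.of k))) (x : T ⟶ X),
        (Y ◁ x) ≫ a = snd Y T ≫ x → ∃ z : T ⟶ Z, z ≫ j = x := by
  refine WeilApp3.exists_fixedLocus X Y a
    (isClosedImmersion_equalizer_of_stable _ _ fun U p hp => ?_)
  have h1 : (snd Y X).left ((β_ X Y).hom.left p) ∈ U := by
    rw [← Scheme.Hom.comp_apply, ← Over.comp_left, braiding_hom_snd]
    exact hp
  have h2 := hstab U h1
  change ((β_ X Y).hom ≫ a).left p ∈ U
  rw [Over.comp_left, Scheme.Hom.comp_apply]
  exact h2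

end Groth.Agent.Helper3.WeilApp4
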