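import Mathlib
import Groth.Agent.Helper3.WeilRes3
import Groth.Agent.Helper3.WeilApp4

set_option autoImplicit false
set_option linter.style.haveILetI false
set_option linter.unusedSectionVars false
set_option linter.unusedVariables false
set_option linter.style.haveILetI false
set_option linter.unusedSectionVars false
set_option linter.unusedVariables false

open AlgebraicGeometry CategoryTheory CategoryTheory.Limits TopologicalSpace
open MonoidalCategory CartesianMonoidalCategory MonObj GrpObj

universe u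

namespace Groth.Agent.Helper3.WeilApp5

/-- the centralizer of a finite locally free scheme mapping to a separated group scheme is
closed -/
theorem centralizer_of_finite_flat {S : Scheme.{u}} (G Y : Over S) [GrpObj G]
    [IsSeparated G.hom] (y : Y ⟶ G) [IsFinite Y.hom] [Flat Y.hom]
    [LocallyOfFinitePresentation Y.hom] :
    ∃ (C : Over S) (c : C ⟶ G), IsClosedImmersion c.left ∧
      ∀ (X : Over S) (g : X ⟶ G), (∃ z : X ⟶ C, z ≫ c = g) ↔
        ∀ (X' : Over S) (x : X' ⟶ X) (a : X' ⟶ Y),
          (x ≫ g) * (a ≫ y) = (a ≫ y) * (x ≫ g) := by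
  obtain ⟨Z, incl, hincl, hZ⟩ := WeilRes3.exists_closed_of_equalizer G Y G
    (fst G Y * (snd G Y ≫ y)) ((snd G Y ≫ y) * fst G Y) inferInstance
  refine ⟨Z, incl, hincl, fun T g => (hZ T g).trans ?_⟩
  have e1 : (g ▷ Y) ≫ (fst G Y * (snd G Y ≫ y)) = (fst T Y ≫ g) * (snd T Y ≫ y) := by
    rw [MonObj.comp_mul, whiskerRight_fst, whiskerRight_snd_assoc]
  have e2 : (g ▷ Y) ≫ ((snd G Y ≫ y) * fst G Y) = (snd T Y ≫ y) * (fst T Y ≫ g) := by
    rw [MonObj.comp_mul, whiskerRight_fst, whiskerRight_snd_assoc]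
  rw [e1, e2]
  constructor
  · intro h T' m a
    have := congrArg (fun q => lift m a ≫ q) h
    simp only [MonObj.comp_mul, lift_fst_assoc, lift_snd_assoc] at this
    exact this
  · intro h
    exact h (T ⊗ Y) (fst T Y) (snd T Y)

/-- fixed points of an infinitesimal pointed finite locally free scheme acting on a scheme -/
theorem fixedPts_of_infinitesimal {S : Scheme.{u}} (F X : Over S) (e : 𝟙_ (Over S) ⟶ F)
    (act : F ⊗ X ⟶ X) (he : (e ▷ X) ≫ act = (λ_ X).hom)
    [IsFinite F.hom] [Flat F.hom] [LocallyOfFinitePresentation F.hom]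
    [Surjective e.left] :
    ∃ (Z : Scheme.{u}) (i : Z ⟶ X.left), IsClosedImmersion i ∧
      ∀ (T : Over S) (x : T ⟶ X), (∃ y : T.left ⟶ Z, y ≫ i = x.left) ↔
        ∀ (T' : Over S) (t : T' ⟶ T) (g : T' ⟶ F), lift g (t ≫ x) ≫ act = t ≫ x := by
  have hstab : ∀ U : X.left.Opens, (fst X F).left ⁻¹ᵁ U ≤ ((β_ X F).hom ≫ act).left ⁻¹ᵁ U := by
    intro U p hp
    haveI : Surjective (X ◁ e).left :=
      MorphismProperty.of_isPullback (P := @Surjective)
        (Groth.Agent.Helper3.GrpImg1.isPullback_whiskerLeft e X).flip ‹_›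
    obtain ⟨q, rfl⟩ := (X ◁ e).left.surjective p
    have h1 : (X ◁ e) ≫ (β_ X F).hom ≫ act = (X ◁ e) ≫ fst X F := by
      rw [← Category.assoc, BraidedCategory.braiding_naturality_right, Category.assoc, he,
        braiding_leftUnitor, whiskerLeft_fst, rightUnitor_hom]
    change ((β_ X F).hom ≫ act).left ((X ◁ e).left q) ∈ U
    rw [← Scheme.Hom.comp_apply, ← Over.comp_left, h1, Over.comp_left, Scheme.Hom.comp_apply]
    exact hp
  obtain ⟨Z, incl, hincl, hZ⟩ := WeilRes3.exists_closed_of_equalizer X F X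
    ((β_ X F).hom ≫ act) (fst X F) (WeilApp4.isClosedImmersion_equalizer_of_stable _ _ hstab)
  refine ⟨Z.left, incl.left, hincl, fun T x => ?_⟩
  have s1 : (∃ y : T.left ⟶ Z.left, y ≫ incl.left = x.left) ↔ ∃ z : T ⟶ Z, z ≫ incl = x := by
    constructor
    · rintro ⟨y, hy⟩
      refine ⟨Over.homMk y ?_, ?_⟩
      · rw [← Over.w incl, ← Category.assoc, hy, Over.w]
      · apply Over.OverMorphism.ext
        exact hy
    · rintro ⟨z, rfl⟩
      exact ⟨z.left, rfl⟩
  rw [s1, hZ T x]
  have e1 : (x ▷ F) ≫ (β_ X F).hom = lift (snd T F) (fst T F ≫ x) := by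
    apply CartesianMonoidalCategory.hom_ext
    · rw [Category.assoc, braiding_hom_fst, whiskerRight_snd, lift_fst]
    · rw [Category.assoc, braiding_hom_snd, whiskerRight_fst, lift_snd]
  rw [← Category.assoc, e1, whiskerRight_fst]
  constructor
  · intro h T' t g
    have := congrArg (fun q => lift t g ≫ q) h
    simp only [← Category.assoc, comp_lift, lift_fst, lift_snd] at this
    simpa using this
  · intro h
    exact h (T ⊗ F) (fst T F) (snd T F)

end Groth.Agent.Helper3.WeilApp5
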