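import Mathlib
import Groth.Prelude.Def_AlgGrp
import Groth.Agent.Helper3.WordPts
import Groth.Agent.Helper4.SchLFP

set_option autoImplicit false
set_option linter.style.haveILetI false
set_option linter.unusedSectionVars false
set_option linter.unusedVariables false
set_option linter.style.haveILetI false
set_option linter.unusedSectionVars false
set_option linter.unusedVariables false

universe u
open CategoryTheory CategoryTheory.Limits MonoidalCategory CartesianMonoidalCategory MonObj GrpObj AlgebraicGeometry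
open Groth.Agent.Helper3.WordPts

namespace Groth.Agent.Helper3.WordBd

section topo
open Topology

theorem isClopen_constructibleTopology {X : Type*} [TopologicalSpace X] [CompactSpace X]
    {s : Set X} (hs : IsConstructible s) :
    IsOpen[constructibleTopology X] s ∧ IsOpen[constructibleTopology X] sᶜ := by
  induction hs using IsConstructible.empty_union_induction with
  | open_retrocompact U hUo hUc =>
    have hc : IsCompact U := by simpa using hUc isCompact_univ isOpen_univ
    refine ⟨hc.isOpen_constructibleTopology_of_isOpen hUo, ?_⟩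
    exact IsCompact.isOpen_constructibleTopology_of_isClosed (by simpa using hc)
      hUo.isClosed_compl
  | union s hs t ht ihs iht =>
    refine ⟨@IsOpen.union _ _ _ (constructibleTopology X) ihs.1 iht.1, ?_⟩
    rw [Set.compl_union]
    exact @IsOpen.inter _ (constructibleTopology X) _ _ ihs.2 iht.2
  | compl s hs ih =>
    refine ⟨ih.2, ?_⟩
    rw [compl_compl]
    exact ih.1

theorem exists_finset_cover {X : Type*} [TopologicalSpace X] [CompactSpace X] [QuasiSober X]
    [PrespectralSpace X] [QuasiSeparatedSpace X] {I : Type*} (s : I → Set X)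
    (hs : ∀ i, IsConstructible (s i)) (hcov : ∀ x, ∃ i, x ∈ s i) :
    ∃ t : Finset I, ∀ x, ∃ i ∈ t, x ∈ s i := by
  have hcomp : CompactSpace (WithConstructibleTopology X) := inferInstance
  obtain ⟨t, ht⟩ := (isCompact_univ (X := WithConstructibleTopology X)).elim_finite_subcover
    (fun i => WithTopology.ofTopology ⁻¹' (s i))
    (fun i => by
      rw [WithConstructibleTopology.isOpen_iff]
      exact (isClopen_constructibleTopology (hs i)).1)
    (fun x _ => by
      obtain ⟨i, hi⟩ := hcov x.ofTopology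
      exact Set.mem_iUnion.mpr ⟨i, hi⟩)
  refine ⟨t, fun x => ?_⟩
  have := ht (Set.mem_univ (WithTopology.toTopology _ x))
  simp only [Set.mem_iUnion] at this
  obtain ⟨i, hi, hx⟩ := this
  exact ⟨i, hi, hx⟩

end topo

section chev

theorem isConstructible_range_resLE {Y Z : Scheme.{u}} (g : Y ⟶ Z)
    [LocallyOfFinitePresentation g] (V : Z.affineOpens) (U : Y.affineOpens)
    (e : U.1 ≤ g ⁻¹ᵁ V.1) :
    Topology.IsConstructible (Set.range (g.resLE V.1 U.1 e)) := by
  haveI : IsAffine V.1.toScheme := V.2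
  haveI : IsAffine U.1.toScheme := U.2
  haveI : QuasiCompact (g.resLE V.1 U.1 e) :=
    HasAffineProperty.iff_of_isAffine.mpr (inferInstance : CompactSpace U.1.toScheme)
  have := (g.resLE V.1 U.1 e).isConstructible_image Topology.IsConstructible.univ
  rwa [Set.image_univ] at this

theorem resLE_val {Y Z : Scheme.{u}} (g : Y ⟶ Z) (V : Z.Opens) (U : Y.Opens)
    (e : U ≤ g ⁻¹ᵁ V) (x : U.toScheme) : ((g.resLE V U e) x).1 = g x.1 := by
  have h := Scheme.Hom.resLE_comp_ι g e
  have h2 := congrArg (fun φ : U.toScheme ⟶ Z => φ x) h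
  simpa [Scheme.Hom.comp_apply] using h2

end chev


section words

variable {S : Scheme.{u}} (G X : Over S) [GrpObj G] (f : X ⟶ G)

/-- the product `X^ε` indexed by a list of signs -/
noncomputable def Xp : List Bool → Over S
  | [] => 𝟙_ _
  | _ :: ε => X ⊗ Xp ε

/-- the universal word on `X^ε` -/
noncomputable def W : (ε : List Bool) → (Xp X ε ⟶ G)
  | [] => 1
  | b :: ε => letter f (fst X (Xp X ε), b) * (snd X (Xp X ε) ≫ W ε)

/-- the tuple of a list of `T`-points -/
noncomputable def tup {T : Over S} :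
    (l : List ((T ⟶ X) × Bool)) → (T ⟶ Xp X (l.map Prod.snd))
  | [] => toUnit T
  | a :: l => lift a.1 (tup l)

theorem tup_W {T : Over S} (l : List ((T ⟶ X) × Bool)) :
    tup X l ≫ W G X f (l.map Prod.snd) = wordL f l := by
  induction l with
  | nil =>
    show toUnit T ≫ (1 : 𝟙_ (Over S) ⟶ G) = 1
    exact MonObj.comp_one _
  | cons a l ih =>
    show lift a.1 (tup X l) ≫ (letter f (fst X (Xp X (l.map Prod.snd)), a.2) *
      (snd X (Xp X (l.map Prod.snd)) ≫ W G X f (l.map Prod.snd))) = wordL f (a :: l)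
    rw [MonObj.comp_mul, comp_letter, lift_fst, lift_snd_assoc, ih]
    rfl

/-- the universal list of letters on `X^ε` -/
noncomputable def ul : (ε : List Bool) → List ((Xp X ε ⟶ X) × Bool)
  | [] => []
  | b :: ε => (fst X (Xp X ε), b) :: (ul ε).map (fun a => (snd X (Xp X ε) ≫ a.1, a.2))

theorem length_ul (ε : List Bool) : (ul X ε).length = ε.length := by
  induction ε with
  | nil => rfl
  | cons b ε ih =>
    show ((fst X (Xp X ε), b) :: (ul X ε).map _).length = _
    rw [List.length_cons, List.length_map, ih, List.length_cons]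

theorem wordL_ul (ε : List Bool) : wordL f (ul X ε) = W G X f ε := by
  induction ε with
  | nil => rfl
  | cons b ε ih =>
    show wordL f ((fst X (Xp X ε), b) :: (ul X ε).map _) =
      letter f (fst X (Xp X ε), b) * (snd X (Xp X ε) ≫ W G X f ε)
    rw [← ih, comp_wordL]
    show ((letter f (fst X (Xp X ε), b)) :: _).prod = _
    rw [List.prod_cons]
    rfl

instance lfp_Xp [LocallyOfFinitePresentation X.hom] (ε : List Bool) :
    LocallyOfFinitePresentation (Xp X ε).hom := by
  induction ε with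
  | nil => exact inferInstanceAs (LocallyOfFinitePresentation (𝟙 S))
  | cons b ε ih =>
    show LocallyOfFinitePresentation (pullback.fst X.hom (Xp X ε).hom ≫ X.hom)
    infer_instance

theorem lfp_W [LocallyOfFinitePresentation X.hom] [LocallyOfFiniteType G.hom] (ε : List Bool) :
    LocallyOfFinitePresentation (W G X f ε).left := by
  have h : (W G X f ε).left ≫ G.hom = (Xp X ε).hom := Over.w _
  haveI : LocallyOfFinitePresentation ((W G X f ε).left ≫ G.hom) := by rw [h]; infer_instance
  exact Groth.Agent.Helper4.SchLFP.locallyOfFinitePresentation_of_comp _ G.hom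

/-- a point under a word of length `n` is in the image of a universal word of length `n` -/
theorem mem_range_W_of_word {n : ℕ} {T : Over S} (p : T.left) (x : Fin n → (T ⟶ X))
    (ε : Fin n → Bool) :
    ∃ ε' : List Bool, ε'.length = n ∧
      ((List.ofFn fun j : Fin n => if ε j then x j ≫ f else (x j ≫ f)⁻¹).prod : T ⟶ G).left p ∈
        Set.range (W G X f ε').left := by
  rw [word_ofFn, ← tup_W G X f]
  refine ⟨(List.ofFn fun j => (x j, ε j)).map Prod.snd, ?_,
    (tup X (List.ofFn fun j => (x j, ε j))).left p, ?_⟩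
  · simp
  · rw [Over.comp_left, Scheme.Hom.comp_apply]

/-- a point in the image of the universal word `W ε` is under a word of length `ε.length` -/
theorem word_of_mem_range_W (ε : List Bool) (h : G.left) (hh : h ∈ Set.range (W G X f ε).left) :
    ∃ (m : ℕ) (_ : m = ε.length) (T : Over S) (p : T.left) (x : Fin m → (T ⟶ X))
      (ε' : Fin m → Bool),
      ((List.ofFn fun j : Fin m => if ε' j then x j ≫ f else (x j ≫ f)⁻¹).prod : T ⟶ G).left p
        = h := by
  obtain ⟨z, rfl⟩ := hh
  refine ⟨(ul X ε).length, length_ul X ε, Xp X ε, z, fun j => ((ul X ε).get j).1,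
    fun j => ((ul X ε).get j).2, ?_⟩
  rw [← wordL_eq_ofFn, wordL_ul]

end words


section main

variable {S : Scheme.{u}} (G X : Over S) [GrpObj G] (f : X ⟶ G)
  [LocallyOfFinitePresentation X.hom] [LocallyOfFiniteType G.hom]

theorem local_bound (hsurj : ∀ h : G.left, ∃ ε : List Bool, h ∈ Set.range (W G X f ε).left)
    (V : G.left.affineOpens) :
    ∃ n : ℕ, ∀ h ∈ V.1, ∃ ε : List Bool, ε.length ≤ n ∧ h ∈ Set.range (W G X f ε).left := by
  haveI : IsAffine V.1.toScheme := V.2
  haveI := fun ε => lfp_W G X f ε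
  let I := Σ ε : List Bool, {U : (Xp X ε).left.affineOpens // U.1 ≤ (W G X f ε).left ⁻¹ᵁ V.1}
  let s : I → Set V.1.toScheme :=
    fun i => Set.range ((W G X f i.1).left.resLE V.1 i.2.1.1 i.2.2)
  have hcov : ∀ v : V.1.toScheme, ∃ i, v ∈ s i := by
    intro v
    obtain ⟨ε, z, hz⟩ := hsurj v.1
    have hzV : z ∈ (W G X f ε).left ⁻¹ᵁ V.1 := by
      show (W G X f ε).left z ∈ V.1
      rw [hz]; exact v.2
    obtain ⟨U, hU, hzU, hUV⟩ :=
      TopologicalSpace.Opens.isBasis_iff_nbhd.mp (Xp X ε).left.isBasis_affineOpens hzV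
    refine ⟨⟨ε, ⟨⟨U, hU⟩, hUV⟩⟩, ⟨z, hzU⟩, ?_⟩
    apply Subtype.ext
    rw [resLE_val]
    exact hz
  obtain ⟨t, ht⟩ := exists_finset_cover s
    (fun i => isConstructible_range_resLE _ V i.2.1 i.2.2) hcov
  refine ⟨t.sup (fun i => i.1.length), fun h hh => ?_⟩
  obtain ⟨i, hi, ⟨y, hy⟩⟩ := ht ⟨h, hh⟩
  refine ⟨i.1, Finset.le_sup (f := fun i : I => i.1.length) hi, y.1, ?_⟩
  rw [← resLE_val _ V.1 i.2.1.1 i.2.2 y, hy]

theorem global_bound [CompactSpace G.left]
    (hsurj : ∀ h : G.left, ∃ ε : List Bool, h ∈ Set.range (W G X f ε).left) :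
    ∃ n : ℕ, ∀ h : G.left, ∃ ε : List Bool, ε.length ≤ n ∧ h ∈ Set.range (W G X f ε).left := by
  have key : ∀ h : G.left, ∃ V : G.left.affineOpens, h ∈ V.1 := fun h => by
    obtain ⟨U, hU, hhU, -⟩ :=
      TopologicalSpace.Opens.isBasis_iff_nbhd.mp G.left.isBasis_affineOpens
        (TopologicalSpace.Opens.mem_top h)
    exact ⟨⟨U, hU⟩, hhU⟩
  choose V hV using key
  choose n hn using fun h => local_bound G X f hsurj (V h)
  obtain ⟨t, -, ht⟩ := isCompact_univ.elim_nhds_subcover (fun h => ((V h).1 : Set G.left))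
    (fun h _ => (V h).1.2.mem_nhds (hV h))
  refine ⟨t.sup n, fun h => ?_⟩
  obtain ⟨h0, h0t, hh0⟩ := Set.mem_iUnion₂.mp (ht (Set.mem_univ h))
  obtain ⟨ε, hε, hmem⟩ := hn h0 h hh0
  exact ⟨ε, hε.trans (Finset.le_sup h0t), hmem⟩

theorem main [CompactSpace G.left]
    (hsurj : ∀ h : G.left, ∃ (n : ℕ) (T : Over S) (p : T.left) (x : Fin n → (T ⟶ X))
      (ε : Fin n → Bool),
      ((List.ofFn fun j : Fin n => if ε j then x j ≫ f else (x j ≫ f)⁻¹).prod :
        T ⟶ G).left.base p = h) :
    ∃ n : ℕ, ∀ h : G.left, ∃ (m : ℕ) (_ : m ≤ n) (T : Over S) (p : T.left)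
      (x : Fin m → (T ⟶ X)) (ε : Fin m → Bool),
      ((List.ofFn fun j : Fin m => if ε j then x j ≫ f else (x j ≫ f)⁻¹).prod :
        T ⟶ G).left.base p = h := by
  have hs : ∀ h : G.left, ∃ ε : List Bool, h ∈ Set.range (W G X f ε).left := fun h => by
    obtain ⟨n, T, p, x, ε, hh⟩ := hsurj h
    obtain ⟨ε', -, hε'⟩ := mem_range_W_of_word G X f p x ε
    refine ⟨ε', ?_⟩
    rw [← hh]
    exact hε'
  obtain ⟨n, hn⟩ := global_bound G X f hs
  refine ⟨n, fun h => ?_⟩
  obtain ⟨ε, hε, hmem⟩ := hn h
  obtain ⟨m, hm, T, p, x, ε', hw⟩ := word_of_mem_range_W G X f ε h hmem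
  exact ⟨m, hm ▸ hε, T, p, x, ε', hw⟩

end main

end Groth.Agent.Helper3.WordBd
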