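import Mathlib
import Groth.Agent.Helper3.WordCl
import Groth.Prelude

set_option autoImplicit false
set_option linter.style.haveILetI false
set_option linter.unusedSectionVars false
set_option linter.unusedVariables false
set_option linter.unusedSectionVars false
set_option linter.unusedVariables false

universe u

open AlgebraicGeometry CategoryTheory CategoryTheory.Limits TopologicalSpace Topology
open MonoidalCategory CartesianMonoidalCategory MonObj GrpObj

namespace Groth.Agent.Helper3.WordSg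

open Groth.Agent.Helper3.SepPts Groth.Agent.Helper3.WordPts

variable {k : Type u} [Field k] {G X : Over (Spec (CommRingCat.of k))} [GrpObj G] (φ : X ⟶ G)

/-- the set of points under signed words of length `n` -/
def Wn (n : ℕ) : Set G.left :=
  {p | ∃ (T : Over (Spec (CommRingCat.of k))) (l : List ((T ⟶ X) × Bool)) (t : T.left),
    l.length = n ∧ (wordL φ l).left.base t = p}

/-- the set of points under signed words -/
def Ws : Set G.left :=
  {p | ∃ (T : Over (Spec (CommRingCat.of k))) (l : List ((T ⟶ X) × Bool)) (t : T.left),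
    (wordL φ l).left.base t = p}

theorem Wn_subset (n : ℕ) : Wn φ n ⊆ Ws φ := by
  rintro p ⟨T, l, t, -, h⟩
  exact ⟨T, l, t, h⟩

theorem Ws_eq_iUnion : Ws φ = ⋃ n, Wn φ n := by
  ext p
  simp only [Set.mem_iUnion]
  constructor
  · rintro ⟨T, l, t, h⟩
    exact ⟨l.length, T, l, t, rfl, h⟩
  · rintro ⟨n, hn⟩
    exact Wn_subset φ n hn

theorem key {T : Over (Spec (CommRingCat.of k))} (u : T ⟶ G) (t : T.left) (n : ℕ)
    (h : u.left.base t ∈ Wn φ n) :
    ∃ (T' : Over (Spec (CommRingCat.of k))) (g : T' ⟶ T) (t' : T'.left)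
      (l : List ((T' ⟶ X) × Bool)), l.length = n ∧ g.left.base t' = t ∧ g ≫ u = wordL φ l := by
  obtain ⟨T₁, l₁, t₁, hlen, h₁⟩ := h
  obtain ⟨a, ha1, ha2⟩ := Scheme.Pullback.exists_preimage_pullback
    (f := u.left) (g := (wordL φ l₁).left) t t₁ h₁.symm
  let T' : Over (Spec (CommRingCat.of k)) :=
    Over.mk (pullback.fst u.left (wordL φ l₁).left ≫ T.hom)
  let g : T' ⟶ T := Over.homMk (pullback.fst u.left (wordL φ l₁).left) rfl
  let g₁ : T' ⟶ T₁ := Over.homMk (pullback.snd u.left (wordL φ l₁).left) (by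
    change pullback.snd u.left (wordL φ l₁).left ≫ T₁.hom =
      pullback.fst u.left (wordL φ l₁).left ≫ T.hom
    rw [← Over.w (wordL φ l₁), ← Category.assoc, ← pullback.condition, Category.assoc, Over.w u])
  have hg : g ≫ u = g₁ ≫ wordL φ l₁ := by
    ext
    exact pullback.condition
  refine ⟨T', g, a, l₁.map (fun x => (g₁ ≫ x.1, x.2)), by rw [List.length_map, hlen], ha1, ?_⟩
  rw [hg, comp_wordL]

theorem mul_mem_n {T : Over (Spec (CommRingCat.of k))} (u v : T ⟶ G) (t : T.left) (n n' : ℕ)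
    (hu : u.left.base t ∈ Wn φ n) (hv : v.left.base t ∈ Wn φ n') :
    (u * v).left.base t ∈ Wn φ (n + n') := by
  obtain ⟨T', g, t', l, hl, rfl, hg⟩ := key φ u t n hu
  obtain ⟨T'', g', t'', l', hl', ht'', hg'⟩ := key φ (g ≫ v) t' n' (by
    rw [Over.comp_left, Scheme.Hom.comp_base, TopCat.comp_app]
    exact hv)
  refine ⟨T'', l.map (fun x => (g' ≫ x.1, x.2)) ++ l', t'', ?_, ?_⟩
  · rw [List.length_append, List.length_map, hl, hl']
  have e1 : (g' ≫ g) ≫ (u * v) = wordL φ (l.map (fun x => (g' ≫ x.1, x.2))) * wordL φ l' := by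
    rw [MonObj.comp_mul, Category.assoc, Category.assoc, hg, hg', comp_wordL]
  rw [wordL_append, ← e1, Over.comp_left, Scheme.Hom.comp_base, TopCat.comp_app, Over.comp_left,
    Scheme.Hom.comp_base, TopCat.comp_app, ht'']

theorem mul_mem {T : Over (Spec (CommRingCat.of k))} (u v : T ⟶ G) (t : T.left)
    (hu : u.left.base t ∈ Ws φ) (hv : v.left.base t ∈ Ws φ) :
    (u * v).left.base t ∈ Ws φ := by
  rw [Ws_eq_iUnion, Set.mem_iUnion] at hu hv
  obtain ⟨n, hn⟩ := hu
  obtain ⟨n', hn'⟩ := hv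
  exact Wn_subset φ _ (mul_mem_n φ u v t n n' hn hn')

theorem one_mem {T : Over (Spec (CommRingCat.of k))} (t : T.left) :
    (1 : T ⟶ G).left.base t ∈ Wn φ 0 :=
  ⟨T, [], t, rfl, rfl⟩

theorem map_mem {T : Over (Spec (CommRingCat.of k))} (x : T ⟶ X) (t : T.left) :
    (x ≫ φ).left.base t ∈ Wn φ 1 := by
  refine ⟨T, [(x, true)], t, rfl, ?_⟩
  unfold wordL letter
  simp

theorem wordL_mem {T : Over (Spec (CommRingCat.of k))} (l : List ((T ⟶ X) × Bool)) (t : T.left) :
    (wordL φ l).left.base t ∈ Wn φ l.length := ⟨T, l, t, rfl, rfl⟩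

theorem range_subset : Set.range φ.left.base ⊆ Wn φ 1 := by
  rintro _ ⟨x, rfl⟩
  have := map_mem φ (𝟙 X) x
  rwa [Category.id_comp] at this

theorem inv_mem_n (n : ℕ) (p : G.left) (hp : p ∈ Wn φ n) : ι[G].left.base p ∈ Wn φ n := by
  obtain ⟨T, l, t, hl, rfl⟩ := hp
  have h1 : (wordL φ l)⁻¹ = wordL φ l ≫ ι[G] := CategoryTheory.Hom.inv_def _
  have h2 := wordL_mem φ (l.reverse.map (fun a => (a.1, !a.2))) t
  rw [← wordL_inv, h1, Over.comp_left, Scheme.Hom.comp_base, TopCat.comp_app, List.length_map,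
    List.length_reverse, hl] at h2
  exact h2

theorem inv_mem (p : G.left) (hp : p ∈ Ws φ) : ι[G].left.base p ∈ Ws φ := by
  rw [Ws_eq_iUnion, Set.mem_iUnion] at hp
  obtain ⟨n, hn⟩ := hp
  exact Wn_subset φ _ (inv_mem_n φ n p hn)

section closure

variable (Z : Over (Spec (CommRingCat.of k))) (z : Z ⟶ G) [IsClosedImmersion z.left]
  (hZ : Set.range z.left.base = closure (Ws φ))

include hZ in
theorem dense_preimage : Dense (z.left.base ⁻¹' Ws φ) := by
  rw [dense_iff_closure_eq, z.left.isEmbedding.isInducing.closure_eq_preimage_closure_image,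
    Set.image_preimage_eq_inter_range, hZ, Set.inter_eq_left.mpr subset_closure, ← hZ]
  exact Set.preimage_range _

theorem isOpenMap_fst (H T : Over (Spec (CommRingCat.of k))) : IsOpenMap (fst H T).left.base := by
  haveI : UniversallyOpen T.hom := Groth.Agent.Helper5.GrpDense.universallyOpen_of_artinian k T.hom
  haveI : UniversallyOpen (pullback.fst H.hom T.hom) := inferInstance
  exact (pullback.fst H.hom T.hom).isOpenMap

include hZ in
theorem step1_global {T : Over (Spec (CommRingCat.of k))} (u : T ⟶ G) (ζ : T ⟶ Z)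
    (hu : ∀ s : T.left, u.left.base s ∈ Ws φ) (t : T.left) :
    (u * (ζ ≫ z)).left.base t ∈ closure (Ws φ) := by
  let Φ : T ⊗ Z ⟶ G := (fst T Z ≫ u) * (snd T Z ≫ z)
  have hV : IsClosed (Φ.left.base ⁻¹' closure (Ws φ)) :=
    isClosed_closure.preimage Φ.left.continuous
  have hD : (snd T Z).left.base ⁻¹' (z.left.base ⁻¹' Ws φ) ⊆
      Φ.left.base ⁻¹' closure (Ws φ) := by
    intro r hr
    apply subset_closure
    refine mul_mem φ _ _ r ?_ ?_
    · rw [Over.comp_left, Scheme.Hom.comp_base, TopCat.comp_app]; exact hu _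
    · rw [Over.comp_left, Scheme.Hom.comp_base, TopCat.comp_app]; exact hr
  have hopen : IsOpenMap (snd T Z).left.base := GrpImg2.isOpenMap_snd_of_field k T Z
  have hcl : closure ((snd T Z).left.base ⁻¹' (z.left.base ⁻¹' Ws φ)) = Set.univ := by
    rw [← hopen.preimage_closure_eq_closure_preimage (snd T Z).left.continuous,
      (dense_preimage φ Z z hZ).closure_eq, Set.preimage_univ]
  have hall : Φ.left.base ⁻¹' closure (Ws φ) = Set.univ := by
    apply Set.eq_univ_of_univ_subset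
    rw [← hcl]
    exact hV.closure_subset_iff.mpr hD
  have e : u * (ζ ≫ z) = lift (𝟙 T) ζ ≫ Φ := by
    rw [MonObj.comp_mul, ← Category.assoc, ← Category.assoc, lift_fst, lift_snd, Category.id_comp]
  rw [e, Over.comp_left, Scheme.Hom.comp_base, TopCat.comp_app]
  have : (lift (𝟙 T) ζ).left.base t ∈ Φ.left.base ⁻¹' closure (Ws φ) := by rw [hall]; trivial
  exact this

include hZ in
theorem step1 {T : Over (Spec (CommRingCat.of k))} (u : T ⟶ G) (ζ : T ⟶ Z) (t : T.left)
    (hu : u.left.base t ∈ Ws φ) :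
    (u * (ζ ≫ z)).left.base t ∈ closure (Ws φ) := by
  rw [Ws_eq_iUnion, Set.mem_iUnion] at hu
  obtain ⟨n, hn⟩ := hu
  obtain ⟨T', g, t', l, -, rfl, hg⟩ := key φ u t n hn
  have := step1_global φ Z z hZ (g ≫ u) (g ≫ ζ)
    (fun s => by rw [hg]; exact Wn_subset φ _ (wordL_mem φ l s)) t'
  rwa [Category.assoc, ← MonObj.comp_mul, Over.comp_left, Scheme.Hom.comp_base,
    TopCat.comp_app] at this

include hZ in
theorem step2 {T : Over (Spec (CommRingCat.of k))} (ζ₁ ζ₂ : T ⟶ Z) (t : T.left) :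
    ((ζ₁ ≫ z) * (ζ₂ ≫ z)).left.base t ∈ closure (Ws φ) := by
  let Ψ : Z ⊗ T ⟶ G := (fst Z T ≫ z) * (snd Z T ≫ ζ₂ ≫ z)
  have hV : IsClosed (Ψ.left.base ⁻¹' closure (Ws φ)) :=
    isClosed_closure.preimage Ψ.left.continuous
  have hD : (fst Z T).left.base ⁻¹' (z.left.base ⁻¹' Ws φ) ⊆
      Ψ.left.base ⁻¹' closure (Ws φ) := by
    intro r hr
    have := step1 φ Z z hZ (fst Z T ≫ z) (snd Z T ≫ ζ₂) r (by
      rw [Over.comp_left, Scheme.Hom.comp_base, TopCat.comp_app]; exact hr)
    rwa [Category.assoc] at this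
  have hopen : IsOpenMap (fst Z T).left.base := isOpenMap_fst Z T
  have hcl : closure ((fst Z T).left.base ⁻¹' (z.left.base ⁻¹' Ws φ)) = Set.univ := by
    rw [← hopen.preimage_closure_eq_closure_preimage (fst Z T).left.continuous,
      (dense_preimage φ Z z hZ).closure_eq, Set.preimage_univ]
  have hall : Ψ.left.base ⁻¹' closure (Ws φ) = Set.univ := by
    apply Set.eq_univ_of_univ_subset
    rw [← hcl]
    exact hV.closure_subset_iff.mpr hD
  have e : (ζ₁ ≫ z) * (ζ₂ ≫ z) = lift ζ₁ (𝟙 T) ≫ Ψ := by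
    rw [MonObj.comp_mul, ← Category.assoc, ← Category.assoc, lift_fst, lift_snd, Category.id_comp]
  rw [e, Over.comp_left, Scheme.Hom.comp_base, TopCat.comp_app]
  have : (lift ζ₁ (𝟙 T)).left.base t ∈ Ψ.left.base ⁻¹' closure (Ws φ) := by rw [hall]; trivial
  exact this

theorem inv_closure (p : G.left) (hp : p ∈ closure (Ws φ)) : ι[G].left.base p ∈ closure (Ws φ) := by
  have hc : Continuous ι[G].left.base := ι[G].left.continuous
  have := image_closure_subset_closure_image hc (Set.mem_image_of_mem _ hp)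
  refine closure_mono ?_ this
  rintro _ ⟨q, hq, rfl⟩
  exact inv_mem φ q hq

theorem lift_over {T : Over (Spec (CommRingCat.of k))} [IsReduced T.left] (ψ : T ⟶ G)
    (h : Set.range ψ.left.base ⊆ Set.range z.left.base) : ∃ ψ' : T ⟶ Z, ψ' ≫ z = ψ := by
  obtain ⟨ψ₀, hψ₀⟩ := lift_of_reduced z.left ψ.left h
  refine ⟨Over.homMk ψ₀ (by rw [← Over.w z, ← Category.assoc, hψ₀, Over.w ψ]), ?_⟩
  ext
  exact hψ₀

include hZ in
theorem exists_grp [GeometricallyReduced Z.hom] [IsReduced X.left] :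
    ∃ (_ : GrpObj Z), IsMonHom z ∧ ∃ φ' : X ⟶ Z, φ' ≫ z = φ := by
  haveI : Mono z := Over.mono_of_mono_left z
  haveI : IsReduced Z.left := isReduced_of_geometricallyReduced k Z.hom
  haveI : GeometricallyReduced (Z ⊗ Z).hom := by
    rw [Over.tensorObj_hom]
    exact Groth.Agent.Helper3.GeomRedProd.geometricallyReduced_prod k _ _
  haveI : IsReduced (Z ⊗ Z).left := isReduced_of_geometricallyReduced k (Z ⊗ Z).hom
  haveI : IsReduced (𝟙_ (Over (Spec (CommRingCat.of k)))).left :=
    inferInstanceAs (IsReduced (Spec (CommRingCat.of k)))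
  obtain ⟨e, he⟩ := lift_over Z z η[G] (by
    rintro _ ⟨t, rfl⟩
    rw [hZ]
    apply subset_closure
    have := Wn_subset φ 0 (one_mem (G := G) φ t)
    rwa [← one_eq_one] at this)
  have hmul : (z ⊗ₘ z) ≫ μ[G] = (fst Z Z ≫ z) * (snd Z Z ≫ z) := by
    rw [Hom.mul_def]
    congr 1
  obtain ⟨m, hm⟩ := lift_over Z z ((z ⊗ₘ z) ≫ μ[G]) (by
    rintro _ ⟨t, rfl⟩
    rw [hZ, hmul]
    exact step2 φ Z z hZ (fst Z Z) (snd Z Z) t)
  obtain ⟨v, hv⟩ := lift_over Z z (z ≫ ι[G]) (by
    rintro _ ⟨t, rfl⟩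
    rw [hZ, Over.comp_left, Scheme.Hom.comp_base, TopCat.comp_app]
    apply inv_closure φ
    rw [← hZ]
    exact ⟨t, rfl⟩)
  obtain ⟨φ', hφ'⟩ := lift_over Z z φ (by
    rw [hZ]
    exact ((range_subset φ).trans (Wn_subset φ 1)).trans subset_closure)
  exact ⟨Groth.Agent.Helper9.SubGrpObj.grpObjOfMono z e m v he hm hv,
    Groth.Agent.Helper9.SubGrpObj.isMonHom_of_grpObjOfMono z e m v he hm hv, φ', hφ'⟩

end closure

section univ

instance geomRed_Xp [GeometricallyReduced X.hom] (ε : List Bool) :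
    GeometricallyReduced (Xp X ε).hom := by
  induction ε with
  | nil =>
    show GeometricallyReduced (𝟙 (Spec (CommRingCat.of k)))
    exact Groth.Agent.Helper2.SmoothRegSch.geometricallyReduced_of_smooth k _ _
  | cons b ε ih =>
    show GeometricallyReduced (X ⊗ Xp X ε).hom
    rw [Over.tensorObj_hom]
    exact Groth.Agent.Helper3.GeomRedProd.geometricallyReduced_prod k _ _

/-- a point of `X^ε` composed with the universal word is a word of length `|ε|` -/
theorem exists_list_of_point {T : Over (Spec (CommRingCat.of k))} (ε : List Bool)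
    (y : T ⟶ Xp X ε) :
    ∃ l : List ((T ⟶ X) × Bool), l.length = ε.length ∧ y ≫ W G X φ ε = wordL φ l := by
  induction ε with
  | nil =>
    refine ⟨[], rfl, ?_⟩
    show y ≫ (1 : 𝟙_ (Over (Spec (CommRingCat.of k))) ⟶ G) = 1
    exact MonObj.comp_one y
  | cons b ε ih =>
    change T ⟶ X ⊗ Xp X ε at y
    obtain ⟨l', hl', h'⟩ := ih (y ≫ snd X (Xp X ε))
    refine ⟨(y ≫ fst X (Xp X ε), b) :: l', by rw [List.length_cons, hl', List.length_cons], ?_⟩
    show y ≫ (letter φ (fst X (Xp X ε), b) * (snd X (Xp X ε) ≫ W G X φ ε)) = _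
    rw [MonObj.comp_mul, comp_letter, ← Category.assoc, h']
    rfl

theorem W_mem (ε : List Bool) (q : (Xp X ε).left) : (W G X φ ε).left.base q ∈ Wn φ ε.length := by
  obtain ⟨l, hl, h⟩ := exists_list_of_point φ ε (𝟙 (Xp X ε))
  rw [Category.id_comp] at h
  rw [h, ← hl]
  exact wordL_mem φ l q

theorem subset_closure_sep [GeometricallyReduced X.hom] :
    Ws φ ⊆ closure (Ws φ ∩ sepSet k G.hom) := by
  rintro p ⟨T, l, t, rfl⟩
  rw [← tup_W, Over.comp_left, Scheme.Hom.comp_base, TopCat.comp_app]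
  have := range_subset_of_sepSet k (Xp X (l.map Prod.snd)).hom (W G X φ (l.map Prod.snd)).left
    (closure (Ws φ ∩ sepSet k G.hom)) isClosed_closure ?_
  · exact this ⟨_, rfl⟩
  · rintro q ⟨K, iK1, iK2, iK3, x, hx, rfl⟩
    apply subset_closure
    refine ⟨Wn_subset φ _ (W_mem φ _ _), K, iK1, iK2, iK3,
      x ≫ (W G X φ (l.map Prod.snd)).left, ?_, ?_⟩
    · rw [Category.assoc, Over.w, hx]
    · rw [Scheme.Hom.comp_base, TopCat.comp_app]

theorem exists_Z [GeometricallyReduced X.hom] :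
    ∃ (Z : Over (Spec (CommRingCat.of k))) (z : Z ⟶ G), IsClosedImmersion z.left ∧
      GeometricallyReduced Z.hom ∧ Set.range z.left.base = closure (Ws φ) := by
  let C : TopologicalSpace.Closeds G.left := ⟨closure (Ws φ), isClosed_closure⟩
  let I := Scheme.IdealSheafData.vanishingIdeal C
  let z₀ : I.subscheme ⟶ G.left := I.subschemeι
  haveI : IsReduced I.subscheme := Groth.Agent.S4372.isReduced_vanishingIdeal_subscheme C
  have hrange : Set.range z₀.base = closure (Ws φ) := by
    rw [Scheme.IdealSheafData.range_subschemeι, Scheme.IdealSheafData.coe_support_vanishingIdeal]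
    rfl
  have hd : Dense (z₀.base ⁻¹' sepSet k G.hom) := by
    have h1 : closure (Ws φ ∩ sepSet k G.hom) = closure (Ws φ) :=
      Set.Subset.antisymm (closure_mono Set.inter_subset_left)
        (closure_minimal (subset_closure_sep φ) isClosed_closure)
    have h2 : Dense (z₀.base ⁻¹' (Ws φ ∩ sepSet k G.hom)) := by
      rw [dense_iff_closure_eq, z₀.isEmbedding.isInducing.closure_eq_preimage_closure_image,
        Set.image_preimage_eq_inter_range, hrange,
        Set.inter_eq_left.mpr (Set.inter_subset_left.trans subset_closure), h1, ← hrange]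
      exact Set.preimage_range _
    exact h2.mono (Set.preimage_mono Set.inter_subset_right)
  have hgr := Groth.Agent.Helper3.SepMax.geometricallyReduced_of_dense k G.hom z₀ hd
  exact ⟨Over.mk (z₀ ≫ G.hom), Over.homMk z₀ rfl, inferInstanceAs (IsClosedImmersion z₀), hgr,
    hrange⟩

end univ

theorem main (k : Type u) [Field k]
    (G X Γ : Over (Spec (CommRingCat.of k))) [GrpObj G] [GrpObj Γ]
    [GeometricallyReduced X.hom] (f : X ⟶ G)
    (i : Γ ⟶ G) [IsMonHom i] [IsClosedImmersion i.left] (hf : ∃ f' : X ⟶ Γ, f' ≫ i = f)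
    (hmin : ∀ (Γ' : Over (Spec (CommRingCat.of k))) (_ : GrpObj Γ') (i' : Γ' ⟶ G), IsMonHom i' →
        IsClosedImmersion i'.left →
        (∃ f'' : X ⟶ Γ', f'' ≫ i' = f) → ∃ j : Γ ⟶ Γ', j ≫ i' = i) :
    IsReduced Γ.left ∧ Set.range i.left.base = closure (Ws f) := by
  haveI : IsReduced X.left := isReduced_of_geometricallyReduced k X.hom
  obtain ⟨φ₁, hφ₁⟩ := hf
  -- words factor through Γ
  have hW : Ws f ⊆ Set.range i.left.base := by
    rintro _ ⟨T, l, t, rfl⟩
    have : wordL f l = wordL φ₁ l ≫ i := by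
      unfold wordL
      induction l with
      | nil => simp [MonObj.one_comp]
      | cons a l ih =>
        rw [List.map_cons, List.prod_cons, List.map_cons, List.prod_cons, MonObj.mul_comp, ← ih]
        congr 1
        unfold letter
        by_cases ha : a.2
        · simp [ha, hφ₁]
        · simp [ha, hφ₁, GrpObj.inv_comp]
    rw [this, Over.comp_left, Scheme.Hom.comp_base, TopCat.comp_app]
    exact ⟨_, rfl⟩
  have hC : closure (Ws f) ⊆ Set.range i.left.base :=
    closure_minimal hW i.left.isClosedEmbedding.isClosed_range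
  obtain ⟨Z, z, hcl, hgr, hZ⟩ := exists_Z f
  haveI := hcl
  haveI := hgr
  obtain ⟨instZ, hmonZ, hφZ⟩ := exists_grp f Z z hZ
  obtain ⟨j, hj⟩ := hmin Z instZ z hmonZ hcl hφZ
  haveI : IsReduced Z.left := isReduced_of_geometricallyReduced k Z.hom
  obtain ⟨b₁, hb₁⟩ := lift_of_reduced i.left z.left (by rw [hZ]; exact hC)
  have hjl : j.left ≫ z.left = i.left := by rw [← Over.comp_left, hj]
  haveI : Mono i.left := inferInstance
  haveI : Mono z.left := inferInstance
  have h1 : j.left ≫ b₁ = 𝟙 _ := by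
    rw [← cancel_mono i.left, Category.assoc, hb₁, hjl, Category.id_comp]
  have h2 : b₁ ≫ j.left = 𝟙 _ := by
    rw [← cancel_mono z.left, Category.assoc, hjl, hb₁, Category.id_comp]
  haveI : IsIso j.left := ⟨b₁, h1, h2⟩
  refine ⟨isReduced_of_isOpenImmersion j.left, Set.Subset.antisymm ?_ hC⟩
  rw [← hZ]
  rintro _ ⟨x, rfl⟩
  refine ⟨j.left.base x, ?_⟩
  rw [← hjl, Scheme.Hom.comp_base, TopCat.comp_app]

end Groth.Agent.Helper3.WordSg
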