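import Mathlib
import Groth.Agent.Helper3.WordSg
import Groth.Prelude

set_option autoImplicit false
set_option linter.style.haveILetI false
set_option linter.unusedSectionVars false
set_option linter.unusedVariables false
set_option linter.unusedSectionVars false
set_option linter.unusedVariables false

universe u

open AlgebraicGeometry CategoryTheory CategoryTheory.Limits TopologicalSpace Topology
open MonoidalCategory CartesianMonoidalCategory MonObj GrpObj

namespace Groth.Agent.Helper3.WordFin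

open Groth.Agent.Helper3.WordPts Groth.Agent.Helper3.WordSg

variable {k : Type u} [Field k] {G : Over (Spec (CommRingCat.of k))} [GrpObj G]

/-- left translation by a rational point -/
noncomputable def lam (a : 𝟙_ (Over (Spec (CommRingCat.of k))) ⟶ G) : G ⟶ G :=
  (λ_ G).inv ≫ (a ▷ G) ≫ μ[G]

theorem comp_lam (a : 𝟙_ (Over (Spec (CommRingCat.of k))) ⟶ G)
    {T : Over (Spec (CommRingCat.of k))} (x : T ⟶ G) : x ≫ lam a = (toUnit T ≫ a) * x := by
  unfold lam
  rw [Hom.mul_def, ← Category.assoc, ← Category.assoc]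
  congr 1
  apply CartesianMonoidalCategory.hom_ext
  · simp only [Category.assoc, whiskerRight_fst, leftUnitor_inv_fst_assoc, lift_fst]
    rw [← Category.assoc]
    congr 1
    exact toUnit_unique _ _
  · simp

theorem lam_inv (a : 𝟙_ (Over (Spec (CommRingCat.of k))) ⟶ G) : lam a ≫ lam a⁻¹ = 𝟙 G := by
  rw [comp_lam]
  have : lam a = (toUnit G ≫ a) * 𝟙 G := by
    have := comp_lam a (𝟙 G)
    rwa [Category.id_comp] at this
  rw [this, GrpObj.comp_inv, inv_mul_cancel_left]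

instance isIso_lam (a : 𝟙_ (Over (Spec (CommRingCat.of k))) ⟶ G) : IsIso (lam a) :=
  ⟨lam a⁻¹, lam_inv a, by have := lam_inv a⁻¹; rwa [_root_.inv_inv] at this⟩

theorem isClosedMap_lam (a : 𝟙_ (Over (Spec (CommRingCat.of k))) ⟶ G) :
    IsClosedMap (lam a).left.base := by
  haveI : IsIso (lam a).left := (Over.forget _).map_isIso (lam a)
  exact (lam a).left.isClosedEmbedding.isClosedMap

variable {X : Over (Spec (CommRingCat.of k))} (f : X ⟶ G)

theorem Wn_eq_ofFn (m : ℕ) : Wn f m =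
    {g : G.left | ∃ (T : Over (Spec (CommRingCat.of k))) (p : T.left) (x : Fin m → (T ⟶ X))
      (ε : Fin m → Bool),
      ((List.ofFn fun j : Fin m => if ε j then x j ≫ f else (x j ≫ f)⁻¹).prod : T ⟶ G).left.base p
        = g} := by
  ext g
  constructor
  · rintro ⟨T, l, t, rfl, h⟩
    refine ⟨T, t, fun j => (l.get j).1, fun j => (l.get j).2, ?_⟩
    rw [← wordL_eq_ofFn]
    exact h
  · rintro ⟨T, p, x, ε, h⟩
    refine ⟨T, List.ofFn (fun j => (x j, ε j)), p, List.length_ofFn, ?_⟩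
    rw [← word_ofFn]
    exact h

theorem Wn_succ (x₀ : 𝟙_ (Over (Spec (CommRingCat.of k))) ⟶ X) (hx₀ : x₀ ≫ f = η[G]) (n : ℕ) :
    Wn f n ⊆ Wn f (n + 1) := by
  rintro _ ⟨T, l, t, rfl, rfl⟩
  have h1 := mul_mem_n f ((toUnit T ≫ x₀) ≫ f) (wordL f l) t 1 l.length (map_mem f _ t)
    (wordL_mem f l t)
  have h2 : (toUnit T ≫ x₀) ≫ f = 1 := by
    rw [Category.assoc, hx₀, ← Hom.one_def]
  rw [h2, _root_.one_mul, add_comm] at h1
  exact h1

theorem Wn_mono (x₀ : 𝟙_ (Over (Spec (CommRingCat.of k))) ⟶ X) (hx₀ : x₀ ≫ f = η[G]) {n n' : ℕ}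
    (hnn : n ≤ n') : Wn f n ⊆ Wn f n' := by
  induction hnn with
  | refl => exact subset_rfl
  | step _ ih => exact ih.trans (Wn_succ f x₀ hx₀ _)

theorem main (k : Type u) [Field k] [IsAlgClosed k]
    (G X H : Over (Spec (CommRingCat.of k))) [GrpObj G] [GrpObj H] [LocallyOfFiniteType G.hom]
    [LocallyOfFiniteType X.hom] [GeometricallyReduced X.hom] (f : X ⟶ G)
    (h : H ⟶ G) [IsMonHom h] [IsClosedImmersion h.left] (hH : Set.range h.left.base ⊆ Set.range f.left.base)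
    (Γ : Over (Spec (CommRingCat.of k))) [GrpObj Γ] (i : Γ ⟶ G) [IsMonHom i] [IsClosedImmersion i.left]
    (hf : ∃ f' : X ⟶ Γ, f' ≫ i = f)
    (hmin : ∀ (Γ' : Over (Spec (CommRingCat.of k))) (_ : GrpObj Γ') (i' : Γ' ⟶ G), IsMonHom i' → IsClosedImmersion i'.left →
        (∃ f'' : X ⟶ Γ', f'' ≫ i' = f) → ∃ j : Γ ⟶ Γ', j ≫ i' = i)
    (hfin : ∃ F : Finset (𝟙_ (Over (Spec (CommRingCat.of k))) ⟶ G),
      (∀ a ∈ F, ∃ (n : ℕ) (T : Over (Spec (CommRingCat.of k))) (p : T.left) (p₀ : (𝟙_ (Over (Spec (CommRingCat.of k)))).left) (x : Fin n → (T ⟶ X)) (ε : Fin n → Bool),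
        ((List.ofFn fun j : Fin n => if ε j then x j ≫ f else (x j ≫ f)⁻¹).prod : T ⟶ G).left.base p = a.left.base p₀) ∧
      ∀ g : 𝟙_ (Over (Spec (CommRingCat.of k))) ⟶ G, (∃ (n : ℕ) (T : Over (Spec (CommRingCat.of k))) (p : T.left) (p₀ : (𝟙_ (Over (Spec (CommRingCat.of k)))).left) (x : Fin n → (T ⟶ X)) (ε : Fin n → Bool),
        ((List.ofFn fun j : Fin n => if ε j then x j ≫ f else (x j ≫ f)⁻¹).prod : T ⟶ G).left.base p = g.left.base p₀) →
        ∃ a ∈ F, ∃ y : 𝟙_ (Over (Spec (CommRingCat.of k))) ⟶ H, g = a * (y ≫ h)) :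
    (∃ m : ℕ, Set.range i.left.base =
      {g : G.left | ∃ (T : Over (Spec (CommRingCat.of k))) (p : T.left) (x : Fin m → (T ⟶ X)) (ε : Fin m → Bool),
        ((List.ofFn fun j : Fin m => if ε j then x j ≫ f else (x j ≫ f)⁻¹).prod : T ⟶ G).left.base p = g}) ∧
    ∃ F : Finset (𝟙_ (Over (Spec (CommRingCat.of k))) ⟶ G), Set.range i.left.base =
      ⋃ a ∈ F, (fun z => ((λ_ G).inv ≫ (a ▷ G) ≫ μ[G]).left.base z) '' Set.range h.left.base := by
  obtain ⟨-, hrange⟩ := WordSg.main k G X Γ f i hf hmin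
  let pt : (𝟙_ (Over (Spec (CommRingCat.of k)))).left := (default : PrimeSpectrum k)
  -- a rational point of X over the unit
  have hunit : η[G].left.base pt ∈ Set.range f.left.base := by
    apply hH
    refine ⟨η[H].left.base pt, ?_⟩
    rw [← TopCat.comp_app, ← Scheme.Hom.comp_base, ← Over.comp_left, IsMonHom.one_hom]
  obtain ⟨z, hz⟩ := hunit
  obtain ⟨x₀, hx₀⟩ := exists_point_of_fibre G X f η[G] z pt hz
  obtain ⟨F, hF1, hF2⟩ := hfin
  -- lengths of the representatives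
  have hlen : ∀ a : 𝟙_ (Over (Spec (CommRingCat.of k))) ⟶ G, a ∈ F →
      ∃ n : ℕ, a.left.base pt ∈ Wn f n := by
    intro a ha
    obtain ⟨n, T, p, p₀, x, ε, hw⟩ := hF1 a ha
    refine ⟨n, ?_⟩
    rw [Wn_eq_ofFn]
    refine ⟨T, p, x, ε, ?_⟩
    rw [hw, pt0_eq p₀ pt]
  choose! nA hnA using hlen
  let m : ℕ := F.sup nA + 1
  let D : Set G.left := ⋃ a ∈ F, (fun z => (lam a).left.base z) '' Set.range h.left.base
  have hDcl : IsClosed D := by
    apply Set.Finite.isClosed_biUnion F.finite_toSet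
    intro a _
    exact isClosedMap_lam a _ h.left.isClosedEmbedding.isClosed_range
  -- D consists of words of length m
  have hDW : D ⊆ Wn f m := by
    intro p hp
    simp only [D, Set.mem_iUnion] at hp
    obtain ⟨a, ha, _, ⟨q, rfl⟩, rfl⟩ := hp
    have e1 : h ≫ lam a = (toUnit H ≫ a) * h := comp_lam a h
    have h1 : ((toUnit H ≫ a) * h).left.base q ∈ Wn f (nA a + 1) := by
      refine mul_mem_n f _ _ q _ _ ?_ (range_subset f ⟨_, (hH ⟨q, rfl⟩).choose_spec⟩)
      rw [Over.comp_left, Scheme.Hom.comp_base, TopCat.comp_app,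
        pt0_eq ((toUnit H).left.base q) pt]
      exact hnA a ha
    rw [← e1, Over.comp_left, Scheme.Hom.comp_base, TopCat.comp_app] at h1
    exact Wn_mono f x₀ hx₀ (Nat.succ_le_succ (Finset.le_sup ha)) h1
  -- all words lie in D
  have hWD : Ws f ⊆ D := by
    rintro _ ⟨T, l, t, rfl⟩
    rw [← tup_W, Over.comp_left, Scheme.Hom.comp_base, TopCat.comp_app]
    set ε := l.map Prod.snd
    set q := (tup X l).left.base t
    by_contra hq
    let V : Set (Xp X ε).left := (W G X f ε).left.base ⁻¹' D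
    have hV : IsClosed V := hDcl.preimage (W G X f ε).left.continuous
    haveI : JacobsonSpace (Xp X ε).left := LocallyOfFiniteType.jacobsonSpace (Xp X ε).hom
    obtain ⟨c, hcV, hc⟩ := nonempty_inter_closedPoints (X := (Xp X ε).left) (Z := Vᶜ) ⟨q, hq⟩
      hV.isOpen_compl.isLocallyClosed
    apply hcV
    let y₀ : Spec (CommRingCat.of k) ⟶ (Xp X ε).left := pointOfClosedPoint (Xp X ε).hom c hc
    let y : 𝟙_ (Over (Spec (CommRingCat.of k))) ⟶ Xp X ε :=
      Over.homMk y₀ (pointOfClosedPoint_comp (Xp X ε).hom c hc)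
    have hy : y.left.base pt = c := pointOfClosedPoint_apply (Xp X ε).hom c hc pt
    obtain ⟨l', -, hl'⟩ := exists_list_of_point f ε y
    obtain ⟨a, ha, y'', hg⟩ := hF2 (y ≫ W G X f ε) ⟨l'.length, 𝟙_ _, pt, pt,
      fun j => (l'.get j).1, fun j => (l'.get j).2, by rw [← wordL_eq_ofFn, hl']⟩
    have e2 : (y'' ≫ h) ≫ lam a = a * (y'' ≫ h) := by
      rw [comp_lam]
      congr 1
    show (W G X f ε).left.base c ∈ D
    rw [← hy, ← TopCat.comp_app, ← Scheme.Hom.comp_base, ← Over.comp_left, hg, ← e2]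
    simp only [D, Set.mem_iUnion]
    refine ⟨a, ha, ?_⟩
    refine ⟨h.left.base (y''.left.base pt), ⟨_, rfl⟩, ?_⟩
    rw [Over.comp_left, Scheme.Hom.comp_base, TopCat.comp_app, Over.comp_left, Scheme.Hom.comp_base,
      TopCat.comp_app]
  have hcl : closure (Ws f) ⊆ D := closure_minimal hWD hDcl
  have h3 : Wn f m ⊆ closure (Ws f) := (Wn_subset f m).trans subset_closure
  refine ⟨⟨m, ?_⟩, ⟨F, ?_⟩⟩
  · rw [hrange, ← Wn_eq_ofFn]
    exact Set.Subset.antisymm (hcl.trans hDW) h3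
  · rw [hrange]
    exact Set.Subset.antisymm hcl (hDW.trans h3)

end Groth.Agent.Helper3.WordFin
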